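import Mathlib
import Cfsg.Agent.Lib.Perm.SimpleCount
import Cfsg.Agent.Lib.Char.Burnside

/-!
# Groups of order 60
-/

namespace CfsgLib.Recog.Sixty

open Subgroup

variable {G : Type*} [Group G] [Finite G]

theorem exists_small_index [IsSimpleGroup G] (h : Nat.card G = 60) :
    ∃ H : Subgroup G, H ≠ ⊤ ∧ H.index ≤ 5 := by
  classical
  haveI : Fact (Nat.Prime 2) := ⟨Nat.prime_two⟩
  haveI : Fact (Nat.Prime 5) := ⟨by norm_num⟩
  have hc : ¬ IsMulCommutative G := CfsgLib.Perm.not_comm_of_not_prime (by rw [h]; norm_num)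
  have hne2 : ¬ IsPGroup 2 G := CfsgLib.Perm.not_isPGroup_of_dvd (q := 3) Nat.prime_three (by norm_num) ⟨20, h⟩
  have hne5 : ¬ IsPGroup 5 G := CfsgLib.Perm.not_isPGroup_of_dvd (q := 3) Nat.prime_three (by norm_num) ⟨20, h⟩
  have h2 : Nat.card (Sylow 2 G) ∣ 15 :=
    CfsgLib.Perm.card_sylow_dvd_of_card_eq (k := 2) (by rw [h]; norm_num)
  have h5 : Nat.card (Sylow 5 G) ∣ 12 :=
    CfsgLib.Perm.card_sylow_dvd_of_card_eq (k := 1) (by rw [h]; norm_num)
  have h2ne := CfsgLib.Perm.card_sylow_ne_one (p := 2) ⟨30, h⟩ hne2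
  have h5ne := CfsgLib.Perm.card_sylow_ne_one (p := 5) ⟨12, h⟩ hne5
  have h5eq : Nat.card (Sylow 5 G) = 6 := by
    have hmod : Nat.card (Sylow 5 G) % 5 = 1 := card_sylow_modEq_one 5 G
    have hle := Nat.le_of_dvd (by norm_num) h5
    interval_cases (Nat.card (Sylow 5 G)) <;> omega
  obtain ⟨S₀⟩ := (inferInstance : Nonempty (Sylow 2 G))
  by_cases hn : Nat.card (Sylow 2 G) ≤ 5
  · refine ⟨Subgroup.normalizer ((S₀ : Subgroup G) : Set G), fun ht => h2ne ?_,
      le_of_eq_of_le S₀.card_eq_index_normalizer.symm hn⟩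
    exact S₀.card_eq_index_normalizer.trans (Subgroup.index_eq_one.2 ht)
  have h15 : Nat.card (Sylow 2 G) = 15 := by
    have := (Nat.mem_divisors.2 ⟨h2, by norm_num⟩ : Nat.card (Sylow 2 G) ∈ Nat.divisors 15)
    rw [show Nat.divisors 15 = {1, 3, 5, 15} by decide] at this
    simp at this
    omega
  have hS : ∀ S : Sylow 2 G, Nat.card (S : Subgroup G) = 4 := fun S =>
    CfsgLib.Perm.sylow_card_eq S (k := 2) (m := 15) (by rw [h]; norm_num) (by norm_num)
  have hP : ∀ P : Sylow 5 G, Nat.card (P : Subgroup G) = 5 := fun P =>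
    (CfsgLib.Perm.sylow_card_eq P (k := 1) (m := 12) (by rw [h]; norm_num) (by norm_num)).trans (pow_one 5)
  by_cases hint : ∃ (S T : Sylow 2 G) (x : G), S ≠ T ∧ x ≠ 1 ∧ x ∈ (S : Subgroup G) ∧ x ∈ (T : Subgroup G)
  · obtain ⟨S, T, x, hST, hx, hxS, hxT⟩ := hint
    have hsub : ∀ R : Sylow 2 G, x ∈ (R : Subgroup G) → (R : Subgroup G) ≤ centralizer {x} := by
      intro R hxR
      intro y hy
      rw [mem_centralizer_singleton_iff]
      have hab := IsPGroup.commutative_of_card_eq_prime_sq (p := 2) (G := (R : Subgroup G)) (by rw [hS R]; norm_num)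
      exact congrArg Subtype.val (hab ⟨y, hy⟩ ⟨x, hxR⟩)
    have hlt : (S : Subgroup G) < centralizer {x} := by
      refine lt_of_le_of_ne (hsub S hxS) fun he => hST ?_
      have hle := hsub T hxT
      rw [← he] at hle
      exact Sylow.ext (Subgroup.eq_of_le_of_card_ge hle (by rw [hS S, hS T])).symm
    refine ⟨centralizer {x}, fun ht => ?_, ?_⟩
    · have hz : x ∈ center G := by
        rw [mem_center_iff]
        intro g
        exact mem_centralizer_singleton_iff.1 (ht ▸ mem_top g)
      rcases (inferInstance : (center G).Normal).eq_bot_or_eq_top with e | e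
      · rw [e, mem_bot] at hz; exact hx hz
      · exact hc ⟨⟨fun a b => (mem_center_iff.1 (show b ∈ center G by rw [e]; exact mem_top b) a)⟩⟩
    · have h1 : 4 ∣ Nat.card (centralizer ({x} : Set G)) := hS S ▸ card_dvd_of_le hlt.le
      have h2 : 4 < Nat.card (centralizer ({x} : Set G)) := by
        rcases lt_or_ge 4 (Nat.card (centralizer ({x} : Set G))) with h3 | h3
        · exact h3
        · exact absurd (Subgroup.eq_of_le_of_card_ge hlt.le (by rw [hS S]; exact h3)) hlt.ne
      have h3 := (centralizer ({x} : Set G)).card_mul_index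
      rw [h] at h3
      obtain ⟨c, hc'⟩ := h1
      rw [hc'] at h3 h2
      have : c * (centralizer ({x} : Set G)).index = 15 := by linarith
      by_contra hcon
      have hmem : (centralizer ({x} : Set G)).index ∈ Nat.divisors 15 :=
        Nat.mem_divisors.2 ⟨Dvd.intro_left c this, by norm_num⟩
      rw [show Nat.divisors 15 = {1, 3, 5, 15} by decide] at hmem
      simp only [Finset.mem_insert, Finset.mem_singleton] at hmem
      have hc2 : 2 ≤ c := by omega
      rcases hmem with e | e | e | e <;> rw [e] at this hcon <;> omega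
  · exfalso
    push Not at hint
    have e2 : ∀ S : Sylow 2 G, ∃ f : Fin 3 → G, Function.Injective f ∧ ∀ i, f i ∈ (S : Subgroup G) ∧ f i ≠ 1 := by
      intro S
      haveI := Fintype.ofFinite (S : Subgroup G)
      have hcard : Nat.card {x : (S : Subgroup G) // x ≠ 1} = 3 := by
        have h1 := hS S
        rw [Nat.card_eq_fintype_card] at h1 ⊢
        rw [Fintype.card_subtype_compl, Fintype.card_subtype_eq, h1]
      let e := (Finite.equivFinOfCardEq hcard).symm
      exact ⟨fun i => ((e i).1 : G), fun i j hij => e.injective (Subtype.ext (Subtype.ext hij)),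
        fun i => ⟨(e i).1.2, fun h1 => (e i).2 (Subtype.ext h1)⟩⟩
    have e5 : ∀ S : Sylow 5 G, ∃ f : Fin 4 → G, Function.Injective f ∧ ∀ i, f i ∈ (S : Subgroup G) ∧ f i ≠ 1 := by
      intro S
      haveI := Fintype.ofFinite (S : Subgroup G)
      have hcard : Nat.card {x : (S : Subgroup G) // x ≠ 1} = 4 := by
        have h1 := hP S
        rw [Nat.card_eq_fintype_card] at h1 ⊢
        rw [Fintype.card_subtype_compl, Fintype.card_subtype_eq, h1]
      let e := (Finite.equivFinOfCardEq hcard).symm
      exact ⟨fun i => ((e i).1 : G), fun i j hij => e.injective (Subtype.ext (Subtype.ext hij)),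
        fun i => ⟨(e i).1.2, fun h1 => (e i).2 (Subtype.ext h1)⟩⟩
    choose f hf hf' using e2
    choose g hg hg' using e5
    have hcop : ∀ (S : Sylow 2 G) (P : Sylow 5 G) (x : G), x ∈ (S : Subgroup G) → x ∈ (P : Subgroup G) → x = 1 := by
      intro S P x hx hy
      have hb := Subgroup.inf_eq_bot_of_coprime (H := (S : Subgroup G)) (K := (P : Subgroup G))
        (by rw [hS, hP]; norm_num)
      exact Subgroup.mem_bot.1 (hb ▸ Subgroup.mem_inf.2 ⟨hx, hy⟩)
    have hinj : Function.Injective (Sum.elim (fun a : Sylow 2 G × Fin 3 => f a.1 a.2)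
        (fun a : Sylow 5 G × Fin 4 => g a.1 a.2)) := by
      refine Function.Injective.sumElim ?_ ?_ ?_
      · rintro ⟨S, i⟩ ⟨T, j⟩ hij
        simp only at hij
        by_cases hST : S = T
        · subst hST; rw [hf S hij]
        · exact absurd (hij ▸ (hf' T j).1) (hint S T _ hST (hf' S i).2 (hf' S i).1)
      · rintro ⟨P, i⟩ ⟨Q, j⟩ hij
        simp only at hij
        by_cases hPQ : P = Q
        · subst hPQ; rw [hg P hij]
        · exfalso
          apply hPQ
          have hgen : ∀ R : Sylow 5 G, g P i ∈ (R : Subgroup G) → zpowers (g P i) = (R : Subgroup G) := by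
            intro R hR
            refine Subgroup.eq_of_le_of_card_ge (zpowers_le.2 hR) ?_
            have hd := card_dvd_of_le (zpowers_le.2 hR)
            rw [hP R] at hd ⊢
            rcases (Nat.dvd_prime (by norm_num : Nat.Prime 5)).1 hd with e | e
            · exact absurd (orderOf_eq_one_iff.1 (by rw [← Nat.card_zpowers, e])) (hg' P i).2
            · rw [e]
          exact Sylow.ext ((hgen P (hg' P i).1).symm.trans (hgen Q (hij ▸ (hg' Q j).1)))
      · rintro ⟨S, i⟩ ⟨P, j⟩ hij
        simp only at hij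
        exact (hf' S i).2 (hcop S P _ (hf' S i).1 (hij ▸ (hg' P j).1))
    have := Nat.card_le_card_of_injective _ hinj
    rw [Nat.card_sum, Nat.card_prod, Nat.card_prod, h15, h5eq, Nat.card_fin, Nat.card_fin, h] at this
    omega

/-- A simple group of order 60 is `A₅`. -/
theorem iso_alt_five [IsSimpleGroup G] (h : Nat.card G = 60) :
    Nonempty (G ≃* alternatingGroup (Fin 5)) := by
  obtain ⟨H, hH, hle⟩ := exists_small_index h
  have hc : ¬ IsMulCommutative G := CfsgLib.Perm.not_comm_of_not_prime (by rw [h]; norm_num)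
  have hd := CfsgLib.Perm.two_mul_card_dvd_factorial_index hc H hH
  have h5 : H.index = 5 := by
    rw [h] at hd
    have h120 := Nat.le_of_dvd (Nat.factorial_pos _) hd
    rcases lt_or_eq_of_le hle with h4 | h4
    · have := Nat.factorial_le (show H.index ≤ 4 by omega)
      norm_num [Nat.factorial] at this
      omega
    · exact h4
  obtain ⟨f, hf⟩ := CfsgLib.Perm.embeds_alternating hc H hH
  have hA : Nat.card (alternatingGroup (Fin 5)) = 60 := by rw [Nat.card_eq_fintype_card]; decide
  have hb : Function.Bijective f := hf.bijective_of_nat_card_le (by rw [h, h5, hA])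
  have key : ∀ n : ℕ, n = 5 → Nonempty (G ≃* alternatingGroup (Fin n)) → Nonempty (G ≃* alternatingGroup (Fin 5)) := by
    rintro n rfl hn; exact hn
  exact key _ h5 ⟨MulEquiv.ofBijective f hb⟩

/-- A group of order 30 has a normal subgroup of order 5. -/
theorem exists_normal_five (h : Nat.card G = 30) : ∃ N : Subgroup G, N.Normal ∧ Nat.card N = 5 := by
  haveI : Fact (Nat.Prime 2) := ⟨Nat.prime_two⟩
  haveI : Fact (Nat.Prime 5) := ⟨by norm_num⟩
  obtain ⟨S⟩ := (inferInstance : Nonempty (Sylow 2 G))
  have hS : Nat.card (S : Subgroup G) = 2 :=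
    (CfsgLib.Perm.sylow_card_eq S (k := 1) (m := 15) (by rw [h]; norm_num) (by norm_num)).trans (pow_one 2)
  have hnc := IsCyclic.normalizer_le_centralizer (P := S)
    ((Nat.minFac_eq_two_iff _).2 ⟨15, h⟩) (isCyclic_of_prime_card hS)
  have hcomp := MonoidHom.ker_transferSylow_isComplement' S hnc
  set K := (MonoidHom.transferSylow S hnc).ker with hK
  have hK15 : Nat.card K = 15 := by
    have := hcomp.card_mul
    rw [hS, h] at this
    omega
  obtain ⟨P⟩ := (inferInstance : Nonempty (Sylow 5 K))
  have hP5 : Nat.card (P : Subgroup K) = 5 :=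
    (CfsgLib.Perm.sylow_card_eq P (k := 1) (m := 3) (by rw [hK15]; norm_num) (by norm_num)).trans (pow_one 5)
  have h1 : Nat.card (Sylow 5 K) = 1 := by
    have hd : Nat.card (Sylow 5 K) ∣ 3 := CfsgLib.Perm.card_sylow_dvd_of_card_eq (k := 1) (by rw [hK15]; norm_num)
    have hmod : Nat.card (Sylow 5 K) % 5 = 1 := card_sylow_modEq_one 5 K
    have hle := Nat.le_of_dvd (by norm_num) hd
    interval_cases (Nat.card (Sylow 5 K)) <;> omega
  haveI := (Nat.card_eq_one_iff_unique.1 h1).1
  haveI : (P : Subgroup K).Characteristic := P.characteristic_of_subsingleton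
  refine ⟨(P : Subgroup K).map K.subtype, inferInstance, ?_⟩
  exact (Nat.card_congr ((P : Subgroup K).equivMapOfInjective _ K.subtype_injective).toEquiv).symm.trans hP5

/-- Groups of order properly dividing 60 are solvable. -/
theorem isSolvable_of_dvd_sixty (hd : Nat.card G ∣ 60) (hne : Nat.card G ≠ 60) : Group.IsSolvable G := by
  have hmem : Nat.card G ∈ Nat.divisors 60 := Nat.mem_divisors.2 ⟨hd, by norm_num⟩
  rw [show Nat.divisors 60 = {1, 2, 3, 4, 5, 6, 10, 12, 15, 20, 30, 60} by decide] at hmem
  simp at hmem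
  have key : ∀ p q a b : ℕ, p.Prime → q.Prime → Nat.card G = p ^ a * q ^ b → Group.IsSolvable G :=
    fun p q a b hp hq hc => CfsgLib.Burnside.isSolvable_of_card_eq hp hq hc
  rcases hmem with e | e | e | e | e | e | e | e | e | e | e | e
  · exact key 2 3 0 0 Nat.prime_two Nat.prime_three (by simp [e])
  · exact key 2 3 1 0 Nat.prime_two Nat.prime_three (by simp [e])
  · exact key 2 3 0 1 Nat.prime_two Nat.prime_three (by simp [e])
  · exact key 2 3 2 0 Nat.prime_two Nat.prime_three (by simp [e])
  · exact key 2 5 0 1 Nat.prime_two Nat.prime_five (by simp [e])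
  · exact key 2 3 1 1 Nat.prime_two Nat.prime_three (by simp [e])
  · exact key 2 5 1 1 Nat.prime_two Nat.prime_five (by simp [e])
  · exact key 2 3 2 1 Nat.prime_two Nat.prime_three (by simp [e])
  · exact key 3 5 1 1 Nat.prime_three Nat.prime_five (by simp [e])
  · exact key 2 5 2 1 Nat.prime_two Nat.prime_five (by simp [e])
  · obtain ⟨N, hN, hN5⟩ := exists_normal_five e
    have h6 : Nat.card (G ⧸ N) = 6 := by
      have := N.card_mul_index
      rw [hN5, e, Subgroup.index_eq_card] at this
      omega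
    haveI : Group.IsSolvable N := CfsgLib.Burnside.isSolvable_of_card_eq (a := 0) (b := 1) Nat.prime_two Nat.prime_five (by simp [hN5])
    haveI : Group.IsSolvable (G ⧸ N) := CfsgLib.Burnside.isSolvable_of_card_eq (a := 1) (b := 1) Nat.prime_two Nat.prime_three (by simp [h6])
    exact Group.isSolvable_of_ker_le_range N.subtype (QuotientGroup.mk' N)
      (by rw [QuotientGroup.ker_mk', Subgroup.range_subtype])
  · exact absurd e hne

end CfsgLib.Recog.Sixty
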