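import Mathlib

/-!
# Element orders in `Vᵏ ⋊ G` for an abelian normal subgroup `V` of prime exponent

`Vᵏ ⋊ G` (diagonal conjugation) has the same element orders as `G`.
-/

namespace CfsgLib.Recog.Spectrum

open scoped commutatorElement

variable {G : Type*} [Group G]

/-- arithmetic: `d ∣ m p`, `d ∤ m`, `m ∣ d p` force `d = m p` -/
theorem eq_mul_of_dvd {m d p : ℕ} (hp : p.Prime) (h1 : d ∣ m * p) (h2 : ¬ d ∣ m)
    (h3 : m ∣ d * p) : d = m * p := by
  have hpd : p ∣ d := by
    by_contra h
    exact h2 ((Nat.Coprime.dvd_of_dvd_mul_right ((hp.coprime_iff_not_dvd.mpr h).symm) h1))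
  obtain ⟨e, rfl⟩ := hpd
  have he : e ∣ m := by
    rw [mul_comm m p] at h1
    exact Nat.dvd_of_mul_dvd_mul_left hp.pos h1
  obtain ⟨t, rfl⟩ := he
  rcases Nat.eq_zero_or_pos e with rfl | he
  · exact absurd (by simp) h2
  have ht : t ∣ p ^ 2 := by
    have h3' : e * t ∣ e * p ^ 2 := by
      rwa [show p * e * p = e * p ^ 2 by ring] at h3
    exact Nat.dvd_of_mul_dvd_mul_left he h3'
  obtain ⟨i, -, rfl⟩ := (Nat.dvd_prime_pow hp).mp ht
  rcases Nat.eq_zero_or_pos i with rfl | hi
  · ring
  · exfalso
    apply h2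
    rw [show e * p ^ i = p ^ (i - 1) * (p * e) by
      conv_lhs => rw [show i = (i - 1) + 1 by omega, pow_succ]
      ring]
    exact dvd_mul_left _ _

/-- multiplication map `V ⋊ G →* G` -/
noncomputable def mulHom (V : Subgroup G) [V.Normal] : V ⋊[MulAut.conjNormal] G →* G :=
  SemidirectProduct.lift V.subtype (MonoidHom.id G) (fun g => by ext v; simp)

theorem mulHom_apply (V : Subgroup G) [V.Normal] (x : V ⋊[MulAut.conjNormal] G) :
    mulHom V x = (x.left : G) * x.right := rfl

/-- the diagonal action on `ι → V` -/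
def piAut (V : Subgroup G) [V.Normal] (ι : Type*) : G →* MulAut (ι → V) where
  toFun g := MulEquiv.piCongrRight fun _ => MulAut.conjNormal g
  map_one' := by ext f i; simp
  map_mul' g h := by ext f i; simp [mul_assoc]

/-- projection to one coordinate -/
def projHom (V : Subgroup G) [V.Normal] {ι : Type*} (i : ι) :
    (ι → V) ⋊[piAut V ι] G →* V ⋊[MulAut.conjNormal] G :=
  SemidirectProduct.map (Pi.evalMonoidHom (fun _ : ι => V) i) (MonoidHom.id G) (fun g => by rfl)

variable [Finite G]

/-- For `(v, g)` in `V ⋊ G`: either it has the order of `g`, or `v g` has order `orderOf g * p`. -/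
theorem orderOf_mulHom (V : Subgroup G) [V.Normal] {p : ℕ} (hp : p.Prime)
    (hexp : ∀ x : V, x ^ p = 1) (x : V ⋊[MulAut.conjNormal] G) (hx : x ^ orderOf x.right ≠ 1) :
    orderOf (mulHom V x) = orderOf x.right * p := by
  set m := orderOf x.right with hm
  have hr : ∀ n : ℕ, (x ^ n).right = x.right ^ n := fun n => map_pow SemidirectProduct.rightHom x n
  have hv : ∀ n : ℕ, x.right ^ n = 1 → mulHom V x ^ n = ((x ^ n).left : G) := fun n hn => by
    rw [← map_pow, mulHom_apply, hr, hn, mul_one]
  apply eq_mul_of_dvd hp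
  · refine orderOf_dvd_of_pow_eq_one ?_
    rw [pow_mul, hv m (pow_orderOf_eq_one _)]
    exact congrArg Subtype.val (hexp _)
  · intro hd
    apply hx
    have h1 : mulHom V x ^ m = 1 := orderOf_dvd_iff_pow_eq_one.mp hd
    rw [hv m (pow_orderOf_eq_one _)] at h1
    ext1
    · exact Subtype.ext (h1.trans rfl)
    · rw [hr]; exact pow_orderOf_eq_one _
  · refine orderOf_dvd_of_pow_eq_one ?_
    set d := orderOf (mulHom V x)
    have h1 : ((x ^ d).left : G) * x.right ^ d = 1 := by
      rw [← hr, ← mulHom_apply, map_pow, pow_orderOf_eq_one]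
    have h2 : x.right ^ d = (((x ^ d).left⁻¹ : V) : G) := by
      rw [Subgroup.coe_inv]; exact eq_inv_of_mul_eq_one_right h1
    rw [pow_mul, h2]
    exact congrArg Subtype.val (hexp _)

/-- `Vᵏ ⋊ G` has the same element orders as `G`. -/
theorem range_orderOf_pi (V : Subgroup G) [V.Normal] {p : ℕ} (hp : p.Prime)
    (hexp : ∀ x : V, x ^ p = 1) (ι : Type*) [Finite ι] :
    Set.range (orderOf : (ι → V) ⋊[piAut V ι] G → ℕ) = Set.range (orderOf : G → ℕ) := by
  ext n
  constructor
  · rintro ⟨x, rfl⟩
    set m := orderOf x.right with hm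
    by_cases hx : x ^ m = 1
    · refine ⟨x.right, Nat.dvd_antisymm ?_ (orderOf_dvd_of_pow_eq_one hx)⟩
      exact orderOf_map_dvd SemidirectProduct.rightHom x
    · obtain ⟨i, hi⟩ : ∃ i, (projHom V i x) ^ m ≠ 1 := by
        by_contra hne
        push Not at hne
        apply hx
        ext1
        · funext i
          have := congrArg SemidirectProduct.left (hne i)
          rw [← map_pow] at this
          exact this
        · rw [show (x ^ m).right = x.right ^ m from map_pow SemidirectProduct.rightHom x m]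
          exact pow_orderOf_eq_one _
      refine ⟨mulHom V (projHom V i x), ?_⟩
      rw [orderOf_mulHom V hp hexp _ hi]
      show m * p = _
      refine (Nat.dvd_antisymm ?_ ?_).symm
      · refine orderOf_dvd_of_pow_eq_one ?_
        rw [pow_mul]
        have hmr : (x ^ m).right = 1 :=
          (map_pow SemidirectProduct.rightHom x m).trans (pow_orderOf_eq_one _)
        have : x ^ m = SemidirectProduct.inl (x ^ m).left := by
          ext1 <;> simp [hmr]
        rw [this, ← map_pow]
        have : (x ^ m).left ^ p = 1 := funext fun j => hexp _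
        rw [this, map_one]
      · obtain ⟨c, hc⟩ : m ∣ orderOf x := orderOf_map_dvd SemidirectProduct.rightHom x
        have hd : orderOf x ∣ m * p := by
          refine orderOf_dvd_of_pow_eq_one ?_
          rw [pow_mul]
          have hmr : (x ^ m).right = 1 :=
            (map_pow SemidirectProduct.rightHom x m).trans (pow_orderOf_eq_one _)
          have : x ^ m = SemidirectProduct.inl (x ^ m).left := by
            ext1 <;> simp [hmr]
          rw [this, ← map_pow]
          have : (x ^ m).left ^ p = 1 := funext fun j => hexp _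
          rw [this, map_one]
        rw [hc] at hd ⊢
        have hcp : c ∣ p := Nat.dvd_of_mul_dvd_mul_left (orderOf_pos _) hd
        rcases (Nat.dvd_prime hp).mp hcp with rfl | rfl
        · exact absurd (by rw [mul_one] at hc; rw [← hc]; exact pow_orderOf_eq_one x) hx
        · exact dvd_rfl
  · rintro ⟨g, rfl⟩
    exact ⟨SemidirectProduct.inr g, orderOf_injective _ SemidirectProduct.inr_injective g⟩

/-- `V ⋊ G` has the same element orders as `G`. -/
theorem range_orderOf_single (V : Subgroup G) [V.Normal] {p : ℕ} (hp : p.Prime)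
    (hexp : ∀ x : V, x ^ p = 1) :
    Set.range (orderOf : V ⋊[MulAut.conjNormal] G → ℕ) = Set.range (orderOf : G → ℕ) := by
  rw [← range_orderOf_pi V hp hexp Unit]
  have hbij : Function.Bijective (projHom V (ι := Unit) ()) := by
    refine ⟨fun x y h => ?_, fun x => ⟨⟨fun _ => x.left, x.right⟩, rfl⟩⟩
    ext1
    · funext u
      exact congrArg SemidirectProduct.left h
    · have := congrArg SemidirectProduct.right h; exact this
  ext n
  constructor
  · rintro ⟨x, rfl⟩
    obtain ⟨y, rfl⟩ := hbij.2 x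
    exact ⟨y, (orderOf_injective _ hbij.1 y).symm⟩
  · rintro ⟨y, rfl⟩
    exact ⟨projHom V () y, orderOf_injective _ hbij.1 y⟩

/-- A finite group has a copy in `Type`. -/
theorem exists_small_copy (H : Type*) [Group H] [Finite H] :
    ∃ (K : Type) (_ : Group K) (_ : Fintype K), Nonempty (K ≃* H) := by
  let e : Fin (Nat.card H) ≃ H := (Finite.equivFin H).symm
  exact ⟨Fin (Nat.card H), e.group, inferInstance, ⟨e.mulEquiv⟩⟩

/-- A nontrivial abelian normal subgroup of prime exponent gives arbitrarily large groups with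
the same element orders. -/
theorem exists_large (V : Subgroup G) [V.Normal] {p : ℕ} (hp : p.Prime) (hV : V ≠ ⊥)
    (hexp : ∀ x : V, x ^ p = 1) (N : ℕ) :
    ∃ (H : Type) (_ : Group H) (_ : Fintype H),
      N < Fintype.card H ∧ Set.range (orderOf : H → ℕ) = Set.range (orderOf : G → ℕ) := by
  haveI : Finite ((Fin N → V) ⋊[piAut V (Fin N)] G) :=
    Finite.of_equiv _ SemidirectProduct.equivProd.symm
  obtain ⟨K, i1, i2, ⟨e⟩⟩ := exists_small_copy ((Fin N → V) ⋊[piAut V (Fin N)] G)
  refine ⟨K, i1, i2, ?_, ?_⟩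
  · rw [← Nat.card_eq_fintype_card, Nat.card_congr e.toEquiv, SemidirectProduct.card,
      Nat.card_fun, Nat.card_fin]
    have h2 : 2 ≤ Nat.card V := by
      haveI := (Subgroup.nontrivial_iff_ne_bot V).mpr hV
      exact Finite.one_lt_card
    calc N < 2 ^ N := Nat.lt_two_pow_self
      _ ≤ Nat.card V ^ N := Nat.pow_le_pow_left h2 N
      _ ≤ Nat.card V ^ N * Nat.card G := Nat.le_mul_of_pos_right _ Nat.card_pos
  · rw [← range_orderOf_pi V hp hexp (Fin N)]
    ext n
    constructor
    · rintro ⟨x, rfl⟩; exact ⟨e x, e.orderOf_eq x⟩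
    · rintro ⟨x, rfl⟩; exact ⟨e.symm x, e.symm.orderOf_eq x⟩

/-- A nontrivial solvable normal subgroup contains a nontrivial normal elementary abelian one. -/
theorem exists_elementary_of_solvable (K : Subgroup G) [K.Normal] (hK : K ≠ ⊥)
    (hs : Group.IsSolvable K) :
    ∃ (V : Subgroup G) (p : ℕ), V.Normal ∧ p.Prime ∧ V ≠ ⊥ ∧
      (∀ x y : V, x * y = y * x) ∧ ∀ x : V, x ^ p = 1 := by
  haveI : Finite (Subgroup G) :=
    Finite.of_injective (fun K => (K : Set G)) SetLike.coe_injective
  obtain ⟨M, hMK, hM⟩ := Finite.exists_le_minimal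
    (p := fun M : Subgroup G => M.Normal ∧ M ≠ ⊥) (a := K) ⟨inferInstance, hK⟩
  obtain ⟨hMn, hMne⟩ := hM.prop
  have hMmin : ∀ L : Subgroup G, L.Normal ∧ L ≠ ⊥ → L ≤ M → M ≤ L := fun L hL hle => hM.le_of_le hL hle
  have hab : ∀ x y : M, x * y = y * x := by
    haveI := hMn
    haveI : Group.IsSolvable M := solvable_of_solvable_injective (Subgroup.inclusion_injective hMK)
    haveI : Nontrivial M := (Subgroup.nontrivial_iff_ne_bot M).mpr hMne
    have hlt := IsSolvable.commutator_lt_top_of_nontrivial (G := M)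
    have hbot : (Subgroup.map M.subtype (commutator M)) = ⊥ := by
      by_contra hne
      have hn : ((Subgroup.map M.subtype (commutator M))).Normal := by
        rw [commutator_def, Subgroup.map_commutator, ← MonoidHom.range_eq_map, Subgroup.range_subtype]
        infer_instance
      have := hMmin _ ⟨hn, hne⟩ (Subgroup.map_subtype_le _)
      apply hlt.ne
      rw [eq_top_iff]
      intro x _
      obtain ⟨y, hy, hyx⟩ := this x.2
      rw [← Subtype.ext hyx]
      exact hy
    intro x y
    have : ⁅x, y⁆ ∈ commutator M := Subgroup.commutator_mem_commutator (Subgroup.mem_top _) (Subgroup.mem_top _)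
    rw [(Subgroup.map_eq_bot_iff_of_injective _ M.subtype_injective).mp hbot, Subgroup.mem_bot,
      commutatorElement_eq_one_iff_mul_comm] at this
    exact this
  set p := (Nat.card M).minFac with hpdef
  have hp : p.Prime := Nat.minFac_prime (fun h => hMne (Subgroup.card_eq_one.mp h))
  haveI := Fact.mk hp
  obtain ⟨z, hz⟩ := exists_prime_orderOf_dvd_card' (G := M) p (Nat.minFac_dvd _)
  have hcomm : ∀ x ∈ M, ∀ y ∈ M, x * y = y * x := fun x hx y hy =>
    congrArg Subtype.val (hab ⟨x, hx⟩ ⟨y, hy⟩)
  let V : Subgroup G :=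
    { carrier := {x | x ∈ M ∧ x ^ p = 1}
      one_mem' := ⟨M.one_mem, one_pow _⟩
      mul_mem' := fun {x y} hx hy => ⟨M.mul_mem hx.1 hy.1, by
        rw [Commute.mul_pow (hcomm x hx.1 y hy.1), hx.2, hy.2, one_mul]⟩
      inv_mem' := fun {x} hx => ⟨M.inv_mem hx.1, by rw [inv_pow, hx.2, inv_one]⟩ }
  refine ⟨V, p, ⟨fun x hx g => ⟨hMn.conj_mem x hx.1 g, by rw [conj_pow, hx.2, mul_one, mul_inv_cancel]⟩⟩,
    hp, ?_, fun x y => Subtype.ext (hcomm _ x.2.1 _ y.2.1), fun x => Subtype.ext x.2.2⟩
  intro hbot
  have hzV : (z : G) ∈ V := ⟨z.2, by rw [← hz]; exact congrArg Subtype.val (pow_orderOf_eq_one z)⟩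
  rw [hbot, Subgroup.mem_bot] at hzV
  rw [orderOf_eq_one_iff.mpr (Subtype.ext hzV : z = 1)] at hz
  exact hp.ne_one hz.symm

end CfsgLib.Recog.Spectrum
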