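import Mathlib
import Cfsg.Agent.Lib.Recog.SemidirectSpectrum

/-!
# The affine group `F² ⋊ SL(2,F)` in characteristic two and element orders in `SL(2,F)`
-/

namespace CfsgLib.Recog.AffineTwo

abbrev SL2 (F : Type*) [CommRing F] := Matrix.SpecialLinearGroup (Fin 2) F

/-- matrices with last row `(0,0,1)` -/
def affine (F : Type*) [Field F] [Finite F] : Subgroup (Matrix.SpecialLinearGroup (Fin 3) F) where
  carrier := {M | (M : Matrix (Fin 3) (Fin 3) F) 2 0 = 0 ∧ (M : Matrix (Fin 3) (Fin 3) F) 2 1 = 0 ∧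
    (M : Matrix (Fin 3) (Fin 3) F) 2 2 = 1}
  one_mem' := by simp
  mul_mem' := by
    rintro M N ⟨h1, h2, h3⟩ ⟨k1, k2, k3⟩
    simp [Matrix.mul_apply, Fin.sum_univ_three, h1, h2, h3, k1, k2, k3]
  inv_mem' := by
    intro M hM
    rw [inv_eq_of_mul_eq_one_right (show M * M ^ (orderOf M - 1) = 1 by
      rw [← pow_succ', Nat.sub_add_cancel (orderOf_pos M), pow_orderOf_eq_one])]
    generalize orderOf M - 1 = k
    induction k with
    | zero => simp
    | succ k ih =>
      obtain ⟨h1, h2, h3⟩ := ih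
      obtain ⟨k1, k2, k3⟩ := hM
      rw [pow_succ]
      simp only [Set.mem_setOf_eq, Matrix.SpecialLinearGroup.coe_mul, Matrix.mul_apply, Fin.sum_univ_three, h1, h2, h3, k1, k2, k3]
      simp

variable {F : Type*} [Field F] [Finite F]

theorem det_block (M : affine F) :
    (M.1 : Matrix (Fin 3) (Fin 3) F) 0 0 * (M.1 : Matrix (Fin 3) (Fin 3) F) 1 1 -
      (M.1 : Matrix (Fin 3) (Fin 3) F) 0 1 * (M.1 : Matrix (Fin 3) (Fin 3) F) 1 0 = 1 := by
  obtain ⟨h1, h2, h3⟩ := M.2
  have h := M.1.det_coe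
  rw [Matrix.det_fin_three, h1, h2, h3] at h
  linear_combination h

/-- the linear part -/
def linPart : affine F →* SL2 F where
  toFun M := ⟨!![(M.1 : Matrix (Fin 3) (Fin 3) F) 0 0, (M.1 : Matrix (Fin 3) (Fin 3) F) 0 1;
      (M.1 : Matrix (Fin 3) (Fin 3) F) 1 0, (M.1 : Matrix (Fin 3) (Fin 3) F) 1 1],
    by rw [Matrix.det_fin_two_of]; exact det_block M⟩
  map_one' := by
    apply Subtype.ext
    ext i j
    fin_cases i <;> fin_cases j <;> simp
  map_mul' M N := by
    refine Subtype.ext (Eq.trans ?_ (Matrix.SpecialLinearGroup.coe_mul _ _).symm)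
    obtain ⟨k1, k2, k3⟩ := N.2
    ext i j
    fin_cases i <;> fin_cases j <;>
      simp [Matrix.SpecialLinearGroup.coe_mul, Matrix.mul_apply, Fin.sum_univ_three, Fin.sum_univ_two, k1, k2, k3]

/-- the embedding of the linear group -/
def embed : SL2 F →* affine F where
  toFun A := ⟨⟨!![(A : Matrix (Fin 2) (Fin 2) F) 0 0, (A : Matrix (Fin 2) (Fin 2) F) 0 1, 0;
      (A : Matrix (Fin 2) (Fin 2) F) 1 0, (A : Matrix (Fin 2) (Fin 2) F) 1 1, 0; 0, 0, 1],
    by
      have h := A.det_coe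
      rw [Matrix.det_fin_two] at h
      rw [Matrix.det_fin_three]
      simp
      linear_combination h⟩, by refine ⟨?_, ?_, ?_⟩ <;> rfl⟩
  map_one' := by
    apply Subtype.ext; apply Subtype.ext
    ext i j
    fin_cases i <;> fin_cases j <;> simp
  map_mul' A B := by
    apply Subtype.ext
    refine Subtype.ext (Eq.trans ?_ (Matrix.SpecialLinearGroup.coe_mul _ _).symm)
    ext i j
    fin_cases i <;> fin_cases j <;>
      simp [Matrix.SpecialLinearGroup.coe_mul, Matrix.mul_apply, Fin.sum_univ_three, Fin.sum_univ_two]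

theorem linPart_embed (A : SL2 F) : linPart (embed A) = A := by
  apply Subtype.ext
  ext i j
  fin_cases i <;> fin_cases j <;> rfl

theorem orderOf_embed (A : SL2 F) : orderOf (embed A) = orderOf A :=
  orderOf_injective embed (Function.LeftInverse.injective linPart_embed) A

/-- a translation -/
def transl (v w : F) : affine F :=
  ⟨⟨!![1, 0, v; 0, 1, w; 0, 0, 1], by rw [Matrix.det_fin_three]; simp⟩,
    by refine ⟨?_, ?_, ?_⟩ <;> rfl⟩

variable [CharP F 2]

theorem mem_ker (M : affine F) (hM : linPart M = 1) :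
    M = transl ((M.1 : Matrix (Fin 3) (Fin 3) F) 0 2) ((M.1 : Matrix (Fin 3) (Fin 3) F) 1 2) := by
  obtain ⟨h1, h2, h3⟩ := M.2
  have h00 : (M.1 : Matrix (Fin 3) (Fin 3) F) 0 0 = 1 :=
    congrArg (fun A : SL2 F => (A : Matrix (Fin 2) (Fin 2) F) 0 0) hM
  have h01 : (M.1 : Matrix (Fin 3) (Fin 3) F) 0 1 = 0 :=
    congrArg (fun A : SL2 F => (A : Matrix (Fin 2) (Fin 2) F) 0 1) hM
  have h10 : (M.1 : Matrix (Fin 3) (Fin 3) F) 1 0 = 0 :=
    congrArg (fun A : SL2 F => (A : Matrix (Fin 2) (Fin 2) F) 1 0) hM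
  have h11 : (M.1 : Matrix (Fin 3) (Fin 3) F) 1 1 = 1 :=
    congrArg (fun A : SL2 F => (A : Matrix (Fin 2) (Fin 2) F) 1 1) hM
  apply Subtype.ext; apply Subtype.ext
  ext i j
  fin_cases i <;> fin_cases j <;> simp [transl, h1, h2, h3, h00, h01, h10, h11]

theorem transl_sq (v w : F) : transl v w ^ 2 = 1 := by
  rw [pow_two]
  apply Subtype.ext
  refine Subtype.ext ((Matrix.SpecialLinearGroup.coe_mul _ _).trans ?_)
  ext i j
  fin_cases i <;> fin_cases j <;>
    simp [transl, Matrix.SpecialLinearGroup.coe_mul, Matrix.mul_apply, Fin.sum_univ_three, CharTwo.add_self_eq_zero]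

theorem ker_pow_two (M : (linPart (F := F)).ker) : M ^ 2 = 1 := by
  apply Subtype.ext
  show (M : affine F) ^ 2 = 1
  rw [mem_ker _ M.2]
  exact transl_sq _ _

theorem ker_ne_bot : (linPart (F := F)).ker ≠ ⊥ := by
  intro h
  have hm : transl (1 : F) 0 ∈ (linPart (F := F)).ker := by
    show linPart (transl (1 : F) 0) = 1
    apply Subtype.ext
    ext i j
    fin_cases i <;> fin_cases j <;> rfl
  rw [h, Subgroup.mem_bot] at hm
  have := congrArg (fun M : affine F => (M.1 : Matrix (Fin 3) (Fin 3) F) 0 2) hm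
  simp [transl] at this

/-- trace of a 2×2 matrix -/
def tr (A : SL2 F) : F := (A : Matrix (Fin 2) (Fin 2) F) 0 0 + (A : Matrix (Fin 2) (Fin 2) F) 1 1

theorem mul_self_eq (A : SL2 F) :
    (A : Matrix (Fin 2) (Fin 2) F) * (A : Matrix (Fin 2) (Fin 2) F) = tr A • (A : Matrix (Fin 2) (Fin 2) F) + 1 := by
  have h := A.det_coe
  rw [Matrix.det_fin_two] at h
  have h2 : (2 : F) = 0 := CharTwo.two_eq_zero
  ext i j
  fin_cases i <;> fin_cases j <;> simp [tr, Matrix.mul_apply, Fin.sum_univ_two, smul_eq_mul]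
  · linear_combination -h + (-1:F) * h2
  · ring
  · ring
  · linear_combination -h + (-1:F) * h2

theorem sq_eq_one_of_tr (A : SL2 F) (h : tr A = 0) : A ^ 2 = 1 := by
  apply Subtype.ext
  rw [pow_two, Matrix.SpecialLinearGroup.coe_mul, mul_self_eq, h, zero_smul, zero_add,
    Matrix.SpecialLinearGroup.coe_one]

/-- an element of the affine group is of order dividing 4 or has the order of its linear part -/
theorem pow_four_or_orderOf_eq (M : affine F) :
    M ^ 4 = 1 ∨ orderOf M = orderOf (linPart M) := by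
  by_cases ht : tr (linPart M) = 0
  · left
    have h1 : linPart (M ^ 2) = 1 := by rw [map_pow]; exact sq_eq_one_of_tr _ ht
    rw [show 4 = 2 * 2 by rfl, pow_mul, mem_ker _ h1]
    exact transl_sq _ _
  · right
    refine Nat.dvd_antisymm (orderOf_dvd_of_pow_eq_one ?_) (orderOf_map_dvd _ M)
    have h1 : linPart (M ^ orderOf (linPart M)) = 1 := by rw [map_pow, pow_orderOf_eq_one]
    have hc : Commute M (M ^ orderOf (linPart M)) := Commute.self_pow _ _
    rw [mem_ker _ h1] at hc ⊢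
    generalize ((M ^ orderOf (linPart M)).1 : Matrix (Fin 3) (Fin 3) F) 0 2 = v at hc ⊢
    generalize ((M ^ orderOf (linPart M)).1 : Matrix (Fin 3) (Fin 3) F) 1 2 = w at hc ⊢
    obtain ⟨g1, g2, g3⟩ := M.2
    have hm : (M.1 : Matrix (Fin 3) (Fin 3) F) * !![1, 0, v; 0, 1, w; 0, 0, 1] =
        !![1, 0, v; 0, 1, w; 0, 0, 1] * (M.1 : Matrix (Fin 3) (Fin 3) F) :=
      (Matrix.SpecialLinearGroup.coe_mul M.1 (transl v w).1).symm.trans
        ((congrArg (fun X : affine F => (X.1 : Matrix (Fin 3) (Fin 3) F)) hc.eq).trans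
          (Matrix.SpecialLinearGroup.coe_mul (transl v w).1 M.1))
    have e0 := congrArg (fun X : Matrix (Fin 3) (Fin 3) F => X 0 2) hm
    have e1 := congrArg (fun X : Matrix (Fin 3) (Fin 3) F => X 1 2) hm
    simp [Matrix.mul_apply, Fin.sum_univ_three, g3] at e0 e1
    have hd := det_block M
    have htr : tr (linPart M) = (M.1 : Matrix (Fin 3) (Fin 3) F) 0 0 + (M.1 : Matrix (Fin 3) (Fin 3) F) 1 1 := rfl
    rw [htr] at ht
    have h2 : (2 : F) = 0 := CharTwo.two_eq_zero
    generalize (M.1 : Matrix (Fin 3) (Fin 3) F) 0 0 = a at e0 e1 hd ht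
    generalize (M.1 : Matrix (Fin 3) (Fin 3) F) 1 1 = d at e0 e1 hd ht
    generalize (M.1 : Matrix (Fin 3) (Fin 3) F) 0 1 = b at e0 e1 hd ht
    generalize (M.1 : Matrix (Fin 3) (Fin 3) F) 1 0 = c at e0 e1 hd ht
    generalize (M.1 : Matrix (Fin 3) (Fin 3) F) 0 2 = e at e0
    generalize (M.1 : Matrix (Fin 3) (Fin 3) F) 1 2 = f at e1
    have hv : v * (a + d) = 0 := by linear_combination (d - 1) * e0 - b * e1 - v * hd + (a*v + d*v - v) * h2
    have hw : w * (a + d) = 0 := by linear_combination (a - 1) * e1 - c * e0 - w * hd + (a*w + d*w - w) * h2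
    obtain rfl : v = 0 := by simpa [ht] using hv
    obtain rfl : w = 0 := by simpa [ht] using hw
    apply Subtype.ext; apply Subtype.ext
    ext i j
    fin_cases i <;> fin_cases j <;> simp [transl]

theorem exists_orderOf_iff {n : ℕ} (hn : ¬ n ∣ 4) :
    (∃ M : affine F, orderOf M = n) ↔ ∃ A : SL2 F, orderOf A = n := by
  constructor
  · rintro ⟨M, rfl⟩
    rcases pow_four_or_orderOf_eq M with h | h
    · exact absurd (orderOf_dvd_of_pow_eq_one h) hn
    · exact ⟨_, h.symm⟩
  · rintro ⟨A, rfl⟩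
    exact ⟨embed A, orderOf_embed A⟩

omit [Finite F] [CharP F 2] in
/-- coefficient sequence for powers of a 2×2 matrix with `X² = tX + 1` -/
theorem pow_step {R : Type*} [Ring R] [Algebra F R] {X : R} {t : F} (hX : X * X = t • X + 1)
    {k : ℕ} {x y : F} (h : X ^ k = x • X + y • 1) : X ^ (k + 1) = (x * t + y) • X + x • 1 := by
  rw [pow_succ, h, add_mul, smul_mul_assoc, hX, smul_add, smul_smul, smul_mul_assoc, one_mul,
    add_smul]
  abel

/-- the coefficients -/
def coef (t : F) : ℕ → F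
  | 0 => 0
  | 1 => 1
  | n + 2 => coef t (n + 1) * t + coef t n

theorem pow_eq_one_of_coef (A : SL2 F) (n : ℕ) (h1 : coef (tr A) (n + 1) = 0) (h2 : coef (tr A) n = 1) :
    A ^ (n + 1) = 1 := by
  have key : ∀ k, (A : Matrix (Fin 2) (Fin 2) F) ^ (k + 1) =
      coef (tr A) (k + 1) • (A : Matrix (Fin 2) (Fin 2) F) + coef (tr A) k • 1 := by
    intro k
    induction k with
    | zero => simp [coef]
    | succ k ih => exact pow_step (mul_self_eq A) ih
  apply Subtype.ext
  rw [Matrix.SpecialLinearGroup.coe_pow, key, h1, h2]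
  simp

theorem orders_card_four [Fintype F] (hF : Fintype.card F = 4) (A : SL2 F) :
    A ^ 2 = 1 ∨ A ^ 3 = 1 ∨ A ^ 5 = 1 := by
  by_cases h0 : tr A = 0
  · exact Or.inl (sq_eq_one_of_tr A h0)
  right
  have h3 : tr A ^ 3 = 1 := by simpa [hF] using FiniteField.pow_card_sub_one_eq_one (tr A) h0
  have h2 : (2 : F) = 0 := CharTwo.two_eq_zero
  by_cases h1 : tr A = 1
  · left
    exact pow_eq_one_of_coef A 2 (by simp [coef, h1]; linear_combination h2) (by simp [coef, h1])
  · right
    have hq : tr A ^ 2 + tr A + 1 = 0 := by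
      have hm : (tr A - 1) * (tr A ^ 2 + tr A + 1) = 0 := by linear_combination h3
      exact (mul_eq_zero.mp hm).resolve_left (sub_ne_zero.mpr h1)
    refine pow_eq_one_of_coef A 4 ?_ ?_
    · simp [coef]; linear_combination (tr A) * h3 + hq + (tr A ^ 2) * h2
    · simp [coef]; linear_combination h3 + tr A * h2

theorem orders_card_eight [Fintype F] (hF : Fintype.card F = 8) (A : SL2 F) :
    A ^ 2 = 1 ∨ A ^ 7 = 1 ∨ A ^ 9 = 1 := by
  by_cases h0 : tr A = 0
  · exact Or.inl (sq_eq_one_of_tr A h0)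
  right
  have h7 : tr A ^ 7 = 1 := by simpa [hF] using FiniteField.pow_card_sub_one_eq_one (tr A) h0
  have h2 : (2 : F) = 0 := CharTwo.two_eq_zero
  set t := tr A with ht
  by_cases hc : t ^ 3 + t ^ 2 + 1 = 0
  · left
    refine pow_eq_one_of_coef A 6 ?_ ?_
    · simp [coef, ← ht]; grobner
    · simp [coef, ← ht]; grobner
  · right
    have hm : (t - 1) * (t ^ 3 + t + 1) * (t ^ 3 + t ^ 2 + 1) = 0 := by
      linear_combination h7 + (t^4 - t^3) * h2
    have hm' := (mul_eq_zero.mp hm).resolve_right hc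
    rcases mul_eq_zero.mp hm' with h | h
    · have h1 : t = 1 := sub_eq_zero.mp h
      refine pow_eq_one_of_coef A 8 ?_ ?_
      · simp [coef, ← ht, h1]; grobner
      · simp [coef, ← ht, h1]; grobner
    · refine pow_eq_one_of_coef A 8 ?_ ?_
      · simp [coef, ← ht]; grobner
      · simp [coef, ← ht]; grobner

end CfsgLib.Recog.AffineTwo
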