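import Mathlib
import Cfsg.Agent.Lib.Recog.AffineTwo

/-!
# Large groups with the prime graph of `SL(2, 2ⁿ)`
-/

namespace CfsgLib.Recog.AffineTwo

/-- `PSL(2,F) ≅ SL(2,F)` in characteristic two -/
theorem psl_equiv_sl (F : Type*) [Field F] [CharP F 2] :
    Nonempty (Matrix.ProjectiveSpecialLinearGroup (Fin 2) F ≃* Matrix.SpecialLinearGroup (Fin 2) F) := by
  have hc : Subgroup.center (Matrix.SpecialLinearGroup (Fin 2) F) = ⊥ := by
    rw [eq_bot_iff]
    intro A hA
    obtain ⟨r, hr, hA'⟩ := Matrix.SpecialLinearGroup.mem_center_iff.mp hA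
    rw [Fintype.card_fin] at hr
    have hr1 : r = 1 := by
      have : (r + 1) ^ 2 = 0 := by
        linear_combination hr + (r + 1) * (CharTwo.two_eq_zero (R := F))
      have h0 := (pow_eq_zero_iff two_ne_zero).mp this
      linear_combination h0 - (CharTwo.two_eq_zero (R := F))
    rw [Subgroup.mem_bot]
    apply Subtype.ext
    rw [← hA', hr1, map_one]
    rfl
  exact ⟨(QuotientGroup.quotientMulEquivOfEq hc).trans QuotientGroup.quotientBot⟩

variable (F : Type*) [Field F] [Finite F] [CharP F 2]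

/-- arbitrarily large groups with the same sets of prime and two-prime element orders as `SL(2,F)` -/
theorem exists_large_prime_graph (N : ℕ) :
    ∃ (H : Type) (_ : Group H) (_ : Finite H), N < Nat.card H ∧
      (∀ p : ℕ, p.Prime → (p ∣ Nat.card (SL2 F) ↔ p ∣ Nat.card H)) ∧
      ∀ p q : ℕ, p.Prime → q.Prime → p ≠ q →
        ((∃ A : SL2 F, orderOf A = p * q) ↔ ∃ g : H, orderOf g = p * q) := by
  obtain ⟨H, i1, i2, hN, hr⟩ := CfsgLib.Recog.Spectrum.exists_large
    (linPart (F := F)).ker Nat.prime_two ker_ne_bot (fun x => ker_pow_two x) N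
  have hiff : ∀ n, (∃ g : H, orderOf g = n) ↔ ∃ M : affine F, orderOf M = n := fun n =>
    iff_of_eq (congrArg (fun s : Set ℕ => n ∈ s) hr)
  refine ⟨H, i1, inferInstance, by rwa [Nat.card_eq_fintype_card], fun p hp => ?_, fun p q hp hq hpq => ?_⟩
  · haveI := Fact.mk hp
    have hsame : (∃ A : SL2 F, orderOf A = p) ↔ ∃ M : affine F, orderOf M = p := by
      by_cases h2 : p = 2
      · subst h2
        refine iff_of_true ?_ ?_
        · refine ⟨⟨!![1, 1; 0, 1], by rw [Matrix.det_fin_two_of]; simp⟩, orderOf_eq_prime (sq_eq_one_of_tr _ ?_) ?_⟩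
          · show (1 : F) + 1 = 0
            exact CharTwo.add_self_eq_zero 1
          · intro h
            have := congrArg (fun A : SL2 F => (A : Matrix (Fin 2) (Fin 2) F) 0 1) h
            simp at this
        · refine ⟨transl 1 0, orderOf_eq_prime (transl_sq _ _) fun h => ?_⟩
          have := congrArg (fun M : affine F => (M.1 : Matrix (Fin 3) (Fin 3) F) 0 2) h
          simp [transl] at this
      · refine (exists_orderOf_iff fun h => h2 ?_).symm
        exact (Nat.prime_dvd_prime_iff_eq hp Nat.prime_two).mp (hp.dvd_of_dvd_pow (show p ∣ 2 ^ 2 from h))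
    constructor
    · intro h
      obtain ⟨A, hA⟩ := exists_prime_orderOf_dvd_card' p h
      obtain ⟨g, hg⟩ := (hiff p).mpr (hsame.mp ⟨A, hA⟩)
      exact hg ▸ orderOf_dvd_natCard g
    · intro h
      obtain ⟨g, hg⟩ := exists_prime_orderOf_dvd_card' p h
      obtain ⟨A, hA⟩ := hsame.mpr ((hiff p).mp ⟨g, hg⟩)
      exact hA ▸ orderOf_dvd_natCard A
  · rw [hiff, exists_orderOf_iff (F := F) (fun h => ?_)]
    have h1 := (Nat.prime_dvd_prime_iff_eq hp Nat.prime_two).mp (hp.dvd_of_dvd_pow ((dvd_mul_right p q).trans (show p * q ∣ 2 ^ 2 from h)))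
    have h2 := (Nat.prime_dvd_prime_iff_eq hq Nat.prime_two).mp (hq.dvd_of_dvd_pow ((dvd_mul_left q p).trans (show p * q ∣ 2 ^ 2 from h)))
    exact hpq (h1.trans h2.symm)

end CfsgLib.Recog.AffineTwo
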