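import Cfsg.Agent.Lib.Recog.GLTwoThree
import Cfsg.Agent.Lib.Core.Cores

/-!
Recognition of `GL(2,3)` and of the binary extensions of `S₄` from a frame.
-/

set_option autoImplicit false
set_option linter.style.haveILetI false

namespace CfsgLib.GLTwoThree

open CfsgLib.ZStar CfsgLib.Classical.Two
open scoped MatrixGroups

/-- Coordinates in `GL(2,3)`. -/
def glCoord (p : QuaternionGroup 2 × Fin 3 × Fin 2) : Matrix (Fin 2) (Fin 2) (ZMod 3) :=
  (slCoord (p.1, p.2.1) : Matrix (Fin 2) (Fin 2) (ZMod 3)) *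
    (if p.2.2 = 0 then !![1, 0; 0, 1] else !![1, 0; 0, -1])

/-- The multiplication of coordinates. -/
def coordMul (p q : QuaternionGroup 2 × Fin 3 × Fin 2) : QuaternionGroup 2 × Fin 3 × Fin 2 :=
  (p.1 * q8Sigma^[(p.2.1 : ℕ)] (q8Tau^[(p.2.2 : ℕ)] q.1),
    p.2.1 + (if p.2.2 = 0 then q.2.1 else -q.2.1), p.2.2 + q.2.2)

theorem glCoord_injective : ∀ p q, glCoord p = glCoord q → p = q := by decide +kernel

theorem glCoord_mul : ∀ p q, glCoord p * glCoord q = glCoord (coordMul p q) := by decide +kernel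

theorem glCoord_surjective : ∀ a b c d : ZMod 3, a * d - b * c ≠ 0 →
    ∃ p, glCoord p = !![a, b; c, d] := by decide +kernel

variable {G : Type*} [Group G] [Finite G] {F : Subgroup G} [F.Normal]
  (e : QuaternionGroup 2 ≃* F) (hC : Subgroup.centralizer (F : Set G) ≤ F)
  {y s : G} (hy3 : y ^ 3 = 1) (hyF : y ∉ F) (hsF : s ∉ F)
  (hy : ∀ z, act F e y z = q8Sigma z) (hs : ∀ z, act F e s z = q8Tau z)

include hC hy3 hy hs in
/-- `s` inverts `y`. -/
theorem inverts : s * y * s⁻¹ = y⁻¹ := by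
  have hti : ∀ z, q8Sigma (q8Tau (q8Sigma (q8Tau z))) = z := fun z => by
    rw [← tau_tau (q8Sigma (q8Tau (q8Sigma (q8Tau z)))), tau_sigma, tau_tau]
  have hsinv : ∀ z, act F e s⁻¹ z = q8Tau z := fun z => by
    rw [map_inv]
    apply (act F e s).injective
    rw [MulAut.apply_inv_self, hs, tau_tau]
  obtain ⟨w, hw, hwc⟩ := act_eq_one e hC (g := y * (s * y * s⁻¹)) fun z => by
    rw [map_mul, map_mul, map_mul, MulAut.mul_apply, MulAut.mul_apply, MulAut.mul_apply, hsinv, hy, hs,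
      hy, hti]
  obtain ⟨hw1, hw3⟩ := central_cube w hwc
  have hcw : Commute y (e w : G) := by
    show y * (e w : G) = (e w : G) * y
    have h := act_spec F e y w
    rw [hy, hw1] at h
    nth_rewrite 2 [h]
    rw [inv_mul_cancel_right]
  set u := s * y * s⁻¹
  have hu : u = y⁻¹ * (e w : G) := by rw [hw, inv_mul_cancel_left]
  have hu3 : u ^ 3 = 1 := by rw [conj_pow, hy3]; simp
  rw [hu, hcw.inv_left.mul_pow, inv_pow, hy3, inv_one, one_mul] at hu3
  have hw33 : w * w * w = 1 := by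
    apply e.injective
    rw [map_one, map_mul, map_mul]
    refine Subtype.ext ?_
    rw [Subgroup.coe_mul, Subgroup.coe_mul, Subgroup.coe_one, ← pow_two, ← pow_succ]
    exact hu3
  rw [hu, hw3 hw33, map_one, Subgroup.coe_one, mul_one]

/-- The map from coordinates. -/
def coordMap (p : QuaternionGroup 2 × Fin 3 × Fin 2) : G :=
  (e p.1 : G) * y ^ (p.2.1 : ℕ) * s ^ (p.2.2 : ℕ)

include hy3 in
theorem y_pow_add (i j : Fin 3) : y ^ ((i + j : Fin 3) : ℕ) = y ^ (i : ℕ) * y ^ (j : ℕ) := by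
  rw [← pow_add, Fin.val_add, pow_eq_pow_mod ((i : ℕ) + (j : ℕ)) hy3]

include hy3 hyF in
theorem eq_zero_of_pow_mem {k : Fin 3} (h : y ^ (k : ℕ) ∈ F) : k = 0 := by
  fin_cases k
  · rfl
  · exact absurd (by simpa using h) hyF
  · exfalso
    refine hyF ?_
    rw [show y = (y ^ 2)⁻¹ by rw [eq_inv_iff_mul_eq_one, ← pow_succ', hy3]]
    exact inv_mem (by simpa using h)

include hC hy3 hyF hsF hy hs in
theorem coordMap_mem (p : QuaternionGroup 2 × Fin 3 × Fin 2) (h : coordMap e (y := y) (s := s) p ∈ F) :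
    p.2.1 = 0 ∧ p.2.2 = 0 := by
  have h' : y ^ (p.2.1 : ℕ) * s ^ (p.2.2 : ℕ) ∈ F := by
    have := mul_mem (inv_mem (e p.1).2) h
    rwa [coordMap, mul_assoc ((e p.1 : F) : G), inv_mul_cancel_left] at this
  have hl : p.2.2 = 0 := by
    by_contra hl
    have h1 : (p.2.2 : ℕ) = 1 := by
      have := p.2.2.isLt
      have : (p.2.2 : ℕ) ≠ 0 := fun h => hl (Fin.ext h)
      omega
    rw [h1, pow_one] at h'
    -- modulo `F`, an involution would be a power of an element of order three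
    set π := QuotientGroup.mk' F
    have hk : π s = (π y ^ (p.2.1 : ℕ))⁻¹ := by
      rw [eq_inv_iff_mul_eq_one, ← map_pow]
      have h2 : π (y ^ (p.2.1 : ℕ) * s) = 1 := (QuotientGroup.eq_one_iff _).2 h'
      rw [map_mul] at h2
      exact mul_eq_one_comm.1 h2
    have hcomm : π s * π y * (π s)⁻¹ = π y := by
      rw [hk]; group
    rw [← map_inv π s, ← map_mul, ← map_mul, inverts e hC hy3 hy hs, map_inv] at hcomm
    refine hyF ((QuotientGroup.eq_one_iff y).1 ?_)
    show π y = 1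
    have h2 : π y * π y = 1 := by
      nth_rewrite 1 [← hcomm]
      exact inv_mul_cancel _
    have h3 : π y ^ 3 = 1 := by rw [← map_pow, hy3, map_one]
    rwa [pow_succ, pow_two, h2, one_mul] at h3
  refine ⟨eq_zero_of_pow_mem hy3 hyF ?_, hl⟩
  rw [hl] at h'
  simpa using h'

include hC hy3 hyF hsF hy hs in
/-- Recognition of `GL(2,3)`. -/
theorem glTwoThree_of_frame (hG : Nat.card G = 48) (hs2 : s * s = 1) :
    Nonempty (G ≃* GL (Fin 2) (ZMod 3)) := by
  classical
  let Φ : QuaternionGroup 2 × Fin 3 × Fin 2 → G := coordMap e (y := y) (s := s)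
  have hmul : ∀ p q, Φ p * Φ q = Φ (coordMul p q) := by
    rintro ⟨z₁, k₁, l₁⟩ ⟨z₂, k₂, l₂⟩
    have hyz : ∀ (k : ℕ) (z : QuaternionGroup 2), y ^ k * (e z : G) = (e (q8Sigma^[k] z) : G) * y ^ k := by
      intro k
      induction k with
      | zero => intro z; simp
      | succ k ih =>
        intro z
        rw [pow_succ, mul_assoc, show y * (e z : G) = (e (q8Sigma z) : G) * y by
          rw [← hy, act_spec, inv_mul_cancel_right], ← mul_assoc, ih, Function.iterate_succ_apply,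
          mul_assoc]
    have hsz : ∀ (l : Fin 2) (z : QuaternionGroup 2),
        s ^ (l : ℕ) * (e z : G) = (e (q8Tau^[(l : ℕ)] z) : G) * s ^ (l : ℕ) := by
      intro l z
      fin_cases l
      · simp
      · simp only [pow_one, Function.iterate_one]
        rw [← hs, act_spec, inv_mul_cancel_right]
    have hsy : ∀ (l : Fin 2) (k : Fin 3), s ^ (l : ℕ) * y ^ (k : ℕ) =
        y ^ ((if l = 0 then k else -k : Fin 3) : ℕ) * s ^ (l : ℕ) := by
      intro l k
      fin_cases l
      · simp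
      · simp only [pow_one]
        have h1 : s * y ^ (k : ℕ) * s⁻¹ = (y⁻¹) ^ (k : ℕ) := by rw [← conj_pow, inverts e hC hy3 hy hs]
        have h2 : (y⁻¹) ^ (k : ℕ) = y ^ ((-k : Fin 3) : ℕ) := by
          rw [inv_pow, inv_eq_iff_mul_eq_one, ← y_pow_add hy3, add_neg_cancel]
          simp
        rw [if_neg (by decide), ← h2, ← h1, inv_mul_cancel_right]
    have hsadd : s ^ ((l₁ + l₂ : Fin 2) : ℕ) = s ^ (l₁ : ℕ) * s ^ (l₂ : ℕ) := by
      rw [← pow_add, Fin.val_add, pow_eq_pow_mod ((l₁ : ℕ) + (l₂ : ℕ)) (by rw [pow_two]; exact hs2)]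
    show (e z₁ : G) * y ^ (k₁ : ℕ) * s ^ (l₁ : ℕ) * ((e z₂ : G) * y ^ (k₂ : ℕ) * s ^ (l₂ : ℕ)) =
      (e (z₁ * q8Sigma^[(k₁ : ℕ)] (q8Tau^[(l₁ : ℕ)] z₂)) : G) *
        y ^ ((k₁ + (if l₁ = 0 then k₂ else -k₂) : Fin 3) : ℕ) * s ^ ((l₁ + l₂ : Fin 2) : ℕ)
    rw [map_mul, Subgroup.coe_mul, y_pow_add hy3, hsadd]
    calc _ = (e z₁ : G) * y ^ (k₁ : ℕ) * (s ^ (l₁ : ℕ) * (e z₂ : G)) * y ^ (k₂ : ℕ) * s ^ (l₂ : ℕ) := by
          simp only [mul_assoc]
      _ = (e z₁ : G) * (y ^ (k₁ : ℕ) * (e (q8Tau^[(l₁ : ℕ)] z₂) : G)) *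
            (s ^ (l₁ : ℕ) * y ^ (k₂ : ℕ)) * s ^ (l₂ : ℕ) := by rw [hsz]; simp only [mul_assoc]
      _ = _ := by rw [hyz, hsy]; simp only [mul_assoc]
  have hinj : Function.Injective Φ := by
    intro p q hpq
    -- find the right inverse of `q`
    have hex : ∀ r, ∃ r', coordMul r r' = (1, 0, 0) := by decide +kernel
    obtain ⟨q', hq'⟩ := hex q
    have h1 : Φ (coordMul p q') = 1 := by
      rw [← hmul, hpq, hmul, hq']; simp [Φ, coordMap]
    obtain ⟨hk, hl⟩ := coordMap_mem e hC hy3 hyF hsF hy hs _ (by show Φ (coordMul p q') ∈ F; rw [h1]; exact one_mem _)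
    have hz : (coordMul p q').1 = 1 := by
      have h2 := h1
      simp only [Φ, coordMap, hk, hl, Fin.val_zero, pow_zero, mul_one] at h2
      exact e.injective (Subtype.ext (h2.trans (by rw [map_one, Subgroup.coe_one])))
    refine glCoord_injective _ _ ?_
    have h3 : coordMul p q' = (1, 0, 0) := Prod.ext hz (Prod.ext hk hl)
    have h4 : glCoord p * glCoord q' = glCoord q * glCoord q' := by
      rw [glCoord_mul, glCoord_mul, h3, hq']
    have hex' : ∀ r, ∃ r', coordMul r' r = (1, 0, 0) := by decide +kernel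
    have hone : glCoord (1, 0, 0) = 1 := by decide +kernel
    obtain ⟨q'', hq''⟩ := hex q'
    have h5 := congrArg (fun M => M * glCoord q'') h4
    simp only [mul_assoc, glCoord_mul q' q'', hq'', hone, mul_one] at h5
    exact h5
  have hsurj : ∀ A : GL (Fin 2) (ZMod 3), ∃ p, glCoord p = (A : Matrix (Fin 2) (Fin 2) (ZMod 3)) := by
    intro A
    have hd : (A : Matrix (Fin 2) (Fin 2) (ZMod 3)).det ≠ 0 :=
      ((Matrix.isUnit_iff_isUnit_det _).1 A.isUnit).ne_zero
    rw [Matrix.det_fin_two] at hd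
    obtain ⟨p, hp⟩ := glCoord_surjective _ _ _ _ hd
    exact ⟨p, hp.trans (Matrix.eta_fin_two _).symm⟩
  choose co hco using hsurj
  let Ψ : GL (Fin 2) (ZMod 3) →* G := MonoidHom.mk' (fun A => Φ (co A)) fun A B => by
    rw [hmul]
    refine congrArg Φ (glCoord_injective _ _ ?_)
    rw [← glCoord_mul, hco, hco, hco, Units.val_mul]
  have hΨ : Function.Injective Ψ := fun A B h => Units.ext (by rw [← hco A, ← hco B, hinj h])
  haveI : Fact (Nat.Prime 3) := ⟨Nat.prime_three⟩
  exact ⟨(MulEquiv.ofBijective Ψ ((Nat.bijective_iff_injective_and_card _).2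
    ⟨hΨ, by rw [hG, Matrix.card_GL_field]; simp [Fin.prod_univ_two]⟩)).symm⟩

include hC hy3 hyF hsF hy hs in
/-- The centre has order two and the central quotient is `S₄`. -/
theorem center_quotient_of_frame (hG : Nat.card G = 48) (hs2 : ∀ z, act F e (s * s) z = z) :
    Nat.card (Subgroup.center G) = 2 ∧
      Nonempty (G ⧸ Subgroup.center G ≃* Equiv.Perm (Fin 4)) := by
  classical
  set Z := Subgroup.center G
  have hzQ : ∀ w : QuaternionGroup 2, (∀ z, w * z = z * w) ↔ w = 1 ∨ w = .a 2 := by decide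
  have hZ : ∀ g : G, g ∈ Z ↔ ∃ w, (e w : G) = g ∧ ∀ z, w * z = z * w := by
    intro g
    constructor
    · intro hg
      refine act_eq_one e hC fun z => e.injective (Subtype.ext ?_)
      rw [act_spec, ← Subgroup.mem_center_iff.1 hg, mul_inv_cancel_right]
    · rintro ⟨w, rfl, hw⟩
      refine Subgroup.mem_center_iff.2 fun g => ?_
      have hfix : act F e g w = w := by
        rcases (hzQ w).1 hw with rfl | rfl
        · exact map_one _
        · have hu : ∀ v : QuaternionGroup 2, v * v = 1 → v ≠ 1 → v = .a 2 := by decide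
          refine hu _ ?_ ?_
          · rw [← map_mul]; exact (congrArg _ (by decide)).trans (map_one _)
          · intro h; exact absurd ((act F e g).injective (h.trans (map_one _).symm)) (by decide)
      have h := act_spec F e g w
      rw [hfix] at h
      nth_rewrite 2 [h]
      rw [inv_mul_cancel_right]
  have hcard : Nat.card Z = 2 := by
    have e2 : {w : QuaternionGroup 2 // ∀ z, w * z = z * w} ≃ Z :=
      Equiv.ofBijective (fun w => ⟨(e w.1 : G), (hZ _).2 ⟨w.1, rfl, w.2⟩⟩)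
        ⟨fun a b h => Subtype.ext (e.injective (Subtype.ext (congrArg (fun v : Z => (v : G)) h))),
          fun g => by
            obtain ⟨w, hw, hwc⟩ := (hZ g).1 g.2
            exact ⟨⟨w, hwc⟩, Subtype.ext hw⟩⟩
    rw [← Nat.card_congr e2, Nat.card_eq_fintype_card]
    decide
  refine ⟨hcard, ?_⟩
  have hZF : Z ≤ F := fun g hg => by
    obtain ⟨w, rfl, -⟩ := (hZ g).1 hg
    exact (e w).2
  set π := QuotientGroup.mk' Z
  have hH : Nat.card (G ⧸ Z) = 24 := by
    have h := Subgroup.card_eq_card_quotient_mul_card_subgroup Z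
    rw [hG, hcard] at h
    omega
  set Y := Subgroup.zpowers (π y)
  set S := Subgroup.zpowers (π s)
  have hinv := inverts e hC hy3 hy hs
  have hSY : S ≤ Subgroup.normalizer (Y : Set (G ⧸ Z)) := by
    refine Subgroup.zpowers_le.2 ?_
    rw [Subgroup.mem_normalizer_iff_map_conj_eq, MonoidHom.map_zpowers]
    show Subgroup.zpowers (π s * π y * (π s)⁻¹) = Y
    rw [← map_inv, ← map_mul, ← map_mul, hinv, map_inv, Subgroup.zpowers_inv]
  have hyo : orderOf (π y) = 3 := by
    haveI : Fact (Nat.Prime 3) := ⟨Nat.prime_three⟩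
    exact orderOf_eq_prime (by rw [← map_pow, hy3, map_one]) fun h =>
      hyF (hZF ((QuotientGroup.eq_one_iff y).1 h))
  have hss : π s * π s = 1 := by
    rw [← map_mul]
    refine (QuotientGroup.eq_one_iff _).2 ((hZ _).2 (act_eq_one e hC hs2))
  have hso : orderOf (π s) = 2 := orderOf_eq_prime (by rw [pow_two]; exact hss) fun h =>
    hsF (hZF ((QuotientGroup.eq_one_iff s).1 h))
  have hT : Nat.card (Y ⊔ S : Subgroup (G ⧸ Z)) = 6 := by
    have h := CfsgLib.Core.card_sup_mul_card_inf S Y hSY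
    have hd : S ⊓ Y = ⊥ := (Subgroup.disjoint_of_coprime_natCard (by
      rw [Nat.card_zpowers, Nat.card_zpowers, hyo, hso]; decide)).eq_bot
    rw [hd, Subgroup.card_bot, mul_one, Nat.card_zpowers, Nat.card_zpowers, hyo, hso, sup_comm] at h
    exact h
  have hNT : F.map π ⊓ (Y ⊔ S) = ⊥ := by
    rw [eq_bot_iff]
    rintro x ⟨hxN, hgT⟩
    replace hgT : x ∈ ((S ⊔ Y : Subgroup (G ⧸ Z)) : Set (G ⧸ Z)) := by rw [sup_comm]; exact hgT
    rw [Subgroup.coe_mul_of_left_le_normalizer_right S Y hSY] at hgT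
    obtain ⟨b, hb, a, ha, rfl⟩ := hgT
    haveI hNn : (F.map π).Normal := Subgroup.Normal.map ‹_› π (QuotientGroup.mk'_surjective Z)
    obtain ⟨g, hg, hab⟩ := hNn.mem_comm hxN
    obtain ⟨i, rfl⟩ := (Subgroup.mem_zpowers_iff).1 ha
    obtain ⟨j, rfl⟩ := (Subgroup.mem_zpowers_iff).1 hb
    obtain ⟨k, hk⟩ : ∃ k : Fin 3, π y ^ i = π y ^ (k : ℕ) := ⟨⟨(i % 3).toNat, by omega⟩, by
      rw [← zpow_natCast, ← zpow_mod_orderOf, hyo]
      congr 1
      simp only
      omega⟩
    obtain ⟨l, hl⟩ : ∃ l : Fin 2, π s ^ j = π s ^ (l : ℕ) := ⟨⟨(j % 2).toNat, by omega⟩, by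
      rw [← zpow_natCast, ← zpow_mod_orderOf, hso]
      congr 1
      simp only
      omega⟩
    have hmem : coordMap e (y := y) (s := s) (1, k, l) ∈ F := by
      have hab' : π (y ^ (k : ℕ) * s ^ (l : ℕ)) = π g := by
        rw [map_mul, map_pow, map_pow, ← hk, ← hl]; exact hab.symm
      have h := hZF (QuotientGroup.eq.1 hab'.symm)
      have h2 := mul_mem hg h
      rw [mul_inv_cancel_left] at h2
      simpa [coordMap] using h2
    obtain ⟨hk0, hl0⟩ := coordMap_mem e hC hy3 hyF hsF hy hs _ hmem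
    rw [Subgroup.mem_bot]
    show π s ^ j * π y ^ i = 1
    rw [hk, hl, show k = 0 from hk0, show l = 0 from hl0]
    simp
  have hncomm : ∀ (g : G) (z : QuaternionGroup 2), (∀ w : QuaternionGroup 2,
      (∀ v, w * v = v * w) → act F e g z ≠ w * z) → ¬ Commute (π (e z : G)) (π g) := by
    intro g z hne hcom
    have h : π (g * (e z : G) * g⁻¹ * (e z : G)⁻¹) = 1 := by
      rw [map_mul, map_mul, map_mul, map_inv, map_inv, ← hcom.eq, mul_inv_cancel_right, mul_inv_cancel]
    obtain ⟨w, hw, hwc⟩ := (hZ _).1 ((QuotientGroup.eq_one_iff _).1 h)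
    refine hne w hwc (e.injective (Subtype.ext ?_))
    rw [act_spec, map_mul, Subgroup.coe_mul, hw, inv_mul_cancel_right]
  haveI : (F.map π).Normal := Subgroup.Normal.map ‹_› π (QuotientGroup.mk'_surjective Z)
  refine CfsgLib.CubicChain.equiv_perm_four (N := F.map π) (T := Y ⊔ S) hH hT hNT
    (s := π s) (y := π y) (n₁ := π (e (.xa 0) : G)) (n₂ := π (e (.a 1) : G))
    (Subgroup.mem_sup_right (Subgroup.mem_zpowers _)) (Subgroup.mem_sup_left (Subgroup.mem_zpowers _))
    hss (by rw [← map_pow, hy3, map_one]) ⟨_, (e _).2, rfl⟩ ⟨_, (e _).2, rfl⟩ ?_ ?_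
  · refine hncomm s (.xa 0) ?_
    rw [hs]
    decide
  · refine hncomm y (.a 1) ?_
    rw [hy]
    decide

end CfsgLib.GLTwoThree
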