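import Mathlib

/-! The element orders of `PSL(2,q)`: `p` and the divisors of `(q±1)/gcd(2,q-1)`. -/

namespace CfsgLib.Recog.PSLTwoOrders

open Matrix

theorem sq_eq {K : Type*} [Field K] (M : Matrix (Fin 2) (Fin 2) K) (hdet : M.det = 1) :
    M * M = M.trace • M - 1 := by
  rw [det_fin_two] at hdet
  ext i j
  fin_cases i <;> fin_cases j <;>
    simp [mul_apply, Fin.sum_univ_two, trace_fin_two] <;> first | linear_combination hdet | linear_combination -hdet | ring1

theorem pow_formula {K : Type*} [Field K] (M : Matrix (Fin 2) (Fin 2) K) (a b : K) (hdet : M.det = 1)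
    (hab : a * b = 1) (ht : M.trace = a + b) :
    ∀ k : ℕ, (a - b) • M ^ k = (a ^ k - b ^ k) • M - (a ^ k * b - b ^ k * a) • 1 := by
  intro k
  induction k with
  | zero =>
    simp only [pow_zero, sub_self, one_mul, zero_smul, zero_sub, ← neg_smul, neg_sub]
  | succ k ih =>
    rw [pow_succ, ← smul_mul_assoc, ih, sub_mul, smul_mul_assoc, smul_mul_assoc, one_mul, sq_eq M hdet,
      ht]
    have h : a ^ (k + 1) * b - b ^ (k + 1) * a = a ^ k - b ^ k := by
      linear_combination (a ^ k - b ^ k) * hab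
    rw [h, pow_succ, pow_succ]
    module

section

variable {F : Type*} [Field F] [Fintype F]

/-- the image of a matrix in the algebraic closure is scalar after a suitable power -/
theorem matrix_pow_eq (p : ℕ) [Fact p.Prime] [CharP F p] (M : Matrix (Fin 2) (Fin 2) F)
    (hdet : M.det = 1) {A B : ℕ} (hA : Fintype.card F - 1 ∣ 2 * A) (hB : Fintype.card F + 1 ∣ 2 * B) :
    ∃ s : AlgebraicClosure F, M.map (algebraMap F (AlgebraicClosure F)) ^ p = s • 1 ∨
      M.map (algebraMap F (AlgebraicClosure F)) ^ A = s • 1 ∨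
      M.map (algebraMap F (AlgebraicClosure F)) ^ B = s • 1 := by
  let K := AlgebraicClosure F
  let f := algebraMap F K
  haveI : CharP K p := (RingHom.charP_iff_charP f p).1 inferInstance
  set N := M.map f with hN
  have hNdet : N.det = 1 := by
    rw [hN, ← RingHom.mapMatrix_apply, ← RingHom.map_det, hdet, map_one]
  obtain ⟨a, ha⟩ := IsAlgClosed.exists_root (Polynomial.X ^ 2 - Polynomial.C N.trace * Polynomial.X + 1 : Polynomial K)
    (by
      have : (Polynomial.X ^ 2 - Polynomial.C N.trace * Polynomial.X + 1 : Polynomial K).degree = 2 := by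
        compute_degree!
      rw [this]; decide)
  simp only [Polynomial.IsRoot, Polynomial.eval_add, Polynomial.eval_sub, Polynomial.eval_pow,
    Polynomial.eval_X, Polynomial.eval_mul, Polynomial.eval_C, Polynomial.eval_one] at ha
  have ha0 : a ≠ 0 := by
    intro h
    rw [h] at ha
    simp at ha
  have ht : N.trace = a + a⁻¹ := by
    have h : a * a⁻¹ = 1 := mul_inv_cancel₀ ha0
    apply mul_left_cancel₀ ha0
    linear_combination -ha - h
  by_cases hsplit : a = a⁻¹
  · refine ⟨a ^ p, Or.inl ?_⟩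
    have hsq : (N - a • 1) * (N - a • 1) = 0 := by
      have h2 : a * a = 1 := by
        nth_rewrite 2 [hsplit]
        exact mul_inv_cancel₀ ha0
      rw [sub_mul, mul_sub, mul_sub, sq_eq N hNdet, ht, ← hsplit, smul_mul_assoc, smul_mul_assoc,
        mul_smul_comm, one_mul, one_mul, mul_one, smul_smul, h2, one_smul]
      module
    have hp : (N - a • 1) ^ p = 0 := by
      obtain ⟨c, hc⟩ := Nat.exists_eq_add_of_le (Fact.out : p.Prime).two_le
      rw [hc, pow_add, pow_two, hsq, zero_mul]
    have hcomm : Commute (N - a • 1) (a • (1 : Matrix (Fin 2) (Fin 2) K)) :=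
      (Commute.one_right _).smul_right a
    haveI : ExpChar (Matrix (Fin 2) (Fin 2) K) p := ExpChar.prime Fact.out
    have := add_pow_expChar_of_commute p hcomm
    rw [sub_add_cancel, hp, zero_add, smul_pow, one_pow] at this
    exact this
  have hq : a ^ (Fintype.card F - 1) = 1 ∨ a ^ (Fintype.card F + 1) = 1 := by
    obtain ⟨n, hp', hn⟩ := FiniteField.card F p
    haveI : ExpChar K p := ExpChar.prime Fact.out
    let φ := iterateFrobenius K p n
    have hφ : ∀ z : K, φ z = z ^ Fintype.card F := fun z => by rw [hn]; exact iterateFrobenius_def ..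
    have htr : N.trace ^ Fintype.card F = N.trace := by
      have : N.trace = f M.trace := by simp [hN, trace_fin_two]
      rw [this, ← map_pow, FiniteField.pow_card]
    have h := congrArg φ ha
    rw [map_zero, map_add, map_sub, map_mul, map_pow, map_one, hφ, hφ, htr] at h
    have hfac : (a ^ Fintype.card F - a) * (a ^ Fintype.card F - a⁻¹) = 0 := by
      rw [ht] at h
      have h' : a * a⁻¹ = 1 := mul_inv_cancel₀ ha0
      linear_combination h + h'
    rcases mul_eq_zero.1 hfac with h1 | h1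
    · left
      apply mul_left_cancel₀ ha0
      rw [mul_one, ← pow_succ', Nat.sub_add_cancel Fintype.card_pos]
      exact sub_eq_zero.1 h1
    · right
      rw [pow_succ, sub_eq_zero.1 h1, inv_mul_cancel₀ ha0]
  have key : ∀ n, a ^ (2 * n) = 1 → N ^ n = a ^ n • 1 := by
    intro n hn
    have hinv : a⁻¹ ^ n = a ^ n := by
      rw [inv_pow]
      apply inv_eq_of_mul_eq_one_right
      rw [← pow_add, ← two_mul, hn]
    have h := pow_formula N a a⁻¹ hNdet (mul_inv_cancel₀ ha0) ht n
    rw [hinv, sub_self, zero_smul, zero_sub, ← mul_sub, ← neg_smul, ← mul_neg, neg_sub,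
      mul_comm, ← smul_smul] at h
    exact (smul_right_injective _ (sub_ne_zero.2 hsplit)) h
  rcases hq with h | h
  · obtain ⟨c, hc⟩ := hA
    exact ⟨_, Or.inr (Or.inl (key A (by rw [hc, pow_mul, h, one_pow])))⟩
  · obtain ⟨c, hc⟩ := hB
    exact ⟨_, Or.inr (Or.inr (key B (by rw [hc, pow_mul, h, one_pow])))⟩

abbrev L2 (F : Type*) [CommRing F] := Matrix.ProjectiveSpecialLinearGroup (Fin 2) F

theorem coe_pow' (M : SpecialLinearGroup (Fin 2) F) (n : ℕ) :
    ((M ^ n : SpecialLinearGroup (Fin 2) F) : Matrix (Fin 2) (Fin 2) F) =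
      (M : Matrix (Fin 2) (Fin 2) F) ^ n := by
  induction n with
  | zero => rfl
  | succ n ih =>
    rw [pow_succ, pow_succ (M : Matrix (Fin 2) (Fin 2) F), ← ih]
    rfl

theorem mk_eq_one_iff (M : SpecialLinearGroup (Fin 2) F) :
    (QuotientGroup.mk M : L2 F) = 1 ↔
      ∃ s : AlgebraicClosure F,
        (M : Matrix (Fin 2) (Fin 2) F).map (algebraMap F (AlgebraicClosure F)) = s • 1 := by
  have key : ∀ N : Matrix (Fin 2) (Fin 2) F, (∃ r : F, Matrix.scalar (Fin 2) r = N) ↔
      ∃ s : AlgebraicClosure F, N.map (algebraMap F (AlgebraicClosure F)) = s • 1 := by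
    intro N
    constructor
    · rintro ⟨r, rfl⟩
      refine ⟨algebraMap F _ r, ?_⟩
      ext i j
      fin_cases i <;> fin_cases j <;> simp [Matrix.scalar]
    · rintro ⟨s, hs⟩
      refine ⟨N 0 0, ?_⟩
      have e : ∀ i j, algebraMap F (AlgebraicClosure F) (N i j) = (s • (1 : Matrix (Fin 2) (Fin 2) _)) i j :=
        fun i j => congrFun (congrFun hs i) j
      have e01 : N 0 1 = 0 := (algebraMap F (AlgebraicClosure F)).injective (by simpa using e 0 1)
      have e10 : N 1 0 = 0 := (algebraMap F (AlgebraicClosure F)).injective (by simpa using e 1 0)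
      have e11 : N 1 1 = N 0 0 := (algebraMap F (AlgebraicClosure F)).injective
        (((e 1 1).trans (by simp)).trans (e 0 0).symm)
      ext i j
      fin_cases i <;> fin_cases j <;> simp [Matrix.scalar, e01, e10, e11]
  rw [QuotientGroup.eq_one_iff, Matrix.SpecialLinearGroup.mem_center_iff, ← key]
  constructor
  · rintro ⟨r, -, hr⟩; exact ⟨r, hr⟩
  · rintro ⟨r, hr⟩
    refine ⟨r, ?_, hr⟩
    have := M.det_coe
    rw [← hr, Matrix.scalar_apply, det_diagonal] at this
    simpa using this

/-- the exponent statement -/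
theorem pow_cases (p : ℕ) [Fact p.Prime] [CharP F p] {A B : ℕ}
    (hA : Fintype.card F - 1 ∣ 2 * A) (hB : Fintype.card F + 1 ∣ 2 * B) (g : L2 F) :
    g ^ p = 1 ∨ g ^ A = 1 ∨ g ^ B = 1 := by
  induction g using QuotientGroup.induction_on with
  | H M =>
    obtain ⟨s, h⟩ := matrix_pow_eq p (M : Matrix (Fin 2) (Fin 2) F) M.det_coe hA hB
    have hmap : ∀ n, ((M ^ n : SpecialLinearGroup (Fin 2) F) : Matrix (Fin 2) (Fin 2) F).map
        (algebraMap F (AlgebraicClosure F)) =
        (M : Matrix (Fin 2) (Fin 2) F).map (algebraMap F (AlgebraicClosure F)) ^ n := fun n => by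
      rw [coe_pow', ← RingHom.mapMatrix_apply, ← RingHom.mapMatrix_apply, map_pow]
    simp only [← QuotientGroup.mk_pow, mk_eq_one_iff, hmap]
    rcases h with h | h | h
    · exact Or.inl ⟨s, h⟩
    · exact Or.inr (Or.inl ⟨s, h⟩)
    · exact Or.inr (Or.inr ⟨s, h⟩)

/-- elements in the two kinds of tori -/
theorem exists_torus (p : ℕ) [Fact p.Prime] [CharP F p] (m : ℕ) (hm : 3 ≤ m)
    (hmq : m = Fintype.card F - 1 ∨ m = Fintype.card F + 1) :
    ∃ g : L2 F, ∀ k : ℕ, g ^ k = 1 ↔ m ∣ 2 * k := by
  let K := AlgebraicClosure F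
  let f := algebraMap F K
  haveI : CharP K p := (RingHom.charP_iff_charP f p).1 inferInstance
  have hq0 : (Fintype.card F : K) = 0 := by
    rw [← map_natCast f, FiniteField.cast_card_eq_zero, map_zero]
  have hm0 : (m : K) ≠ 0 := by
    rcases hmq with h | h
    · rw [h, Nat.cast_sub Fintype.card_pos, hq0]; simp
    · rw [h, Nat.cast_add, hq0]; simp
  haveI : NeZero (m : K) := ⟨hm0⟩
  obtain ⟨a, ha⟩ := HasEnoughRootsOfUnity.exists_primitiveRoot K m
  have ha0 : a ≠ 0 := ha.ne_zero (by omega)
  have haq : a ^ Fintype.card F = a ∨ a ^ Fintype.card F = a⁻¹ := by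
    rcases hmq with h | h
    · left
      have : Fintype.card F = m + 1 := by have := Fintype.card_pos (α := F); omega
      rw [this, pow_succ, ha.pow_eq_one, one_mul]
    · right
      apply eq_inv_of_mul_eq_one_left
      rw [← pow_succ, ← h, ha.pow_eq_one]
  obtain ⟨t, ht⟩ : ∃ t : F, f t = a + a⁻¹ := by
    obtain ⟨n, hp', hn⟩ := FiniteField.card F p
    haveI : ExpChar K p := ExpChar.prime Fact.out
    have hφ : (a + a⁻¹) ^ Fintype.card F = a + a⁻¹ := by
      rw [hn, add_pow_expChar_pow, ← hn, inv_pow]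
      rcases haq with h | h <;> rw [h]
      rw [inv_inv, add_comm]
    classical
    have hsub : Finset.univ.image f ⊆ (Polynomial.X ^ Fintype.card F - Polynomial.X : Polynomial K).roots.toFinset := by
      intro z hz
      obtain ⟨w, -, rfl⟩ := Finset.mem_image.1 hz
      rw [Multiset.mem_toFinset, Polynomial.mem_roots (FiniteField.X_pow_card_sub_X_ne_zero K Fintype.one_lt_card)]
      simp [← map_pow, FiniteField.pow_card]
    have hdeg := FiniteField.X_pow_card_sub_X_natDegree_eq K (p := Fintype.card F) Fintype.one_lt_card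
    have heq := Finset.eq_of_subset_of_card_le hsub (by
      rw [Finset.card_image_of_injective _ f.injective, Finset.card_univ]
      refine (Multiset.toFinset_card_le _).trans ((Polynomial.card_roots' _).trans_eq hdeg))
    have hmem : a + a⁻¹ ∈ Finset.univ.image f := by
      rw [heq, Multiset.mem_toFinset, Polynomial.mem_roots (FiniteField.X_pow_card_sub_X_ne_zero K Fintype.one_lt_card)]
      simp [hφ]
    obtain ⟨t, -, ht⟩ := Finset.mem_image.1 hmem
    exact ⟨t, ht⟩
  let M : SpecialLinearGroup (Fin 2) F := ⟨!![0, -1; 1, t], by rw [det_fin_two_of]; ring⟩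
  refine ⟨(QuotientGroup.mk M : L2 F), fun k => ?_⟩
  set N := (M : Matrix (Fin 2) (Fin 2) F).map f with hN
  have hNdet : N.det = 1 := by
    rw [hN, ← RingHom.mapMatrix_apply, ← RingHom.map_det, M.det_coe, map_one]
  have hNt : N.trace = a + a⁻¹ := by simp [hN, M, trace_fin_two, ht]
  have hne : a ≠ a⁻¹ := fun h => by
    have h2 : a ^ 2 = 1 := by rw [pow_two]; nth_rewrite 2 [h]; exact mul_inv_cancel₀ ha0
    have := Nat.le_of_dvd (by norm_num) ((ha.pow_eq_one_iff_dvd 2).1 h2)
    omega
  have hform := pow_formula N a a⁻¹ hNdet (mul_inv_cancel₀ ha0) hNt k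
  rw [← QuotientGroup.mk_pow, mk_eq_one_iff, coe_pow', ← RingHom.mapMatrix_apply,
    map_pow, RingHom.mapMatrix_apply, ← ha.pow_eq_one_iff_dvd]
  change (∃ s : K, N ^ k = s • 1) ↔ _
  constructor
  · rintro ⟨s, hs⟩
    rw [hs] at hform
    have h10 := congrFun (congrFun hform 1) 0
    simp [hN, M] at h10
    rw [two_mul, pow_add]
    have h' : a ^ k = (a ^ k)⁻¹ := sub_eq_zero.1 h10.symm
    nth_rewrite 2 [h']
    exact mul_inv_cancel₀ (pow_ne_zero _ ha0)
  · intro h
    have hinv : a⁻¹ ^ k = a ^ k := by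
      rw [inv_pow]
      apply inv_eq_of_mul_eq_one_right
      rw [← pow_add, ← two_mul, h]
    refine ⟨a ^ k, ?_⟩
    rw [hinv, sub_self, zero_smul, zero_sub, ← mul_sub, ← neg_smul, ← mul_neg, neg_sub,
      mul_comm, ← smul_smul] at hform
    exact (smul_right_injective _ (sub_ne_zero.2 hne)) hform

theorem exists_orderOf_char (p : ℕ) [Fact p.Prime] [CharP F p] : ∃ g : L2 F, orderOf g = p := by
  let U : F → SpecialLinearGroup (Fin 2) F := fun c => ⟨!![1, c; 0, 1], by rw [det_fin_two_of]; ring⟩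
  have hpow : ∀ n : ℕ, U 1 ^ n = U n := by
    intro n
    induction n with
    | zero =>
      rw [pow_zero]
      apply Subtype.ext
      ext i j
      fin_cases i <;> fin_cases j <;> simp [U]
    | succ n ih =>
      rw [pow_succ, ih]
      apply Subtype.ext
      refine (Matrix.SpecialLinearGroup.coe_mul _ _).trans ?_
      ext i j
      fin_cases i <;> fin_cases j <;> simp [U, mul_apply, Fin.sum_univ_two, add_comm]
  refine ⟨(QuotientGroup.mk (U 1) : L2 F), orderOf_eq_prime ?_ ?_⟩
  · rw [← QuotientGroup.mk_pow, hpow, CharP.cast_eq_zero]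
    have : U 0 = 1 := by
      apply Subtype.ext
      ext i j
      fin_cases i <;> fin_cases j <;> simp [U]
    rw [this]; rfl
  · intro h
    rw [mk_eq_one_iff] at h
    obtain ⟨s, hs⟩ := h
    have := congrFun (congrFun hs 0) 1
    simp [U] at this

/-- the element orders of `PSL(2,q)` -/
theorem range_orderOf (p : ℕ) [Fact p.Prime] [CharP F p] (hF : 4 ≤ Fintype.card F) :
    Set.range (orderOf : L2 F → ℕ) =
      {n | n = p ∨ n ∣ (Fintype.card F - 1) / Nat.gcd 2 (Fintype.card F - 1) ∨
        n ∣ (Fintype.card F + 1) / Nat.gcd 2 (Fintype.card F - 1)} := by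
  set q := Fintype.card F
  set d := Nat.gcd 2 (q - 1) with hd
  have hd2 : d ∣ 2 := Nat.gcd_dvd_left _ _
  have hdA : d ∣ q - 1 := Nat.gcd_dvd_right _ _
  have hdB : d ∣ q + 1 := by
    rw [show q + 1 = (q - 1) + 2 by omega]; exact dvd_add hdA hd2
  have hd0 : 0 < d := Nat.pos_of_dvd_of_pos hd2 (by norm_num)
  have hA : q - 1 ∣ 2 * ((q - 1) / d) := by
    obtain ⟨c, hc⟩ := hd2
    refine ⟨c, ?_⟩
    rw [hc, mul_right_comm, Nat.mul_div_cancel' hdA, mul_comm]
  have hB : q + 1 ∣ 2 * ((q + 1) / d) := by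
    obtain ⟨c, hc⟩ := hd2
    refine ⟨c, ?_⟩
    rw [hc, mul_right_comm, Nat.mul_div_cancel' hdB, mul_comm]
  have tor : ∀ m : ℕ, 3 ≤ m → (m = q - 1 ∨ m = q + 1) → d ∣ m → ∀ n, n ∣ m / d →
      ∃ g : L2 F, orderOf g = n := by
    intro m hm hmq hdm n hn
    obtain ⟨g, hg⟩ := exists_torus p m hm hmq
    have hm2 : m ∣ 2 * (m / d) := by
      obtain ⟨c, hc⟩ := hd2
      refine ⟨c, ?_⟩
      rw [hc, mul_right_comm, Nat.mul_div_cancel' hdm, mul_comm]
    have hgo : orderOf g = m / d := by
      refine Nat.dvd_antisymm (orderOf_dvd_of_pow_eq_one ((hg _).2 hm2)) ?_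
      have h := (hg _).1 (pow_orderOf_eq_one g)
      rcases (Nat.dvd_prime Nat.prime_two).1 hd2 with h1 | h1
      · -- `q` even
        rw [h1, Nat.div_one]
        have hodd : m.Coprime 2 := by
          rw [Nat.coprime_two_right, Nat.odd_iff]
          have : ¬ 2 ∣ q - 1 := fun hh => by
            have := Nat.gcd_eq_left hh
            rw [← hd, h1] at this
            omega
          rcases hmq with rfl | rfl <;> omega
        exact hodd.dvd_of_dvd_mul_left h
      · rw [h1] at hdm ⊢
        obtain ⟨c, rfl⟩ := hdm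
        rw [Nat.mul_div_cancel_left c two_pos]
        exact Nat.dvd_of_mul_dvd_mul_left two_pos h
    obtain ⟨c, hc⟩ := hn
    have hpos : 0 < m / d := Nat.div_pos (Nat.le_of_dvd (by omega) hdm) hd0
    refine ⟨g ^ c, ?_⟩
    have hc0 : c ≠ 0 := by rintro rfl; omega
    rw [orderOf_pow_of_dvd hc0 (hgo ▸ hc ▸ dvd_mul_left c n), hgo, hc,
      Nat.mul_div_cancel _ (Nat.pos_of_ne_zero hc0)]
  ext n
  constructor
  · rintro ⟨g, rfl⟩
    rcases pow_cases p hA hB g with h | h | h
    · rcases (Nat.dvd_prime (Fact.out : p.Prime)).1 (orderOf_dvd_of_pow_eq_one h) with h' | h'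
      · exact Or.inr (Or.inl (by rw [h']; exact one_dvd _))
      · exact Or.inl h'
    · exact Or.inr (Or.inl (orderOf_dvd_of_pow_eq_one h))
    · exact Or.inr (Or.inr (orderOf_dvd_of_pow_eq_one h))
  · rintro (rfl | h | h)
    · exact exists_orderOf_char _
    · exact tor (q - 1) (by omega) (Or.inl rfl) hdA n h
    · exact tor (q + 1) (by omega) (Or.inr rfl) hdB n h

end

end CfsgLib.Recog.PSLTwoOrders
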