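import Cfsg.Agent.Lib.Core.Hall
import Cfsg.Agent.Lib.Recog.SemidirectSpectrum

/-!
# Three primes in a solvable group: two are adjacent in the prime graph
-/

namespace CfsgLib.Recog.ThreePrimes

variable {G : Type*} [Group G] [Finite G]

theorem orderOf_mul_of_commute {a b : G} (h : Commute a b) {p q : ℕ} (hp : p.Prime) (hq : q.Prime)
    (hpq : p ≠ q) (ha : orderOf a = p) (hb : orderOf b = q) : orderOf (a * b) = p * q := by
  rw [h.orderOf_mul_eq_mul_orderOf_of_coprime (by rw [ha, hb]; exact (Nat.coprime_primes hp hq).mpr hpq), ha, hb]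

/-- a quotient element of order `p q` gives one in the group -/
theorem exists_orderOf_of_map {H : Type*} [Group H] (f : G →* H) (g : G) {n : ℕ}
    (hn : orderOf (f g) = n) : ∃ x : G, orderOf x = n := by
  obtain ⟨c, hc⟩ := hn ▸ orderOf_map_dvd f g
  have hc0 : c ≠ 0 := fun h => (orderOf_pos g).ne' (by rw [hc, h, mul_zero])
  exact ⟨g ^ c, by rw [orderOf_pow' _ hc0, hc, Nat.gcd_eq_right (dvd_mul_left c n), Nat.mul_div_cancel _ (Nat.pos_of_ne_zero hc0)]⟩

/-- a nontrivial element `u` fixing nothing in the abelian group `V`: products over orbits vanish -/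
theorem prod_orbit_eq_one {V : Type*} [CommGroup V] (φ : G →* MulAut V) {u : G} {r : ℕ}
    (hu : u ^ r = 1) (hfix : ∀ v, φ u v = v → v = 1) (v : V) :
    ∏ i ∈ Finset.range r, φ (u ^ i) v = 1 := by
  refine hfix _ ?_
  rw [map_prod]
  have h1 : ∀ i, φ u (φ (u ^ i) v) = φ (u ^ (i + 1)) v := fun i => by
    rw [pow_succ', map_mul]; rfl
  simp only [h1]
  have h2 := Finset.prod_range_succ' (fun i => φ (u ^ i) v) r
  have h3 := Finset.prod_range_succ (fun i => φ (u ^ i) v) r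
  rw [h3] at h2
  rw [hu, pow_zero] at h2
  exact (mul_right_cancel h2).symm

/-- the averaging argument: a Frobenius group `Q⟨y⟩` cannot act fixed point freely on a `p`-group -/
theorem trivial_of_fixed_point_free (V : Subgroup G) [V.Normal] (hV : ∀ a b : V, a * b = b * a)
    {p q r : ℕ} (hp : p.Prime) (hq : q.Prime) (hr : r.Prime) (hpq : p ≠ q)
    (hexp : ∀ v : V, v ^ p = 1) (Q : Subgroup G) (hQp : IsPGroup q Q) (hQab : ∀ a b : Q, a * b = b * a)
    (hQ : Q ≠ ⊥) (y : G) (hy : orderOf y = r) (hnorm : ∀ a ∈ Q, y * a * y⁻¹ ∈ Q)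
    (hVQ : ∀ u ∈ Q, u ≠ 1 → ∀ v ∈ V, Commute u v → v = 1)
    (hVy : ∀ b ∈ Q, ∀ v ∈ V, Commute (b * y * b⁻¹) v → v = 1)
    (hQy : ∀ u ∈ Q, Commute y u → u = 1) : V = ⊥ := by
  classical
  haveI := Fact.mk hq
  have _ := hr
  letI : CommGroup V := { (inferInstance : Group V) with mul_comm := hV }
  let φ : G →* MulAut V := MulAut.conjNormal
  have hfix : ∀ u : G, (∀ v ∈ V, Commute u v → v = 1) → ∀ v : V, φ u v = v → v = 1 := fun u h v hv => by
    refine Subtype.ext (h v v.2 ?_)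
    have := congrArg Subtype.val hv
    rw [MulAut.conjNormal_apply] at this
    exact mul_inv_eq_iff_eq_mul.mp this
  haveI := Fintype.ofFinite Q
  have hQfix : ∀ w : V, ∏ a : Q, φ (a : G) w = 1 := by
    intro w
    obtain ⟨⟨a₀, ha₀⟩, hne⟩ := Subgroup.ne_bot_iff_exists_ne_one.mp hQ
    refine hfix a₀ (hVQ a₀ ha₀ fun h => hne (Subtype.ext h)) _ ?_
    rw [map_prod]
    refine Fintype.prod_equiv (Equiv.mulLeft (⟨a₀, ha₀⟩ : Q)) _ _ fun a => ?_
    show φ a₀ (φ (a : G) w) = φ (a₀ * a) w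
    rw [map_mul]; rfl
  rw [eq_bot_iff]
  intro v hv
  rw [Subgroup.mem_bot]
  set w : V := ⟨v, hv⟩
  have hyr : y ^ r = 1 := hy ▸ pow_orderOf_eq_one y
  have hrow : ∀ b : Q, ∏ i ∈ Finset.range r, φ ((b : G) * y ^ i * (b : G)⁻¹) w = 1 := fun b => by
    simp only [← conj_pow]
    exact prod_orbit_eq_one φ (by rw [conj_pow, hyr, mul_one, mul_inv_cancel]) (hfix _ (hVy b b.2)) w
  have hcol : ∀ i ∈ Finset.range r, i ≠ 0 → ∏ b : Q, φ ((b : G) * y ^ i * (b : G)⁻¹) w = 1 := by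
    intro i hi hi0
    have hpow : ∀ (k : ℕ) (a : G), a ∈ Q → y ^ k * a * (y ^ k)⁻¹ ∈ Q := by
      intro k
      induction k with
      | zero => intro a ha; simpa using ha
      | succ k ih =>
        intro a ha
        have h1 := hnorm _ (ih a ha)
        rw [pow_succ']; simpa [mul_assoc] using h1
    let f : Q → Q := fun b => ⟨(b : G) * (y ^ i * (b : G)⁻¹ * (y ^ i)⁻¹), Q.mul_mem b.2 (hpow i _ (Q.inv_mem b.2))⟩
    have hinj : Function.Injective f := by
      intro b c hbc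
      have h1 : (b : G) * (y ^ i * (b : G)⁻¹ * (y ^ i)⁻¹) = (c : G) * (y ^ i * (c : G)⁻¹ * (y ^ i)⁻¹) := congrArg Subtype.val hbc
      have h2 : Commute (y ^ i) ((c : G)⁻¹ * b) := by
        have h3 := congrArg (fun z => (c : G)⁻¹ * z * y ^ i * b) h1
        simp only [mul_assoc, inv_mul_cancel_left, inv_mul_cancel, mul_one] at h3
        exact (by simpa [mul_assoc] using h3 : (c : G)⁻¹ * b * y ^ i = y ^ i * ((c : G)⁻¹ * b)).symm
      have hcop : Nat.Coprime i (orderOf y) := by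
        rw [hy, Nat.coprime_comm]
        refine hr.coprime_iff_not_dvd.mpr fun hd => hi0 ?_
        exact Nat.eq_zero_of_dvd_of_lt hd (Finset.mem_range.mp hi)
      obtain ⟨j, hj⟩ := exists_pow_eq_self_of_coprime hcop
      have h4 : Commute y ((c : G)⁻¹ * b) := hj ▸ h2.pow_left j
      have h5 := hQy _ (Q.mul_mem (Q.inv_mem c.2) b.2) h4
      exact Subtype.ext (inv_mul_eq_one.mp h5).symm
    have hbij := Finite.injective_iff_bijective.mp hinj
    rw [← hQfix (φ (y ^ i) w)]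
    refine Fintype.prod_bijective f hbij _ _ fun b => ?_
    show _ = φ ((b : G) * (y ^ i * (b : G)⁻¹ * (y ^ i)⁻¹)) (φ (y ^ i) w)
    rw [← MulAut.mul_apply, ← map_mul]
    congr 2
    simp [mul_assoc]
  have htot : ∏ b : Q, ∏ i ∈ Finset.range r, φ ((b : G) * y ^ i * (b : G)⁻¹) w = 1 :=
    Finset.prod_eq_one fun b _ => hrow b
  rw [Finset.prod_comm, Finset.prod_eq_single 0 hcol (fun h => absurd (Finset.mem_range.mpr hr.pos) h)] at htot
  simp only [pow_zero, mul_one, mul_inv_cancel, map_one, MulAut.one_apply, Finset.prod_const, Finset.card_univ] at htot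
  rw [← Nat.card_eq_fintype_card] at htot
  obtain ⟨k, hk⟩ := hQp.exists_card_eq
  have hcop : Nat.Coprime (Nat.card Q) p := by
    rw [hk]; exact Nat.Coprime.pow_left k ((Nat.coprime_primes hq hp).mpr (Ne.symm hpq))
  have h1 : orderOf w ∣ Nat.gcd (Nat.card Q) p :=
    Nat.dvd_gcd (orderOf_dvd_of_pow_eq_one htot) (orderOf_dvd_of_pow_eq_one (hexp w))
  rw [hcop.gcd_eq_one, Nat.dvd_one, orderOf_eq_one_iff] at h1
  exact congrArg Subtype.val h1

/-- The key step: `p`, `q`, `r` with `Q` normalised by `y`. -/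
theorem exists_pair (V : Subgroup G) [V.Normal] (hV : ∀ a b : V, a * b = b * a) (hV1 : V ≠ ⊥)
    {p q r : ℕ} (hp : p.Prime) (hq : q.Prime) (hr : r.Prime) (hpq : p ≠ q) (hpr : p ≠ r) (hqr : q ≠ r)
    (hexp : ∀ v : V, v ^ p = 1) (Q : Subgroup G) (hQp : IsPGroup q Q) (hQ : Q ≠ ⊥)
    (y : G) (hy : orderOf y = r) (hnorm : ∀ a ∈ Q, y * a * y⁻¹ ∈ Q) :
    (∃ x : G, orderOf x = p * q) ∨ (∃ x : G, orderOf x = p * r) ∨ (∃ x : G, orderOf x = q * r) := by
  classical
  haveI := Fact.mk hp; haveI := Fact.mk hq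
  by_contra hne
  push Not at hne
  obtain ⟨h1, h2, h3⟩ := hne
  have hordV : ∀ v ∈ V, v ≠ 1 → orderOf v = p := fun v hv hv1 =>
    orderOf_eq_prime (congrArg Subtype.val (hexp ⟨v, hv⟩)) hv1
  -- replace `Q` by its centre
  set Z := (Subgroup.center Q).map Q.subtype with hZ
  haveI : Nontrivial Q := (Subgroup.nontrivial_iff_ne_bot Q).mpr hQ
  have hZne : Z ≠ ⊥ := by
    rw [hZ, Ne, Subgroup.map_eq_bot_iff_of_injective _ Q.subtype_injective]
    haveI := hQp.center_nontrivial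
    exact (Subgroup.nontrivial_iff_ne_bot _).mp inferInstance
  have hZQ : Z ≤ Q := Subgroup.map_subtype_le _
  have hZn : ∀ a ∈ Z, y * a * y⁻¹ ∈ Z := by
    rintro _ ⟨a, ha, rfl⟩
    have hb : ∀ b : G, b ∈ Q → y⁻¹ * b * y ∈ Q := by
      intro b hb
      let f : Q → Q := fun a => ⟨y * a * y⁻¹, hnorm a a.2⟩
      obtain ⟨c, hc⟩ := (Finite.injective_iff_surjective.mp (fun a b hab => by
        have := congrArg Subtype.val hab
        exact Subtype.ext (mul_left_cancel (mul_right_cancel this)) : Function.Injective f)) ⟨b, hb⟩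
      have : y * (c : G) * y⁻¹ = b := congrArg Subtype.val hc
      rw [← this]; simpa [mul_assoc] using c.2
    refine ⟨⟨y * a * y⁻¹, hnorm a a.2⟩, Subgroup.mem_center_iff.mpr fun b => Subtype.ext ?_, rfl⟩
    have h := congrArg Subtype.val (Subgroup.mem_center_iff.mp ha ⟨_, hb b b.2⟩)
    have h' : y * (y⁻¹ * b * y * a) * y⁻¹ = y * (a * (y⁻¹ * b * y)) * y⁻¹ := by rw [show y⁻¹ * (b : G) * y * a = a * (y⁻¹ * b * y) from h]
    simpa [mul_assoc] using h'
  have hq' : ∀ u ∈ Q, u ≠ 1 → ∃ k : ℕ, orderOf (u ^ k) = q := by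
    intro u hu hu1
    obtain ⟨n, hn⟩ := IsPGroup.iff_orderOf.mp hQp ⟨u, hu⟩
    rw [Subgroup.orderOf_mk] at hn
    rcases Nat.eq_zero_or_pos n with rfl | hn0
    · exact absurd (orderOf_eq_one_iff.mp (by simpa using hn)) hu1
    · refine ⟨q ^ (n - 1), ?_⟩
      rw [orderOf_pow' _ (pow_ne_zero _ hq.ne_zero), hn, Nat.gcd_eq_right (pow_dvd_pow q (Nat.sub_le n 1)),
        Nat.pow_div (Nat.sub_le n 1) hq.pos, Nat.sub_sub_self hn0, pow_one]
  refine hV1 (trivial_of_fixed_point_free V hV hp hq hr hpq hexp Z (hQp.to_le hZQ) ?_ hZne y hy hZn ?_ ?_ ?_)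
  · rintro ⟨_, a, ha, rfl⟩ ⟨_, b, hb, rfl⟩
    have h := congrArg Subtype.val (Subgroup.mem_center_iff.mp hb a)
    exact Subtype.ext h
  · intro u hu hu1 v hv hc
    by_contra hv1
    obtain ⟨k, hk⟩ := hq' u (hZQ hu) hu1
    exact h1 _ (orderOf_mul_of_commute (hc.symm.pow_right k) hp hq hpq (hordV v hv hv1) hk)
  · intro b _ v hv hc
    by_contra hv1
    exact h2 _ (orderOf_mul_of_commute hc.symm hp hr hpr (hordV v hv hv1)
      (by rw [← MulAut.conj_apply, MulEquiv.orderOf_eq, hy]))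
  · intro u hu hc
    by_contra hu1
    obtain ⟨k, hk⟩ := hq' u (hZQ hu) hu1
    exact h3 _ (orderOf_mul_of_commute (hc.symm.pow_left k) hq hr hqr hk hy)

theorem minimal_case {X : Type*} [Group X] [Finite X] [Group.IsSolvable X] (V : Subgroup X) [V.Normal]
    (hV : ∀ u v : V, u * v = v * u) (hV1 : V ≠ ⊥) {a b c : ℕ} (ha : a.Prime) (hb : b.Prime) (hc : c.Prime)
    (hab : a ≠ b) (hac : a ≠ c) (hbc : b ≠ c) (hexp : ∀ v : V, v ^ a = 1)
    (hdb : b ∣ Nat.card X) (hdc : c ∣ Nat.card X) :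
    (∃ x : X, orderOf x = a * b) ∨ (∃ x : X, orderOf x = a * c) ∨ (∃ x : X, orderOf x = b * c) := by
  obtain ⟨H, hH1, hH2⟩ := CfsgLib.Core.exists_piHall (G := X) {x | x = b ∨ x = c}
  have hdiv : ∀ s : ℕ, s.Prime → (s = b ∨ s = c) → s ∣ Nat.card X → s ∣ Nat.card H := fun s hs hsm hsd => by
    rw [← H.card_mul_index] at hsd
    exact (hs.dvd_mul.mp hsd).resolve_right fun h => hH2 s hs hsm h
  have hHbot : (⊤ : Subgroup H) ≠ ⊥ := by
    intro h
    have h1 : Nat.card H = 1 := by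
      rw [← Subgroup.card_top (G := H), h, Subgroup.card_bot]
    exact hb.ne_one (Nat.dvd_one.mp (h1 ▸ hdiv b hb (Or.inl rfl) hdb))
  haveI : Group.IsSolvable (⊤ : Subgroup H) := inferInstance
  obtain ⟨W, s, hWn, hs, hW1, -, hWexp⟩ :=
    CfsgLib.Recog.Spectrum.exists_elementary_of_solvable (⊤ : Subgroup H) hHbot inferInstance
  haveI := Fact.mk hs
  have hsd : s ∣ Nat.card H := by
    obtain ⟨w, hw⟩ := Subgroup.ne_bot_iff_exists_ne_one.mp hW1
    rw [← orderOf_eq_prime (hWexp w) hw, ← Subgroup.orderOf_coe]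
    exact orderOf_dvd_natCard _
  set Q := W.map H.subtype
  have hQp : IsPGroup s Q := by
    rintro ⟨_, w, hw, rfl⟩
    exact ⟨1, Subtype.ext (by rw [pow_one]; exact congrArg (fun z : W => ((z : H) : X)) (hWexp ⟨w, hw⟩))⟩
  have hQ1 : Q ≠ ⊥ := by
    rw [Ne, Subgroup.map_eq_bot_iff_of_injective _ H.subtype_injective]; exact hW1
  have hy : ∀ t : ℕ, t.Prime → t ∣ Nat.card H → ∃ y : X, orderOf y = t ∧ ∀ u ∈ Q, y * u * y⁻¹ ∈ Q := by
    intro t ht htd
    haveI := Fact.mk ht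
    obtain ⟨y, hy⟩ := exists_prime_orderOf_dvd_card' (G := H) t htd
    refine ⟨y, by rw [Subgroup.orderOf_coe]; exact hy, ?_⟩
    rintro _ ⟨w, hw, rfl⟩
    exact ⟨y * w * y⁻¹, hWn.conj_mem w hw y, rfl⟩
  rcases hH1 s hs hsd with rfl | rfl
  · obtain ⟨y, hy1, hy2⟩ := hy c hc (hdiv c hc (Or.inr rfl) hdc)
    exact exists_pair V hV hV1 ha hb hc hab hac hbc hexp Q hQp hQ1 y hy1 hy2
  · obtain ⟨y, hy1, hy2⟩ := hy b hb (hdiv b hb (Or.inl rfl) hdb)
    rcases exists_pair V hV hV1 ha hc hb hac hab hbc.symm hexp Q hQp hQ1 y hy1 hy2 with h | h | ⟨x, h⟩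
    · exact Or.inr (Or.inl h)
    · exact Or.inl h
    · exact Or.inr (Or.inr ⟨x, by rw [h, mul_comm]⟩)

/-- three primes dividing the order of a solvable group are not pairwise nonadjacent -/
theorem solvable_three_primes : ∀ (n : ℕ) (X : Type*) [Group X] [Finite X] [Group.IsSolvable X],
    Nat.card X = n → ∀ p q r : ℕ, p.Prime → q.Prime → r.Prime → p ≠ q → p ≠ r → q ≠ r →
    p ∣ Nat.card X → q ∣ Nat.card X → r ∣ Nat.card X →
    (∃ x : X, orderOf x = p * q) ∨ (∃ x : X, orderOf x = p * r) ∨ (∃ x : X, orderOf x = q * r) := by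
  intro n
  induction n using Nat.strong_induction_on with
  | _ n ih =>
    intro X _ _ _ hn p q r hp hq hr hpq hpr hqr hdp hdq hdr
    have hXbot : (⊤ : Subgroup X) ≠ ⊥ := by
      intro h
      have h1 : Nat.card X = 1 := by rw [← Subgroup.card_top (G := X), h, Subgroup.card_bot]
      exact hp.ne_one (Nat.dvd_one.mp (h1 ▸ hdp))
    obtain ⟨V, a, hVn, ha, hV1, hVc, hVexp⟩ :=
      CfsgLib.Recog.Spectrum.exists_elementary_of_solvable (⊤ : Subgroup X) hXbot inferInstance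
    haveI := hVn
    by_cases hap : a = p
    · subst hap; exact minimal_case V hVc hV1 hp hq hr hpq hpr hqr hVexp hdq hdr
    by_cases haq : a = q
    · subst haq
      rcases minimal_case V hVc hV1 hq hp hr hpq.symm hqr hpr hVexp hdp hdr with ⟨x, h⟩ | h | h
      · exact Or.inl ⟨x, by rw [h, mul_comm]⟩
      · exact Or.inr (Or.inr h)
      · exact Or.inr (Or.inl h)
    by_cases har : a = r
    · subst har
      rcases minimal_case V hVc hV1 hr hp hq hpr.symm hqr.symm hpq hVexp hdp hdq with ⟨x, h⟩ | ⟨x, h⟩ | h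
      · exact Or.inr (Or.inl ⟨x, by rw [h, mul_comm]⟩)
      · exact Or.inr (Or.inr ⟨x, by rw [h, mul_comm]⟩)
      · exact Or.inl h
    haveI := Fact.mk ha
    obtain ⟨k, hk⟩ := (show IsPGroup a V from fun v => ⟨1, by rw [pow_one]; exact hVexp v⟩).exists_card_eq
    have hdq' : ∀ s : ℕ, s.Prime → a ≠ s → s ∣ Nat.card X → s ∣ Nat.card (X ⧸ V) := fun s hs hne hsd => by
      rw [Subgroup.card_eq_card_quotient_mul_card_subgroup V, hk] at hsd
      exact (hs.dvd_mul.mp hsd).resolve_right fun h => hne ((Nat.prime_dvd_prime_iff_eq hs ha).mp (hs.dvd_of_dvd_pow h)).symm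
    have hlt : Nat.card (X ⧸ V) < n := by
      rw [← hn, Subgroup.card_eq_card_quotient_mul_card_subgroup V]
      haveI := (Subgroup.nontrivial_iff_ne_bot V).mpr hV1
      exact lt_mul_of_one_lt_right Nat.card_pos Finite.one_lt_card
    haveI : Group.IsSolvable (X ⧸ V) := inferInstance
    have lift : ∀ m, (∃ z : X ⧸ V, orderOf z = m) → ∃ x : X, orderOf x = m := by
      rintro m ⟨z, hz⟩
      obtain ⟨x, rfl⟩ := QuotientGroup.mk'_surjective V z
      exact exists_orderOf_of_map _ x hz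
    rcases ih _ hlt (X ⧸ V) rfl p q r hp hq hr hpq hpr hqr (hdq' p hp hap hdp) (hdq' q hq haq hdq) (hdq' r hr har hdr) with h | h | h
    · exact Or.inl (lift _ h)
    · exact Or.inr (Or.inl (lift _ h))
    · exact Or.inr (Or.inr (lift _ h))

end CfsgLib.Recog.ThreePrimes
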