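import Mathlib

/-!
The bound behind the Moore presentation of the alternating groups: if `x 0, …, x (m-1)` satisfy
`x 0 ^ 3 = 1`, `x i ^ 2 = 1`, `(x i x (i+1)) ^ 3 = 1` and `(x i x j) ^ 2 = 1` for `i + 1 < j`, then they
generate a group of order at most `(m + 2)! / 2`.
-/

set_option autoImplicit false
set_option linter.all false

namespace CfsgLib.Recog.AltPresentation

open Subgroup

/-- The relations on the first `m` terms of a sequence. -/
structure Rels {G : Type*} [Group G] (x : ℕ → G) (m : ℕ) : Prop where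
  cube : 0 < m → x 0 * x 0 * x 0 = 1
  invol : ∀ i, 1 ≤ i → i < m → x i * x i = 1
  braid : ∀ i, i + 1 < m → x i * x (i + 1) * (x i * x (i + 1)) * (x i * x (i + 1)) = 1
  far : ∀ i j, i + 1 < j → j < m → x i * x j * (x i * x j) = 1

variable {G : Type*} [Group G]

/-- The product `x K * x (K - 1) * ⋯` of `j` factors. -/
def chain (x : ℕ → G) (K : ℕ) : ℕ → G
  | 0 => 1
  | j + 1 => chain x K j * x (K - j)

/-- The subgroup generated by the first `K` terms. -/
def gen (x : ℕ → G) (K : ℕ) : Subgroup G := closure {g | ∃ i < K, x i = g}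

variable {x : ℕ → G} {m K : ℕ}

theorem mem_gen {i : ℕ} (hi : i < K) : x i ∈ gen x K := subset_closure ⟨i, hi, rfl⟩

theorem flip (hR : Rels x m) {i j : ℕ} (hij : i + 1 < j) (hj : j < m) : x j * x i = (x i)⁻¹ * x j := by
  have h := hR.far i j hij hj
  have hj1 : (x j)⁻¹ = x j := inv_eq_of_mul_eq_one_left (hR.invol j (by omega) hj)
  calc x j * x i = (x i)⁻¹ * (x i * x j * (x i * x j)) * (x j)⁻¹ := by group
    _ = _ := by rw [h, hj1, mul_one]

theorem comm (hR : Rels x m) {i j : ℕ} (hi : 1 ≤ i) (hij : i + 1 < j) (hj : j < m) : x j * x i = x i * x j := by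
  rw [flip hR hij hj, inv_eq_of_mul_eq_one_left (hR.invol i hi (by omega))]

theorem low (hR : Rels x m) (hK : K < m) :
    ∀ j, ∀ i, i + j < K → ∃ h ∈ gen x K, chain x K j * x i = h * chain x K j := by
  intro j
  induction j with
  | zero => intro i hi; exact ⟨x i, mem_gen (by omega), by simp [chain]⟩
  | succ j ih =>
    intro i hi
    obtain ⟨h, hh, e⟩ := ih i (by omega)
    by_cases hi0 : i = 0
    · refine ⟨h⁻¹, inv_mem hh, ?_⟩
      subst hi0
      have e' : chain x K j * (x 0)⁻¹ = h⁻¹ * chain x K j := by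
        rw [eq_inv_mul_iff_mul_eq, ← mul_assoc, ← e, mul_inv_cancel_right]
      show chain x K j * x (K - j) * x 0 = h⁻¹ * (chain x K j * x (K - j))
      rw [mul_assoc, flip hR (by omega) (by omega), ← mul_assoc, e', mul_assoc]
    · refine ⟨h, hh, ?_⟩
      show chain x K j * x (K - j) * x i = h * (chain x K j * x (K - j))
      rw [mul_assoc, comm hR (by omega) (by omega) (by omega), ← mul_assoc, e, mul_assoc]

theorem high (hR : Rels x m) (hK : K < m) :
    ∀ j, j ≤ K → ∀ i, i ≤ K → K + 2 ≤ i + j → ∃ h ∈ gen x K, chain x K j * x i = h * chain x K j := by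
  intro j
  induction j with
  | zero => intro _ i hi hij; omega
  | succ j ih =>
    intro hj i hi hij
    show ∃ h ∈ gen x K, chain x K j * x (K - j) * x i = h * (chain x K j * x (K - j))
    by_cases h1 : K + 2 ≤ i + j
    · obtain ⟨h, hh, e⟩ := ih (by omega) i hi h1
      refine ⟨h, hh, ?_⟩
      rw [mul_assoc, ← comm hR (i := K - j) (j := i) (by omega) (by omega) (by omega), ← mul_assoc, e, mul_assoc]
    · obtain ⟨j', rfl⟩ : ∃ j', j = j' + 1 := ⟨j - 1, by omega⟩
      have hi' : K - j' = i := by omega
      have hb : K - (j' + 1) + 1 = i := by omega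
      have hlt : i < m := by omega
      set b := K - (j' + 1) with hbdef
      have hbr := hR.braid b (by omega)
      rw [hb] at hbr
      have sb : (x b)⁻¹ = x b := inv_eq_of_mul_eq_one_left (hR.invol b (by omega) (by omega))
      have si : (x i)⁻¹ = x i := inv_eq_of_mul_eq_one_left (hR.invol i (by omega) (by omega))
      have key : x i * x b * x i = x b * x i * x b := by
        calc x i * x b * x i = (x b)⁻¹ * (x b * x i * (x b * x i) * (x b * x i)) * (x i)⁻¹ * (x b)⁻¹ := by group
          _ = x b * x i * x b := by rw [hbr, mul_one, sb, si]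
      obtain ⟨h, hh, e⟩ := low hR hK j' b (by omega)
      refine ⟨h, hh, ?_⟩
      show chain x K j' * x (K - j') * x b * x i = h * (chain x K j' * x (K - j') * x b)
      rw [hi', show chain x K j' * x i * x b * x i = chain x K j' * (x i * x b * x i) by group, key,
        ← mul_assoc, ← mul_assoc, e]
      group

/-- The coset representatives. -/
def reps (x : ℕ → G) (K : ℕ) : Set G := {g | ∃ j ≤ K + 1, g = chain x K j} ∪ {chain x K (K + 1) * x 0}

theorem step (hR : Rels x m) (hK : K < m) {t : G} (ht : t ∈ reps x K) {i : ℕ} (hi : i ≤ K) :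
    ∃ h ∈ gen x K, ∃ t' ∈ reps x K, t * x i = h * t' := by
  have mem : ∀ j, j ≤ K + 1 → chain x K j ∈ reps x K := fun j hj => Or.inl ⟨j, hj, rfl⟩
  have memtop : chain x K (K + 1) * x 0 ∈ reps x K := Or.inr rfl
  have top : chain x K (K + 1) = chain x K K * x 0 := by show _ * x (K - K) = _; rw [Nat.sub_self]
  have c0 : x 0 * x 0 * x 0 = 1 := hR.cube (by omega)
  have small : ∀ j, j ≤ K → ∃ h ∈ gen x K, ∃ t' ∈ reps x K, chain x K j * x i = h * t' := by
    intro j hj
    rcases lt_trichotomy (i + j) K with h1 | h1 | h1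
    · obtain ⟨h, hh, e⟩ := low hR hK j i h1
      exact ⟨h, hh, _, mem j (by omega), e⟩
    · refine ⟨1, one_mem _, _, mem (j + 1) (by omega), ?_⟩
      show _ = 1 * (chain x K j * x (K - j))
      rw [one_mul, show K - j = i by omega]
    · by_cases h2 : i + j = K + 1
      · obtain ⟨j', rfl⟩ : ∃ j', j = j' + 1 := ⟨j - 1, by omega⟩
        refine ⟨1, one_mem _, _, mem j' (by omega), ?_⟩
        show chain x K j' * x (K - j') * x i = 1 * chain x K j'
        rw [show K - j' = i by omega, one_mul, mul_assoc, hR.invol i (by omega) (by omega), mul_one]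
      · obtain ⟨h, hh, e⟩ := high hR hK j hj i hi (by omega)
        exact ⟨h, hh, _, mem j (by omega), e⟩
  -- the two top representatives
  have big : ∀ i', 2 ≤ i' → i' ≤ K → ∀ t, (t = chain x K (K + 1) ∨ t = chain x K (K + 1) * x 0) →
      ∃ h ∈ gen x K, ∃ t' ∈ reps x K, t * x i' = h * t' := by
    intro i' h2 hi' t ht
    obtain ⟨h, hh, e⟩ := high hR hK K le_rfl i' hi' (by omega)
    have f1 : x i' * x 0 = (x 0)⁻¹ * x i' := flip hR (by omega) (by omega)
    have f2 : x 0 * x i' = x i' * (x 0)⁻¹ := by
      have si : (x i')⁻¹ = x i' := inv_eq_of_mul_eq_one_left (hR.invol i' (by omega) (by omega))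
      have := hR.far 0 i' (by omega) (by omega)
      calc x 0 * x i' = (x 0 * x i' * (x 0 * x i')) * (x i')⁻¹ * (x 0)⁻¹ := by group
        _ = _ := by rw [this, one_mul, si]
    have i0 : (x 0)⁻¹ = x 0 * x 0 := inv_eq_of_mul_eq_one_left c0
    rcases ht with rfl | rfl
    · refine ⟨h, hh, _, memtop, ?_⟩
      rw [top, mul_assoc, f2, i0, ← mul_assoc, e]
      group
    · refine ⟨h, hh, _, mem (K + 1) le_rfl, ?_⟩
      rw [top]
      rw [show chain x K K * x 0 * x 0 * x i' = chain x K K * (x 0 * (x 0 * x i')) by group, f2,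
        show chain x K K * (x 0 * (x i' * (x 0)⁻¹)) = chain x K K * (x 0 * x i') * (x 0)⁻¹ by group, f2,
        show chain x K K * (x i' * (x 0)⁻¹) * (x 0)⁻¹ = chain x K K * x i' * ((x 0)⁻¹ * (x 0)⁻¹) by group, e, i0,
        show x 0 * x 0 * (x 0 * x 0) = x 0 * x 0 * x 0 * x 0 by group, c0, one_mul, mul_assoc]
  rcases ht with ⟨j, hj, rfl⟩ | ht
  · rcases Nat.lt_or_ge j (K + 1) with hjK | hjK
    · exact small j (by omega)
    obtain rfl : j = K + 1 := by omega
    rcases Nat.lt_or_ge i 2 with hi2 | hi2
    · rcases Nat.eq_zero_or_pos i with rfl | hpos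
      · exact ⟨1, one_mem _, _, memtop, (one_mul _).symm⟩
      · obtain rfl : i = 1 := by omega
        obtain ⟨K, rfl⟩ : ∃ k, K = k + 1 := ⟨K - 1, by omega⟩
        obtain ⟨h, hh, e⟩ := low hR hK K 0 (by omega)
        have s1 : (x 1)⁻¹ = x 1 := inv_eq_of_mul_eq_one_left (hR.invol 1 le_rfl (by omega))
        have hb := hR.braid 0 (by omega)
        have key : x 1 * x 0 * x 1 = (x 0)⁻¹ * x 1 * (x 0)⁻¹ := by
          calc x 1 * x 0 * x 1 = (x 0)⁻¹ * (x 0 * x (0+1) * (x 0 * x (0+1)) * (x 0 * x (0+1))) * (x (0+1))⁻¹ * (x 0)⁻¹ := by group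
            _ = _ := by rw [hb, mul_one, show (0 : ℕ) + 1 = 1 from rfl, s1]
        refine ⟨h⁻¹, inv_mem hh, _, memtop, ?_⟩
        have i0 : (x 0)⁻¹ = x 0 * x 0 := inv_eq_of_mul_eq_one_left c0
        have e' : chain x (K + 1) K * (x 0)⁻¹ = h⁻¹ * chain x (K + 1) K := by
          rw [eq_inv_mul_iff_mul_eq, ← mul_assoc, ← e, mul_inv_cancel_right]
        rw [top]
        show chain x (K + 1) K * x (K + 1 - K) * x 0 * x 1 = h⁻¹ * (chain x (K + 1) K * x (K + 1 - K) * x 0 * x 0)
        rw [show K + 1 - K = 1 by omega, show chain x (K + 1) K * x 1 * x 0 * x 1 = chain x (K + 1) K * (x 1 * x 0 * x 1) by group,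
          key, ← mul_assoc, ← mul_assoc, e', i0]
        group
    · exact big i hi2 hi _ (Or.inl rfl)
  · obtain rfl : t = chain x K (K + 1) * x 0 := ht
    rcases Nat.lt_or_ge i 2 with hi2 | hi2
    · rcases Nat.eq_zero_or_pos i with rfl | hpos
      · refine ⟨1, one_mem _, _, mem K (by omega), ?_⟩
        rw [top, one_mul, mul_assoc, mul_assoc, ← mul_assoc (x 0), c0, mul_one]
      · obtain rfl : i = 1 := by omega
        obtain ⟨K, rfl⟩ : ∃ k, K = k + 1 := ⟨K - 1, by omega⟩
        obtain ⟨h, hh, e⟩ := low hR hK K 0 (by omega)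
        have s1 : (x 1)⁻¹ = x 1 := inv_eq_of_mul_eq_one_left (hR.invol 1 le_rfl (by omega))
        have i0 : (x 0)⁻¹ = x 0 * x 0 := inv_eq_of_mul_eq_one_left c0
        have hb := hR.braid 0 (by omega)
        have key : x 1 * (x 0)⁻¹ * x 1 = x 0 * x 1 * x 0 := by
          have h11 : x 1 * x 1 = 1 := hR.invol 1 le_rfl (by omega)
          calc x 1 * (x 0)⁻¹ * x 1 = x 1 * (x 0)⁻¹ * (x 0 * x (0+1) * (x 0 * x (0+1)) * (x 0 * x (0+1))) * x 1 := by
                rw [hb, mul_one]
            _ = (x 1 * x 1) * (x 0 * x 1 * x 0) * (x 1 * x 1) := by group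
            _ = _ := by rw [h11, one_mul, mul_one]
        refine ⟨h, hh, _, mem (K + 1 + 1) le_rfl, ?_⟩
        rw [top]
        show chain x (K + 1) K * x (K + 1 - K) * x 0 * x 0 * x 1 = h * (chain x (K + 1) K * x (K + 1 - K) * x 0)
        rw [show K + 1 - K = 1 by omega, show chain x (K + 1) K * x 1 * x 0 * x 0 * x 1 = chain x (K + 1) K * (x 1 * (x 0 * x 0) * x 1) by group,
          ← i0, key, ← mul_assoc, ← mul_assoc, e]
        group
    · exact big i hi2 hi _ (Or.inr rfl)

theorem card_gen (hR : Rels x m) : ∀ K, K ≤ m → Finite (gen x K) ∧ 2 * Nat.card (gen x K) ≤ Nat.factorial (K + 2) := by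
  intro K
  induction K with
  | zero =>
    intro _
    have h0 : gen x 0 = ⊥ := by
      rw [gen, show {g | ∃ i < 0, x i = g} = (∅ : Set G) by ext g; simp, Subgroup.closure_empty]
    rw [h0]
    exact ⟨inferInstance, by rw [Subgroup.card_bot]; decide⟩
  | succ K ih =>
    intro hK
    obtain ⟨hfin, hcard⟩ := ih (by omega)
    classical
    let R : Finset G := insert (chain x K (K + 1) * x 0) ((Finset.range (K + 2)).image (chain x K))
    have hR' : ∀ g, g ∈ R ↔ g ∈ reps x K := by
      intro g
      simp only [R, Finset.mem_insert, Finset.mem_image, Finset.mem_range, reps, Set.mem_union,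
        Set.mem_singleton_iff, Set.mem_setOf_eq]
      constructor
      · rintro (h | ⟨j, hj, rfl⟩)
        exacts [.inr h, .inl ⟨j, by omega, rfl⟩]
      · rintro (⟨j, hj, rfl⟩ | h)
        exacts [.inr ⟨j, by omega, rfl⟩, .inl h]
    have hcover : ∀ g ∈ gen x (K + 1), ∃ h ∈ gen x K, ∃ t ∈ reps x K, g = h * t := by
      intro g hg
      have hfwd : ∀ i ≤ K, ∀ g, (∃ h ∈ gen x K, ∃ t ∈ reps x K, g = h * t) →
          ∃ h ∈ gen x K, ∃ t ∈ reps x K, g * x i = h * t := by
        rintro i hi g ⟨h, hh, t, ht, rfl⟩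
        obtain ⟨h', hh', t', ht', e⟩ := step hR (by omega) ht hi
        exact ⟨h * h', mul_mem hh hh', t', ht', by rw [mul_assoc, e, mul_assoc]⟩
      induction hg using closure_induction_right with
      | one => exact ⟨1, one_mem _, chain x K 0, .inl ⟨0, by omega, rfl⟩, by simp [chain]⟩
      | mul_right a ha b hb ih' =>
        obtain ⟨i, hi, rfl⟩ := hb
        exact hfwd i (by omega) a ih'
      | mul_inv_cancel a ha b hb ih' =>
        obtain ⟨i, hi, rfl⟩ := hb
        rcases Nat.eq_zero_or_pos i with rfl | hpos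
        · rw [inv_eq_of_mul_eq_one_left (hR.cube (by omega)), ← mul_assoc]
          exact hfwd 0 (by omega) _ (hfwd 0 (by omega) a ih')
        · rw [inv_eq_of_mul_eq_one_left (hR.invol i hpos (by omega))]
          exact hfwd i (by omega) a ih'
    have hsub : (gen x (K + 1) : Set G) ⊆ (fun p : gen x K × R => (p.1 : G) * p.2) '' Set.univ := by
      intro g hg
      obtain ⟨h, hh, t, ht, rfl⟩ := hcover g hg
      exact ⟨(⟨h, hh⟩, ⟨t, (hR' t).2 ht⟩), trivial, rfl⟩
    have hfinset := ((Set.finite_univ (α := gen x K × R)).image fun p => (p.1 : G) * p.2)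
    refine ⟨(hfinset.subset hsub).to_subtype, ?_⟩
    have h1 : Nat.card (gen x (K + 1)) ≤ Nat.card (gen x K × R) := by
      rw [← SetLike.coe_sort_coe, Nat.card_coe_set_eq]
      refine (Set.ncard_le_ncard hsub hfinset).trans ?_
      exact (Set.ncard_image_le Set.finite_univ).trans (Set.ncard_univ _).le
    rw [Nat.card_prod, Nat.card_eq_fintype_card (α := R), Fintype.card_coe] at h1
    have h2 : R.card ≤ K + 3 := (Finset.card_insert_le _ _).trans (by
      have := Finset.card_image_le (s := Finset.range (K + 2)) (f := chain x K)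
      rw [Finset.card_range] at this
      omega)
    calc 2 * Nat.card (gen x (K + 1)) ≤ 2 * Nat.card (gen x K) * (K + 3) := by nlinarith
      _ ≤ Nat.factorial (K + 2) * (K + 3) := Nat.mul_le_mul_right _ hcard
      _ = _ := by rw [Nat.factorial_succ (K + 2)]; ring

theorem swv {N : ℕ} (a b y : Fin N) :
    (Equiv.swap a b y).val = if y.val = a.val then b.val else if y.val = b.val then a.val else y.val := by
  rw [Equiv.swap_apply_def]
  split_ifs <;> simp_all [Fin.ext_iff]

theorem cube_of_three_cycle {N : ℕ} (g : Equiv.Perm (Fin N)) (p q r : ℕ) (hpq : p ≠ q) (hpr : p ≠ r) (hqr : q ≠ r)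
    (hg : ∀ y : Fin N, (g y).val = if y.val = p then q else if y.val = q then r else if y.val = r then p else y.val) :
    g ^ 3 = 1 := by
  refine Equiv.ext fun y => Fin.ext ?_
  simp only [pow_succ, pow_zero, one_mul, Equiv.Perm.mul_apply, Equiv.Perm.one_apply, hg]
  split_ifs <;> first | contradiction | omega

theorem sq_of_two_swaps {N : ℕ} (g : Equiv.Perm (Fin N)) (p q r s : ℕ) (hpr : p ≠ r) (hps : p ≠ s) (hqr : q ≠ r)
    (hqs : q ≠ s)
    (hg : ∀ y : Fin N, (g y).val = if y.val = p then q else if y.val = q then p else if y.val = r then s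
      else if y.val = s then r else y.val) :
    g ^ 2 = 1 := by
  refine Equiv.ext fun y => Fin.ext ?_
  simp only [pow_succ, pow_zero, one_mul, Equiv.Perm.mul_apply, Equiv.Perm.one_apply, hg]
  split_ifs <;> first | contradiction | omega

set_option maxHeartbeats 1600000 in
open Equiv Equiv.Perm in
/-- The Moore presentation. -/
theorem nonempty_mulEquiv (k : ℕ) (rels : Set (FreeGroup (Fin (k + 1))))
    (hrels : rels =
      {g : FreeGroup (Fin (k + 1)) | ∃ i : Fin (k + 1), i.val = 0 ∧ g = FreeGroup.of i ^ 3} ∪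
       {g | ∃ i : Fin (k + 1), 1 ≤ i.val ∧ g = FreeGroup.of i ^ 2} ∪
       {g | ∃ i j : Fin (k + 1), j.val = i.val + 1 ∧ g = (FreeGroup.of i * FreeGroup.of j) ^ 3} ∪
       {g | ∃ i j : Fin (k + 1), i.val + 1 < j.val ∧ g = (FreeGroup.of i * FreeGroup.of j) ^ 2}) :
    Nonempty (PresentedGroup rels ≃* alternatingGroup (Fin (k + 3))) := by
  classical
  let a : Fin (k + 1) → Perm (Fin (k + 3)) := fun i =>
    if i.val = 0 then swap ⟨0, by omega⟩ ⟨1, by omega⟩ * swap ⟨1, by omega⟩ ⟨2, by omega⟩
    else swap ⟨0, by omega⟩ ⟨1, by omega⟩ * swap ⟨i.val + 1, by omega⟩ ⟨i.val + 2, by omega⟩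
  have ev : ∀ (i : Fin (k + 1)) (y : Fin (k + 3)), ((a i) y).val =
      if i.val = 0 then (if y.val = 0 then 1 else if y.val = 1 then 2 else if y.val = 2 then 0 else y.val)
      else (if y.val = 0 then 1 else if y.val = 1 then 0 else if y.val = i.val + 1 then i.val + 2
        else if y.val = i.val + 2 then i.val + 1 else y.val) := by
    intro i y
    by_cases hi : i.val = 0
    · simp only [a, hi, if_true, Perm.mul_apply, swv]
      split_ifs <;> first | contradiction | omega
    · simp only [a, hi, if_false, Perm.mul_apply, swv]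
      split_ifs <;> first | contradiction | omega
  have hrel : ∀ g ∈ rels, FreeGroup.lift a g = 1 := by
    subst hrels
    rintro g (((⟨i, hi, rfl⟩ | ⟨i, hi, rfl⟩) | ⟨i, j, hij, rfl⟩) | ⟨i, j, hij, rfl⟩) <;>
      simp only [map_pow, map_mul, FreeGroup.lift_apply_of]
    · refine cube_of_three_cycle _ 0 1 2 (by omega) (by omega) (by omega) fun y => ?_
      rw [ev i y, if_pos hi]
    · refine sq_of_two_swaps _ 0 1 (i.val + 1) (i.val + 2) (by omega) (by omega) (by omega) (by omega) fun y => ?_
      rw [ev i y, if_neg (by omega)]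
    · refine cube_of_three_cycle _ (if i.val = 0 then 0 else i.val + 1) (i.val + 2) (i.val + 3)
        (by split_ifs <;> omega) (by split_ifs <;> omega) (by omega) fun y => ?_
      by_cases hi : i.val = 0
      · simp only [Perm.mul_apply, ev, hi, show j.val ≠ 0 by omega, if_true, if_false]
        split_ifs <;> first | contradiction | omega
      · simp only [Perm.mul_apply, ev, hi, show j.val ≠ 0 by omega, if_true, if_false]
        split_ifs <;> first | contradiction | omega
    · refine sq_of_two_swaps _ (if i.val = 0 then 0 else i.val + 1) (i.val + 2) (j.val + 1) (j.val + 2)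
        (by split_ifs <;> omega) (by split_ifs <;> omega) (by omega) (by omega) fun y => ?_
      by_cases hi : i.val = 0
      · simp only [Perm.mul_apply, ev, hi, show j.val ≠ 0 by omega, if_true, if_false]
        split_ifs <;> first | contradiction | omega
      · simp only [Perm.mul_apply, ev, hi, show j.val ≠ 0 by omega, if_true, if_false]
        split_ifs <;> first | contradiction | omega
  let f : PresentedGroup rels →* Perm (Fin (k + 3)) := PresentedGroup.toGroup hrel
  have hfof : ∀ i, f (PresentedGroup.of i) = a i := fun i => PresentedGroup.toGroup.of hrel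
  have hle : f.range ≤ alternatingGroup (Fin (k + 3)) := by
    rw [MonoidHom.range_eq_map, ← PresentedGroup.closure_range_of rels, MonoidHom.map_closure, Subgroup.closure_le]
    rintro _ ⟨_, ⟨i, rfl⟩, rfl⟩
    rw [SetLike.mem_coe, Equiv.Perm.mem_alternatingGroup, hfof]
    by_cases hi : i.val = 0
    · simp only [a, hi, if_true, map_mul]
      rw [sign_swap (Fin.ne_of_val_ne (by dsimp only; omega)), sign_swap (Fin.ne_of_val_ne (by dsimp only; omega))]
      decide
    · simp only [a, hi, if_false, map_mul]
      rw [sign_swap (Fin.ne_of_val_ne (by dsimp only; omega)), sign_swap (Fin.ne_of_val_ne (by dsimp only; omega))]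
      decide
  -- order of the presented group
  let x : ℕ → PresentedGroup rels := fun i => if h : i < k + 1 then PresentedGroup.of ⟨i, h⟩ else 1
  have hx : ∀ i (h : i < k + 1), x i = PresentedGroup.of ⟨i, h⟩ := fun i h => dif_pos h
  have hone : ∀ g ∈ rels, PresentedGroup.mk rels g = 1 := fun g hg => PresentedGroup.one_of_mem hg
  have hR : Rels x (k + 1) := by
    subst hrels
    refine ⟨fun _ => ?_, fun i h1 h2 => ?_, fun i h1 => ?_, fun i j h1 h2 => ?_⟩
    · have := hone (FreeGroup.of (⟨0, by omega⟩ : Fin (k + 1)) ^ 3) (.inl (.inl (.inl ⟨_, rfl, rfl⟩)))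
      rw [map_pow, pow_succ, pow_two] at this
      rw [hx 0 (by omega)]; exact this
    · have := hone (FreeGroup.of (⟨i, by omega⟩ : Fin (k + 1)) ^ 2) (.inl (.inl (.inr ⟨_, h1, rfl⟩)))
      rw [map_pow, pow_two] at this
      rw [hx i (by omega)]; exact this
    · have := hone ((FreeGroup.of (⟨i, by omega⟩ : Fin (k + 1)) * FreeGroup.of ⟨i + 1, by omega⟩) ^ 3)
        (.inl (.inr ⟨_, _, rfl, rfl⟩))
      rw [map_pow, map_mul, pow_succ, pow_two] at this
      rw [hx i (by omega), hx (i + 1) (by omega)]; exact this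
    · have := hone ((FreeGroup.of (⟨i, by omega⟩ : Fin (k + 1)) * FreeGroup.of ⟨j, by omega⟩) ^ 2)
        (.inr ⟨_, _, h1, rfl⟩)
      rw [map_pow, map_mul, pow_two] at this
      rw [hx i (by omega), hx j (by omega)]; exact this
  obtain ⟨hfin, hcard⟩ := card_gen hR (k + 1) le_rfl
  have htop : gen x (k + 1) = ⊤ := by
    rw [← top_le_iff, ← PresentedGroup.closure_range_of rels, Subgroup.closure_le]
    rintro _ ⟨i, rfl⟩
    exact hx i.val i.isLt ▸ mem_gen (x := x) (K := k + 1) (by omega)
  rw [htop] at hfin hcard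
  haveI : Finite (PresentedGroup rels) := Finite.of_equiv _ Subgroup.topEquiv.toEquiv
  rw [Subgroup.card_top] at hcard
  -- the image has index at most two
  set s : Perm (Fin (k + 3)) := swap ⟨0, by omega⟩ ⟨1, by omega⟩ with hs
  set R := f.range with hRdef
  have haR : ∀ i, a i ∈ R := fun i => ⟨_, hfof i⟩
  have hconj : ∀ r ∈ R, s * r * s⁻¹ ∈ R := by
    intro r hr
    have hR' : R = Subgroup.closure (Set.range a) := by
      rw [hRdef, MonoidHom.range_eq_map, ← PresentedGroup.closure_range_of rels, MonoidHom.map_closure, ← Set.range_comp]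
      exact congrArg _ (congrArg Set.range (funext hfof))
    rw [hR'] at hr
    induction hr using Subgroup.closure_induction with
    | mem g hg =>
      obtain ⟨i, rfl⟩ := hg
      by_cases hi : i.val = 0
      · rw [show s * a i * s⁻¹ = a i * a i from Equiv.ext fun y => Fin.ext (by
          simp only [Perm.mul_apply, ev, hi, if_true, hs, swap_inv, swv]
          split_ifs <;> first | contradiction | omega)]
        exact mul_mem (haR i) (haR i)
      · rw [show s * a i * s⁻¹ = a i from Equiv.ext fun y => Fin.ext (by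
          simp only [Perm.mul_apply, ev, hi, if_false, hs, swap_inv, swv]
          split_ifs <;> first | contradiction | omega)]
        exact haR i
    | one => simp
    | mul p q _ _ hp hq =>
      rw [show s * (p * q) * s⁻¹ = (s * p * s⁻¹) * (s * q * s⁻¹) by group]; exact mul_mem hp hq
    | inv p _ hp => rw [show s * p⁻¹ * s⁻¹ = (s * p * s⁻¹)⁻¹ by group]; exact inv_mem hp
  have hcoverS : ∀ g : Perm (Fin (k + 3)), g ∈ R ∨ g * s ∈ R := by
    have hss : s * s = 1 := by rw [hs, swap_mul_self]
    intro g
    have hg : g ∈ Submonoid.closure (Set.range fun i : Fin (k + 2) ↦ swap i.castSucc i.succ) := by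
      rw [mclosure_swap_castSucc_succ]; trivial
    induction hg using Submonoid.closure_induction_right with
    | one => exact .inl (one_mem _)
    | mul_right g _ b hb ih =>
      obtain ⟨i, rfl⟩ := hb
      have hb : (swap i.castSucc i.succ : Perm (Fin (k + 3))) * s ∈ R := by
        rcases Nat.lt_or_ge i.val 1 with h0 | h0
        · rw [show (swap i.castSucc i.succ : Perm (Fin (k + 3))) = s by
            rw [hs]
            refine Equiv.ext fun y => Fin.ext ?_
            simp only [swv, Fin.val_castSucc, Fin.val_succ]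
            split_ifs <;> first | contradiction | omega, hss]
          exact one_mem _
        · rcases Nat.lt_or_ge i.val 2 with h1 | h1
          · have : (swap i.castSucc i.succ : Perm (Fin (k + 3))) * s = (a ⟨0, by omega⟩)⁻¹ := by
              simp only [a, if_true, mul_inv_rev, swap_inv, hs]
              refine Equiv.ext fun y => Fin.ext ?_
              simp only [Perm.mul_apply, swv, Fin.val_castSucc, Fin.val_succ]
              split_ifs <;> first | contradiction | omega
            rw [this]; exact inv_mem (haR _)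
          · have : (swap i.castSucc i.succ : Perm (Fin (k + 3))) * s = (a ⟨i.val - 1, by omega⟩)⁻¹ := by
              simp only [a, show i.val - 1 ≠ 0 by omega, if_false, mul_inv_rev, swap_inv, hs]
              refine Equiv.ext fun y => Fin.ext ?_
              simp only [Perm.mul_apply, swv, Fin.val_castSucc, Fin.val_succ]
              split_ifs <;> first | contradiction | omega
            rw [this]; exact inv_mem (haR _)
      set b : Perm (Fin (k + 3)) := swap i.castSucc i.succ
      rcases ih with h | h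
      · exact .inr (by rw [mul_assoc]; exact mul_mem h hb)
      · refine .inl ?_
        have := mul_mem h (hconj _ hb)
        rwa [show g * s * (s * (b * s) * s⁻¹) = g * (s * s) * b by group, hss, mul_one] at this
  have hRcard : (k + 3).factorial ≤ 2 * Nat.card R := by
    have hsurj : Function.Surjective (fun p : Bool × R => if p.1 then (p.2 : Perm (Fin (k + 3))) else p.2 * s⁻¹) := by
      intro g
      rcases hcoverS g with h | h
      · exact ⟨(true, ⟨g, h⟩), rfl⟩
      · exact ⟨(false, ⟨_, h⟩), by simp⟩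
    have := Nat.card_le_card_of_surjective _ hsurj
    rwa [Nat.card_prod, Nat.card_eq_fintype_card (α := Bool), Fintype.card_bool, Nat.card_perm, Nat.card_fin] at this
  have hAn : 2 * Nat.card (alternatingGroup (Fin (k + 3))) = (k + 3).factorial := by
    rw [nat_card_alternatingGroup, Nat.card_fin]
    exact Nat.mul_div_cancel' (Nat.dvd_factorial (by omega) (by omega))
  have hsame : R = alternatingGroup (Fin (k + 3)) := by
    refine Subgroup.eq_of_le_of_card_ge hle ?_
    omega
  have hinj : Function.Injective f.rangeRestrict := by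
    refine ((Nat.bijective_iff_surjective_and_card _).2 ⟨f.rangeRestrict_surjective, ?_⟩).1
    have h1 := Nat.card_le_card_of_surjective _ f.rangeRestrict_surjective
    have h2 : Nat.card f.range = Nat.card R := rfl
    have h3 : (k + 1 + 2).factorial = (k + 3).factorial := rfl
    omega
  exact ⟨(MulEquiv.ofBijective f.rangeRestrict ⟨hinj, f.rangeRestrict_surjective⟩).trans
    (MulEquiv.subgroupCongr hsame)⟩

end CfsgLib.Recog.AltPresentation
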