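import Mathlib

/-!
# Three-closure of affine groups
-/

namespace CfsgLib.Recog.AffineTriples

variable {K V : Type*} [Field K] [AddCommGroup V] [Module K V]

/-- two linearly independent families are related by an automorphism -/
theorem exists_linearEquiv_of_li [FiniteDimensional K V] {ι : Type*} [Finite ι] {v w : ι → V}
    (hv : LinearIndependent K v) (hw : LinearIndependent K w) : ∃ A : V ≃ₗ[K] V, ∀ i, A (v i) = w i := by
  obtain ⟨g, hg⟩ := Submodule.exists_linearEquiv_restrict_eq
    ((Module.Basis.span hv).equiv (Module.Basis.span hw) (Equiv.refl ι))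
  refine ⟨g, fun i => ?_⟩
  have h1 := hg (Module.Basis.span hv i)
  rw [Module.Basis.equiv_apply, Module.Basis.coe_span_apply hw, Module.Basis.coe_span_apply hv] at h1
  exact h1.symm

/-- a bijection agreeing on each triple with an affine map is affine (characteristic not two) -/
theorem affine_of_triples {p : ℕ} [Fact p.Prime] (hp : p ≠ 2) [Module (ZMod p) V] (σ : Equiv.Perm V)
    (h : ∀ t : Fin 3 → V, ∃ (A : V ≃ₗ[ZMod p] V) (b : V), ∀ i, σ (t i) = A (t i) + b) :
    ∃ (A : V ≃ₗ[ZMod p] V) (b : V), ∀ x, σ x = A x + b := by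
  have h2 : (2 : ZMod p) ≠ 0 := by
    intro h2
    have : ((2 : ℕ) : ZMod p) = 0 := by exact_mod_cast h2
    rw [ZMod.natCast_eq_zero_iff] at this
    exact hp ((Nat.prime_dvd_prime_iff_eq Fact.out Nat.prime_two).mp this)
  have hhom : ∀ (c : ZMod p) (x : V), σ (c • x) - σ 0 = c • (σ x - σ 0) := by
    intro c x
    obtain ⟨A, b, hA⟩ := h ![0, x, c • x]
    have h0 := hA 0; have h1 := hA 1; have h2 := hA 2
    simp only [Matrix.cons_val_zero, Matrix.cons_val_one, Matrix.cons_val_two, Matrix.tail_cons, Matrix.head_cons] at h0 h1 h2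
    rw [h0, h1, h2, map_zero, map_smul]
    simp
  have hadd : ∀ x y : V, σ (x + y) - σ 0 = (σ x - σ 0) + (σ y - σ 0) := by
    intro x y
    obtain ⟨A, b, hA⟩ := h ![x, y, (2 : ZMod p)⁻¹ • (x + y)]
    have h0 := hA 0; have h1 := hA 1; have h2' := hA 2
    simp only [Matrix.cons_val_zero, Matrix.cons_val_one, Matrix.cons_val_two, Matrix.tail_cons, Matrix.head_cons] at h0 h1 h2'
    have h3 := hhom (2 : ZMod p)⁻¹ (x + y)
    have h5 := congrArg ((2 : ZMod p) • ·) h3
    simp only [smul_smul, mul_inv_cancel₀ h2, one_smul] at h5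
    rw [← h5, h2', h0, h1, smul_sub, smul_add, ← map_smul, smul_smul, mul_inv_cancel₀ h2, one_smul,
      map_add, two_smul, two_smul]
    abel
  let f : V →+ V := AddMonoidHom.mk' (fun x => σ x - σ 0) hadd
  have hbij : Function.Bijective (f.toZModLinearMap p) := by
    show Function.Bijective fun x => σ x - σ 0
    exact (Equiv.subRight (σ 0)).bijective.comp σ.bijective
  refine ⟨LinearEquiv.ofBijective _ hbij, σ 0, fun x => ?_⟩
  show σ x = σ x - σ 0 + σ 0
  rw [sub_add_cancel]

set_option maxHeartbeats 1000000 in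
theorem affine_plane_two_aux :
    ∀ (σ : Equiv.Perm (Fin 2 → ZMod 2)) (x y : Fin 2 → ZMod 2), σ (x + y) - σ 0 = (σ x - σ 0) + (σ y - σ 0) := by
  decide +kernel

theorem affine_plane {p : ℕ} [Fact p.Prime] (σ : Equiv.Perm (Fin 2 → ZMod p))
    (h : ∀ t : Fin 3 → (Fin 2 → ZMod p), ∃ (A : (Fin 2 → ZMod p) ≃ₗ[ZMod p] (Fin 2 → ZMod p)) (b : Fin 2 → ZMod p), ∀ i, σ (t i) = A (t i) + b) :
    ∃ (A : (Fin 2 → ZMod p) ≃ₗ[ZMod p] (Fin 2 → ZMod p)) (b : Fin 2 → ZMod p), ∀ x, σ x = A x + b := by
  by_cases hp : p = 2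
  · subst hp
    let f : (Fin 2 → ZMod 2) →+ (Fin 2 → ZMod 2) := AddMonoidHom.mk' (fun x => σ x - σ 0) (affine_plane_two_aux σ)
    have hbij : Function.Bijective (f.toZModLinearMap 2) := by
      show Function.Bijective fun x => σ x - σ 0
      exact (Equiv.subRight (σ 0)).bijective.comp σ.bijective
    refine ⟨LinearEquiv.ofBijective _ hbij, σ 0, fun x => ?_⟩
    show σ x = σ x - σ 0 + σ 0
    rw [sub_add_cancel]
  · exact affine_of_triples hp σ h

/-- on two vectors every automorphism agrees with one of determinant one, in dimension ≥ 3 -/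
theorem exists_det_one_agree [FiniteDimensional K V] (hd : 3 ≤ Module.finrank K V) (A : V ≃ₗ[K] V) (v w : V) :
    ∃ B : V ≃ₗ[K] V, LinearMap.det (B : V →ₗ[K] V) = 1 ∧ B v = A v ∧ B w = A w := by
  classical
  set W := Submodule.span K ({v, w} : Set V) with hW
  have hne : W ≠ ⊤ := by
    intro htop
    have h1 : Module.finrank K W ≤ 2 := by
      have := finrank_span_le_card (R := K) ({v, w} : Set V)
      refine this.trans ?_
      rw [Set.toFinset_insert, Set.toFinset_singleton]
      exact Finset.card_le_two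
    rw [htop, finrank_top] at h1
    omega
  obtain ⟨u, hu⟩ : ∃ u, u ∉ W := by
    by_contra hall
    push Not at hall
    exact hne (eq_top_iff.mpr fun x _ => hall x)
  obtain ⟨f, hf, hfW⟩ := Submodule.exists_dual_map_eq_bot_of_notMem hu inferInstance
  have hfW' : ∀ x ∈ W, f x = 0 := fun x hx => by
    have : f x ∈ W.map f := Submodule.mem_map_of_mem hx
    rwa [hfW, Submodule.mem_bot] at this
  set c := ((A.det⁻¹ : Kˣ) : K) with hc
  let u' : V := ((c - 1) * (f u)⁻¹) • u
  have hdet : LinearMap.det (LinearMap.transvection f u') = c := by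
    rw [LinearMap.transvection.det]
    simp [u', hf]
  have hunit : IsUnit (LinearMap.det (LinearMap.transvection f u')) := by
    rw [hdet]; exact Units.isUnit _
  let D := LinearEquiv.ofIsUnitDet (f := LinearMap.transvection f u') (v := Module.finBasis K V) (v' := Module.finBasis K V)
    (by rwa [← LinearMap.det_toMatrix (Module.finBasis K V)] at hunit)
  refine ⟨D ≪≫ₗ A, ?_, ?_, ?_⟩
  · have hcoe : ((D ≪≫ₗ A : V ≃ₗ[K] V) : V →ₗ[K] V) = (A : V →ₗ[K] V) ∘ₗ (LinearMap.transvection f u') := rfl
    rw [hcoe, LinearMap.det_comp, hdet, ← LinearEquiv.coe_det, hc, ← Units.val_mul, mul_inv_cancel, Units.val_one]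
  · show A (LinearMap.transvection f u' v) = A v
    rw [LinearMap.transvection.apply, hfW' v (Submodule.subset_span (by simp)), zero_smul, add_zero]
  · show A (LinearMap.transvection f u' w) = A w
    rw [LinearMap.transvection.apply, hfW' w (Submodule.subset_span (by simp)), zero_smul, add_zero]

end CfsgLib.Recog.AffineTriples
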