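import Mathlib
import Cfsg.Prelude.Def_DegreeGraph
import Cfsg.Agent.Lib.Char.Induced
import Cfsg.Agent.Lib.Char.Complete
import Cfsg.Agent.Lib.CharDegree.Basic

/-!
# Characters induced from a Borel subgroup of a group of order 6048
-/

set_option autoImplicit false

namespace CfsgLib.Recog.BorelChar

open CfsgLib.Char
open scoped ComplexConjugate

variable {G : Type*} [Group G] [Fintype G]

/-- an element in normal form -/
def el (a b z : G) (i j k : ZMod 3) : G := a ^ i.val * b ^ j.val * z ^ k.val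

/-- the data -/
structure Datum (G : Type*) [Group G] where
  B : Subgroup G
  e : B →* Multiplicative (ZMod 8)
  w : G
  t : B
  a : B
  b : B
  z : B

/-- the properties -/
structure Valid (D : Datum G) : Prop where
  cardG : Nat.card G = 6048
  cardB : Nat.card D.B = 216
  et : D.e D.t = Multiplicative.ofAdd 1
  t8 : D.t ^ 8 = 1
  w_notMem : D.w ∉ D.B
  inter : ∀ x : D.B, D.w⁻¹ * x * D.w ∈ D.B → ∃ j : ZMod 8, x = D.t ^ j.val
  wt : D.w⁻¹ * D.t * D.w = (D.t : G) ^ 5
  a3 : D.a ^ 3 = 1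
  z3 : D.z ^ 3 = 1
  az : Commute D.a D.z
  param : ∀ x : D.B, D.e x = 1 → ∃ i j k : ZMod 3, x = el D.a D.b D.z i j k
  param_mem : ∀ i j k : ZMod 3, D.e (el D.a D.b D.z i j k) = 1
  param_inj : ∀ i j k i' j' k' : ZMod 3, el D.a D.b D.z i j k = el D.a D.b D.z i' j' k' → i = i' ∧ j = j' ∧ k = k'
  invz : ∃ g : D.B, g * D.z * g⁻¹ = D.z⁻¹
  heis : ∃ g : D.B, g * D.a * g⁻¹ = D.a * D.z ∧ g * D.z * g⁻¹ = D.z
  trans : ∀ i j : ZMod 3, (i ≠ 0 ∨ j ≠ 0) → ∃ (g : D.B) (c s : ZMod 3), s ≠ 0 ∧
    ∀ k : ZMod 3, g * (D.a * D.z ^ k.val) * g⁻¹ = el D.a D.b D.z i j (c + s * k)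

variable {D : Datum G}

/-- the linear characters trivial on the unipotent radical -/
noncomputable def lam (D : Datum G) (k : ZMod 8) (x : D.B) : ℂ :=
  ZMod.stdAddChar (k * Multiplicative.toAdd (D.e x))

theorem lam_mul (k : ZMod 8) (x y : D.B) : lam D k (x * y) = lam D k x * lam D k y := by
  simp only [lam, map_mul, toAdd_mul, mul_add, AddChar.map_add_eq_mul]

theorem lam_one (k : ZMod 8) : lam D k 1 = 1 := by
  simp [lam]

/-- `lam` as a homomorphism -/
noncomputable def lamHom (D : Datum G) (k : ZMod 8) : D.B →* ℂˣ :=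
  MonoidHom.toHomUnits
    { toFun := lam D k
      map_one' := lam_one k
      map_mul' := lam_mul k }

theorem isCharacter_lam (k : ZMod 8) : Cfsg.IsCharacter D.B (lam D k) :=
  IsIrr.isCharacter (isIrrCharacter_linear (lamHom D k))

theorem lam_conj (k : ZMod 8) (x : D.B) : conj (lam D k x) = lam D (-k) x := by
  have h : conj (lam D k x) = lam D k x⁻¹ := (IsChar.map_inv (isCharacter_lam k) x).symm
  rw [h]
  simp [lam]

theorem sum_std (c : ZMod 8) : ∑ j : ZMod 8, (ZMod.stdAddChar (c * j) : ℂ) = if c = 0 then 8 else 0 := by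
  have h := AddChar.sum_mulShift c (ZMod.isPrimitive_stdAddChar 8)
  simp only [ZMod.card] at h
  rw [Finset.sum_congr rfl fun j _ => by rw [mul_comm c j]]
  rw [h]
  norm_num

variable (h : Valid D)
include h

theorem t_pow_val (j : ZMod 8) : Multiplicative.toAdd (D.e (D.t ^ j.val)) = j := by
  rw [map_pow, h.et, toAdd_pow, toAdd_ofAdd, nsmul_one, ZMod.natCast_zmod_val]

/-- the unipotent radical in normal form -/
noncomputable def paramEquiv : (ZMod 3 × ZMod 3 × ZMod 3) × ZMod 8 ≃ D.B :=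
  Equiv.ofBijective (fun p => el D.a D.b D.z p.1.1 p.1.2.1 p.1.2.2 * D.t ^ p.2.val) ⟨by
    rintro ⟨⟨i, j, k⟩, m⟩ ⟨⟨i', j', k'⟩, m'⟩ he
    have h1 := congrArg (fun x => Multiplicative.toAdd (D.e x)) he
    simp only [map_mul, toAdd_mul, h.param_mem, toAdd_one, zero_add, t_pow_val h] at h1
    subst h1
    obtain ⟨rfl, rfl, rfl⟩ := h.param_inj _ _ _ _ _ _ (mul_right_cancel he)
    rfl, fun x => by
    obtain ⟨i, j, k, hx⟩ := h.param (x * (D.t ^ (Multiplicative.toAdd (D.e x)).val)⁻¹) (by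
      apply Multiplicative.toAdd.injective
      rw [map_mul, map_inv, toAdd_mul, toAdd_inv, t_pow_val h, add_neg_cancel, toAdd_one])
    exact ⟨((i, j, k), Multiplicative.toAdd (D.e x)), by
      show el D.a D.b D.z i j k * _ = x
      rw [← hx, inv_mul_cancel_right]⟩⟩

theorem paramEquiv_apply (p : (ZMod 3 × ZMod 3 × ZMod 3) × ZMod 8) :
    paramEquiv h p = el D.a D.b D.z p.1.1 p.1.2.1 p.1.2.2 * D.t ^ p.2.val := rfl

theorem lam_param (k : ZMod 8) (p : (ZMod 3 × ZMod 3 × ZMod 3) × ZMod 8) :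
    lam D k (paramEquiv h p) = ZMod.stdAddChar (k * p.2) := by
  rw [paramEquiv_apply h, lam, map_mul D.e, toAdd_mul, h.param_mem, toAdd_one, zero_add, t_pow_val h]

theorem sum_lam_mul (k l : ZMod 8) [Fintype D.B] :
    ∑ x : D.B, lam D k x * conj (lam D l x) = if k = l then 216 else 0 := by
  rw [Finset.sum_congr rfl fun x _ => by rw [lam_conj l x]]
  rw [← (paramEquiv h).sum_comp, Fintype.sum_prod_type]
  simp only [lam_param h, ← AddChar.map_add_eq_mul, ← add_mul, sum_std, Finset.sum_const,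
    Finset.card_univ, Fintype.card_prod, ZMod.card, nsmul_eq_mul, ← sub_eq_add_neg, sub_eq_zero]
  split_ifs <;> norm_num

/-- the Bruhat decomposition -/
theorem decomp (g : G) : g ∈ D.B ∨ ∃ u v : D.B, g = u * D.w * v := by
  classical
  haveI := Fintype.ofFinite D.B
  let T : Finset D.B := Finset.univ.image fun j : ZMod 8 => D.t ^ j.val
  have hT : T.card ≤ 8 := Finset.card_image_le.trans (by simp [ZMod.card])
  let f : D.B × D.B → G := fun p => p.1 * D.w * p.2
  let A : Finset G := Finset.univ.image f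
  have hfib : ∀ y ∈ A, (Finset.univ.filter fun p => f p = y).card ≤ 8 := by
    intro y hy
    obtain ⟨⟨u0, v0⟩, -, rfl⟩ := Finset.mem_image.mp hy
    refine le_trans (Finset.card_le_card_of_injOn (fun p => u0⁻¹ * p.1) ?_ ?_) hT
    · intro p hp
      simp only [Finset.coe_filter, Finset.mem_univ, true_and, Set.mem_ofPred_eq, f] at hp
      have hmem : D.w⁻¹ * ((u0⁻¹ * p.1 : D.B) : G) * D.w ∈ D.B := by
        have : D.w⁻¹ * ((u0⁻¹ * p.1 : D.B) : G) * D.w = v0 * (p.2 : G)⁻¹ := by
          push_cast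
          rw [eq_mul_inv_iff_mul_eq]
          have h2 : (u0 : G) * D.w * v0 = p.1 * D.w * p.2 := hp.symm
          calc D.w⁻¹ * ((u0 : G)⁻¹ * p.1) * D.w * p.2 = D.w⁻¹ * (u0 : G)⁻¹ * (p.1 * D.w * p.2) := by group
            _ = v0 := by rw [← h2]; group
        rw [this]
        exact D.B.mul_mem v0.2 (D.B.inv_mem p.2.2)
      obtain ⟨j, hj⟩ := h.inter _ hmem
      exact Finset.mem_coe.mpr (Finset.mem_image.mpr ⟨j, Finset.mem_univ _, hj.symm⟩)
    · intro p hp q hq hpq
      simp only [Finset.coe_filter, Finset.mem_univ, true_and, Set.mem_ofPred_eq, f] at hp hq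
      have h1 : p.1 = q.1 := mul_left_cancel hpq
      have h2 := hp.trans hq.symm
      rw [h1] at h2
      exact Prod.ext h1 (Subtype.ext (mul_left_cancel h2))
  have hA : 216 * 216 ≤ 8 * A.card := by
    have hB : Fintype.card D.B = 216 := by rw [← Nat.card_eq_fintype_card, h.cardB]
    have := Finset.card_le_mul_card_image (f := f) (Finset.univ : Finset (D.B × D.B)) 8 hfib
    rwa [Finset.card_univ, Fintype.card_prod, hB] at this
  let B' : Finset G := Finset.univ.filter fun x => x ∈ D.B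
  have hdisj : Disjoint B' A := by
    rw [Finset.disjoint_left]
    intro x hx hx'
    obtain ⟨⟨u, v⟩, -, rfl⟩ := Finset.mem_image.mp hx'
    refine h.w_notMem ?_
    have : D.w = (u : G)⁻¹ * f (u, v) * (v : G)⁻¹ := by simp only [f]; group
    rw [this]
    exact D.B.mul_mem (D.B.mul_mem (D.B.inv_mem u.2) (Finset.mem_filter.mp hx).2) (D.B.inv_mem v.2)
  have hB' : B'.card = 216 := by
    rw [← h.cardB, Nat.card_eq_fintype_card]
    exact (Fintype.card_of_subtype _ (fun x => by simp [B'])).symm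
  have huniv : B' ∪ A = Finset.univ := Finset.eq_univ_of_card _ (le_antisymm (Finset.card_le_univ _) (by
    rw [Finset.card_union_of_disjoint hdisj, hB', ← Nat.card_eq_fintype_card, h.cardG]
    omega))
  have hg : g ∈ B' ∪ A := huniv ▸ Finset.mem_univ g
  rcases Finset.mem_union.mp hg with hg | hg
  · exact Or.inl (Finset.mem_filter.mp hg).2
  · obtain ⟨⟨u, v⟩, -, he⟩ := Finset.mem_image.mp hg
    exact Or.inr ⟨u, v, he.symm⟩

/-- Mackey's formula -/
theorem inner_ind (k l : ZMod 8) : Cfsg.classInner (Cfsg.indFun D.B (lam D k)) (Cfsg.indFun D.B (lam D l)) =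
    (if k = l then 1 else 0) + (if k = 5 * l then 1 else 0) := by
  classical
  haveI := Fintype.ofFinite D.B
  let S : G → ℂ := fun x => ∑ y : D.B, lam D k y * conj (Cfsg.extendByZero D.B (lam D l) (x⁻¹ * y * x))
  have hinner : Cfsg.classInner (Cfsg.indFun D.B (lam D k)) (Cfsg.indFun D.B (lam D l)) =
      (216 : ℂ)⁻¹ * ((216 : ℂ)⁻¹ * ∑ x : G, S x) := by
    rw [frobenius_reciprocity D.B _ (isClassFunction_indFun D.B _), Cfsg.classInner, h.cardB]
    congr 1
    simp only [Cfsg.indFun, h.cardB, map_mul, map_inv₀, map_natCast, map_sum, S]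
    rw [Finset.sum_comm, Finset.mul_sum]
    refine Finset.sum_congr rfl fun y _ => ?_
    rw [Finset.mul_sum, Finset.mul_sum, Finset.mul_sum]
    exact Finset.sum_congr rfl fun x _ => by push_cast; ring
  have hl : ∀ (u : D.B) (g : G), Cfsg.extendByZero D.B (lam D l) ((u : G)⁻¹ * g * u) =
      Cfsg.extendByZero D.B (lam D l) g := fun u g => by
    by_cases hg : g ∈ D.B
    · rw [extendByZero_of_mem _ _ (D.B.mul_mem (D.B.mul_mem (D.B.inv_mem u.2) hg) u.2),
        extendByZero_of_mem _ _ hg]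
      show lam D l (u⁻¹ * ⟨g, hg⟩ * u) = _
      rw [lam_mul, lam_mul, mul_comm (lam D l u⁻¹), mul_assoc, ← lam_mul, inv_mul_cancel, lam_one, mul_one]
    · rw [extendByZero_of_notMem _ _ hg, extendByZero_of_notMem]
      intro hm
      refine hg ?_
      have : g = (u : G) * ((u : G)⁻¹ * g * u) * (u : G)⁻¹ := by group
      rw [this]
      exact D.B.mul_mem (D.B.mul_mem u.2 hm) (D.B.inv_mem u.2)
  have hleft : ∀ (u : D.B) (x : G), S (u * x) = S x := fun u x => by
    refine Fintype.sum_equiv (MulAut.conj u⁻¹).toEquiv _ _ fun y => ?_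
    simp only [MulEquiv.toEquiv_eq_coe, MulEquiv.coe_toEquiv, MulAut.conj_apply, inv_inv]
    congr 1
    · rw [lam_mul, lam_mul, mul_comm (lam D k u⁻¹), mul_assoc, ← lam_mul, inv_mul_cancel, lam_one, mul_one]
    · congr 2
      push_cast
      group
  have hright : ∀ (x : G) (v : D.B), S (x * v) = S x := fun x v => by
    refine Finset.sum_congr rfl fun y _ => ?_
    rw [show (x * (v : G))⁻¹ * y * (x * v) = (v : G)⁻¹ * (x⁻¹ * y * x) * v by group, hl]
  have hS1 : ∀ x ∈ D.B, S x = if k = l then 216 else 0 := fun x hx => by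
    rw [← mul_one x]
    rw [hleft ⟨x, hx⟩ 1, ← sum_lam_mul h k l]
    refine Finset.sum_congr rfl fun y _ => ?_
    rw [inv_one, one_mul, mul_one, extendByZero_coe]
  have hSw : ∀ x ∉ D.B, S x = if k = 5 * l then 8 else 0 := fun x hx => by
    obtain ⟨u, v, rfl⟩ := (decomp h x).resolve_left hx
    rw [hright, hleft]
    let τ : ZMod 8 ↪ D.B := ⟨fun j => D.t ^ j.val, fun i j hij => by
      simpa only [t_pow_val h] using congrArg (fun x => Multiplicative.toAdd (D.e x)) hij⟩
    have hconj : ∀ n : ℕ, D.w⁻¹ * ((D.t ^ n : D.B) : G) * D.w = ((D.t ^ (5 * n) : D.B) : G) := fun n => by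
      have hc := conj_pow (i := n) (a := D.w⁻¹) (b := (D.t : G))
      rw [inv_inv] at hc
      push_cast
      rw [← hc, h.wt, ← pow_mul]
    show ∑ y : D.B, _ = _
    rw [← Finset.sum_subset (Finset.subset_univ (Finset.univ.map τ)) fun y _ hy => by
      rw [extendByZero_of_notMem, map_zero, mul_zero]
      intro hm
      obtain ⟨j, hj⟩ := h.inter y hm
      exact hy (Finset.mem_map.mpr ⟨j, Finset.mem_univ _, hj.symm⟩)]
    rw [Finset.sum_map]
    have hterm : ∀ j : ZMod 8, lam D k (τ j) *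
        conj (Cfsg.extendByZero D.B (lam D l) (D.w⁻¹ * (τ j : G) * D.w)) =
        ZMod.stdAddChar ((k - 5 * l) * j) := fun j => by
      show lam D k (D.t ^ j.val) *
        conj (Cfsg.extendByZero D.B (lam D l) (D.w⁻¹ * ((D.t ^ j.val : D.B) : G) * D.w)) = _
      rw [hconj, extendByZero_coe, lam_conj, lam, lam, t_pow_val h, map_pow, h.et, toAdd_pow, toAdd_ofAdd,
        nsmul_one, Nat.cast_mul, ZMod.natCast_zmod_val, ← AddChar.map_add_eq_mul]
      congr 1
      push_cast
      ring
    rw [Finset.sum_congr rfl fun j _ => hterm j, sum_std]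
    simp only [sub_eq_zero]
  rw [hinner]
  let B' : Finset G := Finset.univ.filter fun x => x ∈ D.B
  have hB' : B'.card = 216 := by
    rw [← h.cardB, Nat.card_eq_fintype_card]
    exact (Fintype.card_of_subtype _ (fun x => by simp [B'])).symm
  have hC : B'ᶜ.card = 5832 := by
    rw [Finset.card_compl, hB', ← Nat.card_eq_fintype_card, h.cardG]
  rw [← Finset.sum_add_sum_compl B',
    Finset.sum_congr rfl fun x hx => hS1 x (Finset.mem_filter.mp hx).2,
    Finset.sum_congr rfl fun x hx => hSw x (by simpa [B'] using hx),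
    Finset.sum_const, Finset.sum_const, hB', hC, nsmul_eq_mul, nsmul_eq_mul]
  split_ifs <;> norm_num

end CfsgLib.Recog.BorelChar
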