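import Mathlib
import Cfsg.Agent.Lib.Recog.BorelCharacters

/-!
# Three character degrees of a perfect group of order 6048 with a Borel subgroup
-/

set_option autoImplicit false

namespace CfsgLib.Recog.BorelChar

open CfsgLib.Char
open scoped ComplexConjugate

/-- powers with exponents in `ZMod 3` -/
theorem pow_val_add {M : Type*} [Monoid M] {x : M} (hx : x ^ 3 = 1) (i j : ZMod 3) :
    x ^ (i + j).val = x ^ i.val * x ^ j.val := by
  rw [← pow_add, ZMod.val_add]
  conv_rhs => rw [← Nat.mod_add_div (i.val + j.val) 3, pow_add, pow_mul, hx, one_pow, mul_one]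

theorem linear_sum_nat {A G : Type*} [Group G] [AddCommGroup A] [Fintype A] {χ : G → ℂ}
    (hχ : Cfsg.IsCharacter G χ) (f : Multiplicative A →* G) (ψ : AddChar A ℂ) :
    ∃ n : ℕ, ∑ x : A, χ (f (Multiplicative.ofAdd x)) * ψ x = (Fintype.card A : ℂ) * n := by
  let L : Multiplicative A →* ℂˣ := MonoidHom.toHomUnits (AddChar.toMonoidHom ψ)
  have hL : Cfsg.IsCharacter (Multiplicative A) (fun x => (L x : ℂ)) :=
    IsIrr.isCharacter (isIrrCharacter_linear L)
  obtain ⟨n, hn⟩ := IsChar.classInner_eq_natCast (IsChar.comp f hχ) (IsChar.conj hL)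
  refine ⟨n, ?_⟩
  rw [Cfsg.classInner, Nat.card_congr Multiplicative.toAdd, Nat.card_eq_fintype_card,
    inv_mul_eq_iff_eq_mul₀ (Nat.cast_ne_zero.mpr Fintype.card_ne_zero)] at hn
  refine Eq.trans ?_ hn
  refine Fintype.sum_equiv Multiplicative.ofAdd _ _ fun x => ?_
  simp [L, AddChar.toMonoidHom]
  exact Or.inl rfl

theorem eq_two_of_sum {ι : Type*} [Fintype ι] [DecidableEq ι] (m : ι → ℕ) (N : ℕ) (hN : N ≤ 2)
    (h : ∑ i, m i * m i = N) : (∀ i, m i = 0 ∨ m i = 1) ∧ (Finset.univ.filter fun i => m i = 1).card = N := by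
  have h1 : ∀ i, m i = 0 ∨ m i = 1 := fun i => by
    have := Finset.single_le_sum (f := fun i => m i * m i) (fun _ _ => Nat.zero_le _) (Finset.mem_univ i)
    rw [h] at this
    have hmi : m i * m i ≤ 2 := this.trans hN
    rcases Nat.lt_or_ge (m i) 2 with h2 | h2
    · omega
    · exact absurd ((Nat.mul_le_mul h2 h2).trans hmi) (by norm_num)
  refine ⟨h1, ?_⟩
  rw [← h, Finset.card_filter]
  exact Finset.sum_congr rfl fun i _ => by rcases h1 i with e | e <;> simp [e]

variable {G : Type*} [Group G] [Fintype G] {D : Datum G}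

section Single

variable (h : Valid D) (χ : Cfsg.IrrCharacter G)
include h

/-- the function of a normal form -/
noncomputable def val3 (i j k : ZMod 3) : ℂ := (χ : G → ℂ) (el D.a D.b D.z i j k : D.B)

omit h in
theorem conj_inv (g : D.B) (x : D.B) : (χ : G → ℂ) (g * x * g⁻¹ : D.B) = (χ : G → ℂ) x := by
  push_cast
  exact IsIrr.isClassFunction χ.2 _ _

theorem invariants [Fintype D.B] :
    ∃ n t K l : ℕ, Cfsg.charDegree (χ : G → ℂ) = n + 6 * l ∧ 3 * t + 8 * K = 3 * n ∧
      (∑ k : ZMod 3, (χ : G → ℂ) (D.z ^ k.val : D.B) = 3 * (n : ℂ)) ∧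
      (∑ p : ZMod 3 × ZMod 3 × ZMod 3, val3 (D := D) χ p.1 p.2.1 p.2.2 = 27 * (t : ℂ)) ∧
      (∑ x : ZMod 8, Cfsg.classInner (lam D x) (fun b : D.B => (χ : G → ℂ) b) = (t : ℂ)) := by
  classical
  have hχ := IsIrr.isCharacter χ.2
  have hz3 : (D.z : G) ^ 3 = 1 := by rw [← Subgroup.coe_pow, h.z3]; rfl
  have ha3 : (D.a : G) ^ 3 = 1 := by rw [← Subgroup.coe_pow, h.a3]; rfl
  let fz : Multiplicative (ZMod 3) →* G :=
    { toFun := fun c => (D.z : G) ^ (Multiplicative.toAdd c).val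
      map_one' := by simp
      map_mul' := fun c c' => pow_val_add hz3 _ _ }
  let fa : Multiplicative (ZMod 3 × ZMod 3) →* G :=
    { toFun := fun p => (D.a : G) ^ (Multiplicative.toAdd p).1.val * (D.z : G) ^ (Multiplicative.toAdd p).2.val
      map_one' := by simp
      map_mul' := fun p q => by
        simp only [toAdd_mul, Prod.fst_add, Prod.snd_add, pow_val_add hz3, pow_val_add ha3]
        have hc : Commute ((D.a : G) ^ (Multiplicative.toAdd q).1.val) ((D.z : G) ^ (Multiplicative.toAdd p).2.val) :=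
          (congrArg Subtype.val h.az.eq : (D.a : G) * D.z = D.z * D.a) |> fun e => (Commute.pow_pow e _ _)
        simp only [mul_assoc]
        congr 1
        rw [← mul_assoc, hc.eq, mul_assoc] }
  set ω := (ZMod.stdAddChar (N := 3)) with hω
  have hωs : ω 1 + ω 2 = -1 := by
    have := AddChar.sum_mulShift (1 : ZMod 3) (ZMod.isPrimitive_stdAddChar 3)
    rw [if_neg (by decide)] at this
    simp only [mul_one] at this
    rw [show (Finset.univ : Finset (ZMod 3)) = {0, 1, 2} by decide] at this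
    simp only [Finset.sum_insert, Finset.sum_singleton, Finset.mem_insert, Finset.mem_singleton,
      show ¬((0 : ZMod 3) = 1 ∨ (0 : ZMod 3) = 2) by decide, show ¬((1 : ZMod 3) = 2) by decide,
      not_false_eq_true, AddChar.map_zero_eq_one] at this
    rw [← hω] at this
    push_cast at this
    linear_combination this
  obtain ⟨n, hn⟩ := linear_sum_nat hχ fz 1
  obtain ⟨l, hl⟩ := linear_sum_nat hχ fa (ω.compAddMonoidHom (AddMonoidHom.snd _ _))
  obtain ⟨K, hK⟩ := linear_sum_nat hχ fa (ω.compAddMonoidHom (AddMonoidHom.fst _ _))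
  have hu3 : (Finset.univ : Finset (ZMod 3)) = {0, 1, 2} := by decide
  have h3 : ∀ f : ZMod 3 → ℂ, ∑ i, f i = f 0 + f 1 + f 2 := fun f => by
    rw [hu3, Finset.sum_insert (by decide), Finset.sum_insert (by decide), Finset.sum_singleton, add_assoc]
  have v1 : (1 : ZMod 3).val = 1 := rfl
  have v2 : (2 : ZMod 3).val = 2 := rfl
  -- the value on the centre
  set d := Cfsg.charDegree (χ : G → ℂ)
  have hd : (χ : G → ℂ) 1 = d := (CfsgLib.CharDegree.cast_irrDegree χ).symm
  have hz12 : (χ : G → ℂ) ((D.z : G) ^ 2) = (χ : G → ℂ) D.z := by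
    obtain ⟨g, hg⟩ := h.invz
    have hinv : D.z⁻¹ = D.z ^ 2 := inv_eq_of_mul_eq_one_right (by rw [← pow_succ', h.z3])
    have := conj_inv χ g D.z
    rw [hg, hinv, Subgroup.coe_pow] at this
    exact this
  have hn' : (d : ℂ) + 2 * (χ : G → ℂ) D.z = 3 * n := by
    simp only [h3, ZMod.card, AddChar.one_apply, mul_one, fz, MonoidHom.coe_mk, OneHom.coe_mk, toAdd_ofAdd,
      v1, v2, ZMod.val_zero, pow_zero, pow_one] at hn
    rw [hz12, hd] at hn
    linear_combination hn
  -- the coset sums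
  set E : ℂ := ∑ k : ZMod 3, (χ : G → ℂ) (D.a * D.z ^ k.val : D.B) with hE
  have htr : ∀ i j : ZMod 3, (i ≠ 0 ∨ j ≠ 0) → ∑ k : ZMod 3, val3 (D := D) χ i j k = E := by
    intro i j hij
    obtain ⟨g, c, s, hs, hg⟩ := h.trans i j hij
    have hb : Function.Bijective fun k : ZMod 3 => c + s * k := by
      have : ∀ c s : ZMod 3, s ≠ 0 → Function.Bijective fun k : ZMod 3 => c + s * k := by decide
      exact this c s hs
    rw [hE, ← (Equiv.ofBijective _ hb).sum_comp]
    refine Finset.sum_congr rfl fun k _ => ?_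
    show (χ : G → ℂ) (el D.a D.b D.z i j (c + s * k) : D.B) = _
    rw [← hg k, conj_inv]
  have he20 : ∀ i k : ZMod 3, val3 (D := D) χ i 0 k = (χ : G → ℂ) ((D.a : G) ^ i.val * (D.z : G) ^ k.val) :=
    fun i k => by simp [val3, el]
  have hAi : ∀ i : ZMod 3, i ≠ 0 → ∑ k : ZMod 3, (χ : G → ℂ) ((D.a : G) ^ i.val * (D.z : G) ^ k.val) = E := by
    intro i hi
    rw [← htr i 0 (Or.inl hi)]
    exact Finset.sum_congr rfl fun k _ => (he20 i k).symm
  -- the kernel of the Heisenberg relation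
  have hindep : ∀ i k : ZMod 3, i ≠ 0 →
      (χ : G → ℂ) ((D.a : G) ^ i.val * (D.z : G) ^ k.val) = (χ : G → ℂ) ((D.a : G) ^ i.val) := by
    obtain ⟨g, hga, hgz⟩ := h.heis
    have step : ∀ i k : ZMod 3, (χ : G → ℂ) ((D.a : G) ^ i.val * (D.z : G) ^ (i + k).val) =
        (χ : G → ℂ) ((D.a : G) ^ i.val * (D.z : G) ^ k.val) := by
      intro i k
      have e : g * (D.a ^ i.val * D.z ^ k.val) * g⁻¹ = D.a ^ i.val * D.z ^ (i + k).val := by
        rw [conj_mul.symm, ← conj_pow, ← conj_pow, hga, hgz, h.az.mul_pow, mul_assoc, ← pow_add,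
          pow_val_add h.z3, ← pow_add]
      have := conj_inv χ g (D.a ^ i.val * D.z ^ k.val)
      rw [e] at this
      simpa using this
    intro i k hi
    have h0 := step i 0
    have h1 := step i i
    rw [add_zero] at h0
    have hcases : ∀ i k : ZMod 3, i ≠ 0 → k = 0 ∨ k = i ∨ k = i + i := by decide
    rcases hcases i k hi with rfl | rfl | rfl
    · simp
    · rw [h0]; simp
    · rw [h1, h0]; simp
  have hl' : (d : ℂ) - (χ : G → ℂ) D.z = 9 * l := by
    simp only [Fintype.sum_prod_type, Fintype.card_prod, ZMod.card, fa, MonoidHom.coe_mk, OneHom.coe_mk,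
      toAdd_ofAdd, AddChar.compAddMonoidHom_apply, AddMonoidHom.coe_snd, h3] at hl
    simp only [hindep 1 _ (by decide), hindep 2 _ (by decide)] at hl
    simp only [v1, v2, ZMod.val_zero, pow_zero, pow_one, one_mul, mul_one, AddChar.map_zero_eq_one, hz12, hd] at hl
    push_cast at hl
    linear_combination hl - ((χ : G → ℂ) D.z + (χ : G → ℂ) D.a + (χ : G → ℂ) ((D.a : G) ^ 2)) * hωs
  have hK' : (3 * n : ℂ) - E = 9 * K := by
    simp only [Fintype.sum_prod_type, Fintype.card_prod, ZMod.card, fa, MonoidHom.coe_mk, OneHom.coe_mk,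
      toAdd_ofAdd, AddChar.compAddMonoidHom_apply, AddMonoidHom.coe_fst, ← Finset.sum_mul] at hK
    rw [h3 (fun i : ZMod 3 => (∑ k : ZMod 3, (χ : G → ℂ) ((D.a : G) ^ i.val * (D.z : G) ^ k.val)) * ω i),
      hAi 1 (by decide), hAi 2 (by decide), h3 (fun k : ZMod 3 =>
        (χ : G → ℂ) ((D.a : G) ^ (0 : ZMod 3).val * (D.z : G) ^ k.val))] at hK
    simp only [v1, v2, ZMod.val_zero, pow_zero, pow_one, one_mul, mul_one, AddChar.map_zero_eq_one, hz12, hd] at hK
    push_cast at hK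
    linear_combination hK - hn' - E * hωs
  -- the fixed points of the unipotent radical
  have hzsum : ∑ k : ZMod 3, (χ : G → ℂ) (D.z ^ k.val : D.B) = 3 * (n : ℂ) := by
    rw [h3]
    simp only [v1, v2, ZMod.val_zero, pow_zero, pow_one, Subgroup.coe_one, Subgroup.coe_pow, hz12, hd]
    linear_combination hn'
  have hUsum : ∑ p : ZMod 3 × ZMod 3 × ZMod 3, val3 (D := D) χ p.1 p.2.1 p.2.2 = 3 * (n : ℂ) + 8 * E := by
    simp only [Fintype.sum_prod_type, h3 (fun i => ∑ j, ∑ k, val3 (D := D) χ i j k),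
      h3 (fun j => ∑ k, val3 (D := D) χ 0 j k), h3 (fun j => ∑ k, val3 (D := D) χ 1 j k),
      h3 (fun j => ∑ k, val3 (D := D) χ 2 j k)]
    rw [htr 0 1 (Or.inr (by decide)), htr 0 2 (Or.inr (by decide)), htr 1 0 (Or.inl (by decide)),
      htr 1 1 (Or.inl (by decide)), htr 1 2 (Or.inl (by decide)), htr 2 0 (Or.inl (by decide)),
      htr 2 1 (Or.inl (by decide)), htr 2 2 (Or.inl (by decide))]
    have h00 : ∑ k : ZMod 3, val3 (D := D) χ 0 0 k = 3 * (n : ℂ) := by
      rw [← hzsum]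
      exact Finset.sum_congr rfl fun k _ => by simp [val3, el]
    rw [h00]
    ring
  choose mm hmm using fun x : ZMod 8 =>
    IsChar.classInner_eq_natCast (isCharacter_lam (D := D) x) (IsChar.restrict D.B hχ)
  have ht : ∑ x : ZMod 8, Cfsg.classInner (lam D x) (fun b : D.B => (χ : G → ℂ) b) =
      (27 : ℂ)⁻¹ * conj (∑ p : ZMod 3 × ZMod 3 × ZMod 3, val3 (D := D) χ p.1 p.2.1 p.2.2) := by
    simp only [Cfsg.classInner, h.cardB, ← Finset.mul_sum]
    rw [Finset.sum_comm]
    simp only [← Finset.sum_mul]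
    rw [← (paramEquiv h).sum_comp, Fintype.sum_prod_type]
    simp only [lam_param h, mul_comm _ ((_ : ZMod 8)), sum_std, map_sum]
    simp only [ite_mul, zero_mul, Finset.sum_ite_eq', Finset.mem_univ, if_true]
    rw [Finset.mul_sum, Finset.mul_sum]
    refine Finset.sum_congr rfl fun p _ => ?_
    rw [paramEquiv_apply h, ZMod.val_zero, pow_zero, mul_one, val3]
    push_cast
    ring
  have hT : (27 : ℂ) * ((∑ x, mm x : ℕ) : ℂ) = 3 * (n : ℂ) + 8 * E := by
    have h2 : ((∑ x, mm x : ℕ) : ℂ) = (27 : ℂ)⁻¹ * conj (3 * (n : ℂ) + 8 * E) := by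
      rw [← hUsum, ← ht]; push_cast; exact Finset.sum_congr rfl fun x _ => (hmm x).symm
    have h4 := congrArg conj h2
    simp only [map_natCast, map_mul, map_inv₀, Complex.conj_conj, map_ofNat] at h4
    rw [h4]
    ring
  refine ⟨n, ∑ x, mm x, K, l, ?_, ?_, hzsum, ?_, ?_⟩
  · have : ((3 * d : ℕ) : ℂ) = ((3 * (n + 6 * l) : ℕ) : ℂ) := by
      push_cast
      linear_combination hn' + 2 * hl'
    have := Nat.cast_injective this
    omega
  · have : ((3 * (3 * (∑ x, mm x) + 8 * K) : ℕ) : ℂ) = ((3 * (3 * n) : ℕ) : ℂ) := by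
      push_cast at hT ⊢
      linear_combination (1 / 3 : ℂ) * hT + (-8 / 3 : ℂ) * hK'
    have := Nat.cast_injective this
    omega
  · rw [hUsum, hT]
  · push_cast
    exact Finset.sum_congr rfl fun x _ => hmm x

end Single

/-- the possible degrees and multiplicities without fixed points, none divisible by six -/
theorem cusp_cases : ∀ d : Fin 48, ∀ a : Fin 6, (d : ℕ) ∣ 6048 → 2 ∣ (d : ℕ) → ¬ 6 ∣ (d : ℕ) → 0 < (d : ℕ) →
    (d : ℕ) * a ≤ 78 → 8 * (a : ℕ) ≤ d → ((d : ℕ) - 8 * a) % 6 = 0 →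
    (d : ℕ) = 8 ∧ (a : ℕ) = 1 ∨ (d : ℕ) = 14 ∧ (a : ℕ) = 1 ∨ (d : ℕ) = 16 ∧ (a : ℕ) = 2 ∨
      (d : ℕ) = 28 ∧ (a : ℕ) = 2 ∨ (d : ℕ) = 32 ∧ (a : ℕ) = 1 := by
  decide +kernel

theorem pair_cases : ∀ d : Fin 28, 2 ≤ (d : ℕ) → (d : ℕ) ∣ 6048 → 28 - (d : ℕ) ∣ 6048 → Odd (d : ℕ) →
    2 ≤ 28 - (d : ℕ) → (d : ℕ) = 7 ∨ (d : ℕ) = 21 := by
  decide +kernel

theorem counts_of_list {ι : Type*} (s : Finset ι) (d a : ι → ℕ) (h : ∀ i ∈ s,
    d i = 8 ∧ a i = 1 ∨ d i = 14 ∧ a i = 1 ∨ d i = 16 ∧ a i = 2 ∨ d i = 28 ∧ a i = 2 ∨ d i = 32 ∧ a i = 1) :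
    ∃ p q r u v : ℕ, ∑ i ∈ s, d i ^ 2 = 64 * p + 196 * q + 256 * r + 784 * u + 1024 * v ∧
      ∑ i ∈ s, d i * a i = 8 * p + 14 * q + 32 * r + 56 * u + 32 * v := by
  classical
  induction s using Finset.induction with
  | empty => exact ⟨0, 0, 0, 0, 0, by simp, by simp⟩
  | insert i s hi ih =>
    obtain ⟨p, q, r, u, v, h1, h2⟩ := ih fun j hj => h j (Finset.mem_insert_of_mem hj)
    rw [Finset.sum_insert hi, Finset.sum_insert hi, h1, h2]
    rcases h i (Finset.mem_insert_self i s) with ⟨e, e'⟩ | ⟨e, e'⟩ | ⟨e, e'⟩ | ⟨e, e'⟩ | ⟨e, e'⟩ <;> rw [e, e']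
    · exact ⟨p + 1, q, r, u, v, by ring, by ring⟩
    · exact ⟨p, q + 1, r, u, v, by ring, by ring⟩
    · exact ⟨p, q, r + 1, u, v, by ring, by ring⟩
    · exact ⟨p, q, r, u + 1, v, by ring, by ring⟩
    · exact ⟨p, q, r, u, v + 1, by ring, by ring⟩

theorem no_cusp_solution (p q r u v : ℕ) (h1 : 64 * p + 196 * q + 256 * r + 784 * u + 1024 * v = 2280)
    (h2 : 8 * p + 14 * q + 32 * r + 56 * u + 32 * v = 78) : False := by omega

/-- degrees divisible by twenty-eight, twenty-one and six -/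
theorem exists_degrees (h : Valid D) (hperf : commutator G = ⊤) :
    28 ∈ Cfsg.charDegrees G ∧ 21 ∈ Cfsg.charDegrees G ∧ ∃ d ∈ Cfsg.charDegrees G, 6 ∣ d := by
  classical
  haveI := Fintype.ofFinite D.B
  haveI := Fintype.ofFinite (Cfsg.IrrCharacter G)
  choose n t K l hd hK hnsum htsum hmsum using fun χ : Cfsg.IrrCharacter G => invariants h χ
  let d : Cfsg.IrrCharacter G → ℕ := fun χ => Cfsg.charDegree (χ : G → ℂ)
  choose m hm using fun (χ : Cfsg.IrrCharacter G) (x : ZMod 8) =>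
    IsChar.classInner_eq_natCast (isCharacter_lam (D := D) x) (IsChar.restrict D.B (IsIrr.isCharacter χ.2))
  have ht : ∀ χ, t χ = ∑ x, m χ x := fun χ => by
    have := hmsum χ
    simp only [hm] at this
    exact_mod_cast this.symm
  have hind : ∀ x (χ : Cfsg.IrrCharacter G),
      Cfsg.classInner (Cfsg.indFun D.B (lam D x)) (χ : G → ℂ) = m χ x := fun x χ => by
    rw [frobenius_reciprocity D.B _ (IsIrr.isClassFunction χ.2)]
    exact hm χ x
  have hexp : ∀ x, Cfsg.indFun D.B (lam D x) = ∑ χ : Cfsg.IrrCharacter G, (m χ x : ℂ) • (χ : G → ℂ) := fun x => by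
    conv_lhs => rw [classFunction_eq_sum (isClassFunction_indFun D.B _)]
    exact Finset.sum_congr rfl fun χ _ => by rw [hind]
  have hmm : ∀ x y, ∑ χ, m χ x * m χ y = (if x = y then 1 else 0) + (if x = 5 * y then 1 else 0) := by
    intro x y
    have h1 := inner_ind h x y
    rw [hexp y, classInner_sum_right] at h1
    simp only [classInner_smul_right, hind, map_natCast] at h1
    have : ((∑ χ, m χ x * m χ y : ℕ) : ℂ) =
        (((if x = y then 1 else 0) + (if x = 5 * y then 1 else 0) : ℕ) : ℂ) := by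
      push_cast
      rw [← h1]
      exact Finset.sum_congr rfl fun χ _ => mul_comm _ _
    exact_mod_cast this
  let S : ZMod 8 → Finset (Cfsg.IrrCharacter G) := fun x => Finset.univ.filter fun χ => m χ x = 1
  have hN : ∀ x, (∀ χ, m χ x = 0 ∨ m χ x = 1) ∧
      (S x).card = (if x = x then 1 else 0) + (if x = 5 * x then 1 else 0) := fun x =>
    eq_two_of_sum (fun χ => m χ x) _ (by split_ifs <;> norm_num) (hmm x x)
  have hexcl : ∀ x y, y ≠ x → x ≠ 5 * y → ∀ χ, m χ x = 1 → m χ y = 0 := by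
    intro x y h1 h2 χ hx
    have := hmm x y
    rw [if_neg h1.symm, if_neg h2, add_zero] at this
    have h3 := Finset.sum_eq_zero_iff.mp this χ (Finset.mem_univ _)
    rw [hx, one_mul] at h3
    exact h3
  have hpair : ∀ x χ, m χ x = 1 → m χ (5 * x) = 1 := by
    intro x χ hx
    by_cases hfix : x = 5 * x
    · rw [← hfix]; exact hx
    have h55 : ∀ y : ZMod 8, 5 * (5 * y) = y := by decide
    have hsum := hmm x (5 * x)
    rw [if_neg hfix, if_pos (h55 x).symm, zero_add] at hsum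
    have hc1 : (S x).card = 1 := by rw [(hN x).2, if_pos rfl, if_neg hfix]
    obtain ⟨χ', -, hne⟩ := Finset.exists_ne_zero_of_sum_ne_zero (by rw [hsum]; norm_num :
      ∑ χ, m χ x * m χ (5 * x) ≠ 0)
    have hx' : m χ' x = 1 := ((hN x).1 χ').resolve_left (left_ne_zero_of_mul hne)
    have hy' : m χ' (5 * x) = 1 := ((hN (5 * x)).1 χ').resolve_left (right_ne_zero_of_mul hne)
    obtain ⟨ξ, hξ⟩ := Finset.card_eq_one.mp hc1
    have e1 : χ ∈ S x := Finset.mem_filter.mpr ⟨Finset.mem_univ _, hx⟩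
    have e2 : χ' ∈ S x := Finset.mem_filter.mpr ⟨Finset.mem_univ _, hx'⟩
    rw [hξ, Finset.mem_singleton] at e1 e2
    rw [e1, ← e2]; exact hy'
  have htS : ∀ x χ, m χ x = 1 → t χ = ({x, 5 * x} : Finset (ZMod 8)).card := by
    intro x χ hx
    rw [ht, Finset.card_eq_sum_ones, ← Finset.sum_subset (Finset.subset_univ ({x, 5 * x} : Finset (ZMod 8)))]
    · refine Finset.sum_congr rfl fun y hy => ?_
      rcases Finset.mem_insert.mp hy with rfl | hy
      · exact hx
      · rw [Finset.mem_singleton.mp hy]; exact hpair x χ hx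
    · intro y _ hy
      simp only [Finset.mem_insert, Finset.mem_singleton, not_or] at hy
      refine hexcl x y hy.1 (fun e => hy.2 ?_) χ hx
      have h55 : ∀ z : ZMod 8, 5 * (5 * z) = z := by decide
      rw [e, h55]
  have hindex : D.B.index = 28 := by
    have := D.B.card_mul_index
    rw [h.cardB, h.cardG] at this
    omega
  have hdeg : ∀ x, ∑ χ ∈ S x, d χ = 28 := fun x => by
    have h1 := congrFun (hexp x) 1
    rw [indFun_apply_one, hindex, lam_one, mul_one, Finset.sum_apply] at h1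
    have h2 : ((28 : ℕ) : ℂ) = ((∑ χ, m χ x * d χ : ℕ) : ℂ) := by
      rw [h1]
      push_cast
      exact Finset.sum_congr rfl fun χ _ => by
        rw [Pi.smul_apply, smul_eq_mul, ← CfsgLib.CharDegree.cast_irrDegree χ]
    have h3 : (28 : ℕ) = ∑ χ, m χ x * d χ := Nat.cast_injective h2
    rw [h3, Finset.sum_filter]
    exact Finset.sum_congr rfl fun χ _ => by rcases (hN x).1 χ with e | e <;> simp [e]
  have hdpos : ∀ χ, 0 < d χ := fun χ => CfsgLib.CharDegree.charDegree_pos χ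
  have hddvd : ∀ χ, d χ ∣ 6048 := fun χ => h.cardG ▸ CfsgLib.CharDegree.charDegree_dvd_card χ
  have htriv : ∀ χ, d χ = 1 → χ = trivChar G := by
    have hone : d (trivChar G) = 1 := CfsgLib.CharDegree.charDegree_one
    have hcard : Nat.card {χ : Cfsg.IrrCharacter G // d χ = 1} = 1 := by
      show Nat.card {χ : Cfsg.IrrCharacter G // Cfsg.charDegree (χ : G → ℂ) = 1} = 1
      rw [CfsgLib.CharDegree.card_linear, hperf, Subgroup.index_top]
    intro χ hχ
    exact congrArg Subtype.val ((Nat.card_eq_one_iff_unique.mp hcard).1.elim ⟨χ, hχ⟩ ⟨_, hone⟩)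
  have hm0 : ∀ x, m (trivChar G) x = if x = 0 then 1 else 0 := fun x => by
    have h1 := hm (trivChar G) x
    rw [Cfsg.classInner, h.cardB] at h1
    have h2 : ∑ b : D.B, lam D x b * conj ((trivChar G : G → ℂ) b) =
        ∑ b : D.B, lam D x b * conj (lam D 0 b) := Finset.sum_congr rfl fun b _ => by simp [lam]
    rw [h2, sum_lam_mul h x 0] at h1
    split_ifs at h1 ⊢ with hx
    · have : ((1 : ℕ) : ℂ) = (m (trivChar G) x : ℂ) := by rw [← h1]; norm_num
      exact (Nat.cast_injective this).symm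
    · have : ((0 : ℕ) : ℂ) = (m (trivChar G) x : ℂ) := by rw [← h1]; norm_num
      exact (Nat.cast_injective this).symm
  let a : Cfsg.IrrCharacter G → ℕ := fun χ => (n χ - t χ) / 8
  have ha : ∀ χ, n χ = t χ + 8 * a χ := fun χ => by
    have := hK χ
    simp only [a]
    omega
  have hda : ∀ χ, d χ = t χ + 8 * a χ + 6 * l χ := fun χ => by
    show Cfsg.charDegree (χ : G → ℂ) = _
    rw [hd, ha]
  have hcard2 : ∀ x : ZMod 8, x = 5 * x → ({x, 5 * x} : Finset (ZMod 8)).card = 1 := fun x hx => by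
    rw [← hx]; simp
  have hcard1 : ∀ x : ZMod 8, x ≠ 5 * x → ({x, 5 * x} : Finset (ZMod 8)).card = 2 := fun x hx => by
    rw [Finset.card_pair hx]
  let f : Cfsg.IrrCharacter G → ℕ := fun χ => d χ ^ 2
  let g : Cfsg.IrrCharacter G → ℕ := fun χ => d χ * a χ
  have hodd : ∀ x : ZMod 8, x ≠ 5 * x → ∃ χ, S x = {χ} ∧ d χ = 28 ∧ a χ = 1 := fun x hx => by
    have hc : (S x).card = 1 := by rw [(hN x).2, if_pos rfl, if_neg hx]
    obtain ⟨χ, hχ⟩ := Finset.card_eq_one.mp hc
    have h28 := hdeg x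
    rw [hχ, Finset.sum_singleton] at h28
    have hmx : m χ x = 1 := (Finset.mem_filter.mp (show χ ∈ S x by rw [hχ]; exact Finset.mem_singleton_self χ)).2
    have := hda χ
    rw [htS x χ hmx, hcard1 x hx, h28] at this
    exact ⟨χ, hχ, h28, by omega⟩
  have hfix : ∀ x : ZMod 8, x = 5 * x → ∃ χ ψ, χ ≠ ψ ∧ S x = {χ, ψ} ∧ d χ + d ψ = 28 ∧
      d χ = 1 + 8 * a χ + 6 * l χ ∧ d ψ = 1 + 8 * a ψ + 6 * l ψ ∧ m χ x = 1 ∧ m ψ x = 1 := fun x hx => by
    have hc : (S x).card = 2 := by rw [(hN x).2, if_pos rfl, if_pos hx]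
    obtain ⟨χ, ψ, hne, hS⟩ := Finset.card_eq_two.mp hc
    have h28 := hdeg x
    rw [hS, Finset.sum_pair hne] at h28
    have h1 : m χ x = 1 := (Finset.mem_filter.mp (show χ ∈ S x by rw [hS]; exact Finset.mem_insert_self χ _)).2
    have h2 : m ψ x = 1 :=
      (Finset.mem_filter.mp (show ψ ∈ S x by rw [hS]; exact Finset.mem_insert_of_mem (Finset.mem_singleton_self ψ))).2
    have e1 := hda χ; have e2 := hda ψ
    rw [htS x χ h1, hcard2 x hx] at e1
    rw [htS x ψ h2, hcard2 x hx] at e2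
    exact ⟨χ, ψ, hne, hS, h28, e1, e2, h1, h2⟩
  have hseven : ∀ x : ZMod 8, x = 5 * x → x ≠ 0 →
      ∑ χ ∈ S x, f χ = 490 ∧ ∑ χ ∈ S x, g χ = 21 ∧ ∃ χ, d χ = 21 := by
    intro x hx hx0
    obtain ⟨χ, ψ, hne, hS, h28, e1, e2, h1, h2⟩ := hfix x hx
    have hge : ∀ φ, m φ x = 1 → 2 ≤ d φ := fun φ hφ => by
      have := hdpos φ
      by_contra hlt
      have h1' : d φ = 1 := by omega
      rw [htriv φ h1', hm0, if_neg hx0] at hφ
      omega
    have g1 := hge χ h1
    have g2 := hge ψ h2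
    have hlt : d χ < 28 := by omega
    have he : 28 - d χ = d ψ := by omega
    have hcase := pair_cases ⟨d χ, hlt⟩ g1 (hddvd χ) (by rw [he]; exact hddvd ψ)
      ⟨4 * a χ + 3 * l χ, by show d χ = _; omega⟩ (by show 2 ≤ 28 - d χ; omega)
    simp only [f, g, hS, Finset.sum_pair hne]
    rcases hcase with hc | hc <;> simp only at hc
    · have hψ : d ψ = 21 := by omega
      have a1 : a χ = 0 := by omega
      have a2 : a ψ = 1 := by omega
      exact ⟨by rw [hc, hψ]; rfl, by rw [hc, hψ, a1, a2], ψ, hψ⟩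
    · have hψ : d ψ = 7 := by omega
      have a1 : a χ = 1 := by omega
      have a2 : a ψ = 0 := by omega
      exact ⟨by rw [hc, hψ]; rfl, by rw [hc, hψ, a1, a2], χ, hc⟩
  have hzero : ∑ χ ∈ S 0, f χ = 730 ∧ ∑ χ ∈ S 0, g χ = 27 := by
    obtain ⟨χ, ψ, hne, hS, h28, e1, e2, h1, h2⟩ := hfix 0 (by simp)
    have hone : d (trivChar G) = 1 := CfsgLib.CharDegree.charDegree_one
    have hmem : trivChar G ∈ S 0 := Finset.mem_filter.mpr ⟨Finset.mem_univ _, by rw [hm0, if_pos rfl]⟩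
    rw [hS, Finset.mem_insert, Finset.mem_singleton] at hmem
    simp only [f, g, hS, Finset.sum_pair hne]
    rcases hmem with e | e
    · have hχ : d χ = 1 := e ▸ hone
      have hψ : d ψ = 27 := by omega
      have a1 : a χ = 0 := by omega
      have a2 : a ψ = 1 := by omega
      exact ⟨by rw [hχ, hψ]; rfl, by rw [hχ, hψ, a1, a2]⟩
    · have hψ : d ψ = 1 := e ▸ hone
      have hχ : d χ = 27 := by omega
      have a1 : a χ = 1 := by omega
      have a2 : a ψ = 0 := by omega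
      exact ⟨by rw [hχ, hψ]; rfl, by rw [hχ, hψ, a1, a2]⟩
  refine ⟨?_, ?_, ?_⟩
  · obtain ⟨χ, -, h28, -⟩ := hodd 1 (by decide)
    exact ⟨χ, h28⟩
  · obtain ⟨-, -, χ, hχ⟩ := hseven 2 (by decide) (by decide)
    exact ⟨χ, hχ⟩
  by_contra hno
  push Not at hno
  have hno' : ∀ χ, ¬ 6 ∣ d χ := fun χ => hno (d χ) ⟨χ, rfl⟩
  let K0 : Finset (ZMod 8) := {0, 1, 2, 3, 4, 6}
  have hrep : ∀ x : ZMod 8, x ∈ K0 ∨ 5 * x ∈ K0 := by decide
  have hsep : ∀ x ∈ K0, ∀ y ∈ K0, x ≠ y → x ≠ 5 * y := by decide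
  have hdisj : ((K0 : Set (ZMod 8))).PairwiseDisjoint S := by
    intro x hx y hy hxy
    refine Finset.disjoint_left.mpr fun χ h1 h2 => ?_
    have := hexcl x y hxy.symm (hsep x hx y hy hxy) χ (Finset.mem_filter.mp h1).2
    have h2' := (Finset.mem_filter.mp h2).2
    omega
  have hP : (Finset.univ.filter fun χ => t χ ≠ 0) = K0.biUnion S := by
    ext χ
    simp only [Finset.mem_filter, Finset.mem_univ, true_and, Finset.mem_biUnion, S]
    constructor
    · intro h0
      rw [ht] at h0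
      obtain ⟨x, -, hx⟩ := Finset.exists_ne_zero_of_sum_ne_zero h0
      have hx1 := ((hN x).1 χ).resolve_left hx
      rcases hrep x with hk | hk
      · exact ⟨x, hk, hx1⟩
      · exact ⟨5 * x, hk, hpair x χ hx1⟩
    · rintro ⟨x, -, hx⟩
      rw [htS x χ hx]
      exact Finset.card_ne_zero_of_mem (Finset.mem_insert_self x _)
  have hPsum : ∀ F : Cfsg.IrrCharacter G → ℕ, ∑ χ ∈ Finset.univ.filter (fun χ => t χ ≠ 0), F χ =
      ∑ χ ∈ S 0, F χ + (∑ χ ∈ S 1, F χ + (∑ χ ∈ S 2, F χ + (∑ χ ∈ S 3, F χ +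
        (∑ χ ∈ S 4, F χ + ∑ χ ∈ S 6, F χ)))) := fun F => by
    rw [hP, Finset.sum_biUnion hdisj]
    simp only [K0]
    rw [Finset.sum_insert (by decide), Finset.sum_insert (by decide), Finset.sum_insert (by decide),
      Finset.sum_insert (by decide), Finset.sum_insert (by decide), Finset.sum_singleton]
  have hodd' : ∀ x : ZMod 8, x ≠ 5 * x → ∑ χ ∈ S x, f χ = 784 ∧ ∑ χ ∈ S x, g χ = 28 := fun x hx => by
    obtain ⟨χ, hS, h28, a1⟩ := hodd x hx
    simp [hS, f, g, h28, a1]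
  have hfP := hPsum f
  rw [hzero.1, (hodd' 1 (by decide)).1, (hodd' 3 (by decide)).1, (hseven 2 (by decide) (by decide)).1,
    (hseven 4 (by decide) (by decide)).1, (hseven 6 (by decide) (by decide)).1] at hfP
  have hgP := hPsum g
  rw [hzero.2, (hodd' 1 (by decide)).2, (hodd' 3 (by decide)).2, (hseven 2 (by decide) (by decide)).2.1,
    (hseven 4 (by decide) (by decide)).2.1, (hseven 6 (by decide) (by decide)).2.1] at hgP
  -- the totals
  have hd1 : ∀ χ : Cfsg.IrrCharacter G, (χ : G → ℂ) 1 = (d χ : ℂ) := fun χ =>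
    (CfsgLib.CharDegree.cast_irrDegree χ).symm
  have hsq : ∑ χ, f χ = 6048 := by
    have := sum_sq_degree (G := G)
    simp only [hd1] at this
    rw [h.cardG] at this
    exact_mod_cast this
  have hreg : ∀ x : G, ∑ χ : Cfsg.IrrCharacter G, (d χ : ℂ) * (χ : G → ℂ) x = if x = 1 then 6048 else 0 := fun x => by
    split_ifs with hx
    · subst hx
      rw [← (show ((∑ χ, f χ : ℕ) : ℂ) = 6048 by rw [hsq]; norm_num)]
      push_cast
      exact Finset.sum_congr rfl fun χ _ => by rw [hd1]; simp [f, sq]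
    · rw [← sum_degree_mul_apply_of_ne_one hx]
      exact Finset.sum_congr rfl fun χ _ => by rw [hd1]
  have hz3 : (D.z : G) ^ 3 = 1 := by rw [← Subgroup.coe_pow, h.z3]; rfl
  have hel : ∀ i j k : ZMod 3, ((el D.a D.b D.z i j k : D.B) : G) = 1 ↔ i = 0 ∧ j = 0 ∧ k = 0 := fun i j k => by
    have h000 : el D.a D.b D.z 0 0 0 = 1 := by simp [el]
    rw [OneMemClass.coe_eq_one]
    refine ⟨fun e => h.param_inj _ _ _ _ _ _ (e.trans h000.symm), ?_⟩
    rintro ⟨rfl, rfl, rfl⟩
    exact h000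
  have hdn : ∑ χ, d χ * n χ = 2016 := by
    have h1 : ((3 * ∑ χ, d χ * n χ : ℕ) : ℂ) = ((6048 : ℕ) : ℂ) := by
      push_cast
      rw [Finset.mul_sum]
      calc ∑ χ : Cfsg.IrrCharacter G, (3 : ℂ) * ((d χ : ℂ) * (n χ : ℂ))
          = ∑ χ : Cfsg.IrrCharacter G, ∑ k : ZMod 3, (d χ : ℂ) * (χ : G → ℂ) (D.z ^ k.val : D.B) := by
            refine Finset.sum_congr rfl fun χ _ => ?_
            rw [← Finset.mul_sum, hnsum]; ring
        _ = ∑ k : ZMod 3, if k = 0 then (6048 : ℂ) else 0 := by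
            rw [Finset.sum_comm]
            refine Finset.sum_congr rfl fun k _ => ?_
            rw [hreg]
            refine if_congr ?_ rfl rfl
            have := hel 0 0 k
            simpa [el] using this
        _ = 6048 := by simp
    have := Nat.cast_injective h1
    omega
  have hdt : ∑ χ, d χ * t χ = 224 := by
    have h1 : ((27 * ∑ χ, d χ * t χ : ℕ) : ℂ) = ((6048 : ℕ) : ℂ) := by
      push_cast
      rw [Finset.mul_sum]
      calc ∑ χ : Cfsg.IrrCharacter G, (27 : ℂ) * ((d χ : ℂ) * (t χ : ℂ))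
          = ∑ χ : Cfsg.IrrCharacter G, ∑ p : ZMod 3 × ZMod 3 × ZMod 3,
              (d χ : ℂ) * val3 (D := D) χ p.1 p.2.1 p.2.2 := by
            refine Finset.sum_congr rfl fun χ _ => ?_
            rw [← Finset.mul_sum, htsum]; ring
        _ = ∑ p : ZMod 3 × ZMod 3 × ZMod 3, if p = 0 then (6048 : ℂ) else 0 := by
            rw [Finset.sum_comm]
            refine Finset.sum_congr rfl fun p _ => ?_
            simp only [val3]
            rw [hreg]
            refine if_congr ?_ rfl rfl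
            rw [hel]
            simp [Prod.ext_iff]
        _ = 6048 := by simp
    have := Nat.cast_injective h1
    omega
  have hsum8 : ∑ χ, d χ * n χ = ∑ χ, d χ * t χ + 8 * ∑ χ, g χ := by
    rw [Finset.mul_sum, ← Finset.sum_add_distrib]
    exact Finset.sum_congr rfl fun χ _ => by simp only [g, ha χ]; ring
  let C : Finset (Cfsg.IrrCharacter G) := Finset.univ.filter fun χ => ¬ t χ ≠ 0
  have hCf : ∑ χ ∈ C, f χ = 2280 := by
    have := Finset.sum_filter_add_sum_filter_not Finset.univ (fun χ => t χ ≠ 0) f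
    simp only [C]
    omega
  have hCg : ∑ χ ∈ C, g χ = 78 := by
    have := Finset.sum_filter_add_sum_filter_not Finset.univ (fun χ => t χ ≠ 0) g
    simp only [C]
    omega
  obtain ⟨p, q, r, u, v, h1, h2⟩ := counts_of_list C d a fun χ hχ => by
    have ht0 : t χ = 0 := not_not.mp (Finset.mem_filter.mp hχ).2
    have hf : d χ ^ 2 ≤ 2280 := hCf ▸ Finset.single_le_sum (f := f) (fun _ _ => Nat.zero_le _) hχ
    have hg : d χ * a χ ≤ 78 := hCg ▸ Finset.single_le_sum (f := g) (fun _ _ => Nat.zero_le _) hχ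
    have hdd := hda χ
    have hlt : d χ < 48 := by nlinarith
    have halt : a χ < 6 := by omega
    exact cusp_cases ⟨d χ, hlt⟩ ⟨a χ, halt⟩ (hddvd χ) (by show 2 ∣ d χ; omega) (hno' χ) (hdpos χ) hg
      (by show 8 * a χ ≤ d χ; omega) (by show (d χ - 8 * a χ) % 6 = 0; omega)
  exact no_cusp_solution p q r u v (h1.symm.trans hCf) (h2.symm.trans hCg)

end CfsgLib.Recog.BorelChar
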