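import Cfsg.Agent.Lib.Known.U33L27

/-!
# A Borel subgroup of `SU₃(3)`
-/

set_option autoImplicit false

namespace CfsgLib.Recog.UnitaryBorel

open CfsgLib.Known.U33L27

/-- first unipotent generator -/
def gA : M9 := (((0, 0), (2, 1), (2, 1)), ((2, 2), (2, 0), (1, 0)), ((1, 1), (2, 0), (1, 0)))

/-- second unipotent generator -/
def gB : M9 := (((0, 0), (2, 1), (1, 1)), ((2, 2), (2, 0), (0, 2)), ((2, 1), (0, 2), (1, 0)))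

/-- central unipotent element -/
def gZ : M9 := (((1, 1), (1, 1), (0, 0)), ((2, 1), (1, 2), (0, 0)), ((0, 0), (0, 0), (1, 0)))

/-- torus generator -/
def gT : M9 := (((0, 0), (2, 0), (0, 0)), ((0, 1), (0, 0), (0, 0)), ((0, 0), (0, 0), (0, 2)))

/-- Weyl element -/
def gW : M9 := (((0, 0), (1, 0), (0, 0)), ((0, 1), (0, 0), (0, 0)), ((0, 0), (0, 0), (0, 1)))

/-- inverse Weyl element -/
def gWi : M9 := (((0, 0), (0, 2), (0, 0)), ((1, 0), (0, 0), (0, 0)), ((0, 0), (0, 0), (0, 2)))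

/-- the elements, in normal form order -/
def tbl : List M9 := [
  (((1, 0), (0, 0), (0, 0)), ((0, 0), (1, 0), (0, 0)), ((0, 0), (0, 0), (1, 0))),
  (((1, 1), (1, 1), (0, 0)), ((2, 1), (1, 2), (0, 0)), ((0, 0), (0, 0), (1, 0))),
  (((1, 2), (2, 2), (0, 0)), ((1, 2), (1, 1), (0, 0)), ((0, 0), (0, 0), (1, 0))),
  (((0, 0), (2, 1), (1, 1)), ((2, 2), (2, 0), (0, 2)), ((2, 1), (0, 2), (1, 0))),
  (((0, 1), (0, 2), (1, 1)), ((1, 0), (2, 2), (0, 2)), ((2, 1), (0, 2), (1, 0))),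
  (((0, 2), (1, 0), (1, 1)), ((0, 1), (2, 1), (0, 2)), ((2, 1), (0, 2), (1, 0))),
  (((0, 0), (2, 1), (2, 2)), ((2, 2), (2, 0), (0, 1)), ((1, 2), (0, 1), (1, 0))),
  (((0, 1), (0, 2), (2, 2)), ((1, 0), (2, 2), (0, 1)), ((1, 2), (0, 1), (1, 0))),
  (((0, 2), (1, 0), (2, 2)), ((0, 1), (2, 1), (0, 1)), ((1, 2), (0, 1), (1, 0))),
  (((0, 0), (2, 1), (2, 1)), ((2, 2), (2, 0), (1, 0)), ((1, 1), (2, 0), (1, 0))),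
  (((0, 1), (0, 2), (2, 1)), ((1, 0), (2, 2), (1, 0)), ((1, 1), (2, 0), (1, 0))),
  (((0, 2), (1, 0), (2, 1)), ((0, 1), (2, 1), (1, 0)), ((1, 1), (2, 0), (1, 0))),
  (((2, 1), (2, 0), (0, 2)), ((0, 2), (0, 2), (1, 2)), ((0, 2), (2, 2), (1, 0))),
  (((2, 2), (0, 1), (0, 2)), ((2, 0), (0, 1), (1, 2)), ((0, 2), (2, 2), (1, 0))),
  (((2, 0), (1, 2), (0, 2)), ((1, 1), (0, 0), (1, 2)), ((0, 2), (2, 2), (1, 0))),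
  (((2, 2), (0, 1), (1, 0)), ((2, 0), (0, 1), (1, 1)), ((2, 0), (2, 1), (1, 0))),
  (((2, 0), (1, 2), (1, 0)), ((1, 1), (0, 0), (1, 1)), ((2, 0), (2, 1), (1, 0))),
  (((2, 1), (2, 0), (1, 0)), ((0, 2), (0, 2), (1, 1)), ((2, 0), (2, 1), (1, 0))),
  (((0, 0), (2, 1), (1, 2)), ((2, 2), (2, 0), (2, 0)), ((2, 2), (1, 0), (1, 0))),
  (((0, 1), (0, 2), (1, 2)), ((1, 0), (2, 2), (2, 0)), ((2, 2), (1, 0), (1, 0))),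
  (((0, 2), (1, 0), (1, 2)), ((0, 1), (2, 1), (2, 0)), ((2, 2), (1, 0), (1, 0))),
  (((2, 2), (0, 1), (2, 0)), ((2, 0), (0, 1), (2, 2)), ((1, 0), (1, 2), (1, 0))),
  (((2, 0), (1, 2), (2, 0)), ((1, 1), (0, 0), (2, 2)), ((1, 0), (1, 2), (1, 0))),
  (((2, 1), (2, 0), (2, 0)), ((0, 2), (0, 2), (2, 2)), ((1, 0), (1, 2), (1, 0))),
  (((2, 1), (2, 0), (0, 1)), ((0, 2), (0, 2), (2, 1)), ((0, 1), (1, 1), (1, 0))),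
  (((2, 2), (0, 1), (0, 1)), ((2, 0), (0, 1), (2, 1)), ((0, 1), (1, 1), (1, 0))),
  (((2, 0), (1, 2), (0, 1)), ((1, 1), (0, 0), (2, 1)), ((0, 1), (1, 1), (1, 0))),
  (((0, 0), (2, 0), (0, 0)), ((0, 1), (0, 0), (0, 0)), ((0, 0), (0, 0), (0, 2))),
  (((2, 1), (2, 2), (0, 0)), ((1, 1), (1, 2), (0, 0)), ((0, 0), (0, 0), (0, 2))),
  (((1, 2), (2, 1), (0, 0)), ((2, 1), (2, 1), (0, 0)), ((0, 0), (0, 0), (0, 2))),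
  (((2, 2), (0, 0), (1, 2)), ((0, 2), (1, 1), (2, 0)), ((1, 0), (1, 2), (0, 2))),
  (((1, 0), (0, 2), (1, 2)), ((1, 2), (2, 0), (2, 0)), ((1, 0), (1, 2), (0, 2))),
  (((0, 1), (0, 1), (1, 2)), ((2, 2), (0, 2), (2, 0)), ((1, 0), (1, 2), (0, 2))),
  (((2, 2), (0, 0), (2, 1)), ((0, 2), (1, 1), (1, 0)), ((2, 0), (2, 1), (0, 2))),
  (((1, 0), (0, 2), (2, 1)), ((1, 2), (2, 0), (1, 0)), ((2, 0), (2, 1), (0, 2))),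
  (((0, 1), (0, 1), (2, 1)), ((2, 2), (0, 2), (1, 0)), ((2, 0), (2, 1), (0, 2))),
  (((2, 2), (0, 0), (1, 1)), ((0, 2), (1, 1), (0, 2)), ((0, 2), (2, 2), (0, 2))),
  (((1, 0), (0, 2), (1, 1)), ((1, 2), (2, 0), (0, 2)), ((0, 2), (2, 2), (0, 2))),
  (((0, 1), (0, 1), (1, 1)), ((2, 2), (0, 2), (0, 2)), ((0, 2), (2, 2), (0, 2))),
  (((0, 2), (1, 2), (2, 0)), ((1, 0), (0, 1), (2, 2)), ((1, 2), (0, 1), (0, 2))),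
  (((2, 0), (1, 1), (2, 0)), ((2, 0), (1, 0), (2, 2)), ((1, 2), (0, 1), (0, 2))),
  (((1, 1), (1, 0), (2, 0)), ((0, 0), (2, 2), (2, 2)), ((1, 2), (0, 1), (0, 2))),
  (((2, 0), (1, 1), (0, 2)), ((2, 0), (1, 0), (1, 2)), ((2, 2), (1, 0), (0, 2))),
  (((1, 1), (1, 0), (0, 2)), ((0, 0), (2, 2), (1, 2)), ((2, 2), (1, 0), (0, 2))),
  (((0, 2), (1, 2), (0, 2)), ((1, 0), (0, 1), (1, 2)), ((2, 2), (1, 0), (0, 2))),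
  (((2, 2), (0, 0), (2, 2)), ((0, 2), (1, 1), (0, 1)), ((0, 1), (1, 1), (0, 2))),
  (((1, 0), (0, 2), (2, 2)), ((1, 2), (2, 0), (0, 1)), ((0, 1), (1, 1), (0, 2))),
  (((0, 1), (0, 1), (2, 2)), ((2, 2), (0, 2), (0, 1)), ((0, 1), (1, 1), (0, 2))),
  (((2, 0), (1, 1), (0, 1)), ((2, 0), (1, 0), (2, 1)), ((1, 1), (2, 0), (0, 2))),
  (((1, 1), (1, 0), (0, 1)), ((0, 0), (2, 2), (2, 1)), ((1, 1), (2, 0), (0, 2))),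
  (((0, 2), (1, 2), (0, 1)), ((1, 0), (0, 1), (2, 1)), ((1, 1), (2, 0), (0, 2))),
  (((0, 2), (1, 2), (1, 0)), ((1, 0), (0, 1), (1, 1)), ((2, 1), (0, 2), (0, 2))),
  (((2, 0), (1, 1), (1, 0)), ((2, 0), (1, 0), (1, 1)), ((2, 1), (0, 2), (0, 2))),
  (((1, 1), (1, 0), (1, 0)), ((0, 0), (2, 2), (1, 1)), ((2, 1), (0, 2), (0, 2))),
  (((0, 2), (0, 0), (0, 0)), ((0, 0), (0, 2), (0, 0)), ((0, 0), (0, 0), (2, 0))),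
  (((1, 2), (1, 2), (0, 0)), ((1, 1), (2, 2), (0, 0)), ((0, 0), (0, 0), (2, 0))),
  (((2, 2), (2, 1), (0, 0)), ((2, 2), (1, 2), (0, 0)), ((0, 0), (0, 0), (2, 0))),
  (((0, 0), (1, 1), (2, 2)), ((2, 1), (0, 1), (0, 1)), ((1, 1), (2, 0), (2, 0))),
  (((1, 0), (2, 0), (2, 2)), ((0, 2), (2, 1), (0, 1)), ((1, 1), (2, 0), (2, 0))),
  (((2, 0), (0, 2), (2, 2)), ((1, 0), (1, 1), (0, 1)), ((1, 1), (2, 0), (2, 0))),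
  (((0, 0), (1, 1), (1, 1)), ((2, 1), (0, 1), (0, 2)), ((2, 2), (1, 0), (2, 0))),
  (((1, 0), (2, 0), (1, 1)), ((0, 2), (2, 1), (0, 2)), ((2, 2), (1, 0), (2, 0))),
  (((2, 0), (0, 2), (1, 1)), ((1, 0), (1, 1), (0, 2)), ((2, 2), (1, 0), (2, 0))),
  (((0, 0), (1, 1), (1, 2)), ((2, 1), (0, 1), (2, 0)), ((1, 2), (0, 1), (2, 0))),
  (((1, 0), (2, 0), (1, 2)), ((0, 2), (2, 1), (2, 0)), ((1, 2), (0, 1), (2, 0))),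
  (((2, 0), (0, 2), (1, 2)), ((1, 0), (1, 1), (2, 0)), ((1, 2), (0, 1), (2, 0))),
  (((1, 1), (0, 1), (0, 1)), ((2, 0), (2, 0), (2, 1)), ((2, 0), (2, 1), (2, 0))),
  (((2, 1), (1, 0), (0, 1)), ((0, 1), (1, 0), (2, 1)), ((2, 0), (2, 1), (2, 0))),
  (((0, 1), (2, 2), (0, 1)), ((1, 2), (0, 0), (2, 1)), ((2, 0), (2, 1), (2, 0))),
  (((2, 1), (1, 0), (2, 0)), ((0, 1), (1, 0), (2, 2)), ((0, 1), (1, 1), (2, 0))),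
  (((0, 1), (2, 2), (2, 0)), ((1, 2), (0, 0), (2, 2)), ((0, 1), (1, 1), (2, 0))),
  (((1, 1), (0, 1), (2, 0)), ((2, 0), (2, 0), (2, 2)), ((0, 1), (1, 1), (2, 0))),
  (((0, 0), (1, 1), (2, 1)), ((2, 1), (0, 1), (1, 0)), ((2, 1), (0, 2), (2, 0))),
  (((1, 0), (2, 0), (2, 1)), ((0, 2), (2, 1), (1, 0)), ((2, 1), (0, 2), (2, 0))),
  (((2, 0), (0, 2), (2, 1)), ((1, 0), (1, 1), (1, 0)), ((2, 1), (0, 2), (2, 0))),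
  (((2, 1), (1, 0), (1, 0)), ((0, 1), (1, 0), (1, 1)), ((0, 2), (2, 2), (2, 0))),
  (((0, 1), (2, 2), (1, 0)), ((1, 2), (0, 0), (1, 1)), ((0, 2), (2, 2), (2, 0))),
  (((1, 1), (0, 1), (1, 0)), ((2, 0), (2, 0), (1, 1)), ((0, 2), (2, 2), (2, 0))),
  (((1, 1), (0, 1), (0, 2)), ((2, 0), (2, 0), (1, 2)), ((1, 0), (1, 2), (2, 0))),
  (((2, 1), (1, 0), (0, 2)), ((0, 1), (1, 0), (1, 2)), ((1, 0), (1, 2), (2, 0))),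
  (((0, 1), (2, 2), (0, 2)), ((1, 2), (0, 0), (1, 2)), ((1, 0), (1, 2), (2, 0))),
  (((0, 0), (0, 1), (0, 0)), ((1, 0), (0, 0), (0, 0)), ((0, 0), (0, 0), (0, 1))),
  (((1, 1), (2, 1), (0, 0)), ((1, 2), (2, 2), (0, 0)), ((0, 0), (0, 0), (0, 1))),
  (((2, 2), (1, 1), (0, 0)), ((1, 1), (1, 1), (0, 0)), ((0, 0), (0, 0), (0, 1))),
  (((2, 1), (0, 0), (2, 1)), ((2, 0), (1, 2), (1, 0)), ((0, 2), (2, 2), (0, 1))),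
  (((0, 2), (2, 0), (2, 1)), ((2, 2), (0, 1), (1, 0)), ((0, 2), (2, 2), (0, 1))),
  (((1, 0), (1, 0), (2, 1)), ((2, 1), (2, 0), (1, 0)), ((0, 2), (2, 2), (0, 1))),
  (((2, 1), (0, 0), (1, 2)), ((2, 0), (1, 2), (2, 0)), ((0, 1), (1, 1), (0, 1))),
  (((0, 2), (2, 0), (1, 2)), ((2, 2), (0, 1), (2, 0)), ((0, 1), (1, 1), (0, 1))),
  (((1, 0), (1, 0), (1, 2)), ((2, 1), (2, 0), (2, 0)), ((0, 1), (1, 1), (0, 1))),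
  (((2, 1), (0, 0), (2, 2)), ((2, 0), (1, 2), (0, 1)), ((2, 0), (2, 1), (0, 1))),
  (((0, 2), (2, 0), (2, 2)), ((2, 2), (0, 1), (0, 1)), ((2, 0), (2, 1), (0, 1))),
  (((1, 0), (1, 0), (2, 2)), ((2, 1), (2, 0), (0, 1)), ((2, 0), (2, 1), (0, 1))),
  (((2, 0), (2, 2), (1, 0)), ((0, 2), (1, 0), (1, 1)), ((2, 2), (1, 0), (0, 1))),
  (((0, 1), (1, 2), (1, 0)), ((0, 1), (0, 2), (1, 1)), ((2, 2), (1, 0), (0, 1))),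
  (((1, 2), (0, 2), (1, 0)), ((0, 0), (2, 1), (1, 1)), ((2, 2), (1, 0), (0, 1))),
  (((0, 1), (1, 2), (0, 1)), ((0, 1), (0, 2), (2, 1)), ((2, 1), (0, 2), (0, 1))),
  (((1, 2), (0, 2), (0, 1)), ((0, 0), (2, 1), (2, 1)), ((2, 1), (0, 2), (0, 1))),
  (((2, 0), (2, 2), (0, 1)), ((0, 2), (1, 0), (2, 1)), ((2, 1), (0, 2), (0, 1))),
  (((2, 1), (0, 0), (1, 1)), ((2, 0), (1, 2), (0, 2)), ((1, 0), (1, 2), (0, 1))),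
  (((0, 2), (2, 0), (1, 1)), ((2, 2), (0, 1), (0, 2)), ((1, 0), (1, 2), (0, 1))),
  (((1, 0), (1, 0), (1, 1)), ((2, 1), (2, 0), (0, 2)), ((1, 0), (1, 2), (0, 1))),
  (((0, 1), (1, 2), (0, 2)), ((0, 1), (0, 2), (1, 2)), ((1, 2), (0, 1), (0, 1))),
  (((1, 2), (0, 2), (0, 2)), ((0, 0), (2, 1), (1, 2)), ((1, 2), (0, 1), (0, 1))),
  (((2, 0), (2, 2), (0, 2)), ((0, 2), (1, 0), (1, 2)), ((1, 2), (0, 1), (0, 1))),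
  (((2, 0), (2, 2), (2, 0)), ((0, 2), (1, 0), (2, 2)), ((1, 1), (2, 0), (0, 1))),
  (((0, 1), (1, 2), (2, 0)), ((0, 1), (0, 2), (2, 2)), ((1, 1), (2, 0), (0, 1))),
  (((1, 2), (0, 2), (2, 0)), ((0, 0), (2, 1), (2, 2)), ((1, 1), (2, 0), (0, 1))),
  (((2, 0), (0, 0), (0, 0)), ((0, 0), (2, 0), (0, 0)), ((0, 0), (0, 0), (1, 0))),
  (((2, 2), (2, 2), (0, 0)), ((1, 2), (2, 1), (0, 0)), ((0, 0), (0, 0), (1, 0))),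
  (((2, 1), (1, 1), (0, 0)), ((2, 1), (2, 2), (0, 0)), ((0, 0), (0, 0), (1, 0))),
  (((0, 0), (1, 2), (1, 1)), ((1, 1), (1, 0), (0, 2)), ((1, 2), (0, 1), (1, 0))),
  (((0, 2), (0, 1), (1, 1)), ((2, 0), (1, 1), (0, 2)), ((1, 2), (0, 1), (1, 0))),
  (((0, 1), (2, 0), (1, 1)), ((0, 2), (1, 2), (0, 2)), ((1, 2), (0, 1), (1, 0))),
  (((0, 0), (1, 2), (2, 2)), ((1, 1), (1, 0), (0, 1)), ((2, 1), (0, 2), (1, 0))),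
  (((0, 2), (0, 1), (2, 2)), ((2, 0), (1, 1), (0, 1)), ((2, 1), (0, 2), (1, 0))),
  (((0, 1), (2, 0), (2, 2)), ((0, 2), (1, 2), (0, 1)), ((2, 1), (0, 2), (1, 0))),
  (((0, 0), (1, 2), (2, 1)), ((1, 1), (1, 0), (1, 0)), ((2, 2), (1, 0), (1, 0))),
  (((0, 2), (0, 1), (2, 1)), ((2, 0), (1, 1), (1, 0)), ((2, 2), (1, 0), (1, 0))),
  (((0, 1), (2, 0), (2, 1)), ((0, 2), (1, 2), (1, 0)), ((2, 2), (1, 0), (1, 0))),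
  (((1, 2), (1, 0), (0, 2)), ((0, 1), (0, 1), (1, 2)), ((0, 1), (1, 1), (1, 0))),
  (((1, 1), (0, 2), (0, 2)), ((1, 0), (0, 2), (1, 2)), ((0, 1), (1, 1), (1, 0))),
  (((1, 0), (2, 1), (0, 2)), ((2, 2), (0, 0), (1, 2)), ((0, 1), (1, 1), (1, 0))),
  (((1, 1), (0, 2), (1, 0)), ((1, 0), (0, 2), (1, 1)), ((1, 0), (1, 2), (1, 0))),
  (((1, 0), (2, 1), (1, 0)), ((2, 2), (0, 0), (1, 1)), ((1, 0), (1, 2), (1, 0))),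
  (((1, 2), (1, 0), (1, 0)), ((0, 1), (0, 1), (1, 1)), ((1, 0), (1, 2), (1, 0))),
  (((0, 0), (1, 2), (1, 2)), ((1, 1), (1, 0), (2, 0)), ((1, 1), (2, 0), (1, 0))),
  (((0, 2), (0, 1), (1, 2)), ((2, 0), (1, 1), (2, 0)), ((1, 1), (2, 0), (1, 0))),
  (((0, 1), (2, 0), (1, 2)), ((0, 2), (1, 2), (2, 0)), ((1, 1), (2, 0), (1, 0))),
  (((1, 1), (0, 2), (2, 0)), ((1, 0), (0, 2), (2, 2)), ((2, 0), (2, 1), (1, 0))),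
  (((1, 0), (2, 1), (2, 0)), ((2, 2), (0, 0), (2, 2)), ((2, 0), (2, 1), (1, 0))),
  (((1, 2), (1, 0), (2, 0)), ((0, 1), (0, 1), (2, 2)), ((2, 0), (2, 1), (1, 0))),
  (((1, 2), (1, 0), (0, 1)), ((0, 1), (0, 1), (2, 1)), ((0, 2), (2, 2), (1, 0))),
  (((1, 1), (0, 2), (0, 1)), ((1, 0), (0, 2), (2, 1)), ((0, 2), (2, 2), (1, 0))),
  (((1, 0), (2, 1), (0, 1)), ((2, 2), (0, 0), (2, 1)), ((0, 2), (2, 2), (1, 0))),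
  (((0, 0), (1, 0), (0, 0)), ((0, 2), (0, 0), (0, 0)), ((0, 0), (0, 0), (0, 2))),
  (((1, 2), (1, 1), (0, 0)), ((2, 2), (2, 1), (0, 0)), ((0, 0), (0, 0), (0, 2))),
  (((2, 1), (1, 2), (0, 0)), ((1, 2), (1, 2), (0, 0)), ((0, 0), (0, 0), (0, 2))),
  (((1, 1), (0, 0), (1, 2)), ((0, 1), (2, 2), (2, 0)), ((2, 0), (2, 1), (0, 2))),
  (((2, 0), (0, 1), (1, 2)), ((2, 1), (1, 0), (2, 0)), ((2, 0), (2, 1), (0, 2))),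
  (((0, 2), (0, 2), (1, 2)), ((1, 1), (0, 1), (2, 0)), ((2, 0), (2, 1), (0, 2))),
  (((1, 1), (0, 0), (2, 1)), ((0, 1), (2, 2), (1, 0)), ((1, 0), (1, 2), (0, 2))),
  (((2, 0), (0, 1), (2, 1)), ((2, 1), (1, 0), (1, 0)), ((1, 0), (1, 2), (0, 2))),
  (((0, 2), (0, 2), (2, 1)), ((1, 1), (0, 1), (1, 0)), ((1, 0), (1, 2), (0, 2))),
  (((1, 1), (0, 0), (1, 1)), ((0, 1), (2, 2), (0, 2)), ((0, 1), (1, 1), (0, 2))),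
  (((2, 0), (0, 1), (1, 1)), ((2, 1), (1, 0), (0, 2)), ((0, 1), (1, 1), (0, 2))),
  (((0, 2), (0, 2), (1, 1)), ((1, 1), (0, 1), (0, 2)), ((0, 1), (1, 1), (0, 2))),
  (((0, 1), (2, 1), (2, 0)), ((2, 0), (0, 2), (2, 2)), ((2, 1), (0, 2), (0, 2))),
  (((1, 0), (2, 2), (2, 0)), ((1, 0), (2, 0), (2, 2)), ((2, 1), (0, 2), (0, 2))),
  (((2, 2), (2, 0), (2, 0)), ((0, 0), (1, 1), (2, 2)), ((2, 1), (0, 2), (0, 2))),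
  (((1, 0), (2, 2), (0, 2)), ((1, 0), (2, 0), (1, 2)), ((1, 1), (2, 0), (0, 2))),
  (((2, 2), (2, 0), (0, 2)), ((0, 0), (1, 1), (1, 2)), ((1, 1), (2, 0), (0, 2))),
  (((0, 1), (2, 1), (0, 2)), ((2, 0), (0, 2), (1, 2)), ((1, 1), (2, 0), (0, 2))),
  (((1, 1), (0, 0), (2, 2)), ((0, 1), (2, 2), (0, 1)), ((0, 2), (2, 2), (0, 2))),
  (((2, 0), (0, 1), (2, 2)), ((2, 1), (1, 0), (0, 1)), ((0, 2), (2, 2), (0, 2))),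
  (((0, 2), (0, 2), (2, 2)), ((1, 1), (0, 1), (0, 1)), ((0, 2), (2, 2), (0, 2))),
  (((1, 0), (2, 2), (0, 1)), ((1, 0), (2, 0), (2, 1)), ((2, 2), (1, 0), (0, 2))),
  (((2, 2), (2, 0), (0, 1)), ((0, 0), (1, 1), (2, 1)), ((2, 2), (1, 0), (0, 2))),
  (((0, 1), (2, 1), (0, 1)), ((2, 0), (0, 2), (2, 1)), ((2, 2), (1, 0), (0, 2))),
  (((0, 1), (2, 1), (1, 0)), ((2, 0), (0, 2), (1, 1)), ((1, 2), (0, 1), (0, 2))),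
  (((1, 0), (2, 2), (1, 0)), ((1, 0), (2, 0), (1, 1)), ((1, 2), (0, 1), (0, 2))),
  (((2, 2), (2, 0), (1, 0)), ((0, 0), (1, 1), (1, 1)), ((1, 2), (0, 1), (0, 2))),
  (((0, 1), (0, 0), (0, 0)), ((0, 0), (0, 1), (0, 0)), ((0, 0), (0, 0), (2, 0))),
  (((2, 1), (2, 1), (0, 0)), ((2, 2), (1, 1), (0, 0)), ((0, 0), (0, 0), (2, 0))),
  (((1, 1), (1, 2), (0, 0)), ((1, 1), (2, 1), (0, 0)), ((0, 0), (0, 0), (2, 0))),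
  (((0, 0), (2, 2), (2, 2)), ((1, 2), (0, 2), (0, 1)), ((2, 2), (1, 0), (2, 0))),
  (((2, 0), (1, 0), (2, 2)), ((0, 1), (1, 2), (0, 1)), ((2, 2), (1, 0), (2, 0))),
  (((1, 0), (0, 1), (2, 2)), ((2, 0), (2, 2), (0, 1)), ((2, 2), (1, 0), (2, 0))),
  (((0, 0), (2, 2), (1, 1)), ((1, 2), (0, 2), (0, 2)), ((1, 1), (2, 0), (2, 0))),
  (((2, 0), (1, 0), (1, 1)), ((0, 1), (1, 2), (0, 2)), ((1, 1), (2, 0), (2, 0))),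
  (((1, 0), (0, 1), (1, 1)), ((2, 0), (2, 2), (0, 2)), ((1, 1), (2, 0), (2, 0))),
  (((0, 0), (2, 2), (1, 2)), ((1, 2), (0, 2), (2, 0)), ((2, 1), (0, 2), (2, 0))),
  (((2, 0), (1, 0), (1, 2)), ((0, 1), (1, 2), (2, 0)), ((2, 1), (0, 2), (2, 0))),
  (((1, 0), (0, 1), (1, 2)), ((2, 0), (2, 2), (2, 0)), ((2, 1), (0, 2), (2, 0))),
  (((2, 2), (0, 2), (0, 1)), ((1, 0), (1, 0), (2, 1)), ((1, 0), (1, 2), (2, 0))),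
  (((1, 2), (2, 0), (0, 1)), ((0, 2), (2, 0), (2, 1)), ((1, 0), (1, 2), (2, 0))),
  (((0, 2), (1, 1), (0, 1)), ((2, 1), (0, 0), (2, 1)), ((1, 0), (1, 2), (2, 0))),
  (((1, 2), (2, 0), (2, 0)), ((0, 2), (2, 0), (2, 2)), ((0, 2), (2, 2), (2, 0))),
  (((0, 2), (1, 1), (2, 0)), ((2, 1), (0, 0), (2, 2)), ((0, 2), (2, 2), (2, 0))),
  (((2, 2), (0, 2), (2, 0)), ((1, 0), (1, 0), (2, 2)), ((0, 2), (2, 2), (2, 0))),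
  (((0, 0), (2, 2), (2, 1)), ((1, 2), (0, 2), (1, 0)), ((1, 2), (0, 1), (2, 0))),
  (((2, 0), (1, 0), (2, 1)), ((0, 1), (1, 2), (1, 0)), ((1, 2), (0, 1), (2, 0))),
  (((1, 0), (0, 1), (2, 1)), ((2, 0), (2, 2), (1, 0)), ((1, 2), (0, 1), (2, 0))),
  (((1, 2), (2, 0), (1, 0)), ((0, 2), (2, 0), (1, 1)), ((0, 1), (1, 1), (2, 0))),
  (((0, 2), (1, 1), (1, 0)), ((2, 1), (0, 0), (1, 1)), ((0, 1), (1, 1), (2, 0))),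
  (((2, 2), (0, 2), (1, 0)), ((1, 0), (1, 0), (1, 1)), ((0, 1), (1, 1), (2, 0))),
  (((2, 2), (0, 2), (0, 2)), ((1, 0), (1, 0), (1, 2)), ((2, 0), (2, 1), (2, 0))),
  (((1, 2), (2, 0), (0, 2)), ((0, 2), (2, 0), (1, 2)), ((2, 0), (2, 1), (2, 0))),
  (((0, 2), (1, 1), (0, 2)), ((2, 1), (0, 0), (1, 2)), ((2, 0), (2, 1), (2, 0))),
  (((0, 0), (0, 2), (0, 0)), ((2, 0), (0, 0), (0, 0)), ((0, 0), (0, 0), (0, 1))),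
  (((2, 2), (1, 2), (0, 0)), ((2, 1), (1, 1), (0, 0)), ((0, 0), (0, 0), (0, 1))),
  (((1, 1), (2, 2), (0, 0)), ((2, 2), (2, 2), (0, 0)), ((0, 0), (0, 0), (0, 1))),
  (((1, 2), (0, 0), (2, 1)), ((1, 0), (2, 1), (1, 0)), ((0, 1), (1, 1), (0, 1))),
  (((0, 1), (1, 0), (2, 1)), ((1, 1), (0, 2), (1, 0)), ((0, 1), (1, 1), (0, 1))),
  (((2, 0), (2, 0), (2, 1)), ((1, 2), (1, 0), (1, 0)), ((0, 1), (1, 1), (0, 1))),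
  (((1, 2), (0, 0), (1, 2)), ((1, 0), (2, 1), (2, 0)), ((0, 2), (2, 2), (0, 1))),
  (((0, 1), (1, 0), (1, 2)), ((1, 1), (0, 2), (2, 0)), ((0, 2), (2, 2), (0, 1))),
  (((2, 0), (2, 0), (1, 2)), ((1, 2), (1, 0), (2, 0)), ((0, 2), (2, 2), (0, 1))),
  (((1, 2), (0, 0), (2, 2)), ((1, 0), (2, 1), (0, 1)), ((1, 0), (1, 2), (0, 1))),
  (((0, 1), (1, 0), (2, 2)), ((1, 1), (0, 2), (0, 1)), ((1, 0), (1, 2), (0, 1))),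
  (((2, 0), (2, 0), (2, 2)), ((1, 2), (1, 0), (0, 1)), ((1, 0), (1, 2), (0, 1))),
  (((1, 0), (1, 1), (1, 0)), ((0, 1), (2, 0), (1, 1)), ((1, 1), (2, 0), (0, 1))),
  (((0, 2), (2, 1), (1, 0)), ((0, 2), (0, 1), (1, 1)), ((1, 1), (2, 0), (0, 1))),
  (((2, 1), (0, 1), (1, 0)), ((0, 0), (1, 2), (1, 1)), ((1, 1), (2, 0), (0, 1))),
  (((0, 2), (2, 1), (0, 1)), ((0, 2), (0, 1), (2, 1)), ((1, 2), (0, 1), (0, 1))),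
  (((2, 1), (0, 1), (0, 1)), ((0, 0), (1, 2), (2, 1)), ((1, 2), (0, 1), (0, 1))),
  (((1, 0), (1, 1), (0, 1)), ((0, 1), (2, 0), (2, 1)), ((1, 2), (0, 1), (0, 1))),
  (((1, 2), (0, 0), (1, 1)), ((1, 0), (2, 1), (0, 2)), ((2, 0), (2, 1), (0, 1))),
  (((0, 1), (1, 0), (1, 1)), ((1, 1), (0, 2), (0, 2)), ((2, 0), (2, 1), (0, 1))),
  (((2, 0), (2, 0), (1, 1)), ((1, 2), (1, 0), (0, 2)), ((2, 0), (2, 1), (0, 1))),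
  (((0, 2), (2, 1), (0, 2)), ((0, 2), (0, 1), (1, 2)), ((2, 1), (0, 2), (0, 1))),
  (((2, 1), (0, 1), (0, 2)), ((0, 0), (1, 2), (1, 2)), ((2, 1), (0, 2), (0, 1))),
  (((1, 0), (1, 1), (0, 2)), ((0, 1), (2, 0), (1, 2)), ((2, 1), (0, 2), (0, 1))),
  (((1, 0), (1, 1), (2, 0)), ((0, 1), (2, 0), (2, 2)), ((2, 2), (1, 0), (0, 1))),
  (((0, 2), (2, 1), (2, 0)), ((0, 2), (0, 1), (2, 2)), ((2, 2), (1, 0), (0, 1))),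
  (((2, 1), (0, 1), (2, 0)), ((0, 0), (1, 2), (2, 2)), ((2, 2), (1, 0), (0, 1)))]

end CfsgLib.Recog.UnitaryBorel
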