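import Mathlib
import Cfsg.Agent.Lib.Known.U33L27
import Cfsg.Agent.Lib.Recog.UnitaryBorelData
import Cfsg.Agent.Lib.Recog.BorelDegrees

/-!
# The Borel datum of `SU₃(3)`
-/

set_option autoImplicit false
set_option maxRecDepth 100000

namespace CfsgLib.Recog.UnitaryBorel

open CfsgLib.Known.U33L27 CfsgLib.Recog.BorelChar Matrix

/-- an entry of the table -/
def ent (k : ℕ) : M9 := tbl.getD k one9

/-- the position of a normal form -/
def pos (m : ZMod 8) (i j k : ZMod 3) : ℕ := ((m.val * 3 + i.val) * 3 + j.val) * 3 + k.val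

/-- generators with their exponents -/
def gens : List (M9 × ℕ) := [(gA, 0), (gB, 0), (gZ, 0), (gT, 1)]

theorem gens_check : (gens.all fun p => mm (tr p.1) (cjM p.1) == one9 && det9 p.1 == (1, 0)) = true := by
  decide +kernel

theorem w_check : (mm (tr gW) (cjM gW) == one9 && det9 gW == (1, 0) && mm gW gWi == one9 && mm gWi gW == one9 &&
    !(tbl.any fun x => x == gW) && mm (mm gWi gT) gW == pw gT 5 && pw gT 8 == one9 && pw gA 3 == one9 &&
    pw gZ 3 == one9 && pw gB 3 == one9 && mm gA gZ == mm gZ gA && ent 0 == one9 && tbl.length == 216) = true := by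
  decide +kernel

theorem normal_check : ((List.range 8).all fun m => (List.range 3).all fun i => (List.range 3).all fun j =>
    (List.range 3).all fun k =>
      ent (((m * 3 + i) * 3 + j) * 3 + k) == mm (mm (mm (pw gA i) (pw gB j)) (pw gZ k)) (pw gT m)) = true := by
  decide +kernel

theorem mul_check : ((List.range 216).all fun x => gens.all fun p => (List.range 216).any fun y =>
    (y / 27 == (x / 27 + p.2) % 8) && (mm (ent x) p.1 == ent y)) = true := by
  decide +kernel

theorem inter_check : ((List.range 216).all fun x => x % 27 == 0 ||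
    !(tbl.any fun y => y == mm (mm gWi (ent x)) gW)) = true := by
  decide +kernel

theorem distinct_check : ((List.range 216).all fun x => (List.range 216).all fun y => x == y ||
    !(ent x == ent y)) = true := by
  decide +kernel

theorem trans_check : ((List.range 3).all fun i => (List.range 3).all fun j => (i == 0 && j == 0) ||
    (List.range 8).any fun m => (List.range 3).any fun c => [1, 2].any fun s => (List.range 3).all fun k =>
      mm (mm (pw gT m) (mm gA (pw gZ k))) (pw gT ((8 - m) % 8)) ==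
        ent (((0 * 3 + i) * 3 + j) * 3 + (c + s * k) % 3)) = true := by
  decide +kernel

theorem conj_check : (mm (mm gT gZ) (pw gT 7) == pw gZ 2 && mm (mm gB gA) (pw gB 2) == mm gA gZ &&
    mm (mm gB gZ) (pw gB 2) == gZ) = true := by
  decide +kernel

theorem reduced_check : (tbl.all fun x => mm one9 x == x) = true := by decide +kernel

variable {F : Type*} [Field F] [CharP F 3] {i : F}

theorem toM_pw (hi : i * i = -1) (A : M9) : ∀ n, toM i (pw A n) = toM i A ^ n
  | 0 => by rw [pw, toM_one, pow_zero]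
  | n + 1 => by rw [pw, toM_mm hi, toM_pw hi A n, pow_succ]

theorem no_iso_vector : ∀ u v : ZMod 3, v ≠ 0 → u * u + v * v ≠ 0 := by decide

theorem toF_injective (hi : i * i = -1) {x y : E} (hx : x.1 < 3 ∧ x.2 < 3) (hy : y.1 < 3 ∧ y.2 < 3)
    (h : toF i x = toF i y) : x = y := by
  obtain ⟨a, b⟩ := x; obtain ⟨c, d⟩ := y
  haveI : Fact (Nat.Prime 3) := ⟨Nat.prime_three⟩
  let φ : ZMod 3 →+* F := ZMod.castHom dvd_rfl F
  have h' : φ ((a : ZMod 3) - c) + φ ((b : ZMod 3) - d) * i = 0 := by
    simp only [map_sub, map_natCast, φ]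
    simp only [toF] at h
    linear_combination h
  by_cases hb : (b : ZMod 3) - d = 0
  · rw [hb, map_zero, zero_mul, add_zero, map_eq_zero, sub_eq_zero, ZMod.natCast_eq_natCast_iff'] at h'
    rw [sub_eq_zero, ZMod.natCast_eq_natCast_iff'] at hb
    rw [Nat.mod_eq_of_lt hx.1, Nat.mod_eq_of_lt hy.1] at h'
    rw [Nat.mod_eq_of_lt hx.2, Nat.mod_eq_of_lt hy.2] at hb
    exact Prod.ext h' hb
  · exfalso
    refine no_iso_vector ((a : ZMod 3) - c) _ hb (φ.injective ?_)
    rw [map_zero, map_add, map_mul, map_mul]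
    linear_combination (φ ((a : ZMod 3) - c) - φ ((b : ZMod 3) - d) * i) * h' +
      (φ ((b : ZMod 3) - d)) ^ 2 * hi

/-- entries below three -/
def red : M9 → Bool
  | ((a, b, c), (d, e, f), (g, h, k)) =>
    [a, b, c, d, e, f, g, h, k].all fun x => decide (x.1 < 3) && decide (x.2 < 3)

theorem toM_injective (hi : i * i = -1) {A B : M9} (hA : red A = true) (hB : red B = true)
    (h : toM i A = toM i B) : A = B := by
  obtain ⟨⟨a, b, c⟩, ⟨d, e, f⟩, ⟨g, k, l⟩⟩ := A
  obtain ⟨⟨a', b', c'⟩, ⟨d', e', f'⟩, ⟨g', k', l'⟩⟩ := B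
  simp only [red, List.all_cons, List.all_nil, Bool.and_true, Bool.and_eq_true, decide_eq_true_eq] at hA hB
  obtain ⟨h1, h2, h3, h4, h5, h6, h7, h8, h9⟩ := hA
  obtain ⟨k1, k2, k3, k4, k5, k6, k7, k8, k9⟩ := hB
  have e := fun r s => congrFun (congrFun h r) s
  have q1 := toF_injective hi h1 k1 (by simpa [toM] using e 0 0)
  have q2 := toF_injective hi h2 k2 (by simpa [toM] using e 0 1)
  have q3 := toF_injective hi h3 k3 (by simpa [toM] using e 0 2)
  have q4 := toF_injective hi h4 k4 (by simpa [toM] using e 1 0)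
  have q5 := toF_injective hi h5 k5 (by simpa [toM] using e 1 1)
  have q6 := toF_injective hi h6 k6 (by simpa [toM] using e 1 2)
  have q7 := toF_injective hi h7 k7 (by simpa [toM] using e 2 0)
  have q8 := toF_injective hi h8 k8 (by simpa [toM] using e 2 1)
  have q9 := toF_injective hi h9 k9 (by simpa [toM] using e 2 2)
  rw [q1, q2, q3, q4, q5, q6, q7, q8, q9]

theorem red_checks : ((tbl.all red) && red gW && (tbl.all fun x => red (mm (mm gWi x) gW))) = true := by
  decide +kernel

/-- the datum -/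
theorem exists_datum (hF : Nat.card F = 9) [Fintype F] :
    ∃ D : Datum (Cfsg.SU 3 F 3), Nat.card (Cfsg.SU 3 F 3) = 6048 → Valid D := by
  classical
  haveI : Fact (Nat.Prime 2) := ⟨Nat.prime_two⟩
  obtain ⟨i, hi⟩ : ∃ i : F, i * i = -1 := by
    have hsq : IsSquare (-1 : F) := by
      rw [FiniteField.isSquare_neg_one_iff, ← Nat.card_eq_fintype_card, hF]; norm_num
    obtain ⟨i, hi⟩ := hsq
    exact ⟨i, hi.symm⟩
  obtain ⟨hwc, hnc, hmc⟩ := And.intro w_check (And.intro normal_check mul_check)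
  simp only [Bool.and_eq_true, beq_iff_eq, Bool.not_eq_true'] at hwc
  obtain ⟨⟨⟨⟨⟨⟨⟨⟨⟨⟨⟨⟨hwu, hwd⟩, hwwi⟩, hwiw⟩, hwmem⟩, hwt⟩, ht8⟩, ha3⟩, hz3⟩, hb3⟩, haz⟩, hone⟩, hlen⟩ := hwc
  have mk : ∀ A : M9, mm (tr A) (cjM A) = one9 → det9 A = (1, 0) →
      ∃ g : Cfsg.SU 3 F 3, (g.1.1 : Matrix (Fin 3) (Fin 3) F) = toM i A := by
    intro A h1 h2
    refine ⟨⟨⟨toM i A, ?_⟩, ?_⟩, rfl⟩
    · rw [det_toM hi, h2]; simp [toF]
    · exact preserves_of_gram (show (toM i A)ᵀ * (toM i A).map (· ^ 3) = 1 by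
        rw [← toM_tr, ← toM_cjM hi, ← toM_mm hi, h1, toM_one])
  have hg := gens_check
  simp only [gens, List.all_cons, List.all_nil, Bool.and_true, Bool.and_eq_true, beq_iff_eq] at hg
  obtain ⟨⟨a1, a2⟩, ⟨b1, b2⟩, ⟨c1, c2⟩, ⟨d1, d2⟩⟩ := hg
  obtain ⟨A, hA⟩ := mk gA a1 a2
  obtain ⟨B₀, hB⟩ := mk gB b1 b2
  obtain ⟨Z, hZ⟩ := mk gZ c1 c2
  obtain ⟨T, hT⟩ := mk gT d1 d2
  obtain ⟨W, hW⟩ := mk gW hwu hwd
  let M : Cfsg.SU 3 F 3 →* Matrix (Fin 3) (Fin 3) F :=
    { toFun := fun g => (g.1.1 : Matrix (Fin 3) (Fin 3) F)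
      map_one' := rfl
      map_mul' := fun _ _ => rfl }
  have hM : Function.Injective M := fun g g' h => Subtype.ext (Subtype.ext h)
  replace hA : M A = toM i gA := hA
  replace hB : M B₀ = toM i gB := hB
  replace hZ : M Z = toM i gZ := hZ
  replace hT : M T = toM i gT := hT
  replace hW : M W = toM i gW := hW
  let S : Subgroup (Cfsg.SU 3 F 3) := Subgroup.closure {A, B₀, Z, T}
  have hAS : A ∈ S := Subgroup.subset_closure (by simp)
  have hBS : B₀ ∈ S := Subgroup.subset_closure (by simp)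
  have hZS : Z ∈ S := Subgroup.subset_closure (by simp)
  have hTS : T ∈ S := Subgroup.subset_closure (by simp)
  simp only [List.all_eq_true, List.mem_range, List.any_eq_true, Bool.and_eq_true, beq_iff_eq] at hmc hnc
  -- every element is in the table, with an additive exponent
  have key : ∀ g ∈ S, ∀ x < 216, ∃ y < 216, toM i (ent x) * M g = toM i (ent y) ∧
      ∃ q : ℕ, ∀ x' < 216, ∀ y' < 216, toM i (ent x') * M g = toM i (ent y') →
        y' / 27 % 8 = (x' / 27 + q) % 8 := by
    intro g hg x hx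
    have hred : ∀ x < 216, red (ent x) = true := fun x hx => by
      have h := red_checks
      simp only [Bool.and_eq_true, List.all_eq_true] at h
      refine h.1.1 _ ?_
      rw [ent, List.getD_eq_getElem _ _ (by rw [hlen]; exact hx)]
      exact List.getElem_mem _
    have hdist : ∀ x < 216, ∀ y < 216, toM i (ent x) = toM i (ent y) → x = y := fun x hx y hy h => by
      have hd := distinct_check
      simp only [List.all_eq_true, List.mem_range, Bool.or_eq_true, beq_iff_eq, Bool.not_eq_true'] at hd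
      refine (hd x hx y hy).resolve_right fun hh => ?_
      rw [toM_injective hi (hred x hx) (hred y hy) h] at hh
      simp at hh
    have hg' : g ∈ Submonoid.closure ({A, B₀, Z, T} : Set (Cfsg.SU 3 F 3)) := by
      rw [← Subgroup.closure_toSubmonoid_of_finite]; exact hg
    suffices H : ∃ q : ℕ, ∀ x < 216, ∃ y < 216, toM i (ent x) * M g = toM i (ent y) ∧
        y / 27 % 8 = (x / 27 + q) % 8 by
      obtain ⟨q, hq⟩ := H
      obtain ⟨y, hy, h1, -⟩ := hq x hx
      refine ⟨y, hy, h1, q, fun x' hx' y' hy' he => ?_⟩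
      obtain ⟨y'', hy'', h3, h4⟩ := hq x' hx'
      rwa [hdist y' hy' y'' hy'' (he.symm.trans h3)]
    clear hx hg x
    induction hg' using Submonoid.closure_induction with
    | mem g hgs =>
      obtain ⟨p, hp, hpM⟩ : ∃ p ∈ gens, M g = toM i p.1 := by
        rcases hgs with rfl | rfl | rfl | rfl
        · exact ⟨(gA, 0), by simp [gens], hA⟩
        · exact ⟨(gB, 0), by simp [gens], hB⟩
        · exact ⟨(gZ, 0), by simp [gens], hZ⟩
        · exact ⟨(gT, 1), by simp [gens], hT⟩
      refine ⟨p.2, fun x hx => ?_⟩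
      obtain ⟨y, hy, h1, h2⟩ := hmc x hx p hp
      exact ⟨y, hy, by rw [hpM, ← toM_mm hi, h2], by rw [h1, Nat.mod_mod]⟩
    | one => exact ⟨0, fun x hx => ⟨x, hx, by rw [map_one, mul_one], by simp⟩⟩
    | mul g g' _ _ ih ih' =>
      obtain ⟨q, hq⟩ := ih
      obtain ⟨q', hq'⟩ := ih'
      refine ⟨q + q', fun x hx => ?_⟩
      obtain ⟨y, hy, h1, h2⟩ := hq x hx
      obtain ⟨y', hy', h1', h2'⟩ := hq' y hy
      exact ⟨y', hy', by rw [map_mul, ← mul_assoc, h1, h1'], by omega⟩
  have hred : ∀ x < 216, red (ent x) = true := fun x hx => by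
    have h := red_checks
    simp only [Bool.and_eq_true, List.all_eq_true] at h
    refine h.1.1 _ ?_
    rw [ent, List.getD_eq_getElem _ _ (by rw [hlen]; exact hx)]
    exact List.getElem_mem _
  have hdist : ∀ x < 216, ∀ y < 216, toM i (ent x) = toM i (ent y) → x = y := fun x hx y hy h => by
    have hd := distinct_check
    simp only [List.all_eq_true, List.mem_range, Bool.or_eq_true, beq_iff_eq, Bool.not_eq_true'] at hd
    refine (hd x hx y hy).resolve_right fun hh => ?_
    rw [toM_injective hi (hred x hx) (hred y hy) h] at hh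
    simp at hh
  have hidx : ∀ g : S, ∃ y < 216, M g.1 = toM i (ent y) := fun g => by
    obtain ⟨y, hy, h1, -⟩ := key g.1 g.2 0 (by norm_num)
    exact ⟨y, hy, by rwa [hone, toM_one, one_mul] at h1⟩
  choose ix hix hixM using hidx
  have hixu : ∀ (g : S) (y : ℕ), y < 216 → M g.1 = toM i (ent y) → ix g = y := fun g y hy he =>
    hdist _ (hix g) _ hy ((hixM g).symm.trans he)
  let e : S →* Multiplicative (ZMod 8) :=
    { toFun := fun g => Multiplicative.ofAdd ((ix g / 27 : ℕ) : ZMod 8)
      map_one' := by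
        rw [hixu 1 0 (by norm_num) (by rw [hone, toM_one]; exact map_one M)]
        simp
      map_mul' := fun g g' => by
        obtain ⟨y, -, -, q, hq⟩ := key g'.1 g'.2 0 (by norm_num)
        have h1 := hq 0 (by norm_num) (ix g') (hix g') (by rw [hone, toM_one, one_mul, hixM])
        have h2 := hq (ix g) (hix g) (ix (g * g')) (hix _) (by rw [← hixM, ← hixM, ← map_mul]; rfl)
        rw [← ofAdd_add, ← Nat.cast_add]
        congr 1
        rw [ZMod.natCast_eq_natCast_iff']
        omega }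
  let D : Datum (Cfsg.SU 3 F 3) := ⟨S, e, W, ⟨T, hTS⟩, ⟨A, hAS⟩, ⟨B₀, hBS⟩, ⟨Z, hZS⟩⟩
  refine ⟨D, fun hcard => ?_⟩
  have hMel : ∀ (a b c : ZMod 3), M (el D.a D.b D.z a b c).1 =
      toM i gA ^ a.val * toM i gB ^ b.val * toM i gZ ^ c.val := fun a b c => by
    show M (A ^ a.val * B₀ ^ b.val * Z ^ c.val) = _
    simp only [map_mul, map_pow, hA, hB, hZ]
  have hpos : ∀ (m : ZMod 8) (a b c : ZMod 3), pos m a b c < 216 ∧ pos m a b c / 27 = m.val := fun m a b c => by
    have := ZMod.val_lt m; have := ZMod.val_lt a; have := ZMod.val_lt b; have := ZMod.val_lt c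
    simp only [pos]
    omega
  have hform : ∀ (m : ZMod 8) (a b c : ZMod 3), M ((el D.a D.b D.z a b c * D.t ^ m.val : S) : Cfsg.SU 3 F 3) = toM i (ent (pos m a b c)) := by
    intro m a b c
    have h := hnc m.val (ZMod.val_lt m) a.val (ZMod.val_lt a) b.val (ZMod.val_lt b) c.val (ZMod.val_lt c)
    rw [pos, h, toM_mm hi, toM_mm hi, toM_mm hi, toM_pw hi, toM_pw hi, toM_pw hi, toM_pw hi]
    rw [Subgroup.coe_mul, map_mul, hMel, Subgroup.coe_pow, map_pow]
    show _ * M T ^ m.val = _
    rw [hT]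
  have hixel : ∀ (m : ZMod 8) (a b c : ZMod 3), ix (el D.a D.b D.z a b c * D.t ^ m.val) = pos m a b c := fun m a b c =>
    hixu _ _ (hpos m a b c).1 (hform m a b c)
  have hdecomp : ∀ g : S, ∃ (m : ZMod 8) (a b c : ZMod 3), g = el D.a D.b D.z a b c * D.t ^ m.val := fun g => by
    refine ⟨((ix g / 27 : ℕ) : ZMod 8), ((ix g / 9 % 3 : ℕ) : ZMod 3), ((ix g / 3 % 3 : ℕ) : ZMod 3),
      ((ix g % 3 : ℕ) : ZMod 3), Subtype.ext (hM ?_)⟩
    rw [hform, hixM]
    congr 2
    have := hix g
    simp only [pos, ZMod.val_natCast]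
    omega
  constructor
  · exact hcard
  · let p : ZMod 8 × ZMod 3 × ZMod 3 × ZMod 3 → S := fun q => el D.a D.b D.z q.2.1 q.2.2.1 q.2.2.2 * D.t ^ q.1.val
    have hb : Function.Bijective p := by
      refine ⟨fun q q' he => ?_, fun g => ?_⟩
      · have := congrArg ix he
        simp only [p, hixel, pos] at this
        obtain ⟨m, a, b, c⟩ := q; obtain ⟨m', a', b', c'⟩ := q'
        simp only at this
        have := ZMod.val_lt m; have := ZMod.val_lt a; have := ZMod.val_lt b; have := ZMod.val_lt c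
        have := ZMod.val_lt m'; have := ZMod.val_lt a'; have := ZMod.val_lt b'; have := ZMod.val_lt c'
        simp only [Prod.mk.injEq]
        exact ⟨ZMod.val_injective _ (by omega), ZMod.val_injective _ (by omega), ZMod.val_injective _ (by omega),
          ZMod.val_injective _ (by omega)⟩
      · obtain ⟨m, a, b, c, hg⟩ := hdecomp g
        exact ⟨(m, a, b, c), hg.symm⟩
    show Nat.card S = 216
    rw [← Nat.card_eq_of_bijective p hb]
    simp
  · show Multiplicative.ofAdd _ = _
    have h := hixel 1 0 0 0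
    rw [show el D.a D.b D.z 0 0 0 * D.t ^ (1 : ZMod 8).val = D.t by simp [el, show (1 : ZMod 8).val = 1 from rfl]] at h
    show Multiplicative.ofAdd ((ix D.t / 27 : ℕ) : ZMod 8) = _
    rw [h, (hpos 1 0 0 0).2, ZMod.natCast_zmod_val]
  · refine Subtype.ext (hM ?_)
    show M (T ^ 8) = M 1
    rw [map_pow, hT, ← toM_pw hi, ht8, toM_one, map_one]
  · intro hW'
    have hWmem : W ∈ S := hW'
    have he := (hixM ⟨W, hWmem⟩).symm.trans hW
    have := toM_injective hi (hred _ (hix _)) (by have h := red_checks; simp only [Bool.and_eq_true] at h; exact h.1.2) he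
    have hin : gW ∈ tbl := by
      rw [← this, ent, List.getD_eq_getElem _ _ (by rw [hlen]; exact hix _)]
      exact List.getElem_mem _
    simp only [List.any_eq_false, beq_iff_eq] at hwmem
    exact hwmem gW hin rfl
  · intro x hx
    have hWi : M W⁻¹ = toM i gWi := by
      have h1 : M W⁻¹ * M W = 1 := by rw [← map_mul, inv_mul_cancel, map_one]
      have h2 : M W * toM i gWi = 1 := by rw [hW, ← toM_mm hi, hwwi, toM_one]
      exact left_inv_eq_right_inv h1 h2
    have he : M (W⁻¹ * (x : Cfsg.SU 3 F 3) * W) = toM i (mm (mm gWi (ent (ix x))) gW) := by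
      rw [map_mul, map_mul, hWi, hixM, hW, toM_mm hi, toM_mm hi]
    have hc := inter_check
    simp only [List.all_eq_true, List.mem_range, Bool.or_eq_true, beq_iff_eq, Bool.not_eq_true',
      List.any_eq_false] at hc
    rcases hc (ix x) (hix x) with h0 | hno
    · obtain ⟨m, a, b, c, hg⟩ := hdecomp x
      refine ⟨m, ?_⟩
      have h3 := hixel m a b c
      rw [← hg] at h3
      rw [h3] at h0
      simp only [pos] at h0
      have := ZMod.val_lt a; have := ZMod.val_lt b; have := ZMod.val_lt c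
      have ha : a = 0 := ZMod.val_injective _ (by rw [ZMod.val_zero]; omega)
      have hb : b = 0 := ZMod.val_injective _ (by rw [ZMod.val_zero]; omega)
      have hc' : c = 0 := ZMod.val_injective _ (by rw [ZMod.val_zero]; omega)
      rw [hg, ha, hb, hc']
      simp [el]
    · exfalso
      have h4 := (hixM ⟨_, hx⟩).symm.trans he
      have hr := red_checks
      simp only [Bool.and_eq_true, List.all_eq_true] at hr
      have hmem : ∀ k < 216, ent k ∈ tbl := fun k hk => by
        rw [ent, List.getD_eq_getElem _ _ (by rw [hlen]; exact hk)]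
        exact List.getElem_mem _
      exact hno _ (hmem _ (hix _)) (toM_injective hi (hred _ (hix _)) (hr.2 _ (hmem _ (hix x))) h4)
  · refine hM ?_
    have hWi : M W⁻¹ = toM i gWi := by
      have h1 : M W⁻¹ * M W = 1 := by rw [← map_mul, inv_mul_cancel, map_one]
      have h2 : M W * toM i gWi = 1 := by rw [hW, ← toM_mm hi, hwwi, toM_one]
      exact left_inv_eq_right_inv h1 h2
    show M (W⁻¹ * T * W) = M (T ^ 5)
    rw [map_mul, map_mul, map_pow, hWi, hT, hW, ← toM_mm hi, ← toM_mm hi, hwt, toM_pw hi]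
  · refine Subtype.ext (hM ?_)
    show M (A ^ 3) = M 1
    rw [map_pow, hA, ← toM_pw hi, ha3, toM_one, map_one]
  · refine Subtype.ext (hM ?_)
    show M (Z ^ 3) = M 1
    rw [map_pow, hZ, ← toM_pw hi, hz3, toM_one, map_one]
  · refine Subtype.ext (hM ?_)
    show M (A * Z) = M (Z * A)
    rw [map_mul, map_mul, hA, hZ, ← toM_mm hi, ← toM_mm hi, haz]
  · intro x hx
    obtain ⟨m, a, b, c, hg⟩ := hdecomp x
    refine ⟨a, b, c, ?_⟩
    have h0 : ((ix x / 27 : ℕ) : ZMod 8) = 0 := Multiplicative.ofAdd.injective (hx.trans (ofAdd_zero).symm)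
    have h3 := hixel m a b c
    rw [← hg] at h3
    rw [h3, (hpos m a b c).2, ZMod.natCast_zmod_val] at h0
    rw [hg, h0]
    simp
  · intro a b c
    show Multiplicative.ofAdd ((ix _ / 27 : ℕ) : ZMod 8) = 1
    have h := hixel 0 a b c
    rw [ZMod.val_zero, pow_zero, mul_one] at h
    rw [h, (hpos 0 a b c).2]
    simp
  · intro a b c a' b' c' he
    have h := hixel 0 a b c
    rw [ZMod.val_zero, pow_zero, mul_one, he] at h
    have h' := hixel 0 a' b' c'
    rw [ZMod.val_zero, pow_zero, mul_one, h] at h'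
    simp only [pos] at h'
    have := ZMod.val_lt a; have := ZMod.val_lt b; have := ZMod.val_lt c
    have := ZMod.val_lt a'; have := ZMod.val_lt b'; have := ZMod.val_lt c'
    exact ⟨ZMod.val_injective _ (by omega), ZMod.val_injective _ (by omega), ZMod.val_injective _ (by omega)⟩
  · have hcc := conj_check
    simp only [Bool.and_eq_true, beq_iff_eq] at hcc
    refine ⟨⟨T, hTS⟩, Subtype.ext (hM ?_)⟩
    show M (T * Z * T⁻¹) = M Z⁻¹
    rw [show T⁻¹ = T ^ 7 from inv_eq_of_mul_eq_one_right (hM (by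
      rw [map_mul, map_pow, hT, ← pow_succ', ← toM_pw hi, ht8, toM_one, map_one])),
      show Z⁻¹ = Z ^ 2 from inv_eq_of_mul_eq_one_right (hM (by
      rw [map_mul, map_pow, hZ, ← pow_succ', ← toM_pw hi, hz3, toM_one, map_one]))]
    simp only [map_mul, map_pow, hT, hZ, ← toM_pw hi, ← toM_mm hi, hcc.1.1]
  · have hcc := conj_check
    simp only [Bool.and_eq_true, beq_iff_eq] at hcc
    have hBi : B₀⁻¹ = B₀ ^ 2 := inv_eq_of_mul_eq_one_right (hM (by
      rw [map_mul, map_pow, hB, ← pow_succ', ← toM_pw hi, hb3, toM_one, map_one]))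
    refine ⟨⟨B₀, hBS⟩, Subtype.ext (hM ?_), Subtype.ext (hM ?_)⟩
    · show M (B₀ * A * B₀⁻¹) = M (A * Z)
      rw [hBi]
      simp only [map_mul, map_pow, hA, hB, hZ, ← toM_pw hi, ← toM_mm hi, hcc.1.2]
    · show M (B₀ * Z * B₀⁻¹) = M Z
      rw [hBi]
      simp only [map_mul, map_pow, hB, hZ, ← toM_pw hi, ← toM_mm hi, hcc.2]
  · intro a b hab
    have hc := trans_check
    simp only [List.all_eq_true, List.mem_range, Bool.or_eq_true, Bool.and_eq_true, beq_iff_eq, List.any_eq_true]
      at hc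
    rcases hc a.val (ZMod.val_lt a) b.val (ZMod.val_lt b) with ⟨h1, h2⟩ | ⟨m, hm, c, hc', s, hs, hk⟩
    · exfalso
      rcases hab with h | h
      · exact h (ZMod.val_injective _ (h1.trans ZMod.val_zero.symm))
      · exact h (ZMod.val_injective _ (h2.trans ZMod.val_zero.symm))
    refine ⟨⟨T, hTS⟩ ^ m, (c : ZMod 3), (s : ZMod 3), ?_, fun k => Subtype.ext (hM ?_)⟩
    · simp only [List.mem_cons, List.not_mem_nil, or_false] at hs
      rcases hs with rfl | rfl <;> decide
    · have hti : (T ^ m)⁻¹ = T ^ ((8 - m) % 8) := by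
        refine inv_eq_of_mul_eq_one_right (hM ?_)
        rw [← pow_add, map_pow, hT, map_one, ← toM_pw hi]
        rcases (by omega : m + (8 - m) % 8 = 8 ∨ m + (8 - m) % 8 = 0) with e | e <;> rw [e]
        · rw [ht8, toM_one]
        · exact toM_one
      show M (T ^ m * (A * Z ^ k.val) * (T ^ m)⁻¹) = M (el D.a D.b D.z a b ((c : ZMod 3) + (s : ZMod 3) * k)).1
      rw [hti]
      simp only [map_mul, map_pow, hA, hZ, hT, ← toM_pw hi, ← toM_mm hi]
      rw [hk k.val (ZMod.val_lt k)]
      have hval : ((c : ZMod 3) + (s : ZMod 3) * k).val = (c + s * k.val) % 3 := by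
        simp only [ZMod.val_add, ZMod.val_mul, ZMod.val_natCast, Nat.add_mod, Nat.mul_mod, Nat.mod_mod]
      have h := hform 0 a b ((c : ZMod 3) + (s : ZMod 3) * k)
      rw [pos, hval, ZMod.val_zero, pow_zero, mul_one] at h
      exact h.symm

end CfsgLib.Recog.UnitaryBorel
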