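import Mathlib
import Cfsg.Agent.Lib.ZStar.SLTwoThree
import Cfsg.Agent.Lib.Perm.CubicCases

/-!
Groups of order `48` with a self-centralizing normal quaternion group of order `8`:
the frame `(ι, y, s)` and recognition of `GL(2,3)`.
-/

set_option autoImplicit false
set_option linter.style.haveILetI false

namespace CfsgLib.GLTwoThree

open CfsgLib.ZStar CfsgLib.Classical.Two
open scoped MatrixGroups

/-- The automorphism induced by `diag(1,-1)`. -/
def q8Tau : QuaternionGroup 2 → QuaternionGroup 2 := q8Map (.a 3) (.xa 1)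

abbrev IsHomMap (x y : QuaternionGroup 2) : Prop :=
  ∀ z w, q8Map x y (z * w) = q8Map x y z * q8Map x y w

set_option maxRecDepth 10000 in
set_option synthInstance.maxSize 2000 in
theorem frame_dec : ∀ x y : QuaternionGroup 2, IsHomMap x y →
    (∀ z, q8Map x y (q8Map x y z) = z) → (¬ ∃ w, ∀ z, q8Map x y z = w * z * w⁻¹) →
    ∃ a b : QuaternionGroup 2, (∀ z, q8Map x y (q8Map a b z) = q8Map a b (q8Tau z)) ∧
      ∃ f : QuaternionGroup 2,
        ((∀ z, f * q8Sigma (f⁻¹ * q8Map a b z * f) * f⁻¹ = q8Map a b (q8Sigma z)) ∨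
          (∀ z, f * q8Sigma (q8Sigma (f⁻¹ * q8Map a b z * f)) * f⁻¹ = q8Map a b (q8Sigma z))) ∧
        (∀ z, q8Map a b z = 1 → z = 1) ∧ IsHomMap a b := by
  decide +kernel

set_option maxRecDepth 10000 in
set_option synthInstance.maxSize 2000 in
theorem square_dec : ∀ x y : QuaternionGroup 2, IsHomMap x y →
    (∀ z, q8Map x y (q8Map x y (q8Map x y (q8Map x y z))) = z) → (∀ z, q8Map x y z = 1 → z = 1) →
    (¬ ∃ w, ∀ z, q8Map x y z = w * z * w⁻¹) →
    ∃ f, ∀ z, q8Map x y (f * q8Map x y (f * z * f⁻¹) * f⁻¹) = z := by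
  decide +kernel

theorem sq_central : ∀ w z : QuaternionGroup 2, w * w * z = z * (w * w) := by decide

theorem tau_sigma : ∀ z, q8Tau (q8Sigma (q8Tau (q8Sigma z))) = z := by decide

theorem tau_tau : ∀ z, q8Tau (q8Tau z) = z := by decide

theorem central_cube : ∀ w : QuaternionGroup 2, (∀ z, w * z = z * w) →
    q8Sigma w = w ∧ (w * w * w = 1 → w = 1) := by decide

theorem sigma_hom : ∀ z w, q8Sigma (z * w) = q8Sigma z * q8Sigma w := by decide

theorem tau_hom : ∀ z w, q8Tau (z * w) = q8Tau z * q8Tau w := by decide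

theorem card_mulAut_le : Nat.card (MulAut (QuaternionGroup 2)) ≤ 24 := by
  let T := {p : QuaternionGroup 2 × QuaternionGroup 2 //
    p.1 * p.1 ≠ 1 ∧ p.2 * p.2 ≠ 1 ∧ p.2 ≠ p.1 ∧ p.2 ≠ p.1⁻¹}
  have hT : Nat.card T = 24 := by rw [Nat.card_eq_fintype_card]; decide
  rw [← hT]
  refine Nat.card_le_card_of_injective (fun β => (⟨(β (.a 1), β (.xa 0)), ?_⟩ : T)) ?_
  · have key : (QuaternionGroup.a 1 * QuaternionGroup.a 1 : QuaternionGroup 2) ≠ 1 ∧
        (QuaternionGroup.xa 0 * QuaternionGroup.xa 0 : QuaternionGroup 2) ≠ 1 ∧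
        (QuaternionGroup.xa 0 : QuaternionGroup 2) ≠ QuaternionGroup.a 1 ∧
        (QuaternionGroup.xa 0 : QuaternionGroup 2) ≠ (QuaternionGroup.a 1)⁻¹ := by decide
    refine ⟨?_, ?_, fun h => key.2.2.1 (β.injective h),
      fun h => key.2.2.2 (β.injective (h.trans (map_inv β _).symm))⟩
    · show β (.a 1) * β (.a 1) ≠ 1
      rw [← map_mul, ← map_one β]; exact fun h => key.1 (β.injective h)
    · show β (.xa 0) * β (.xa 0) ≠ 1
      rw [← map_mul, ← map_one β]; exact fun h => key.2.1 (β.injective h)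
  · intro β γ h
    have h' := congrArg Subtype.val h
    refine MulEquiv.ext fun z => ?_
    have hb := q8Map_eq β z
    rw [show β (.a 1) = γ (.a 1) from congrArg Prod.fst h',
      show β (.xa 0) = γ (.xa 0) from congrArg Prod.snd h'] at hb
    exact hb.symm.trans (q8Map_eq γ z)

section Frame

variable {G : Type*} [Group G] [Finite G] (F : Subgroup G) [F.Normal]

/-- Conjugation on `F` read on `QuaternionGroup 2`. -/
def act (e : QuaternionGroup 2 ≃* F) : G →* MulAut (QuaternionGroup 2) :=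
  (MulAut.congr e.symm).toMonoidHom.comp MulAut.conjNormal

theorem act_spec (e : QuaternionGroup 2 ≃* F) (g : G) (z : QuaternionGroup 2) :
    (e (act F e g z) : G) = g * (e z : G) * g⁻¹ := by
  show (e (e.symm (MulAut.conjNormal g (e z))) : G) = _
  rw [e.apply_symm_apply, MulAut.conjNormal_apply]

variable {F}

theorem act_mem_inner (e : QuaternionGroup 2 ≃* F) (w : QuaternionGroup 2) (z : QuaternionGroup 2) :
    act F e (e w : G) z = w * z * w⁻¹ := by
  refine e.injective (Subtype.ext ?_)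
  rw [act_spec]
  simp

theorem act_eq_one (e : QuaternionGroup 2 ≃* F) (hC : Subgroup.centralizer (F : Set G) ≤ F)
    {g : G} (hg : ∀ z, act F e g z = z) :
    ∃ w, (e w : G) = g ∧ ∀ z, w * z = z * w := by
  have hgC : g ∈ Subgroup.centralizer (F : Set G) := Subgroup.mem_centralizer_iff.2 fun x hx => by
    have h := congrArg (fun v => (e v : G)) (hg (e.symm ⟨x, hx⟩))
    simp only [act_spec, e.apply_symm_apply] at h
    exact (mul_inv_eq_iff_eq_mul.1 h).symm
  refine ⟨e.symm ⟨g, hC hgC⟩, by rw [e.apply_symm_apply], fun z => ?_⟩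
  refine e.injective (Subtype.ext ?_)
  rw [map_mul, map_mul, e.apply_symm_apply]
  exact (Subgroup.mem_centralizer_iff.1 hgC _ (e z).2).symm

theorem not_inner (e : QuaternionGroup 2 ≃* F) (hC : Subgroup.centralizer (F : Set G) ≤ F)
    {s : G} (hs : s ∉ F) : ¬ ∃ w, ∀ z, act F e s z = w * z * w⁻¹ := by
  rintro ⟨w, hw⟩
  obtain ⟨v, hv, -⟩ := act_eq_one e hC (g := (e w : G)⁻¹ * s) fun z => by
    rw [map_mul, MulAut.mul_apply, hw, map_inv, ← act_mem_inner e w, MulAut.inv_apply_self]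
  refine hs ?_
  rw [show s = (e w : G) * (e v : G) by rw [hv, mul_inv_cancel_left]]
  exact mul_mem (e w).2 (e v).2

/-- Some element of the coset `sF` squares into the centre. -/
theorem exists_square_central (e : QuaternionGroup 2 ≃* F) (hC : Subgroup.centralizer (F : Set G) ≤ F)
    {u : G} (hu : u ∉ F) (hu2 : u * u ∈ F) :
    ∃ s : G, s ∉ F ∧ ∀ z, act F e (s * s) z = z := by
  have hm := q8Map_eq (act F e u)
  have h4 : ∀ z, act F e u (act F e u (act F e u (act F e u z))) = z := by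
    intro z
    show ((act F e u * act F e u) * (act F e u * act F e u)) z = z
    rw [← map_mul, ← map_mul, show (u * u : G) = (e (e.symm ⟨_, hu2⟩) : G) by rw [e.apply_symm_apply],
      ← Subgroup.coe_mul, ← map_mul, act_mem_inner, sq_central, mul_inv_cancel_right]
  obtain ⟨f, hf⟩ := square_dec (act F e u (.a 1)) (act F e u (.xa 0))
    (fun z w => by simp only [hm, map_mul]) (fun z => by simp only [hm]; exact h4 z)
    (fun z hz => by rw [hm] at hz; exact (act F e u).injective (hz.trans (map_one _).symm))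
    (fun ⟨w, hw⟩ => not_inner e hC hu ⟨w, fun z => (hm z).symm.trans (hw z)⟩)
  refine ⟨u * (e f : G), fun h => hu ?_, fun z => ?_⟩
  · rw [show u = u * (e f : G) * (e f : G)⁻¹ by rw [mul_inv_cancel_right]]
    exact mul_mem h (inv_mem (e f).2)
  · have h := hf z
    simp only [hm] at h
    simp only [map_mul (act F e), MulAut.mul_apply, act_mem_inner]
    exact h

/-- The frame: a quaternion embedding and an element of order three inverted by `s`. -/
theorem exists_frame (e : QuaternionGroup 2 ≃* F) (hC : Subgroup.centralizer (F : Set G) ≤ F)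
    (h3 : 3 ∣ Nat.card G) {s : G} (hs : s ∉ F) (hs2 : ∀ z, act F e (s * s) z = z) :
    ∃ (e' : QuaternionGroup 2 ≃* F) (y : G), y ^ 3 = 1 ∧ y ∉ F ∧
      (∀ z, act F e' y z = q8Sigma z) ∧ (∀ z, act F e' s z = q8Tau z) := by
  haveI := Fact.mk Nat.prime_three
  obtain ⟨y₀, hy₀⟩ := exists_prime_orderOf_dvd_card' 3 h3
  have hno : ∀ (w : QuaternionGroup 2), orderOf (e w : G) ≠ 3 := by
    have h : ∀ w : QuaternionGroup 2, w ^ 3 = 1 → w = 1 := by decide
    intro w hw
    rw [Subgroup.orderOf_coe, MulEquiv.orderOf_eq] at hw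
    have := h w (by rw [← hw]; exact pow_orderOf_eq_one w)
    rw [this, orderOf_one] at hw
    omega
  have hy₀3 : y₀ ^ 3 = 1 := by rw [← hy₀]; exact pow_orderOf_eq_one y₀
  have hne : act F e y₀ ≠ 1 := fun h => by
    obtain ⟨w, hw, -⟩ := act_eq_one e hC (g := y₀) fun z => by rw [h, MulAut.one_apply]
    exact hno w (hw ▸ hy₀)
  obtain ⟨c, hc, i, hi, hic⟩ := exists_twist (act F e y₀) (j := 3) (by decide)
    (by rw [← map_pow, hy₀3, map_one]) hne
  let cE : QuaternionGroup 2 ≃* QuaternionGroup 2 :=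
    MulEquiv.ofBijective c ((Finite.injective_iff_bijective).1 hc)
  let e₁ := cE.trans e
  set y₁ := y₀ ^ i with hy₁
  have hy₁o : orderOf y₁ = 3 := by
    rw [hy₁, Nat.Coprime.orderOf_pow (by rw [hy₀]; rcases hi with rfl | rfl <;> decide)]
    exact hy₀
  have hy₁c : ∀ z, act F e₁ y₁ z = q8Sigma z := fun z => by
    refine e₁.injective (Subtype.ext ?_)
    rw [act_spec]
    show y₁ * (e (c z) : G) * y₁⁻¹ = (e (c (q8Sigma z)) : G)
    rw [← act_spec, ← hic z, hy₁, map_pow]
  have hs2' : ∀ z, act F e₁ (s * s) z = z := fun z => by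
    refine e₁.injective (Subtype.ext ?_)
    rw [act_spec]
    show s * s * (e (c z) : G) * (s * s)⁻¹ = (e (c z) : G)
    rw [← act_spec, hs2]
  have hm := q8Map_eq (act F e₁ s)
  obtain ⟨a, b, hτ, f, hσ, hinj, hhom⟩ := frame_dec (act F e₁ s (.a 1)) (act F e₁ s (.xa 0))
    (fun z w => by simp only [hm, map_mul])
    (fun z => by
      simp only [hm]
      have h := hs2' z
      rwa [map_mul, MulAut.mul_apply] at h)
    (fun ⟨w, hw⟩ => not_inner e₁ hC hs ⟨w, fun z => (hm z).symm.trans (hw z)⟩)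
  let dE : QuaternionGroup 2 ≃* QuaternionGroup 2 :=
    MulEquiv.ofBijective (MonoidHom.mk' (q8Map a b) hhom)
      ((Finite.injective_iff_bijective).1 ((injective_iff_map_eq_one _).2 hinj))
  have hd : ∀ z, dE z = q8Map a b z := fun _ => rfl
  let e₂ := dE.trans e₁
  have hτ' : ∀ z, act F e₂ s z = q8Tau z := fun z => by
    refine e₂.injective (Subtype.ext ?_)
    rw [act_spec]
    show s * (e₁ (dE z) : G) * s⁻¹ = (e₁ (dE (q8Tau z)) : G)
    rw [← act_spec, hd, hd, ← hτ z, hm]
  obtain ⟨k, hk, hσ'⟩ : ∃ k, (k = 1 ∨ k = 2) ∧ ∀ z,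
      act F e₁ ((e₁ f : G) * y₁ ^ k * (e₁ f : G)⁻¹) (q8Map a b z) = q8Map a b (q8Sigma z) := by
    rcases hσ with h | h
    · refine ⟨1, Or.inl rfl, fun z => ?_⟩
      rw [← h z, pow_one, map_mul, map_mul, MulAut.mul_apply, MulAut.mul_apply, ← Subgroup.coe_inv,
        ← map_inv e₁, act_mem_inner, hy₁c, act_mem_inner, inv_inv]
    · refine ⟨2, Or.inr rfl, fun z => ?_⟩
      rw [← h z, pow_two, map_mul, map_mul, map_mul, MulAut.mul_apply, MulAut.mul_apply,
        MulAut.mul_apply, ← Subgroup.coe_inv,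
        ← map_inv e₁, act_mem_inner, hy₁c, hy₁c, act_mem_inner, inv_inv]
  set y := (e₁ f : G) * y₁ ^ k * (e₁ f : G)⁻¹ with hy
  have hyo : orderOf y = 3 := by
    rw [hy, ← MulAut.conj_apply, MulEquiv.orderOf_eq,
      Nat.Coprime.orderOf_pow (by rw [hy₁o]; rcases hk with rfl | rfl <;> decide)]
    exact hy₁o
  refine ⟨e₂, y, by rw [← hyo]; exact pow_orderOf_eq_one y, fun hF => hno (e.symm ⟨y, hF⟩) ?_,
    fun z => ?_, hτ'⟩
  · rw [e.apply_symm_apply]; exact hyo
  · refine e₂.injective (Subtype.ext ?_)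
    rw [act_spec]
    show y * (e₁ (dE z) : G) * y⁻¹ = (e₁ (dE (q8Sigma z)) : G)
    rw [← act_spec, hd, hd, hσ']

end Frame

end CfsgLib.GLTwoThree
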