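import Mathlib
import Cfsg.Agent.Lib.Char.Burnside

/-!
# Element orders of small solvable Frobenius groups and of `3 × 3` matrices
-/

namespace CfsgLib.Recog.FrobSpec

/-- the element orders of a finite group all of whose elements satisfy one of three exponents,
each exponent being attained -/
theorem range_orderOf_eq {G : Type*} [Group G] (a b c : ℕ)
    (ha : 0 < a) (hb : 0 < b) (hc : 0 < c)
    (hup : ∀ g : G, g ^ a = 1 ∨ g ^ b = 1 ∨ g ^ c = 1)
    (hga : ∃ g : G, orderOf g = a) (hgb : ∃ g : G, orderOf g = b) (hgc : ∃ g : G, orderOf g = c) :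
    Set.range (orderOf : G → ℕ) = {n | n ∣ a ∨ n ∣ b ∨ n ∣ c} := by
  have key : ∀ m n : ℕ, 0 < m → (∃ g : G, orderOf g = m) → n ∣ m → ∃ g : G, orderOf g = n := by
    rintro m n hm ⟨g, hg⟩ hnm
    refine ⟨g ^ (m / n), ?_⟩
    obtain ⟨k, rfl⟩ := hnm
    have hn : 0 < n := Nat.pos_of_ne_zero fun h => by simp [h] at hm
    have hk : 0 < k := Nat.pos_of_ne_zero fun h => by simp [h] at hm
    rw [Nat.mul_div_cancel_left _ hn, orderOf_pow' _ hk.ne', hg,
      Nat.gcd_eq_right (dvd_mul_left k n), Nat.mul_div_cancel _ hk]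
  ext n
  constructor
  · rintro ⟨g, rfl⟩
    rcases hup g with h | h | h
    · exact Or.inl (orderOf_dvd_of_pow_eq_one h)
    · exact Or.inr (Or.inl (orderOf_dvd_of_pow_eq_one h))
    · exact Or.inr (Or.inr (orderOf_dvd_of_pow_eq_one h))
  · rintro (h | h | h)
    · exact key a n ha hga h
    · exact key b n hb hgb h
    · exact key c n hc hgc h

/-- an element of order `n` in the quotient by the centre -/
theorem orderOf_mk_center {G : Type*} [Group G] (g : G) (n : ℕ) (hn : 0 < n) (h1 : g ^ n = 1)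
    (h2 : ∀ m, m < n → 0 < m → ∃ h : G, g ^ m * h ≠ h * g ^ m) :
    orderOf (g : G ⧸ Subgroup.center G) = n := by
  rw [orderOf_eq_iff hn]
  refine ⟨?_, fun m hm hm0 h => ?_⟩
  · rw [← QuotientGroup.mk_pow, h1]; rfl
  · rw [← QuotientGroup.mk_pow, QuotientGroup.eq_one_iff] at h
    obtain ⟨k, hk⟩ := h2 m hm hm0
    exact hk (Subgroup.mem_center_iff.1 h k).symm

/-! ### Frobenius groups `Vⁿ ⋊ C` -/

/-- In `V ⋊ C` with `C` fixed point free, elements outside `V` have the order of their image. -/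
theorem orderOf_of_fpf {V C : Type*} [CommGroup V] [Group C] (φ : C →* MulAut V)
    (hfpf : ∀ c : C, c ≠ 1 → ∀ v : V, φ c v = v → v = 1) (x : V ⋊[φ] C) (hx : x.right ≠ 1) :
    orderOf x = orderOf x.right := by
  refine Nat.dvd_antisymm (orderOf_dvd_of_pow_eq_one ?_) (orderOf_map_dvd SemidirectProduct.rightHom x)
  have hr : (x ^ orderOf x.right).right = 1 :=
    (map_pow SemidirectProduct.rightHom x _).trans (pow_orderOf_eq_one _)
  set w := x ^ orderOf x.right with hw
  have hc : x * w = w * x := (Commute.self_pow x _).eq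
  have hl := congrArg SemidirectProduct.left hc
  rw [SemidirectProduct.mul_left, SemidirectProduct.mul_left, hr, map_one, MulAut.one_apply,
    mul_comm w.left x.left] at hl
  ext1
  · exact hfpf _ hx _ (mul_left_cancel hl)
  · exact hr

/-- element orders of a Frobenius group with kernel of prime exponent -/
theorem range_orderOf {V C : Type*} [CommGroup V] [Group C] [Nontrivial V] (φ : C →* MulAut V)
    {p : ℕ} (hp : p.Prime) (hexp : ∀ v : V, v ^ p = 1)
    (hfpf : ∀ c : C, c ≠ 1 → ∀ v : V, φ c v = v → v = 1) :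
    Set.range (orderOf : V ⋊[φ] C → ℕ) = insert p (Set.range (orderOf : C → ℕ)) := by
  haveI := Fact.mk hp
  ext n
  constructor
  · rintro ⟨x, rfl⟩
    by_cases hx : x.right = 1
    · have hxl : x = SemidirectProduct.inl x.left := by ext1 <;> simp [hx]
      rw [hxl, orderOf_injective _ SemidirectProduct.inl_injective]
      by_cases hv : x.left = 1
      · exact Or.inr ⟨1, by rw [hv, orderOf_one, orderOf_one]⟩
      · exact Or.inl (orderOf_eq_prime (hexp _) hv)
    · exact Or.inr ⟨x.right, (orderOf_of_fpf φ hfpf x hx).symm⟩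
  · rintro (rfl | ⟨c, rfl⟩)
    · obtain ⟨v, hv⟩ := exists_ne (1 : V)
      exact ⟨SemidirectProduct.inl v, by
        rw [orderOf_injective _ SemidirectProduct.inl_injective]; exact orderOf_eq_prime (hexp _) hv⟩
    · exact ⟨SemidirectProduct.inr c, orderOf_injective _ SemidirectProduct.inr_injective c⟩

section MatrixGroup

variable {R : Type} [CommRing R] [DecidableEq R]

/-- matrices from a finite list, as a group -/
def listGroup (L : List (Matrix (Fin 2) (Fin 2) R)) (h1 : (1 : Matrix (Fin 2) (Fin 2) R) ∈ L)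
    (hmul : ∀ a ∈ L, ∀ b ∈ L, a * b ∈ L) (hinv : ∀ a ∈ L, ∃ b ∈ L, a * b = 1) :
    Subgroup (Matrix (Fin 2) (Fin 2) R)ˣ where
  carrier := {u | (u : Matrix (Fin 2) (Fin 2) R) ∈ L}
  one_mem' := h1
  mul_mem' := fun {a b} ha hb => by
    show ((a * b : (Matrix (Fin 2) (Fin 2) R)ˣ) : Matrix (Fin 2) (Fin 2) R) ∈ L
    rw [Units.val_mul]; exact hmul _ ha _ hb
  inv_mem' := fun {a} ha => by
    obtain ⟨b, hb, hab⟩ := hinv _ ha
    show ((a⁻¹ : (Matrix (Fin 2) (Fin 2) R)ˣ) : Matrix (Fin 2) (Fin 2) R) ∈ L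
    have : ((a⁻¹ : (Matrix (Fin 2) (Fin 2) R)ˣ) : Matrix (Fin 2) (Fin 2) R) = b := by
      calc ((a⁻¹ : (Matrix (Fin 2) (Fin 2) R)ˣ) : Matrix (Fin 2) (Fin 2) R)
          = ((a⁻¹ : (Matrix (Fin 2) (Fin 2) R)ˣ) : Matrix (Fin 2) (Fin 2) R) * ((a : Matrix (Fin 2) (Fin 2) R) * b) := by
            rw [hab, mul_one]
        _ = b := a.inv_mul_cancel_left b
    rw [this]; exact hb

/-- the action of matrices on column vectors -/
def actHom : (Matrix (Fin 2) (Fin 2) R)ˣ →* MulAut (Multiplicative (Fin 2 → R)) where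
  toFun u := AddEquiv.toMultiplicative
    { toFun := fun v => (u : Matrix (Fin 2) (Fin 2) R).mulVec v
      invFun := fun v => ((u⁻¹ : (Matrix (Fin 2) (Fin 2) R)ˣ) : Matrix (Fin 2) (Fin 2) R).mulVec v
      left_inv := fun v => by
        change Matrix.mulVec _ (Matrix.mulVec _ v) = v
        rw [Matrix.mulVec_mulVec, Units.inv_mul, Matrix.one_mulVec]
      right_inv := fun v => by
        change Matrix.mulVec _ (Matrix.mulVec _ v) = v
        rw [Matrix.mulVec_mulVec, Units.mul_inv, Matrix.one_mulVec]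
      map_add' := fun v w => Matrix.mulVec_add _ v w }
  map_one' := by
    refine MulEquiv.ext fun v => ?_
    show Multiplicative.ofAdd (Matrix.mulVec (1 : Matrix (Fin 2) (Fin 2) R) v.toAdd) = v
    rw [Matrix.one_mulVec]; rfl
  map_mul' u w := by
    refine MulEquiv.ext fun v => ?_
    show Multiplicative.ofAdd (Matrix.mulVec ((u * w : (Matrix (Fin 2) (Fin 2) R)ˣ) : Matrix (Fin 2) (Fin 2) R) v.toAdd) =
      Multiplicative.ofAdd (Matrix.mulVec (u : Matrix (Fin 2) (Fin 2) R) (Matrix.mulVec (w : Matrix (Fin 2) (Fin 2) R) v.toAdd))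
    rw [Matrix.mulVec_mulVec, Units.val_mul]

theorem actHom_fpf [IsDomain R] {u : (Matrix (Fin 2) (Fin 2) R)ˣ}
    (h : ((u : Matrix (Fin 2) (Fin 2) R) - 1).det ≠ 0) (v : Multiplicative (Fin 2 → R))
    (hv : actHom u v = v) : v = 1 := by
  have hv' : (u : Matrix (Fin 2) (Fin 2) R).mulVec v.toAdd = v.toAdd := congrArg Multiplicative.toAdd hv
  have : ((u : Matrix (Fin 2) (Fin 2) R) - 1).mulVec v.toAdd = 0 := by
    rw [Matrix.sub_mulVec, hv', Matrix.one_mulVec, sub_self]
  exact Multiplicative.toAdd.injective (Matrix.eq_zero_of_mulVec_eq_zero h this)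

/-- A solvable group with orders `{p} ∪ divisors of a, b, c` from a list of matrices over `R`. -/
theorem exists_solvable [IsDomain R] [Finite R] (p a b c : ℕ) (hp : p.Prime) (hR : (p : R) = 0)
    (ha : 0 < a) (hb : 0 < b) (hc : 0 < c)
    (L : List (Matrix (Fin 2) (Fin 2) R)) (h1 : (1 : Matrix (Fin 2) (Fin 2) R) ∈ L)
    (hmul : ∀ x ∈ L, ∀ y ∈ L, x * y ∈ L) (hinv : ∀ x ∈ L, ∃ y ∈ L, x * y = 1)
    (hnd : L.Nodup) {i j : ℕ} (hlen : L.length = 2 ^ i * 3 ^ j)
    (hfpf : ∀ x ∈ L, x ≠ 1 → (x - 1).det ≠ 0)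
    (hup : ∀ x ∈ L, x ^ a = 1 ∨ x ^ b = 1 ∨ x ^ c = 1)
    (hga : ∃ x ∈ L, x ^ a = 1 ∧ ∀ m, m < a → 0 < m → x ^ m ≠ 1)
    (hgb : ∃ x ∈ L, x ^ b = 1 ∧ ∀ m, m < b → 0 < m → x ^ m ≠ 1)
    (hgc : ∃ x ∈ L, x ^ c = 1 ∧ ∀ m, m < c → 0 < m → x ^ m ≠ 1) :
    ∃ (H : Type) (_ : Group H) (_ : Fintype H), Group.IsSolvable H ∧
      Set.range (orderOf : H → ℕ) = insert p {n | n ∣ a ∨ n ∣ b ∨ n ∣ c} := by
  classical
  set C := listGroup L h1 hmul hinv with hC
  have hpw : ∀ (x : C) (n : ℕ), x ^ n = 1 ↔ (x : (Matrix (Fin 2) (Fin 2) R)ˣ).val ^ n = 1 := fun x n => by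
    rw [← Units.val_pow_eq_pow_val, ← SubmonoidClass.coe_pow, Units.val_eq_one, OneMemClass.coe_eq_one]
  have hex : ∀ n : ℕ, 0 < n → (∃ x ∈ L, x ^ n = 1 ∧ ∀ m, m < n → 0 < m → x ^ m ≠ 1) →
      ∃ g : C, orderOf g = n := by
    rintro n hn ⟨x, hx, hxn, hxm⟩
    obtain ⟨y, hy, hxy⟩ := hinv x hx
    refine ⟨⟨⟨x, y, hxy, mul_eq_one_comm.1 hxy⟩, hx⟩, ?_⟩
    rw [orderOf_eq_iff hn]
    exact ⟨(hpw _ _).2 hxn, fun m hm hm0 h => hxm m hm hm0 ((hpw _ _).1 h)⟩
  have hcard : Nat.card C = L.length := by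
    rw [← List.toFinset_card_of_nodup hnd, ← Nat.card_eq_finsetCard]
    refine Nat.card_congr (Equiv.ofBijective (fun u : C => (⟨(u : (Matrix (Fin 2) (Fin 2) R)ˣ).val,
      List.mem_toFinset.2 u.2⟩ : L.toFinset)) ⟨?_, ?_⟩)
    · intro u v huv
      exact Subtype.ext (Units.ext (congrArg Subtype.val huv))
    · rintro ⟨x, hx⟩
      rw [List.mem_toFinset] at hx
      obtain ⟨y, hy, hxy⟩ := hinv x hx
      exact ⟨⟨⟨x, y, hxy, mul_eq_one_comm.1 hxy⟩, hx⟩, rfl⟩
  haveI : Finite C := Nat.finite_of_card_ne_zero (by rw [hcard, hlen]; positivity)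
  haveI : Finite (Multiplicative (Fin 2 → R) ⋊[actHom.comp C.subtype] C) :=
    Finite.of_equiv _ SemidirectProduct.equivProd.symm
  refine ⟨Multiplicative (Fin 2 → R) ⋊[actHom.comp C.subtype] C, inferInstance, Fintype.ofFinite _, ?_, ?_⟩
  · haveI : Group.IsSolvable C :=
      CfsgLib.Burnside.isSolvable_of_card_eq Nat.prime_two Nat.prime_three (hcard.trans hlen)
    haveI : Group.IsSolvable (Multiplicative (Fin 2 → R)) := Group.isSolvable_of_comm fun x y => mul_comm x y
    exact Group.isSolvable_of_ker_le_range (SemidirectProduct.inl (φ := actHom.comp C.subtype))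
      SemidirectProduct.rightHom SemidirectProduct.range_inl_eq_ker_rightHom.ge
  · haveI : Nontrivial (Multiplicative (Fin 2 → R)) := inferInstanceAs (Nontrivial (Fin 2 → R))
    rw [range_orderOf _ hp (fun v => Multiplicative.toAdd.injective (by
        rw [toAdd_pow, toAdd_one]; funext k; simp [hR]))
      (fun u hu v hv => actHom_fpf (hfpf _ u.2 fun h => hu (Subtype.ext (Units.ext h))) v hv)]
    rw [range_orderOf_eq a b c ha hb hc (fun x => ?_) (hex a ha hga) (hex b hb hgb) (hex c hc hgc)]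
    simp only [hpw]
    exact hup _ x.2

end MatrixGroup

/-! ### powers of a `3 × 3` matrix of determinant one -/

/-- coefficients of `M ^ n` in `M², M, 1` when `M³ = a M² - b M + 1` -/
def cubicPow {R : Type*} [CommRing R] (a b : R) : ℕ → R × R × R
  | 0 => (0, 0, 1)
  | n + 1 =>
    let t := cubicPow a b n
    (a * t.1 + t.2.1, t.2.2 - b * t.1, t.1)

theorem cubicPow_map {R S : Type*} [CommRing R] [CommRing S] (f : R →+* S) (a b : R) (n : ℕ) :
    cubicPow (f a) (f b) n = (f (cubicPow a b n).1, f (cubicPow a b n).2.1, f (cubicPow a b n).2.2) := by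
  induction n with
  | zero => simp [cubicPow]
  | succ n ih => simp [cubicPow, ih]

theorem charpoly_three {R : Type*} [CommRing R] (M : Matrix (Fin 3) (Fin 3) R) :
    M * M * M = M.trace • (M * M) - M.adjugate.trace • M + M.det • 1 := by
  rw [Matrix.adjugate_fin_three, Matrix.det_fin_three]
  ext i j
  fin_cases i <;> fin_cases j <;>
    simp [Matrix.mul_apply, Fin.sum_univ_three, Matrix.trace] <;> ring

theorem pow_eq_one_of_cubicPow {R : Type*} [CommRing R] (M : Matrix (Fin 3) (Fin 3) R) (hdet : M.det = 1)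
    {a b : R} (ha : M.trace = a) (hb : M.adjugate.trace = b) {n : ℕ}
    (h : cubicPow a b n = (0, 0, 1)) : M ^ n = 1 := by
  have key : ∀ k, M ^ k = (cubicPow a b k).1 • (M * M) + (cubicPow a b k).2.1 • M + (cubicPow a b k).2.2 • 1 := by
    intro k
    induction k with
    | zero => simp [cubicPow]
    | succ k ih =>
      rw [pow_succ, ih]
      simp only [add_mul, smul_mul_assoc, one_mul, cubicPow]
      rw [charpoly_three M, hdet, ha, hb]
      module
  rw [key n, h]
  simp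

end CfsgLib.Recog.FrobSpec
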