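import Mathlib

/-!
# A binary module for `PSL(2,p)` in which the elements of order `p` fix no non-zero vector

The module consists of the functions `f` on `ι × SL(2,p)`, even in the second variable, whose sum
along every coset of a unipotent subgroup vanishes.  The indicator of `(tr x)² = k²` for
`k² - 4` a non-square belongs to it, and this shows that the semisimple elements of order `d`
give elements of order `2d` in the semidirect product.
-/

set_option autoImplicit false

namespace CfsgLib.Recog.PGLTwoModule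

open Matrix

variable {F : Type*} [Field F]

abbrev S (F : Type*) [Field F] := SpecialLinearGroup (Fin 2) F

/-- Cayley-Hamilton in dimension two -/
theorem ch_two (M : Matrix (Fin 2) (Fin 2) F) :
    M * M = M.trace • M - M.det • (1 : Matrix (Fin 2) (Fin 2) F) := by
  ext i j
  fin_cases i <;> fin_cases j <;>
    simp [Matrix.mul_apply, Fin.sum_univ_two, Matrix.trace_fin_two, Matrix.det_fin_two] <;> ring

theorem nil_det {N : Matrix (Fin 2) (Fin 2) F} (h : N * N = 0) : N.det = 0 := by
  have h' := congrArg Matrix.det h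
  rw [Matrix.det_mul, Matrix.det_zero] at h'
  exact mul_self_eq_zero.mp h'

theorem nil_trace {N : Matrix (Fin 2) (Fin 2) F} (h : N * N = 0) : N.trace = 0 := by
  by_contra ht
  have h1 := ch_two N
  rw [h, nil_det h, zero_smul, sub_zero] at h1
  rcases smul_eq_zero.mp h1.symm with h2 | h2
  · exact ht h2
  · exact ht (by rw [h2, Matrix.trace_zero])

/-- the unipotent element `1 + s N` -/
def unip (N : Matrix (Fin 2) (Fin 2) F) (h : N * N = 0) (s : F) : S F :=
  ⟨1 + s • N, by
    have h1 := nil_det h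
    have h2 := nil_trace h
    rw [Matrix.det_fin_two] at h1 ⊢
    rw [Matrix.trace_fin_two] at h2
    simp
    linear_combination s ^ 2 * h1 + s * h2⟩

theorem unip_pow {N : Matrix (Fin 2) (Fin 2) F} (h : N * N = 0) (j : ℕ) :
    unip N h 1 ^ j = unip N h (j : F) := by
  induction j with
  | zero => rw [pow_zero]; exact Subtype.ext (by simp [unip])
  | succ j ih =>
    rw [pow_succ, ih]
    refine Subtype.ext ?_
    show (1 + (j : F) • N) * (1 + (1 : F) • N) = 1 + ((j + 1 : ℕ) : F) • N
    rw [one_smul, add_mul, mul_add, mul_add, one_mul, one_mul, mul_one, smul_mul_assoc, h,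
      smul_zero, add_zero, Nat.cast_succ, add_smul, one_smul]
    abel

/-- `N x N = tr(N x) N` for a nilpotent `N` -/
theorem nil_sandwich {N : Matrix (Fin 2) (Fin 2) F} (h : N * N = 0) (x : Matrix (Fin 2) (Fin 2) F) :
    N * x * N = (N * x).trace • N := by
  have h1 := nil_det h
  have h2 := nil_trace h
  rw [Matrix.det_fin_two] at h1
  rw [Matrix.trace_fin_two] at h2
  ext i j
  fin_cases i <;> fin_cases j <;>
    simp [Matrix.mul_apply, Fin.sum_univ_two, Matrix.trace_fin_two]
  · linear_combination -(x 1 1) * h1 + 0 * h2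
  · linear_combination (x 0 1) * h1
  · linear_combination (x 1 0) * h1
  · linear_combination -(x 0 0) * h1

variable [Fintype F]

/-- the module -/
def V (F : Type*) [Field F] [Fintype F] (ι : Type) : AddSubgroup (ι → S F → ZMod 2) where
  carrier := {f | (∀ i x, f i (-x) = f i x) ∧
    ∀ (N : Matrix (Fin 2) (Fin 2) F) (h : N * N = 0), N ≠ 0 → ∀ i x,
      ∑ s : F, f i (unip N h s * x) = 0}
  zero_mem' := by refine ⟨fun i x => rfl, fun N h hN i x => ?_⟩; simp
  add_mem' := by
    rintro f g ⟨hf1, hf2⟩ ⟨hg1, hg2⟩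
    refine ⟨fun i x => by simp [hf1 i x, hg1 i x], fun N h hN i x => ?_⟩
    simp [Finset.sum_add_distrib, hf2 N h hN i x, hg2 N h hN i x]
  neg_mem' := by
    rintro f ⟨hf1, hf2⟩
    refine ⟨fun i x => by simp [hf1 i x], fun N h hN i x => ?_⟩
    simp [hf2 N h hN i x]

theorem translate_mem {ι : Type} {f : ι → S F → ZMod 2} (hf : f ∈ V F ι) (M : S F) :
    (fun i x => f i (M * x)) ∈ V F ι := by
  refine ⟨fun i x => by simp [mul_neg, hf.1], fun N h hN i x => ?_⟩
  let Mm : Matrix (Fin 2) (Fin 2) F := M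
  let Mi : Matrix (Fin 2) (Fin 2) F := (M⁻¹ : S F)
  have hMi : Mi * Mm = 1 := congrArg Subtype.val (inv_mul_cancel M)
  have hMi' : Mm * Mi = 1 := congrArg Subtype.val (mul_inv_cancel M)
  have h' : (Mm * N * Mi) * (Mm * N * Mi) = 0 := by
    rw [show (Mm * N * Mi) * (Mm * N * Mi) = Mm * (N * ((Mi * Mm) * N)) * Mi by
      simp only [mul_assoc], hMi, one_mul, h, mul_zero, zero_mul]
  have hN' : Mm * N * Mi ≠ 0 := fun h0 => hN (by
    calc N = (Mi * Mm) * N * (Mi * Mm) := by rw [hMi, one_mul, mul_one]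
      _ = Mi * (Mm * N * Mi) * Mm := by simp only [mul_assoc]
      _ = 0 := by rw [h0, mul_zero, zero_mul])
  have hu : ∀ s, M * unip N h s = unip (Mm * N * Mi) h' s * M := fun s => by
    refine Subtype.ext ?_
    show Mm * (1 + s • N) = (1 + s • (Mm * N * Mi)) * Mm
    rw [mul_add, add_mul, mul_one, one_mul, mul_smul_comm, smul_mul_assoc, mul_assoc (Mm * N),
      hMi, mul_one]
  have := hf.2 _ h' hN' i (M * x)
  simpa [← mul_assoc, hu] using this

theorem translate_right_mem {ι : Type} {f : ι → S F → ZMod 2} (hf : f ∈ V F ι) (y : S F) :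
    (fun i x => f i (x * y)) ∈ V F ι := by
  refine ⟨fun i x => by simp [neg_mul, hf.1], fun N h hN i x => ?_⟩
  simpa [mul_assoc] using hf.2 N h hN i (x * y)

/-- a suitable `k`: two roots of `y² = k²`, and `k² - 4` not a square -/
theorem exists_k (h2 : (2 : F) ≠ 0) (h3 : (3 : F) ≠ 0) :
    ∃ k : F, k ≠ 0 ∧ ¬ IsSquare (k ^ 2 - 4) := by
  obtain ⟨ν, hν, hν1⟩ : ∃ ν : F, ¬ IsSquare ν ∧ ν ≠ -1 := by
    by_cases h : IsSquare (-1 : F)
    · obtain ⟨ν, hν⟩ := FiniteField.exists_nonsquare
        (fun hc => h2 (by rw [show (2 : F) = ((2 : ℕ) : F) by norm_num]; exact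
          (ringChar.spec F 2).mpr (by rw [hc])))
      exact ⟨ν, hν, fun hh => hν (hh ▸ h)⟩
    · refine ⟨-4, fun ⟨r, hr⟩ => h ⟨r / 2, ?_⟩, fun hh => h3 (by linear_combination -hh)⟩
      field_simp
      linear_combination hr
  have hd : 1 - ν ≠ 0 := fun h => hν (by
    rw [show ν = 1 by linear_combination -h]; exact IsSquare.one)
  have hn : 1 + ν ≠ 0 := fun h => hν1 (by linear_combination h)
  refine ⟨2 * (1 + ν) / (1 - ν), div_ne_zero (mul_ne_zero h2 hn) hd, fun ⟨r, hr⟩ => hν ⟨r * (1 - ν) / 4, ?_⟩⟩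
  have h4 : (4 : F) ≠ 0 := by rw [show (4 : F) = 2 * 2 by norm_num]; exact mul_ne_zero h2 h2
  field_simp at hr ⊢
  linear_combination hr

open Classical in
/-- the basic vector -/
noncomputable def base {ι : Type} (k : F) : ι → S F → ZMod 2 :=
  fun _ x => if (x : Matrix (Fin 2) (Fin 2) F).trace ^ 2 = k ^ 2 then 1 else 0

theorem base_mem {ι : Type} (h2 : (2 : F) ≠ 0) {k : F} (hk0 : k ≠ 0) (hk : ¬ IsSquare (k ^ 2 - 4)) :
    base (ι := ι) k ∈ V F ι := by
  classical
  refine ⟨fun i x => by simp [base], fun N h hN i x => ?_⟩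
  set t := (x : Matrix (Fin 2) (Fin 2) F).trace with htdef
  set n := (N * (x : Matrix (Fin 2) (Fin 2) F)).trace with hndef
  have htr : ∀ s : F, ((unip N h s * x : S F) : Matrix (Fin 2) (Fin 2) F).trace = t + s * n := fun s => by
    show ((1 + s • N) * (x : Matrix (Fin 2) (Fin 2) F)).trace = _
    rw [add_mul, one_mul, smul_mul_assoc, Matrix.trace_add, Matrix.trace_smul, smul_eq_mul]
  simp only [base, htr]
  by_cases hn : n = 0
  · -- `N` and `x` share an eigenvector, so `t² - 4` is a square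
    have hne : t ^ 2 ≠ k ^ 2 := by
      intro he
      apply hk
      rw [← he]
      obtain ⟨j, hj⟩ : ∃ j, N *ᵥ Pi.single j 1 ≠ 0 := by
        by_contra hall
        push Not at hall
        apply hN
        ext a b
        have := congrFun (hall b) a
        simpa [Matrix.mulVec_single_one] using this
      set v := N *ᵥ Pi.single j 1 with hv
      have hNv : N *ᵥ v = 0 := by rw [hv, Matrix.mulVec_mulVec, h, Matrix.zero_mulVec]
      have hNxv : N *ᵥ ((x : Matrix (Fin 2) (Fin 2) F) *ᵥ v) = 0 := by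
        rw [hv, Matrix.mulVec_mulVec, Matrix.mulVec_mulVec, nil_sandwich h, ← hndef, hn,
          zero_smul, Matrix.zero_mulVec]
      obtain ⟨c, hc⟩ : ∃ c : F, (x : Matrix (Fin 2) (Fin 2) F) *ᵥ v = c • v := by
        by_contra hcon
        push Not at hcon
        have hli : LinearIndependent F ![v, (x : Matrix (Fin 2) (Fin 2) F) *ᵥ v] :=
          (LinearIndependent.pair_iff' hj).mpr fun a ha => hcon a ha.symm
        apply hN
        have hb := hli.span_eq_top_of_card_eq_finrank (by simp)
        have hker : LinearMap.ker (Matrix.mulVecLin N) = ⊤ := by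
          rw [eq_top_iff, ← hb, Submodule.span_le]
          rintro w ⟨l, rfl⟩
          fin_cases l <;> simp_all
        ext a b
        have hz : N *ᵥ Pi.single b 1 = 0 := LinearMap.mem_ker.mp (hker ▸ Submodule.mem_top)
        simpa [Matrix.mulVec_single_one] using congrFun hz a
      have hch := congrArg (· *ᵥ v) (ch_two (x : Matrix (Fin 2) (Fin 2) F))
      simp only [← Matrix.mulVec_mulVec, hc, Matrix.mulVec_smul, Matrix.sub_mulVec,
        Matrix.smul_mulVec, Matrix.one_mulVec, x.det_coe, one_smul, smul_smul, ← htdef] at hch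
      have hz : (c * c - t * c + 1) • v = 0 := by
        rw [add_smul, sub_smul, one_smul, hch]; abel
      rcases smul_eq_zero.mp hz with hz | hz
      · exact ⟨2 * c - t, by linear_combination -4 * hz⟩
      · exact absurd hz hj
    simp [hn, hne]
  · -- the affine map takes each value once
    let e : F ≃ F := (Equiv.mulRight₀ n hn).trans (Equiv.addLeft t)
    have : (∑ s : F, if (t + s * n) ^ 2 = k ^ 2 then (1 : ZMod 2) else 0) =
        ∑ y : F, if y ^ 2 = k ^ 2 then (1 : ZMod 2) else 0 :=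
      Fintype.sum_equiv e _ _ fun s => rfl
    rw [this]
    rw [show (∑ y : F, if y ^ 2 = k ^ 2 then (1 : ZMod 2) else 0) =
      ∑ y ∈ ({k, -k} : Finset F), (1 : ZMod 2) by
        rw [← Finset.sum_filter]
        refine Finset.sum_congr ?_ fun _ _ => rfl
        ext y
        simp [sq_eq_sq_iff_eq_or_eq_neg]]
    rw [Finset.sum_pair (fun hh => hk0 (by
      have : 2 * k = 0 := by linear_combination hh
      exact (mul_eq_zero.mp this).resolve_left h2))]
    rfl

/-- For a semisimple `M`, the translates of the basic vector have a non-zero norm. -/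
theorem exists_pos (h2 : (2 : F) ≠ 0) {k : F} (hk0 : k ≠ 0) (M : S F)
    (hM : (M : Matrix (Fin 2) (Fin 2) F).trace ^ 2 ≠ 4) :
    ∃ y : S F, ∀ j : ℕ,
      ((M ^ j * y : S F) : Matrix (Fin 2) (Fin 2) F).trace ^ 2 = k ^ 2 ↔
        ((M ^ j : S F) : Matrix (Fin 2) (Fin 2) F) = 1 ∨
          ((M ^ j : S F) : Matrix (Fin 2) (Fin 2) F) = -1 := by
  set Mm : Matrix (Fin 2) (Fin 2) F := (M : Matrix (Fin 2) (Fin 2) F) with hMm
  set t := Mm.trace with ht
  set J : Matrix (Fin 2) (Fin 2) F := Mm - (t / 2) • 1 with hJ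
  set ν := t ^ 2 / 4 - 1 with hνdef
  have h4 : (4 : F) ≠ 0 := by rw [show (4 : F) = 2 * 2 by norm_num]; exact mul_ne_zero h2 h2
  have hν0 : ν ≠ 0 := fun h0 => hM (by
    rw [hνdef, sub_eq_zero, div_eq_one_iff_eq h4] at h0; exact h0)
  have hJt : J.trace = 0 := by
    rw [hJ, Matrix.trace_sub, Matrix.trace_smul, Matrix.trace_one, ← ht]
    simp; field_simp; ring
  have hJ2 : J * J = ν • (1 : Matrix (Fin 2) (Fin 2) F) := by
    have hc := ch_two Mm
    rw [M.det_coe, one_smul, ← ht] at hc
    rw [hJ, sub_mul, mul_sub, mul_sub, hc, smul_mul_assoc, mul_smul_comm, one_mul, mul_one,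
      smul_mul_assoc, mul_smul_comm, one_mul, smul_smul, hνdef]
    have : t / 2 * (t / 2) = t ^ 2 / 4 := by field_simp; ring
    rw [this, sub_smul, one_smul]
    haveI : NeZero (2 : F) := ⟨h2⟩
    have h' : t • Mm = (t / 2) • Mm + (t / 2) • Mm := by rw [← add_smul, add_halves]
    rw [h']
    abel
  -- an invertible trace zero matrix orthogonal to `J`
  obtain ⟨Z, hZt, hJZ, hZd⟩ : ∃ Z : Matrix (Fin 2) (Fin 2) F,
      Z.trace = 0 ∧ (J * Z).trace = 0 ∧ Z.det ≠ 0 := by
    rw [Matrix.trace_fin_two] at hJt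
    have h11 : J 1 1 = -J 0 0 := by linear_combination hJt
    by_cases hc : J 1 0 = 0
    · have ha : J 0 0 ≠ 0 := fun ha => hν0 (by
        have := congrFun (congrFun hJ2 0) 0
        simp [Matrix.mul_apply, Fin.sum_univ_two, hc, ha] at this
        exact this.symm)
      set z := -J 0 1 / (2 * J 0 0) with hz
      refine ⟨!![z, 1 - z ^ 2; 1, -z], by simp [Matrix.trace_fin_two], ?_, ?_⟩
      · simp [Matrix.trace_fin_two, Matrix.mul_apply, Fin.sum_univ_two, hc, h11, hz]
        field_simp
        ring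
      · simp [Matrix.det_fin_two]
        exact fun h => one_ne_zero (by linear_combination -h)
    · refine ⟨!![J 1 0, -2 * J 0 0; 0, -J 1 0], by simp [Matrix.trace_fin_two], ?_, ?_⟩
      · simp [Matrix.trace_fin_two, Matrix.mul_apply, Fin.sum_univ_two, h11]
        ring
      · simp [Matrix.det_fin_two, hc]
  obtain ⟨β, γ, hβγ⟩ : ∃ β γ : F, β ^ 2 - ν * γ ^ 2 = (1 - k ^ 2 / 4) / Z.det := by
    have hodd : Fintype.card F % 2 = 1 := FiniteField.odd_card_of_char_ne_two (fun hc => h2 (by
      rw [show (2 : F) = ((2 : ℕ) : F) by norm_num]; exact (ringChar.spec F 2).mpr (by rw [hc])))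
    obtain ⟨β, γ, hh⟩ := FiniteField.exists_root_sum_quadratic (R := F)
      (f := Polynomial.X ^ 2 - Polynomial.C ((1 - k ^ 2 / 4) / Z.det))
      (g := Polynomial.C (-ν) * Polynomial.X ^ 2)
      (by compute_degree!) (Polynomial.degree_C_mul_X_pow 2 (neg_ne_zero.mpr hν0)) hodd
    refine ⟨β, γ, ?_⟩
    simp at hh
    linear_combination hh
  set W := (β • (1 : Matrix (Fin 2) (Fin 2) F) + γ • J) * Z with hW
  have hWt : W.trace = 0 := by
    rw [hW, add_mul, smul_mul_assoc, smul_mul_assoc, one_mul, Matrix.trace_add, Matrix.trace_smul,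
      Matrix.trace_smul, hZt, hJZ, smul_zero, smul_zero, add_zero]
  have hJW : (J * W).trace = 0 := by
    rw [hW, ← mul_assoc, mul_add, mul_smul_comm, mul_smul_comm, mul_one, hJ2, add_mul,
      smul_mul_assoc, smul_mul_assoc, smul_mul_assoc, one_mul, Matrix.trace_add, Matrix.trace_smul,
      Matrix.trace_smul, Matrix.trace_smul, hZt, hJZ]
    simp
  have hWd : W.det = 1 - k ^ 2 / 4 := by
    have hd : (β • (1 : Matrix (Fin 2) (Fin 2) F) + γ • J).det = β ^ 2 - ν * γ ^ 2 := by
      have h00 := congrFun (congrFun hJ2 0) 0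
      simp [Matrix.mul_apply, Fin.sum_univ_two] at h00
      rw [Matrix.trace_fin_two] at hJt
      simp [Matrix.det_fin_two]
      linear_combination γ * β * hJt - γ ^ 2 * h00 + γ ^ 2 * J 0 0 * hJt
    rw [hW, Matrix.det_mul, hd, hβγ]
    field_simp
  have hyd : ((k / 2) • (1 : Matrix (Fin 2) (Fin 2) F) + W).det = 1 := by
    rw [Matrix.det_fin_two] at hWd
    rw [Matrix.trace_fin_two] at hWt
    simp [Matrix.det_fin_two]
    have hk4 : k / 2 * (k / 2) = k ^ 2 / 4 := by field_simp; ring
    linear_combination hWd + k / 2 * hWt + hk4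
  refine ⟨⟨_, hyd⟩, fun j => ?_⟩
  obtain ⟨α, δ, hαδ⟩ : ∃ α δ : F,
      ((M ^ j : S F) : Matrix (Fin 2) (Fin 2) F) = α • 1 + δ • J := by
    induction j with
    | zero => exact ⟨1, 0, by simp⟩
    | succ j ih =>
      obtain ⟨α, δ, hh⟩ := ih
      refine ⟨α * (t / 2) + δ * ν, α + δ * (t / 2), ?_⟩
      rw [pow_succ, show ((M ^ j * M : S F) : Matrix (Fin 2) (Fin 2) F) =
        ((M ^ j : S F) : Matrix (Fin 2) (Fin 2) F) * Mm from rfl, hh,
        show Mm = J + (t / 2) • 1 by rw [hJ, sub_add_cancel], add_mul, smul_mul_assoc,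
        smul_mul_assoc, one_mul, mul_add, hJ2, mul_smul_comm, mul_one]
      module
  have hdet : α ^ 2 - ν * δ ^ 2 = 1 := by
    have h00 := congrFun (congrFun hJ2 0) 0
    simp [Matrix.mul_apply, Fin.sum_univ_two] at h00
    rw [Matrix.trace_fin_two] at hJt
    have := (M ^ j).det_coe
    rw [hαδ, Matrix.det_fin_two] at this
    simp at this
    linear_combination this - δ * α * hJt + δ ^ 2 * h00 - δ ^ 2 * J 0 0 * hJt
  have htr : ((M ^ j * ⟨_, hyd⟩ : S F) : Matrix (Fin 2) (Fin 2) F).trace = α * k := by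
    show (((M ^ j : S F) : Matrix (Fin 2) (Fin 2) F) * ((k / 2) • 1 + W)).trace = α * k
    rw [hαδ]
    rw [mul_add, add_mul, add_mul, smul_mul_smul_comm, smul_mul_smul_comm, one_mul, mul_one,
      smul_mul_assoc, smul_mul_assoc, one_mul]
    simp [Matrix.trace_add, Matrix.trace_smul, hJt, hWt, hJW]
    field_simp
  rw [htr, mul_pow, mul_eq_right₀ (pow_ne_zero 2 hk0), sq_eq_one_iff, hαδ]
  constructor
  · intro hα
    have hδ : δ = 0 := by
      have h0 : ν * δ ^ 2 = 0 := by
        rcases hα with rfl | rfl <;> linear_combination -hdet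
      rcases mul_eq_zero.mp h0 with h | h
      · exact absurd h hν0
      · exact pow_eq_zero_iff (two_ne_zero) |>.mp h
    rcases hα with rfl | rfl <;> simp [hδ]
  · intro h
    have key : ∀ e : F, α • (1 : Matrix (Fin 2) (Fin 2) F) + δ • J = e • 1 → α = e := fun e he => by
      have h' := congrArg Matrix.trace he
      simp [Matrix.trace_add, Matrix.trace_smul, hJt] at h'
      exact h'.resolve_right h2
    rcases h with h | h
    · exact Or.inl (key 1 (by rw [h, one_smul]))
    · exact Or.inr (key (-1) (by rw [h, neg_one_smul]))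

end CfsgLib.Recog.PGLTwoModule
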