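import Mathlib
import Cfsg.Agent.Lib.Known.PGLOrder
import Cfsg.Agent.Lib.Recog.FrobeniusSpectrum
import Cfsg.Agent.Lib.Recog.PGLTwoModule

/-! The element orders of `PGL(2,q)`, `q` odd: the divisors of `p`, `q - 1` and `q + 1`. -/

set_option autoImplicit false

namespace CfsgLib.Recog.PGLTwoOrders

open Matrix

variable {F : Type*} [Field F] [Fintype F] [DecidableEq F]

local notation "PGL" => GL (Fin 2) F ⧸ Subgroup.center (GL (Fin 2) F)

theorem mk_eq_one_iff (g : GL (Fin 2) F) :
    (QuotientGroup.mk g : PGL) = 1 ↔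
      ∃ c : F, (g : Matrix (Fin 2) (Fin 2) F) = c • 1 := by
  rw [QuotientGroup.eq_one_iff, GeneralLinearGroup.center_eq_range_scalar, MonoidHom.mem_range]
  constructor
  · rintro ⟨c, rfl⟩
    refine ⟨c, ?_⟩
    rw [Matrix.smul_one_eq_diagonal]
    rfl
  · rintro ⟨c, hc⟩
    have hc0 : c ≠ 0 := fun h => by
      have hu : IsUnit (g : Matrix (Fin 2) (Fin 2) F) := g.isUnit
      rw [hc, h, zero_smul] at hu
      exact not_isUnit_zero hu
    refine ⟨Units.mk0 c hc0, Units.ext ?_⟩
    rw [hc, Matrix.smul_one_eq_diagonal]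
    rfl

theorem pow_cases (p : ℕ) [hp : Fact p.Prime] [CharP F p] (hp2 : p ≠ 2) (g : PGL) :
    g ^ p = 1 ∨ g ^ (Fintype.card F - 1) = 1 ∨ g ^ (Fintype.card F + 1) = 1 := by
  obtain ⟨A, rfl⟩ := QuotientGroup.mk_surjective g
  have hch : ringChar F = p := ringChar.eq F p
  have h2 : (2 : F) ≠ 0 := fun h => hp2 (by
    have h' : ((2 : ℕ) : F) = 0 := by exact_mod_cast h
    exact (Nat.prime_dvd_prime_iff_eq hp.out Nat.prime_two).mp ((CharP.cast_eq_zero_iff F p 2).mp h'))
  obtain ⟨n, -, hn⟩ := FiniteField.card F p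
  set q := Fintype.card F with hq
  have hqodd : q % 2 = 1 := FiniteField.odd_card_of_char_ne_two (hch ▸ hp2)
  have hq1 : 1 < q := Fintype.one_lt_card
  set M : Matrix (Fin 2) (Fin 2) F := (A : Matrix (Fin 2) (Fin 2) F) with hM
  set K : Matrix (Fin 2) (Fin 2) F := (2 : F) • M - M.trace • 1 with hK
  set Δ := M.trace ^ 2 - 4 * M.det with hΔ
  have hK2 : K * K = Δ • (1 : Matrix (Fin 2) (Fin 2) F) := by
    rw [hK, sub_mul, mul_sub, mul_sub]
    simp only [smul_mul_assoc, mul_smul_comm, smul_smul, one_mul, mul_one, PGLTwoModule.ch_two M, hΔ]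
    module
  haveI : ExpChar (Matrix (Fin 2) (Fin 2) F) p := ExpChar.prime hp.out
  -- the `p ^ j`-th power of `2 M`
  have hfr : ∀ j : ℕ, (2 : F) ^ p ^ j • M ^ p ^ j = K ^ p ^ j + M.trace ^ p ^ j • 1 := fun j => by
    have hc : Commute K (M.trace • (1 : Matrix (Fin 2) (Fin 2) F)) :=
      (Commute.one_right _).smul_right _
    have h := add_pow_expChar_pow_of_commute p j hc
    rw [smul_pow, one_pow] at h
    rw [← h, hK, sub_add_cancel, smul_pow]
  rcases eq_or_ne Δ 0 with h0 | h0
  · left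
    rw [← QuotientGroup.mk_pow, mk_eq_one_iff, Units.val_pow_eq_pow_val]
    refine ⟨M.trace ^ p / 2 ^ p, ?_⟩
    have h := hfr 1
    rw [pow_one] at h
    have hKp : K ^ p = 0 := by
      obtain ⟨c, hc⟩ := Nat.exists_eq_add_of_le hp.out.two_le
      rw [hc, pow_add, sq, hK2, h0, zero_smul, zero_mul]
    rw [hKp, zero_add] at h
    rw [← hM, div_eq_inv_mul, ← smul_smul, ← h, inv_smul_smul₀ (pow_ne_zero _ h2)]
  have hKq : K ^ q = Δ ^ (q / 2) • K := by
    conv_lhs => rw [show q = 2 * (q / 2) + 1 by omega]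
    rw [pow_succ, pow_mul, sq, hK2, smul_pow, one_pow, smul_mul_assoc, one_mul]
  have hq2 := hfr n
  rw [← hn, FiniteField.pow_card, FiniteField.pow_card, hKq] at hq2
  have hsq : Δ ^ (q / 2) = 1 ∨ Δ ^ (q / 2) = -1 := FiniteField.pow_dichotomy (hch ▸ hp2) h0
  have hMq : M ^ q = M ∨ M ^ q = M.trace • 1 - M := by
    rcases hsq with h | h <;> rw [h] at hq2
    · left
      apply smul_right_injective _ h2
      simp only
      rw [hq2, hK]
      module
    · right
      apply smul_right_injective _ h2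
      simp only
      rw [hq2, hK]
      module
  rcases hMq with h | h
  · right; left
    rw [← QuotientGroup.mk_pow, mk_eq_one_iff]
    refine ⟨1, ?_⟩
    have h' : A ^ (q - 1) = 1 := by
      have hA : A ^ q = A := Units.ext (by rw [Units.val_pow_eq_pow_val]; exact h)
      rw [pow_sub A hq1.le, hA, pow_one, mul_inv_cancel]
    rw [h', Units.val_one, one_smul]
  · right; right
    rw [← QuotientGroup.mk_pow, mk_eq_one_iff, Units.val_pow_eq_pow_val]
    refine ⟨M.det, ?_⟩
    rw [← hM, pow_succ, h, sub_mul, smul_mul_assoc, one_mul, PGLTwoModule.ch_two M, sub_sub_cancel]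

/-- the element orders of `PGL(2,q)` -/
theorem range_orderOf (p : ℕ) [hp : Fact p.Prime] [CharP F p] (hp2 : p ≠ 2) :
    Set.range (orderOf : PGL → ℕ) =
      {n | n ∣ p ∨ n ∣ Fintype.card F - 1 ∨ n ∣ Fintype.card F + 1} := by
  have hq1 : 1 < Fintype.card F := Fintype.one_lt_card
  refine FrobSpec.range_orderOf_eq p _ _ hp.out.pos (by omega) (by omega) (pow_cases p hp2) ?_ ?_ ?_
  · let u : GL (Fin 2) F := ⟨!![1, 1; 0, 1], !![1, -1; 0, 1],
      by ext i j; fin_cases i <;> fin_cases j <;> simp [Matrix.mul_apply, Fin.sum_univ_two],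
      by ext i j; fin_cases i <;> fin_cases j <;> simp [Matrix.mul_apply, Fin.sum_univ_two]⟩
    have hu : ∀ j : ℕ, ((u ^ j : GL (Fin 2) F) : Matrix (Fin 2) (Fin 2) F) = !![1, (j : F); 0, 1] := by
      intro j
      induction j with
      | zero => ext a b; fin_cases a <;> fin_cases b <;> simp
      | succ j ih =>
        rw [pow_succ, Units.val_mul, ih]
        ext a b
        fin_cases a <;> fin_cases b <;> simp [u, Matrix.mul_apply, Fin.sum_univ_two, add_comm]
    refine ⟨QuotientGroup.mk u, orderOf_eq_prime ?_ ?_⟩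
    · rw [← QuotientGroup.mk_pow, mk_eq_one_iff, hu, CharP.cast_eq_zero]
      exact ⟨1, by ext a b; fin_cases a <;> fin_cases b <;> simp⟩
    · rw [Ne, mk_eq_one_iff]
      rintro ⟨c, hc⟩
      have := congrFun (congrFun hc 0) 1
      simp [u] at this
  · obtain ⟨a, ha⟩ := IsCyclic.exists_monoid_generator (α := Fˣ)
    have hord : orderOf a = Fintype.card F - 1 := by
      rw [orderOf_eq_card_of_forall_mem_powers ha, Nat.card_eq_fintype_card, Fintype.card_units]
    let dm : GL (Fin 2) F := ⟨Matrix.diagonal ![(a : F), 1], Matrix.diagonal ![((a⁻¹ : Fˣ) : F), 1],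
      by rw [Matrix.diagonal_mul_diagonal]; ext i j; fin_cases i <;> fin_cases j <;> simp,
      by rw [Matrix.diagonal_mul_diagonal]; ext i j; fin_cases i <;> fin_cases j <;> simp⟩
    refine ⟨QuotientGroup.mk dm, Nat.dvd_antisymm ?_ ?_⟩
    · refine orderOf_dvd_of_pow_eq_one ?_
      rw [← QuotientGroup.mk_pow, mk_eq_one_iff, Units.val_pow_eq_pow_val]
      refine ⟨1, ?_⟩
      show Matrix.diagonal ![(a : F), 1] ^ (Fintype.card F - 1) = _
      rw [Matrix.diagonal_pow]
      have := FiniteField.pow_card_sub_one_eq_one (a : F) a.ne_zero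
      ext i j
      fin_cases i <;> fin_cases j <;> simp [this]
    · rw [← hord]
      refine orderOf_dvd_of_pow_eq_one ?_
      have h := pow_orderOf_eq_one (QuotientGroup.mk dm : PGL)
      rw [← QuotientGroup.mk_pow, mk_eq_one_iff, Units.val_pow_eq_pow_val] at h
      obtain ⟨c, hc⟩ := h
      change Matrix.diagonal ![(a : F), 1] ^ _ = _ at hc
      rw [Matrix.diagonal_pow] at hc
      have h00 := congrFun (congrFun hc 0) 0
      have h11 := congrFun (congrFun hc 1) 1
      simp at h00 h11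
      refine Units.ext ?_
      rw [Units.val_pow_eq_pow_val, Units.val_one, h00, ← h11]
  · obtain ⟨g, hg⟩ := CfsgLib.Known.PGLOrder.exists_card_mul_orderOf_eq (F := F) (d := 2) one_le_two
    refine ⟨QuotientGroup.mk g, ?_⟩
    refine Nat.eq_of_mul_eq_mul_left (Nat.sub_pos_of_lt hq1) (hg.trans ?_)
    have := Nat.sq_sub_sq (Fintype.card F) 1
    rw [one_pow] at this
    rw [this, mul_comm]

end CfsgLib.Recog.PGLTwoOrders
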