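import Mathlib
import Cfsg.Agent.Lib.Recog.AffineTwo

/-!
# The spectrum `{1,2,3,4,5}`: `A₆` and `F₄² ⋊ SL(2,4)`
-/

namespace CfsgLib.Recog.AffineTwo

set_option maxHeartbeats 1000000 in
theorem alt_six_orders : ∀ g : alternatingGroup (Fin 6), g ^ 3 = 1 ∨ g ^ 4 = 1 ∨ g ^ 5 = 1 := by
  decide +kernel

theorem range_orderOf_eq {G : Type*} [Group G]
    (h : ∀ g : G, g ^ 3 = 1 ∨ g ^ 4 = 1 ∨ g ^ 5 = 1) (g2 g3 g4 g5 : G)
    (h2 : orderOf g2 = 2) (h3 : orderOf g3 = 3) (h4 : orderOf g4 = 4) (h5 : orderOf g5 = 5) :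
    Set.range (orderOf : G → ℕ) = {1, 2, 3, 4, 5} := by
  ext n
  simp only [Set.mem_range, Set.mem_insert_iff, Set.mem_singleton_iff]
  constructor
  · rintro ⟨g, rfl⟩
    have : orderOf g ∈ Nat.divisors 3 ∪ Nat.divisors 4 ∪ Nat.divisors 5 := by
      rcases h g with e | e | e <;>
        simp only [Finset.mem_union, Nat.mem_divisors] <;>
        have e' := orderOf_dvd_of_pow_eq_one e <;> tauto
    rw [show Nat.divisors 3 ∪ Nat.divisors 4 ∪ Nat.divisors 5 = ({1, 2, 3, 4, 5} : Finset ℕ) by decide] at this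
    simpa using this
  · rintro (rfl | rfl | rfl | rfl | rfl)
    exacts [⟨1, orderOf_one⟩, ⟨g2, h2⟩, ⟨g3, h3⟩, ⟨g4, h4⟩, ⟨g5, h5⟩]

theorem spectrum_alt_six :
    Set.range (orderOf : alternatingGroup (Fin 6) → ℕ) = {1, 2, 3, 4, 5} := by
  haveI := Fact.mk Nat.prime_two
  haveI := Fact.mk Nat.prime_three
  haveI := Fact.mk Nat.prime_five
  refine range_orderOf_eq alt_six_orders
    ⟨Equiv.swap 0 1 * Equiv.swap 2 3, Equiv.Perm.mem_alternatingGroup.mpr (by decide +kernel)⟩
    ⟨Equiv.swap 0 1 * Equiv.swap 1 2, Equiv.Perm.mem_alternatingGroup.mpr (by decide +kernel)⟩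
    ⟨Equiv.swap 0 1 * Equiv.swap 1 2 * Equiv.swap 2 3 * Equiv.swap 4 5, Equiv.Perm.mem_alternatingGroup.mpr (by decide +kernel)⟩
    ⟨Equiv.swap 0 1 * Equiv.swap 1 2 * Equiv.swap 2 3 * Equiv.swap 3 4, Equiv.Perm.mem_alternatingGroup.mpr (by decide +kernel)⟩ ?_ ?_ ?_ ?_
  · exact orderOf_eq_prime (by decide +kernel) (by decide +kernel)
  · exact orderOf_eq_prime (by decide +kernel) (by decide +kernel)
  · exact orderOf_eq_prime_pow (p := 2) (n := 1) (by decide +kernel) (by decide +kernel)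
  · exact orderOf_eq_prime (by decide +kernel) (by decide +kernel)

variable {F : Type*} [Field F] [Fintype F]

theorem charP_two {n : ℕ} (hF : Fintype.card F = 2 ^ (n + 1)) : CharP F 2 := by
  obtain ⟨m, hp, hm⟩ := FiniteField.card F (ringChar F)
  have h : ringChar F ∣ 2 ^ (n + 1) := by rw [← hF, hm]; exact dvd_pow_self _ m.pos.ne'
  have := (Nat.prime_dvd_prime_iff_eq hp Nat.prime_two).mp (hp.dvd_of_dvd_pow h)
  rw [← this]
  exact ringChar.charP F

theorem spectrum_affine_four (hF : Fintype.card F = 4) :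
    Set.range (orderOf : affine F → ℕ) = {1, 2, 3, 4, 5} := by
  haveI : CharP F 2 := charP_two (n := 1) hF
  haveI := Fact.mk Nat.prime_two
  haveI := Fact.mk Nat.prime_three
  haveI := Fact.mk Nat.prime_five
  have h2 : (2 : F) = 0 := CharTwo.two_eq_zero
  obtain ⟨ω, hω0, hω1⟩ : ∃ ω : F, ω ≠ 0 ∧ ω ≠ 1 := by
    classical
    by_contra hne
    push Not at hne
    have hle : (Finset.univ : Finset F) ⊆ {0, 1} := fun x _ => by
      by_cases h : x = 0
      · simp [h]
      · simp [hne x h]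
    have := Finset.card_le_card hle
    rw [Finset.card_univ, hF] at this
    have h2' : ({0, 1} : Finset F).card ≤ 2 := Finset.card_le_two
    omega
  have hω3 : ω ^ 3 = 1 := by simpa [hF] using FiniteField.pow_card_sub_one_eq_one ω hω0
  have hq : ω ^ 2 + ω + 1 = 0 := by
    have hm : (ω - 1) * (ω ^ 2 + ω + 1) = 0 := by linear_combination hω3
    exact (mul_eq_zero.mp hm).resolve_left (sub_ne_zero.mpr hω1)
  let A3 : SL2 F := ⟨!![0, 1; 1, 1], by rw [Matrix.det_fin_two_of]; linear_combination (-1 : F) * h2⟩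
  let A5 : SL2 F := ⟨!![0, 1; 1, ω], by rw [Matrix.det_fin_two_of]; linear_combination (-1 : F) * h2⟩
  have ne1 : ∀ A : SL2 F, (A : Matrix (Fin 2) (Fin 2) F) 0 0 = 0 → A ≠ 1 := fun A h h1 => by
    rw [h1] at h; simp at h
  let M4 : affine F := ⟨⟨!![1, 1, 0; 0, 1, 1; 0, 0, 1], by rw [Matrix.det_fin_three]; simp⟩,
    by refine ⟨?_, ?_, ?_⟩ <;> rfl⟩
  have h4a : M4 ^ 4 = 1 := by
    rcases pow_four_or_orderOf_eq M4 with h | h
    · exact h
    · have : linPart M4 ^ 2 = 1 := sq_eq_one_of_tr _ (by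
        show (1 : F) + 1 = 0
        exact CharTwo.add_self_eq_zero 1)
      apply orderOf_dvd_iff_pow_eq_one.mp
      rw [h]
      exact (orderOf_dvd_of_pow_eq_one this).trans (by norm_num)
  refine range_orderOf_eq (fun M => ?_) (transl 1 0) (embed A3) M4 (embed A5) ?_ ?_ ?_ ?_
  · rcases pow_four_or_orderOf_eq M with h | h
    · exact Or.inr (Or.inl h)
    · rcases orders_card_four hF (linPart M) with e | e | e <;>
        have e' := h ▸ orderOf_dvd_of_pow_eq_one e
      · exact Or.inr (Or.inl (orderOf_dvd_iff_pow_eq_one.mp (e'.trans (by norm_num))))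
      · exact Or.inl (orderOf_dvd_iff_pow_eq_one.mp e')
      · exact Or.inr (Or.inr (orderOf_dvd_iff_pow_eq_one.mp e'))
  · refine orderOf_eq_prime (transl_sq _ _) (fun h => ?_)
    have := congrArg (fun M : affine F => (M.1 : Matrix (Fin 3) (Fin 3) F) 0 2) h
    simp [transl] at this
  · rw [orderOf_embed]
    refine orderOf_eq_prime (pow_eq_one_of_coef A3 2 ?_ ?_) (ne1 A3 rfl)
    · simp [coef, tr, A3]; linear_combination h2
    · simp [coef, tr, A3]
  · refine orderOf_eq_prime_pow (p := 2) (n := 1) ?_ h4a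
    intro h
    rw [pow_one, pow_two] at h
    have hm := (Matrix.SpecialLinearGroup.coe_mul M4.1 M4.1).symm.trans
      (congrArg (fun X : affine F => (X.1 : Matrix (Fin 3) (Fin 3) F)) h)
    have := congrArg (fun X : Matrix (Fin 3) (Fin 3) F => X 0 2) hm
    simp [M4, Matrix.mul_apply, Fin.sum_univ_three] at this
  · rw [orderOf_embed]
    refine orderOf_eq_prime (pow_eq_one_of_coef A5 4 ?_ ?_) (ne1 A5 rfl)
    · simp [coef, tr, A5]; linear_combination ω * hω3 + hq + ω ^ 2 * h2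
    · simp [coef, tr, A5]; linear_combination hω3 + ω * h2

end CfsgLib.Recog.AffineTwo
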