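import Mathlib

/-!
# Packed seven by seven matrices over eleven elements
-/

set_option autoImplicit false

namespace CfsgLib.Recog.JankoOne

/-- a number with given digits to base 1024 -/
def pack : ∀ {n : ℕ}, (Fin n → ℕ) → ℕ
  | 0, _ => 0
  | _ + 1, f => f 0 + 1024 * pack (fun i => f i.succ)

/-- the linear combination of rows given by the digits of a number -/
def acc : ℕ → List ℕ → ℕ
  | _, [] => 0
  | r, b :: bs => r % 1024 * b + acc (r / 1024) bs

/-- reduction of the digits -/
def red : ℕ → ℕ → ℕ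
  | 0, _ => 0
  | n + 1, s => s % 1024 % 11 + 1024 * red n (s / 1024)

/-- product of packed matrices -/
def pmul (a b : List ℕ) : List ℕ := a.map fun r => red 7 (acc r b)

theorem pack_add : ∀ {n : ℕ} (f g : Fin n → ℕ), pack (fun i => f i + g i) = pack f + pack g
  | 0, _, _ => rfl
  | n + 1, f, g => by simp only [pack]; rw [pack_add]; ring

theorem pack_smul : ∀ {n : ℕ} (c : ℕ) (f : Fin n → ℕ), pack (fun i => c * f i) = c * pack f
  | 0, _, _ => by simp [pack]
  | n + 1, c, f => by simp only [pack]; rw [pack_smul]; ring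

theorem pack_zero : ∀ {n : ℕ}, pack (fun _ : Fin n => 0) = 0
  | 0 => rfl
  | n + 1 => by simp only [pack]; rw [pack_zero]

theorem pack_cons {n : ℕ} (f : Fin (n + 1) → ℕ) (h : f 0 < 1024) :
    pack f % 1024 = f 0 ∧ pack f / 1024 = pack fun i => f i.succ := by
  simp only [pack]
  omega

theorem red_pack : ∀ {n : ℕ} (f : Fin n → ℕ), (∀ i, f i < 1024) → red n (pack f) = pack fun i => f i % 11
  | 0, _, _ => rfl
  | n + 1, f, h => by
    obtain ⟨h1, h2⟩ := pack_cons f (h 0)
    rw [red, h1, h2, red_pack (fun i => f i.succ) fun i => h _]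
    rfl

theorem acc_pack : ∀ {m n : ℕ} (a : Fin m → ℕ) (b : Fin m → Fin n → ℕ), (∀ i, a i < 1024) →
    acc (pack a) (List.ofFn fun k => pack (b k)) = pack fun j => ∑ k, a k * b k j
  | 0, n, a, b, _ => by simp [acc, pack_zero]
  | m + 1, n, a, b, h => by
    obtain ⟨h1, h2⟩ := pack_cons a (h 0)
    rw [List.ofFn_succ, acc, h1, h2, acc_pack (fun i => a i.succ) (fun i => b i.succ) fun i => h _,
      ← pack_smul, ← pack_add]
    congr 1
    funext j
    rw [Fin.sum_univ_succ]

/-- the code of a matrix -/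
def enc (A : Matrix (Fin 7) (Fin 7) (ZMod 11)) : List ℕ := List.ofFn fun i => pack fun j => (A i j).val

theorem enc_mul (A B : Matrix (Fin 7) (Fin 7) (ZMod 11)) : pmul (enc A) (enc B) = enc (A * B) := by
  simp only [pmul, enc, List.map_ofFn]
  refine congrArg List.ofFn (funext fun i => ?_)
  simp only [Function.comp_apply]
  rw [acc_pack _ _ fun k => lt_trans (ZMod.val_lt _) (by norm_num),
    red_pack _ fun j => lt_of_le_of_lt (Finset.sum_le_card_nsmul _ _ 100 fun k _ =>
      (Nat.mul_le_mul (Nat.le_of_lt_succ (ZMod.val_lt (A i k))) (Nat.le_of_lt_succ (ZMod.val_lt (B k j))) :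
        _ ≤ 10 * 10)) (by simp)]
  congr 1
  funext j
  rw [← ZMod.val_natCast, Matrix.mul_apply, Nat.cast_sum]
  congr 1

/-- the matrix of a code -/
def dec (l : List ℕ) : Matrix (Fin 7) (Fin 7) (ZMod 11) :=
  Matrix.of fun i j => ((l.getD i.1 0 / 1024 ^ j.1 % 1024 : ℕ) : ZMod 11)

theorem pack_digit : ∀ {n : ℕ} (f : Fin n → ℕ), (∀ i, f i < 1024) → ∀ j : Fin n, pack f / 1024 ^ j.1 % 1024 = f j
  | 0, _, _, j => j.elim0
  | n + 1, f, h, j => by
    obtain ⟨h1, h2⟩ := pack_cons f (h 0)
    refine Fin.cases ?_ (fun i => ?_) j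
    · simpa using h1
    · rw [Fin.val_succ, pow_succ', ← Nat.div_div_eq_div_mul, h2]
      exact pack_digit (fun i => f i.succ) (fun i => h _) i

theorem dec_enc (A : Matrix (Fin 7) (Fin 7) (ZMod 11)) : dec (enc A) = A := by
  refine Matrix.ext fun i j => ?_
  rw [dec, Matrix.of_apply, enc, List.getD_eq_getElem _ _ (by simp), List.getElem_ofFn,
    pack_digit _ (fun k => lt_trans (ZMod.val_lt _) (by norm_num)) j, ZMod.natCast_zmod_val]

theorem enc_injective : Function.Injective enc := fun A B h => by rw [← dec_enc A, ← dec_enc B, h]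

/-- well-formed codes -/
def wf (l : List ℕ) : Bool := l.length == 7 && l.all fun r => red 7 r == r && decide (r < 1024 ^ 7)

theorem pack_digits : ∀ (n r : ℕ), r < 1024 ^ n → pack (fun j : Fin n => r / 1024 ^ j.1 % 1024) = r
  | 0, r, h => by simp at h; simp [pack, h]
  | n + 1, r, h => by
    have hq : r / 1024 < 1024 ^ n := Nat.div_lt_of_lt_mul (by rwa [← pow_succ'])
    simp only [pack, Fin.val_zero, pow_zero, Nat.div_one, Fin.val_succ]
    rw [show (fun i : Fin n => r / 1024 ^ (i.1 + 1) % 1024) = fun i : Fin n => r / 1024 / 1024 ^ i.1 % 1024 from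
      funext fun i => by rw [pow_succ', Nat.div_div_eq_div_mul], pack_digits n _ hq]
    omega

theorem red_fixed : ∀ (n r : ℕ), red n r = r → r < 1024 ^ n → ∀ j < n, r / 1024 ^ j % 1024 < 11
  | 0, _, _, _, j, hj => absurd hj (Nat.not_lt_zero j)
  | n + 1, r, h, hr, j, hj => by
    have hq : r / 1024 < 1024 ^ n := Nat.div_lt_of_lt_mul (by rwa [← pow_succ'])
    simp only [red] at h
    have h11 := Nat.mod_lt (r % 1024) (by norm_num : 11 > 0)
    have hred : red n (r / 1024) = r / 1024 := by omega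
    rcases j with _ | j
    · simp only [pow_zero, Nat.div_one]; omega
    · rw [pow_succ', ← Nat.div_div_eq_div_mul]
      exact red_fixed n _ hred hq j (by omega)

theorem enc_dec {l : List ℕ} (h : wf l = true) : enc (dec l) = l := by
  simp only [wf, Bool.and_eq_true, beq_iff_eq, List.all_eq_true, decide_eq_true_eq] at h
  refine List.ext_getElem (by simp [enc, h.1]) fun i h1 h2 => ?_
  obtain ⟨hr1, hr2⟩ := h.2 _ (List.getElem_mem h2)
  simp only [enc, List.getElem_ofFn]
  conv_rhs => rw [← pack_digits 7 _ hr2]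
  refine congrArg pack (funext fun j => ?_)
  rw [dec, Matrix.of_apply, List.getD_eq_getElem _ _ (by simpa using h2), ZMod.val_natCast,
    Nat.mod_eq_of_lt (red_fixed 7 _ hr1 hr2 j.1 j.2)]

theorem dec_pmul {a b : List ℕ} (ha : wf a = true) (hb : wf b = true) : dec (pmul a b) = dec a * dec b := by
  conv_lhs => rw [← enc_dec ha, ← enc_dec hb, enc_mul]
  exact dec_enc _

end CfsgLib.Recog.JankoOne
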