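import Mathlib
import Cfsg.Prelude.Def_SporadicB
import Cfsg.Agent.Lib.Recog.JankoOneCalc
import Cfsg.Agent.Lib.Recog.JankoOneData

/-!
# The first Janko group: checks
-/

set_option autoImplicit false
set_option Elab.async false
set_option maxRecDepth 100000

namespace CfsgLib.Recog.JankoOne

/-- the identity -/
def pOne : List ℕ := (List.range 7).map (1024 ^ ·)

/-- a generator -/
def gen (k : ℕ) : List ℕ := bif k == 0 then pX else pY

/-- a generator of the subgroup -/
def subGen (k : ℕ) : List ℕ := bif k == 0 then hA else hB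

/-- powers -/
def ppow (a : List ℕ) : ℕ → List ℕ
  | 0 => pOne
  | n + 1 => pmul (ppow a n) a

/-- the subgroup element at a position -/
def subAt (k : ℕ) : List ℕ := sub.getD k pOne

/-- the representative at a position -/
def repAt (k : ℕ) : List ℕ := reps.getD k pOne

theorem wf_sub : (sub.all wf && reps.all wf && sub.length == 660 && reps.length == 266 &&
    subTree.length == 659 && subNext.length == 660 && repTree.length == 265 && repNext.length == 266) = true := by
  decide +kernel

theorem one_check : (wf pOne && subAt 0 == pOne && repAt 0 == pOne) = true := by decide +kernel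

theorem dec_one : dec pOne = 1 := by decide +kernel

theorem gen_check : wf pX = true ∧ wf pY = true ∧ wf hA = true ∧ wf hB = true ∧
    dec pX = Cfsg.jankoMatrixX ∧ dec pY = Cfsg.jankoMatrixY := by decide +kernel

theorem subTree_check : ((List.range 659).zip (subTree.zip (sub.drop 1))).all (fun p =>
    decide (p.2.1.1 ≤ p.1) && (pmul (subAt p.2.1.1) (subGen p.2.1.2) == p.2.2)) = true := by
  decide +kernel

theorem subNext_check : ((sub.zip subNext).all fun p =>
    decide (p.2.1 < 660) && decide (p.2.2 < 660) && (pmul p.1 hA == subAt p.2.1) && (pmul p.1 hB == subAt p.2.2)) = true := by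
  decide +kernel

theorem src_check : (decide (srcA.1 < 266) && decide (srcA.2.2 < 266) && decide (srcB.1 < 266) && decide (srcB.2.2 < 266) &&
    (pmul (repAt srcA.1) (gen srcA.2.1) == pmul hA (repAt srcA.2.2)) &&
    (pmul (repAt srcB.1) (gen srcB.2.1) == pmul hB (repAt srcB.2.2))) = true := by
  decide +kernel

theorem repTree_check : ((List.range 265).zip (repTree.zip (reps.drop 1))).all (fun p =>
    decide (p.2.1.1 ≤ p.1) && (pmul (repAt p.2.1.1) (gen p.2.1.2) == p.2.2)) = true := by
  decide +kernel

theorem repNext_check : ((reps.zip repNext).all fun p =>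
    decide (p.2.1.1 < 660) && decide (p.2.1.2 < 266) && decide (p.2.2.1 < 660) && decide (p.2.2.2 < 266) &&
    (pmul p.1 pX == pmul (subAt p.2.1.1) (repAt p.2.1.2)) &&
    (pmul p.1 pY == pmul (subAt p.2.2.1) (repAt p.2.2.2))) = true := by
  decide +kernel

/-- the named elements with their positions -/
def named : List (List ℕ × ℕ × ℕ) :=
  [(x7, x7Loc), (w7, w7Loc), (x19, x19Loc), (w19, w19Loc), (x11, x11Loc), (w11, w11Loc), (x5, x5Loc), (w5, w5Loc),
   (s5, s5Loc), (t5, t5Loc), (a2, a2Loc), (b2, b2Loc), (c2, c2Loc), (z6, z6Loc), (z10, z10Loc), (z15, z15Loc)]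

theorem named_check : (named.all fun p => wf p.1 && decide (p.2.1 < 660) && decide (p.2.2 < 266) &&
    (pmul (subAt p.2.1) (repAt p.2.2) == p.1)) = true := by
  decide +kernel

/-- exact order by computation -/
def hasOrder (a : List ℕ) (n : ℕ) : Bool :=
  ppow a n == pOne && (List.range n).all fun k => k == 0 || !(ppow a k == pOne)

theorem order_check : (hasOrder x7 7 && hasOrder x19 19 && hasOrder x11 11 && hasOrder x5 5 && hasOrder w7 6 &&
    hasOrder w19 6 && hasOrder w11 10 && hasOrder w5 2 && hasOrder s5 3 && hasOrder t5 2 && hasOrder a2 2 &&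
    hasOrder b2 2 && hasOrder c2 2 && hasOrder z6 6 && hasOrder z10 10 && hasOrder z15 15) = true := by
  decide +kernel

/-- `w` normalises the cyclic group of `x` and induces an automorphism of order `o` -/
def normalises (x w : List ℕ) (r o : ℕ) : Bool :=
  pmul w x == pmul (ppow x r) w && (List.range o).all fun k => k == 0 || !(pmul (ppow w k) x == pmul x (ppow w k))

theorem normal_check : (normalises x7 w7 3 6 && normalises x19 w19 8 6 && normalises x11 w11 2 10 &&
    normalises x5 w5 4 2) = true := by
  decide +kernel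

theorem five_check : (pmul s5 x5 == pmul x5 s5 && pmul t5 x5 == pmul x5 t5 && !(pmul s5 t5 == pmul t5 s5)) = true := by
  decide +kernel

theorem two_check : (pmul a2 b2 == pmul b2 a2 && pmul a2 c2 == pmul c2 a2 && pmul b2 c2 == pmul c2 b2 &&
    !(pmul a2 b2 == pOne) && !(pmul a2 c2 == pOne) && !(pmul b2 c2 == pOne) &&
    !(pmul (pmul a2 b2) c2 == pOne)) = true := by
  decide +kernel

/-- a vector -/
def vecOf (l : List ℕ) : Fin 7 → ZMod 11 := fun i => (l.getD i.1 0 : ℕ)

theorem fix_check :
    (dec x7).mulVec (vecOf fix7) = vecOf fix7 ∧ (dec x19).mulVec (vecOf fix19) = vecOf fix19 ∧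
    (dec x11).mulVec (vecOf fix11) = vecOf fix11 ∧
    dec lin7 * (dec x7 - 1) = 1 - Matrix.vecMulVec (vecOf fix7) (vecOf func7) ∧
    dec lin19 * (dec x19 - 1) = 1 - Matrix.vecMulVec (vecOf fix19) (vecOf func19) ∧
    dec lin11 * (dec x11 - 1) = 1 - Matrix.vecMulVec (vecOf fix11) (vecOf func11) := by
  decide +kernel

/-- the images of a vector are distinct normalised vectors up to scalars -/
def orbitOK (v : List ℕ) (orb : List (ℕ × ℕ × List ℕ)) (n : ℕ) : Bool :=
  orb.length == n && (orb.all fun p => decide (p.1 < 660) &&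
    ((List.finRange 7).all fun i =>
      (p.2.1 : ZMod 11) * (dec (subAt p.1)).mulVec (vecOf v) i == vecOf p.2.2 i) &&
    ((List.finRange 7).any fun i => vecOf p.2.2 i == 1 &&
      (List.finRange 7).all fun k => decide (i ≤ k) || vecOf p.2.2 k == 0) &&
    !((p.2.1 : ZMod 11) == 0)) &&
  decide ((orb.map fun p => p.2.2).Nodup) && orb.all fun p => p.2.2.length == 7 && p.2.2.all fun e => decide (e < 11)

theorem orbit_check : (orbitOK fix7 orbit7 191 && orbitOK fix19 orbit19 78 && orbitOK fix11 orbit11 134) = true := by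
  decide +kernel

end CfsgLib.Recog.JankoOne
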