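import Mathlib
import Cfsg.Agent.Lib.Recog.JankoOneChecks
import Cfsg.Agent.Lib.Recog.JankoOneExtraData

/-!
# The first Janko group: checks for involutions and their centralisers
-/

set_option autoImplicit false
set_option Elab.async false
set_option maxRecDepth 100000

namespace CfsgLib.Recog.JankoOne

/-- the additional elements with their positions -/
def extraNamed : List (List ℕ × ℕ × ℕ) := [(xN, xNLoc), (bI, bILoc), (uA, uALoc), (vA, vALoc)]

theorem extraNamed_check : (extraNamed.all fun p => wf p.1 && decide (p.2.1 < 660) && decide (p.2.2 < 266) &&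
    (pmul (subAt p.2.1) (repAt p.2.2) == p.1)) = true := by
  decide +kernel

/-- an involution at a position -/
def invAt (k : ℕ) : List ℕ := invs.getD k pOne

theorem inv_head : (invAt 0 == a2 && invs.length == 1463 && invNext.length == 1463) = true := by decide +kernel

theorem getD_flatten_blocks {α : Type} (d : α) {m : ℕ} : ∀ (L : List (List α)) (i : ℕ),
    (L.dropLast.all fun l => l.length == m) = true → (L.all fun l => decide (l.length ≤ m)) = true →
    i < L.flatten.length → 0 < m →
    L.flatten.getD i d = (L.getD (i / m) []).getD (i % m) d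
  | [], i, _, _, hi, _ => absurd hi (by simp)
  | [l], i, _, hle, hi, hm => by
    rcases Nat.lt_or_ge i m with h | h
    · simp [Nat.div_eq_of_lt h, Nat.mod_eq_of_lt h]
    · exact absurd h (by simp at hi hle; omega)
  | l :: l' :: L, i, hL, hle, hi, hm => by
    simp only [List.dropLast_cons₂, List.all_cons, Bool.and_eq_true, beq_iff_eq] at hL
    have hle' : ((l' :: L).all fun l => decide (l.length ≤ m)) = true := by
      rw [List.all_cons, Bool.and_eq_true] at hle; exact hle.2
    rw [List.flatten_cons] at hi ⊢
    rcases Nat.lt_or_ge i m with h | h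
    · rw [List.getD_append _ _ _ _ (by omega), Nat.div_eq_of_lt h, Nat.mod_eq_of_lt h]
      rfl
    · rw [List.getD_append_right _ _ _ _ (by omega), hL.1,
        getD_flatten_blocks d (l' :: L) (i - m) hL.2 hle' (by rw [List.length_append] at hi; omega) hm,
        ← Nat.mod_eq_sub_mod h]
      rw [show i / m = (i - m) / m + 1 by
        conv_lhs => rw [show i = i - m + m by omega, Nat.add_div_right _ hm]]
      rfl

/-- the involutions in blocks of one hundred -/
def invBlocks : List (List (List ℕ)) := [invsPart0, invsPart1, invsPart2, invsPart3, invsPart4, invsPart5, invsPart6, invsPart7, invsPart8, invsPart9, invsPart10, invsPart11, invsPart12, invsPart13, invsPart14]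

/-- the involution at a position, read through the blocks -/
def invFast (k : ℕ) : List ℕ := (invBlocks.getD (k / 100) []).getD (k % 100) pOne

/-- the successors at a position, read through the blocks -/
def nextFast (k : ℕ) : ℕ × ℕ :=
  (([invNextPart0, invNextPart1, invNextPart2].getD (k / 500) [])).getD (k % 500) (0, 0)

theorem inv_blocks_check : ((invBlocks.flatten == invs) && (invBlocks.flatten.length == 1463) &&
    (invBlocks.dropLast.all fun l => l.length == 100) &&
    (invBlocks.all fun l => decide (l.length ≤ 100)) &&
    ([invNextPart0, invNextPart1, invNextPart2].all fun l => decide (l.length ≤ 500)) &&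
    ([invNextPart0, invNextPart1, invNextPart2].flatten == invNext) &&
    ([invNextPart0, invNextPart1, invNextPart2].flatten.length == 1463) &&
    ([invNextPart0, invNextPart1, invNextPart2].dropLast.all fun l => l.length == 500)) = true := by
  decide +kernel

theorem invFast_eq {k : ℕ} (h : k < 1463) : invFast k = invAt k ∧ nextFast k = invNext.getD k (0, 0) := by
  have c := inv_blocks_check
  simp only [Bool.and_eq_true, beq_iff_eq] at c
  obtain ⟨⟨⟨⟨⟨⟨⟨c1, c2⟩, c3⟩, c4⟩, c5⟩, c6⟩, c7⟩, c8⟩ := c
  refine ⟨?_, ?_⟩
  · rw [invAt, ← c1, getD_flatten_blocks _ _ _ c3 c4 (by omega) (by norm_num)]; rfl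
  · rw [← c6, getD_flatten_blocks _ _ _ c8 c5 (by omega) (by norm_num)]; rfl

/-- the closure test at the positions from `lo` to `lo + 366` -/
def invClosedPart (lo : ℕ) : Bool :=
  (List.range 366).all fun t => !decide (lo + t < 1463) ||
    (decide ((nextFast (lo + t)).1 < 1463) && decide ((nextFast (lo + t)).2 < 1463) &&
      pmul pX (invFast (lo + t)) == pmul (invFast (nextFast (lo + t)).1) pX &&
      pmul pY (invFast (lo + t)) == pmul (invFast (nextFast (lo + t)).2) pY)

theorem inv_closed0 : invClosedPart 0 = true := by decide +kernel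

theorem inv_closed1 : invClosedPart 366 = true := by decide +kernel

theorem inv_closed2 : invClosedPart 732 = true := by decide +kernel

theorem inv_closed3 : invClosedPart 1098 = true := by decide +kernel

theorem inv_closed : ((List.range 1463).all fun i =>
    decide ((invNext.getD i (0, 0)).1 < 1463) && decide ((invNext.getD i (0, 0)).2 < 1463) &&
    pmul pX (invAt i) == pmul (invAt (invNext.getD i (0, 0)).1) pX &&
    pmul pY (invAt i) == pmul (invAt (invNext.getD i (0, 0)).2) pY) = true := by
  refine List.all_eq_true.2 fun i hi => ?_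
  rw [List.mem_range] at hi
  have key : ∀ lo t, lo + t = i → t < 366 → invClosedPart lo = true →
      (decide ((nextFast i).1 < 1463) && decide ((nextFast i).2 < 1463) &&
      pmul pX (invFast i) == pmul (invFast (nextFast i).1) pX &&
      pmul pY (invFast i) == pmul (invFast (nextFast i).2) pY) = true := by
    intro lo t e ht h
    have h' := List.all_eq_true.1 h t (List.mem_range.2 ht)
    rw [e] at h'
    simpa [hi] using h'
  have h : _ := if h0 : i < 366 then key 0 i (by omega) h0 inv_closed0
    else if h1 : i < 732 then key 366 (i - 366) (by omega) (by omega) inv_closed1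
    else if h2 : i < 1098 then key 732 (i - 732) (by omega) (by omega) inv_closed2
    else key 1098 (i - 1098) (by omega) (by omega) inv_closed3
  simp only [Bool.and_eq_true, decide_eq_true_eq, beq_iff_eq] at h ⊢
  obtain ⟨⟨⟨a, b⟩, c⟩, d⟩ := h
  rw [(invFast_eq hi).2] at a b c d
  rw [(invFast_eq hi).1, (invFast_eq a).1] at c
  rw [(invFast_eq hi).1, (invFast_eq b).1] at d
  exact ⟨⟨⟨a, b⟩, c⟩, d⟩

/-- the test singling out seven involutions -/
def special (l : List ℕ) : Bool := ppow (pmul (ppow pX 2) l) 3 == pOne && ppow (pmul pX l) 19 == pOne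

theorem special_orbit : (invs.all fun l => !(ppow (pmul (ppow pX 2) l) 3 == pOne) || (!(special l) ||
    (List.range 7).any fun i => pmul (ppow pX i) bI == pmul l (ppow pX i))) = true := by
  decide +kernel

theorem special_bI : special bI = true ∧ invAt 191 = bI := by decide +kernel

theorem word_check : (wordY.foldl (fun acc k => pmul acc (bif k == 0 then pX else bI)) pOne == pY) = true := by
  decide +kernel

theorem x7_eq : x7 = pX := by decide +kernel

/-- an element of the elementary group of order eight at a position -/
def eightAt (k : ℕ) : List ℕ := eightOrbit.getD k pOne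

theorem eight_check : ((List.range 7).all (fun k => pmul (ppow xN k) a2 == pmul (eightAt k) (ppow xN k)) &&
    ppow xN 7 == pOne && hasOrder xN 7 && eightOrbit.length == 7 &&
    (List.range 7).all (fun k => pmul (eightAt k) (eightAt k) == pOne && !(eightAt k == pOne)) &&
    (List.range 7).all (fun i => (List.range 7).all fun j => i == j ||
      (List.range 7).any fun k => pmul (eightAt i) (eightAt j) == eightAt k) &&
    (List.range 7).all (fun i => (List.range 7).all fun j => i == j || !(eightAt i == eightAt j)) &&
    pmul (eightAt 0) (eightAt 1) == eightAt 5 && pmul (eightAt 0) (eightAt 2) == eightAt 3 &&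
    pmul (eightAt 1) (eightAt 3) == eightAt 4 && eightAt 0 == a2) = true := by
  decide +kernel

/-- an element of the table at a position -/
def altAt (k : ℕ) : List (Fin 5) × List ℕ × ℕ × ℕ := altTable.getD k ([], pOne, 0, 0)

theorem alt_check : (altTable.length == 60 && altAt 0 == ([0, 1, 2, 3, 4], pOne, 0, 0) &&
    (List.range 60).all (fun i => pmul (altAt i).2.1 a2 == pmul a2 (altAt i).2.1 &&
      !((altAt i).2.1 == a2) && (i == 0 || !((altAt i).2.1 == pOne))) &&
    (List.range 60).all (fun i => i == 0 || (decide ((altAt i).2.2.1 < i) && decide ((altAt i).2.2.2 < 2) &&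
      ((altAt i).1 == (bif (altAt i).2.2.2 == 0 then [1, 0, 3, 2, 4] else [0, 2, 4, 3, 1]).map
        (fun j : Fin 5 => (altAt (altAt i).2.2.1).1.getD j.1 0)) &&
      ((altAt i).2.1 == pmul (altAt (altAt i).2.2.1).2.1 (bif (altAt i).2.2.2 == 0 then uA else vA)))) &&
    (List.range 60).all (fun i => decide ((altNext.getD i (0, 0)).1 < 60) && decide ((altNext.getD i (0, 0)).2 < 60) &&
      ((altAt (altNext.getD i (0, 0)).1).1 == [1, 0, 3, 2, 4].map (fun j : Fin 5 => (altAt i).1.getD j.1 0)) &&
      ((altAt (altNext.getD i (0, 0)).1).2.1 == pmul (altAt i).2.1 uA) &&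
      ((altAt (altNext.getD i (0, 0)).2).1 == [0, 2, 4, 3, 1].map (fun j : Fin 5 => (altAt i).1.getD j.1 0)) &&
      ((altAt (altNext.getD i (0, 0)).2).2.1 == pmul (altAt i).2.1 vA))) = true := by
  decide +kernel

theorem alt_cover : ∀ g : Equiv.Perm (Fin 5), Equiv.Perm.sign g = 1 →
    ∃ i : Fin 60, (altAt i.1).1 = [g 0, g 1, g 2, g 3, g 4] := by
  decide +kernel

theorem alt_keys_nodup : (altTable.map Prod.fst).Nodup := by decide +kernel

theorem order_bI : hasOrder bI 2 = true := by decide +kernel

theorem wf_extra : (invs.all wf && eightOrbit.all wf) = true := by decide +kernel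

end CfsgLib.Recog.JankoOne
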