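import Mathlib
import Cfsg.Prelude.Def_Spor_J1
import Cfsg.Agent.Lib.Recog.JankoOneChecks

/-!
# Order, simplicity and element orders of the first Janko group
-/

set_option autoImplicit false
set_option maxRecDepth 20000

namespace CfsgLib.Recog.JankoOne

open Matrix Cfsg.Spor

/-- the group -/
abbrev G : Type := ↥Cfsg.Spor.J1

/-- the matrix of an element -/
def mat : G →* Matrix (Fin 7) (Fin 7) (ZMod 11) where
  toFun g := (g.1 : Matrix (Fin 7) (Fin 7) (ZMod 11))
  map_one' := rfl
  map_mul' _ _ := rfl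

theorem mat_injective : Function.Injective mat := fun _ _ h => Subtype.ext (Units.ext h)

/-- a code of an element -/
def IsCode (g : G) (l : List ℕ) : Prop := enc (mat g) = l

theorem IsCode.mul {g h : G} {a b : List ℕ} (hg : IsCode g a) (hh : IsCode h b) : IsCode (g * h) (pmul a b) := by
  unfold IsCode at *
  rw [map_mul, ← enc_mul, hg, hh]

theorem IsCode.eq {g h : G} {a : List ℕ} (hg : IsCode g a) (hh : IsCode h a) : g = h :=
  mat_injective (enc_injective (hg.trans hh.symm))

theorem isCode_one : IsCode 1 pOne := by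
  have h := one_check
  simp only [Bool.and_eq_true] at h
  show enc (mat 1) = pOne
  rw [map_one, ← dec_one, enc_dec h.1.1]

theorem IsCode.pow {g : G} {a : List ℕ} (hg : IsCode g a) : ∀ n, IsCode (g ^ n) (ppow a n)
  | 0 => by rw [pow_zero]; exact isCode_one
  | n + 1 => by rw [pow_succ, ppow]; exact (hg.pow n).mul hg

theorem code_gen (k : ℕ) : ∃ g : G, IsCode g (gen k) := by
  obtain ⟨h1, h2, -, -, h5, h6⟩ := gen_check
  cases hk : k == 0
  · refine ⟨⟨jankoY, Subgroup.subset_closure (Or.inr rfl)⟩, ?_⟩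
    show enc Cfsg.jankoMatrixY = _
    rw [gen, hk, cond_false, ← h6, enc_dec h2]
  · refine ⟨⟨jankoX, Subgroup.subset_closure (Or.inl rfl)⟩, ?_⟩
    show enc Cfsg.jankoMatrixX = _
    rw [gen, hk, cond_true, ← h5, enc_dec h1]

theorem code_rep (j : ℕ) (hj : j < 266) : ∃ g : G, IsCode g (repAt j) := by
  have hz := repTree_check
  rw [List.all_eq_true] at hz
  have hl := wf_sub
  simp only [Bool.and_eq_true, beq_iff_eq] at hl
  obtain ⟨⟨⟨⟨⟨⟨⟨-, -⟩, -⟩, hr⟩, -⟩, -⟩, hrt⟩, -⟩ := hl
  induction j using Nat.strong_induction_on with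
  | _ j ih =>
    rcases j with _ | j
    · have h := one_check
      simp only [Bool.and_eq_true, beq_iff_eq] at h
      exact ⟨1, by rw [h.2]; exact isCode_one⟩
    · have hlen : j < ((List.range 265).zip (repTree.zip (reps.drop 1))).length := by
        simp only [List.length_zip, List.length_range, hrt, List.length_drop, hr]; omega
      have h := hz _ (List.getElem_mem hlen)
      simp only [List.getElem_zip, List.getElem_range, List.getElem_drop, Bool.and_eq_true, decide_eq_true_eq,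
        beq_iff_eq] at h
      obtain ⟨h1, h2⟩ := h
      obtain ⟨g, hg⟩ := ih (repTree[j]'(by omega)).1 (by omega) (by omega)
      obtain ⟨s, hs⟩ := code_gen ((repTree[j]'(by omega)).2)
      refine ⟨g * s, ?_⟩
      have := hg.mul hs
      rw [h2] at this
      rw [repAt, List.getD_eq_getElem _ _ (by omega)]
      simpa [Nat.add_comm] using this

theorem code_subGen (k : ℕ) : ∃ g : G, IsCode g (subGen k) := by
  have h := src_check
  simp only [Bool.and_eq_true, decide_eq_true_eq, beq_iff_eq] at h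
  obtain ⟨⟨⟨⟨⟨a1, a2⟩, b1⟩, b2⟩, a3⟩, b3⟩ := h
  obtain ⟨-, -, hA', hB', -, -⟩ := gen_check
  have key : ∀ i g j (l : List ℕ), wf l = true → i < 266 → j < 266 → pmul (repAt i) (gen g) = pmul l (repAt j) →
      ∃ x : G, IsCode x l := by
    intro i g j l hl hi hj he
    obtain ⟨a, ha⟩ := code_rep i hi
    obtain ⟨s, hs⟩ := code_gen g
    obtain ⟨b, hb⟩ := code_rep j hj
    refine ⟨a * s * b⁻¹, ?_⟩
    show enc (mat (a * s * b⁻¹)) = l
    have h1 := ha.mul hs
    rw [he, ← enc_dec hl, ← hb, enc_mul] at h1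
    have h2 : mat (a * s) = dec l * mat b := enc_injective h1
    rw [map_mul, h2, mul_assoc, ← map_mul, mul_inv_cancel, map_one, mul_one, enc_dec hl]
  cases hk : k == 0
  · rw [subGen, hk, cond_false]; exact key _ _ _ _ hB' b1 b2 b3
  · rw [subGen, hk, cond_true]; exact key _ _ _ _ hA' a1 a2 a3

theorem code_sub (j : ℕ) (hj : j < 660) : ∃ g : G, IsCode g (subAt j) := by
  have hz := subTree_check
  rw [List.all_eq_true] at hz
  have hl := wf_sub
  simp only [Bool.and_eq_true, beq_iff_eq] at hl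
  obtain ⟨⟨⟨⟨⟨⟨⟨-, -⟩, hs⟩, -⟩, hst⟩, -⟩, -⟩, -⟩ := hl
  induction j using Nat.strong_induction_on with
  | _ j ih =>
    rcases j with _ | j
    · have h := one_check
      simp only [Bool.and_eq_true, beq_iff_eq] at h
      exact ⟨1, by rw [h.1.2]; exact isCode_one⟩
    · have hlen : j < ((List.range 659).zip (subTree.zip (sub.drop 1))).length := by
        simp only [List.length_zip, List.length_range, hst, List.length_drop, hs]; omega
      have h := hz _ (List.getElem_mem hlen)
      simp only [List.getElem_zip, List.getElem_range, List.getElem_drop, Bool.and_eq_true, decide_eq_true_eq,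
        beq_iff_eq] at h
      obtain ⟨h1, h2⟩ := h
      obtain ⟨g, hg⟩ := ih (subTree[j]'(by omega)).1 (by omega) (by omega)
      obtain ⟨s, hs'⟩ := code_subGen ((subTree[j]'(by omega)).2)
      refine ⟨g * s, ?_⟩
      have := hg.mul hs'
      rw [h2] at this
      rw [subAt, List.getD_eq_getElem _ _ (by omega)]
      simpa [Nat.add_comm] using this

theorem exists_named {l : List ℕ} (h : l ∈ named.map Prod.fst) : ∃ g : G, IsCode g l := by
  obtain ⟨p, hp, rfl⟩ := List.mem_map.mp h
  have hc := named_check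
  rw [List.all_eq_true] at hc
  have := hc p hp
  simp only [Bool.and_eq_true, decide_eq_true_eq, beq_iff_eq] at this
  obtain ⟨⟨⟨-, h1⟩, h2⟩, h3⟩ := this
  obtain ⟨a, ha⟩ := code_sub _ h1
  obtain ⟨b, hb⟩ := code_rep _ h2
  exact ⟨a * b, h3 ▸ ha.mul hb⟩

theorem orderOf_of_check {g : G} {a : List ℕ} (hg : IsCode g a) {n : ℕ} (hn : 0 < n)
    (h : hasOrder a n = true) : orderOf g = n := by
  simp only [hasOrder, Bool.and_eq_true, beq_iff_eq, List.all_eq_true, List.mem_range, Bool.or_eq_true,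
    Bool.not_eq_true'] at h
  rw [orderOf_eq_iff hn]
  refine ⟨IsCode.eq (hg.pow n) (by rw [h.1]; exact isCode_one), fun m hm hm0 he => ?_⟩
  rcases h.2 m hm with h' | h'
  · omega
  · have := hg.pow m
    rw [he] at this
    have h'' : ppow a m = pOne := this.symm.trans isCode_one
    simp [h''] at h'

theorem card_le : Nat.card G ≤ 175560 := by
  classical
  have hl := wf_sub
  simp only [Bool.and_eq_true, beq_iff_eq] at hl
  obtain ⟨⟨⟨⟨⟨⟨⟨-, -⟩, hs⟩, hr⟩, -⟩, hsn⟩, -⟩, hrn⟩ := hl
  choose S hS using fun i : Fin 660 => code_sub i.1 i.2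
  choose T hT using fun j : Fin 266 => code_rep j.1 j.2
  obtain ⟨gA, hgA⟩ := code_subGen 0
  obtain ⟨gB, hgB⟩ := code_subGen 1
  -- the subgroup table is closed
  have hsubclosed : ∀ g ∈ Submonoid.closure ({gA, gB} : Set G), ∀ i : Fin 660, ∃ i' : Fin 660, S i * g = S i' := by
    intro g hg
    induction hg using Submonoid.closure_induction with
    | mem g hg =>
      intro i
      have h := subNext_check
      rw [List.all_eq_true] at h
      have hlen : i.1 < (sub.zip subNext).length := by simp only [List.length_zip, hs, hsn]; omega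
      have h := h _ (List.getElem_mem hlen)
      simp only [List.getElem_zip, Bool.and_eq_true, decide_eq_true_eq, beq_iff_eq] at h
      obtain ⟨⟨⟨h1, h2⟩, h3⟩, h4⟩ := h
      have hsi : subAt i.1 = sub[i.1]'(by omega) := List.getD_eq_getElem _ _ _
      rcases hg with rfl | rfl
      · exact ⟨⟨_, h1⟩, IsCode.eq ((hS i).mul hgA) (by rw [hsi]; exact h3 ▸ hS ⟨_, h1⟩)⟩
      · exact ⟨⟨_, h2⟩, IsCode.eq ((hS i).mul hgB) (by rw [hsi]; exact h4 ▸ hS ⟨_, h2⟩)⟩
    | one => exact fun i => ⟨i, mul_one _⟩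
    | mul a b _ _ iha ihb =>
      intro i
      obtain ⟨i', hi'⟩ := iha i
      obtain ⟨i'', hi''⟩ := ihb i'
      exact ⟨i'', by rw [← mul_assoc, hi', hi'']⟩
  have hSmem : ∀ i : Fin 660, S i ∈ Submonoid.closure ({gA, gB} : Set G) := by
    intro ⟨i, hi⟩
    induction i using Nat.strong_induction_on with
    | _ i ih =>
      rcases i with _ | i
      · have h := one_check
        simp only [Bool.and_eq_true, beq_iff_eq] at h
        rw [IsCode.eq (hS ⟨0, hi⟩) (by rw [h.1.2]; exact isCode_one)]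
        exact one_mem _
      · have hz := subTree_check
        rw [List.all_eq_true] at hz
        have hl := wf_sub
        simp only [Bool.and_eq_true, beq_iff_eq] at hl
        have hst := hl.1.1.1.2
        have hlen : i < ((List.range 659).zip (subTree.zip (sub.drop 1))).length := by
          simp only [List.length_zip, List.length_range, hst, List.length_drop, hs]; omega
        have h := hz _ (List.getElem_mem hlen)
        simp only [List.getElem_zip, List.getElem_range, List.getElem_drop, Bool.and_eq_true, decide_eq_true_eq,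
          beq_iff_eq] at h
        obtain ⟨h1, h2⟩ := h
        have hm := ih (subTree[i]'(by omega)).1 (by omega) (by omega)
        cases hk : (subTree[i]'(by omega)).2 == 0
        · rw [subGen, hk, cond_false] at h2
          have hgB' : IsCode gB hB := hgB
          have := (hS ⟨(subTree[i]'(by omega)).1, by omega⟩).mul hgB'
          rw [h2] at this
          rw [IsCode.eq (hS ⟨i + 1, hi⟩) (g := S ⟨i + 1, hi⟩) (h := S ⟨(subTree[i]'(by omega)).1, by omega⟩ * gB)
            (by rw [subAt, List.getD_eq_getElem _ _ (by omega)]; simpa [Nat.add_comm] using this)]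
          exact mul_mem hm (Submonoid.subset_closure (Or.inr rfl))
        · rw [subGen, hk, cond_true] at h2
          have hgA' : IsCode gA hA := hgA
          have := (hS ⟨(subTree[i]'(by omega)).1, by omega⟩).mul hgA'
          rw [h2] at this
          rw [IsCode.eq (hS ⟨i + 1, hi⟩) (g := S ⟨i + 1, hi⟩) (h := S ⟨(subTree[i]'(by omega)).1, by omega⟩ * gA)
            (by rw [subAt, List.getD_eq_getElem _ _ (by omega)]; simpa [Nat.add_comm] using this)]
          exact mul_mem hm (Submonoid.subset_closure (Or.inl rfl))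
  let J0 : Set G := {g | ∀ (i : Fin 660) (j : Fin 266), ∃ (i' : Fin 660) (j' : Fin 266), S i * T j * g = S i' * T j'}
  have hstep : ∀ k, ∀ g : G, IsCode g (gen k) → g ∈ J0 := by
    intro k g hg i j
    have h := repNext_check
    rw [List.all_eq_true] at h
    have hlen : j.1 < (reps.zip repNext).length := by simp only [List.length_zip, hr, hrn]; omega
    have h := h _ (List.getElem_mem hlen)
    simp only [List.getElem_zip, Bool.and_eq_true, decide_eq_true_eq, beq_iff_eq] at h
    obtain ⟨⟨⟨⟨⟨a1, a2⟩, b1⟩, b2⟩, a3⟩, b3⟩ := h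
    have hrj : repAt j.1 = reps[j.1]'(by omega) := List.getD_eq_getElem _ _ _
    have fin : ∀ (a : ℕ) (ha : a < 660) (b : ℕ) (hb : b < 266), pmul (reps[j.1]'(by omega)) (gen k) =
        pmul (subAt a) (repAt b) → ∃ (i' : Fin 660) (j' : Fin 266), S i * T j * g = S i' * T j' := by
      intro a ha b hb he
      have e1 : T j * g = S ⟨a, ha⟩ * T ⟨b, hb⟩ :=
        IsCode.eq ((hT j).mul hg) (by rw [hrj, he]; exact (hS ⟨a, ha⟩).mul (hT ⟨b, hb⟩))
      obtain ⟨i', hi'⟩ := hsubclosed _ (hSmem ⟨a, ha⟩) i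
      exact ⟨i', ⟨b, hb⟩, by rw [mul_assoc, e1, ← mul_assoc, hi']⟩
    cases hk : k == 0
    · exact fin _ b1 _ b2 (by rw [gen, hk, cond_false]; exact b3)
    · exact fin _ a1 _ a2 (by rw [gen, hk, cond_true]; exact a3)
  have hall : ∀ g : G, ∃ (i : Fin 660) (j : Fin 266), g = S i * T j := by
    intro g
    have hg : g.1 ∈ Submonoid.closure ({jankoX, jankoY} : Set (GL (Fin 7) (ZMod 11))) := by
      have h : g.1 ∈ (Subgroup.closure ({jankoX, jankoY} : Set (GL (Fin 7) (ZMod 11)))).toSubmonoid := g.2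
      rwa [Subgroup.closure_toSubmonoid_of_finite] at h
    have hmem : ∀ (x : GL (Fin 7) (ZMod 11)), x ∈ Submonoid.closure ({jankoX, jankoY} : Set (GL (Fin 7) (ZMod 11))) →
        ∃ hx : x ∈ Cfsg.Spor.J1, (⟨x, hx⟩ : G) ∈ J0 := by
      intro x hx
      induction hx using Submonoid.closure_induction with
      | mem x hx =>
        obtain ⟨h1, h2, -, -, h5, h6⟩ := gen_check
        rcases hx with rfl | rfl
        · refine ⟨Subgroup.subset_closure (Or.inl rfl), hstep 0 _ ?_⟩
          show enc Cfsg.jankoMatrixX = pX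
          rw [← h5, enc_dec h1]
        · refine ⟨Subgroup.subset_closure (Or.inr rfl), hstep 1 _ ?_⟩
          show enc Cfsg.jankoMatrixY = pY
          rw [← h6, enc_dec h2]
      | one => exact ⟨one_mem _, fun i j => ⟨i, j, mul_one _⟩⟩
      | mul a b _ _ iha ihb =>
        obtain ⟨ha, ha'⟩ := iha
        obtain ⟨hb, hb'⟩ := ihb
        refine ⟨mul_mem ha hb, fun i j => ?_⟩
        obtain ⟨i', j', h'⟩ := ha' i j
        obtain ⟨i'', j'', h''⟩ := hb' i' j'
        refine ⟨i'', j'', ?_⟩
        rw [← h'', ← h', show (⟨a * b, mul_mem ha hb⟩ : G) = ⟨a, ha⟩ * ⟨b, hb⟩ from rfl]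
        simp only [mul_assoc]
    obtain ⟨_, hJ⟩ := hmem g.1 hg
    obtain ⟨i', j', h'⟩ := hJ ⟨0, by norm_num⟩ ⟨0, by norm_num⟩
    refine ⟨i', j', ?_⟩
    have h := one_check
    simp only [Bool.and_eq_true, beq_iff_eq] at h
    rw [← h', IsCode.eq (hS ⟨0, _⟩) (by rw [h.1.2]; exact isCode_one),
      IsCode.eq (hT ⟨0, _⟩) (by rw [h.2]; exact isCode_one), one_mul, one_mul]
  choose fi fj hf using hall
  have hinj : Function.Injective fun g => (fi g, fj g) := fun g g' h => by
    simp only [Prod.mk.injEq] at h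
    rw [hf g, hf g', h.1, h.2]
  refine (Nat.card_le_card_of_injective _ hinj).trans (le_of_eq ?_)
  simp

/-- the three involutions -/
theorem exists_eight : ∃ P : Subgroup G, Nat.card P = 8 ∧ ∀ y ∈ P, y ^ 2 = 1 := by
  obtain ⟨a, ha⟩ := exists_named (l := a2) (by simp [named])
  obtain ⟨b, hb⟩ := exists_named (l := b2) (by simp [named])
  obtain ⟨c, hc⟩ := exists_named (l := c2) (by simp [named])
  have ho := order_check
  simp only [Bool.and_eq_true] at ho
  obtain ⟨⟨⟨⟨⟨⟨⟨⟨⟨⟨⟨⟨⟨⟨⟨-, -⟩, -⟩, -⟩, -⟩, -⟩, -⟩, -⟩, -⟩, -⟩, oa⟩, ob⟩, oc⟩, -⟩, -⟩, -⟩ := ho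
  have oA := orderOf_of_check ha (by norm_num) oa
  have oB := orderOf_of_check hb (by norm_num) ob
  have oC := orderOf_of_check hc (by norm_num) oc
  have ht := two_check
  simp only [Bool.and_eq_true, beq_iff_eq, Bool.not_eq_true'] at ht
  obtain ⟨⟨⟨⟨⟨⟨hab, hac⟩, hbc⟩, nab⟩, nac⟩, nbc⟩, nabc⟩ := ht
  have cab : Commute a b := IsCode.eq (ha.mul hb) (by rw [hab]; exact hb.mul ha)
  have cac : Commute a c := IsCode.eq (ha.mul hc) (by rw [hac]; exact hc.mul ha)
  have cbc : Commute b c := IsCode.eq (hb.mul hc) (by rw [hbc]; exact hc.mul hb)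
  have hne : ∀ {g : G} {l : List ℕ}, IsCode g l → (l == pOne) = false → g ≠ 1 := fun hg hl he => by
    have : _ = pOne := (he ▸ hg).symm.trans isCode_one
    simp [this] at hl
  have hp : ∀ g : G, orderOf g = 2 → ∀ i j : ZMod 2, g ^ (i + j).val = g ^ i.val * g ^ j.val := fun g hg i j => by
    rw [← pow_add, ZMod.val_add]
    conv_rhs => rw [← pow_mod_orderOf, hg]
  let f : Multiplicative (ZMod 2 × ZMod 2 × ZMod 2) →* G :=
    { toFun := fun v => a ^ v.toAdd.1.val * b ^ v.toAdd.2.1.val * c ^ v.toAdd.2.2.val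
      map_one' := by simp
      map_mul' := fun u v => by
        simp only [toAdd_mul, Prod.fst_add, Prod.snd_add, hp a oA, hp b oB, hp c oC]
        rw [(cab.pow_pow _ _).mul_mul_mul_comm, ((cac.pow_pow _ _).mul_left (cbc.pow_pow _ _)).mul_mul_mul_comm] }
  have hfinj : Function.Injective f := by
    refine (injective_iff_map_eq_one f).mpr fun v hv => ?_
    obtain ⟨⟨i, j, k⟩, rfl⟩ := Multiplicative.ofAdd.surjective v
    have h2 : ∀ x : ZMod 2, x = 0 ∨ x = 1 := by decide
    rcases h2 i with rfl | rfl <;> rcases h2 j with rfl | rfl <;> rcases h2 k with rfl | rfl <;>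
      simp [f, ZMod.val_one] at hv ⊢
    · exact hne hc (by rw [beq_eq_false_iff_ne]; intro e; rw [e] at hc; rw [IsCode.eq hc isCode_one] at oC; simp at oC) hv
    · rw [hv] at oB; simp at oB
    · exact hne (hb.mul hc) nbc hv
    · rw [hv] at oA; simp at oA
    · exact hne (ha.mul hc) nac hv
    · exact hne (ha.mul hb) nab hv
    · exact hne ((ha.mul hb).mul hc) nabc hv
  refine ⟨f.range, ?_, ?_⟩
  · rw [← Nat.card_congr (MonoidHom.ofInjective hfinj).toEquiv, Nat.card_congr Multiplicative.toAdd]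
    simp
  · rintro y ⟨v, rfl⟩
    rw [← map_pow]
    have h2 : ∀ w : ZMod 2 × ZMod 2 × ZMod 2, w + w = 0 := by decide
    rw [show v ^ 2 = 1 from Multiplicative.toAdd.injective (by rw [sq, toAdd_mul, toAdd_one]; exact h2 _), map_one]

theorem exists_element (l : List ℕ) (h : l ∈ named.map Prod.fst) (n : ℕ) (hn : 0 < n) (ho : hasOrder l n = true) :
    ∃ g : G, IsCode g l ∧ orderOf g = n := by
  obtain ⟨g, hg⟩ := exists_named h
  exact ⟨g, hg, orderOf_of_check hg hn ho⟩

theorem exists_witnesses : ∀ n ∈ [2, 3, 5, 6, 7, 10, 11, 15, 19], ∃ g : G, orderOf g = n := by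
  have ho := order_check
  simp only [Bool.and_eq_true] at ho
  obtain ⟨⟨⟨⟨⟨⟨⟨⟨⟨⟨⟨⟨⟨⟨⟨h7, h19⟩, h11⟩, h5⟩, -⟩, -⟩, -⟩, h2⟩, h3⟩, -⟩, -⟩, -⟩, -⟩, h6⟩, h10⟩, h15⟩ := ho
  intro n hn
  simp only [List.mem_cons, List.not_mem_nil, or_false] at hn
  rcases hn with rfl | rfl | rfl | rfl | rfl | rfl | rfl | rfl | rfl
  · obtain ⟨g, -, h⟩ := exists_element w5 (by simp [named]) 2 (by norm_num) h2; exact ⟨g, h⟩
  · obtain ⟨g, -, h⟩ := exists_element s5 (by simp [named]) 3 (by norm_num) h3; exact ⟨g, h⟩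
  · obtain ⟨g, -, h⟩ := exists_element x5 (by simp [named]) 5 (by norm_num) h5; exact ⟨g, h⟩
  · obtain ⟨g, -, h⟩ := exists_element z6 (by simp [named]) 6 (by norm_num) h6; exact ⟨g, h⟩
  · obtain ⟨g, -, h⟩ := exists_element x7 (by simp [named]) 7 (by norm_num) h7; exact ⟨g, h⟩
  · obtain ⟨g, -, h⟩ := exists_element z10 (by simp [named]) 10 (by norm_num) h10; exact ⟨g, h⟩
  · obtain ⟨g, -, h⟩ := exists_element x11 (by simp [named]) 11 (by norm_num) h11; exact ⟨g, h⟩
  · obtain ⟨g, -, h⟩ := exists_element z15 (by simp [named]) 15 (by norm_num) h15; exact ⟨g, h⟩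
  · obtain ⟨g, -, h⟩ := exists_element x19 (by simp [named]) 19 (by norm_num) h19; exact ⟨g, h⟩

theorem card_eq : Nat.card G = 175560 := by
  have hw := exists_witnesses
  have hd : ∀ n ∈ [2, 3, 5, 6, 7, 10, 11, 15, 19], n ∣ Nat.card G := fun n hn => by
    obtain ⟨g, hg⟩ := hw n hn
    exact hg ▸ orderOf_dvd_natCard g
  obtain ⟨P, hP, -⟩ := exists_eight
  have h8 : 8 ∣ Nat.card G := hP ▸ P.card_subgroup_dvd_card
  have h : 175560 ∣ Nat.card G := by
    rw [show (175560 : ℕ) = 8 * 3 * 5 * 7 * 11 * 19 by norm_num]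
    refine Nat.Coprime.mul_dvd_of_dvd_of_dvd (by norm_num) ?_ (hd 19 (by simp))
    refine Nat.Coprime.mul_dvd_of_dvd_of_dvd (by norm_num) ?_ (hd 11 (by simp))
    refine Nat.Coprime.mul_dvd_of_dvd_of_dvd (by norm_num) ?_ (hd 7 (by simp))
    refine Nat.Coprime.mul_dvd_of_dvd_of_dvd (by norm_num) ?_ (hd 5 (by simp))
    exact Nat.Coprime.mul_dvd_of_dvd_of_dvd (by norm_num) h8 (hd 3 (by simp))
  exact le_antisymm card_le (Nat.le_of_dvd Nat.card_pos h)

end CfsgLib.Recog.JankoOne
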