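import Mathlib
import Cfsg.Agent.Lib.Recog.JankoOne

/-!
# Local structure and element orders of the first Janko group
-/

set_option autoImplicit false
set_option maxRecDepth 20000

namespace CfsgLib.Recog.JankoOne

open Matrix

instance : Fact (Nat.Prime 11) := ⟨by norm_num⟩

/-- a vector in normal form -/
def IsNorm (u : Fin 7 → ZMod 11) : Prop := ∃ i, u i = 1 ∧ ∀ k, k < i → u k = 0

theorem isNorm_eq {u v : Fin 7 → ZMod 11} (hu : IsNorm u) (hv : IsNorm v) {c : ZMod 11} (hc : c ≠ 0)
    (h : ∀ k, u k = c * v k) : u = v := by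
  obtain ⟨i, hi, hi'⟩ := hu
  obtain ⟨j, hj, hj'⟩ := hv
  rcases lt_trichotomy i j with hij | hij | hij
  · rw [h i, hj' i hij, mul_zero] at hi
    exact absurd hi zero_ne_one
  · subst hij
    rw [h i, hj, mul_one] at hi
    exact funext fun k => by rw [h k, hi, one_mul]
  · have := hi' j hij
    rw [h j, hj, mul_one] at this
    exact absurd this hc

/-- the data of a cyclic Sylow subgroup with a fixed line -/
theorem local_structure (p o r B m : ℕ) [Fact p.Prime] (x w lin fv fu : List ℕ) (orb : List (ℕ × ℕ × List ℕ))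
    (hxn : x ∈ named.map Prod.fst) (hwn : w ∈ named.map Prod.fst) (hxo : hasOrder x p = true)
    (hwo : hasOrder w o = true) (ho : 0 < o) (hcop : Nat.Coprime p o) (hnorm : normalises x w r o = true)
    (hfix : (dec x).mulVec (vecOf fv) = vecOf fv)
    (hlin : dec lin * (dec x - 1) = 1 - Matrix.vecMulVec (vecOf fv) (vecOf fu))
    (horb : orbitOK fv orb B = true) (hm : m * (p * o) = 175560) (hpsq : ¬ p ^ 2 ∣ 175560)
    (hbound : ∀ n : Fin (m + 1), n.1 ∣ m → n.1 % p = 1 % p → B ≤ n.1 → n.1 = m) :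
    ∀ a b : G, orderOf a = p → Commute b a → b ^ p = 1 := by
  classical
  have hp : p.Prime := Fact.out
  obtain ⟨X, hX, hXo⟩ := exists_element x hxn p hp.pos hxo
  obtain ⟨W, hW, hWo⟩ := exists_element w hwn o ho hwo
  have hfac : (Nat.card G).factorization p = 1 := by
    rw [card_eq]
    refine le_antisymm (Nat.le_of_lt_succ ?_) ?_
    · by_contra h
      exact hpsq ((hp.pow_dvd_iff_le_factorization (by norm_num)).mpr (by omega))
    · exact (hp.dvd_iff_one_le_factorization (by norm_num)).mp (by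
        rw [← card_eq, ← hXo]; exact orderOf_dvd_natCard X)
  let P : Sylow p G := Sylow.ofCard (Subgroup.zpowers X) (by rw [Nat.card_zpowers, hXo, hfac, pow_one])
  have hP : (P : Subgroup G) = Subgroup.zpowers X := Sylow.coe_ofCard _ _
  set N := Subgroup.normalizer ((Subgroup.zpowers X : Subgroup G) : Set G) with hN
  simp only [normalises, Bool.and_eq_true, beq_iff_eq, List.all_eq_true, List.mem_range, Bool.or_eq_true,
    Bool.not_eq_true'] at hnorm
  have hWX : W * X * W⁻¹ = X ^ r := by
    rw [mul_inv_eq_iff_eq_mul]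
    exact IsCode.eq (hW.mul hX) (by rw [hnorm.1]; exact (hX.pow r).mul hW)
  have hWN : W ∈ N := by
    have hle : (Subgroup.zpowers X).map (MulAut.conj W).toMonoidHom ≤ Subgroup.zpowers X := by
      rw [MonoidHom.map_zpowers]
      refine Subgroup.zpowers_le.mpr ?_
      show W * X * W⁻¹ ∈ _
      rw [hWX]
      exact Subgroup.npow_mem_zpowers X r
    have heq : (Subgroup.zpowers X).map (MulAut.conj W).toMonoidHom = Subgroup.zpowers X :=
      Subgroup.eq_of_le_of_card_ge hle (by
        rw [Nat.card_congr ((Subgroup.zpowers X).equivMapOfInjective (MulAut.conj W).toMonoidHom (MulAut.conj W).injective).toEquiv])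
    rw [hN, Subgroup.mem_normalizer_iff]
    intro h
    constructor
    · intro hh
      rw [← heq]
      exact ⟨h, hh, rfl⟩
    · intro hh
      rw [← heq] at hh
      obtain ⟨h', hh', he⟩ := hh
      have he' : W * h' * W⁻¹ = W * h * W⁻¹ := he
      rwa [← mul_left_cancel (mul_right_cancel he')]
  have hXN : Subgroup.zpowers X ≤ N := Subgroup.le_normalizer
  have hdvd : p * o ∣ Nat.card N := by
    refine hcop.mul_dvd_of_dvd_of_dvd ?_ ?_
    · have := Subgroup.card_dvd_of_le hXN
      rwa [Nat.card_zpowers, hXo] at this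
    · rw [← hWo, ← Subgroup.orderOf_mk W hWN]; exact orderOf_dvd_natCard _
  have hsyl : Nat.card (Sylow p G) = N.index := by
    rw [Sylow.card_eq_index_normalizer P]
    show (Subgroup.normalizer (((P : Subgroup G)) : Set G)).index = _
    rw [hP]
  have hindex : Nat.card N * N.index = 175560 := by rw [← card_eq]; exact N.card_mul_index
  have hnm : N.index ∣ m := by
    obtain ⟨k, hk⟩ := hdvd
    refine ⟨k, ?_⟩
    rw [hk, ← hm] at hindex
    have : 0 < p * o := Nat.mul_pos hp.pos ho
    nlinarith [hindex]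
  have hmod : N.index % p = 1 % p := by
    rw [← hsyl]; exact card_sylow_modEq_one p G
  -- the fixed line
  have hfixed : ∀ u : Fin 7 → ZMod 11, dec x *ᵥ u = u → ∃ c : ZMod 11, u = c • vecOf fv := fun u hu => by
    refine ⟨vecOf fu ⬝ᵥ u, ?_⟩
    have h1 : (dec lin * (dec x - 1)) *ᵥ u = 0 := by
      rw [← Matrix.mulVec_mulVec, Matrix.sub_mulVec, hu, Matrix.one_mulVec, sub_self, Matrix.mulVec_zero]
    rw [hlin, Matrix.sub_mulVec, Matrix.one_mulVec, sub_eq_zero, Matrix.vecMulVec_mulVec] at h1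
    conv_lhs => rw [h1]
    funext i
    simp [mul_comm]
  have hmX : mat X = dec x := by rw [← hX, dec_enc]
  have hline : ∀ g ∈ N, ∃ c : ZMod 11, mat g *ᵥ vecOf fv = c • vecOf fv := fun g hg => by
    refine hfixed _ ?_
    have hmem : g⁻¹ * X * g ∈ Subgroup.zpowers X := by
      have := (Subgroup.mem_normalizer_iff.mp (inv_mem hg) X).mp (Subgroup.mem_zpowers X)
      rwa [inv_inv] at this
    obtain ⟨j, hj⟩ := mem_powers_iff_mem_zpowers.mpr hmem
    have hj' : X * g = g * X ^ j := by simp only at hj; rw [hj]; group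
    rw [← hmX, Matrix.mulVec_mulVec, ← map_mul, hj', map_mul, map_pow, ← Matrix.mulVec_mulVec, hmX]
    congr 1
    clear hj hj'
    induction j with
    | zero => simp
    | succ j ih => rw [pow_succ, ← Matrix.mulVec_mulVec, hfix, ih]
  simp only [orbitOK, Bool.and_eq_true, beq_iff_eq, List.all_eq_true, decide_eq_true_eq, List.any_eq_true,
    Bool.not_eq_true', List.mem_finRange, forall_true_left, true_and, Bool.or_eq_true] at horb
  obtain ⟨⟨⟨hlen, hall⟩, hnodup⟩, hred⟩ := horb
  have hBle : B ≤ N.index := by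
    have hget : ∀ i : Fin orb.length, orb[i.1] ∈ orb := fun i => List.getElem_mem i.2
    choose g hg using fun i : Fin orb.length => code_sub (orb[i.1]).1 (hall _ (hget i)).1.1.1
    have hnorm' : ∀ i : Fin orb.length, IsNorm (vecOf (orb[i.1]).2.2) := fun i => by
      obtain ⟨k, hk1, hk2⟩ := (hall _ (hget i)).1.2
      exact ⟨k, hk1, fun l hl => (hk2 l).resolve_left (not_le.mpr hl)⟩
    have himg : ∀ i : Fin orb.length, ∀ k, ((orb[i.1]).2.1 : ZMod 11) * (mat (g i) *ᵥ vecOf fv) k =
        vecOf (orb[i.1]).2.2 k := fun i k => by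
      have := (hall _ (hget i)).1.1.2 k
      rwa [← hg i, dec_enc] at this
    have hq : ∀ i : Fin orb.length, ((orb[i.1]).2.1 : ZMod 11) ≠ 0 := fun i => by
      have := (hall _ (hget i)).2
      simpa using this
    let f : Fin orb.length → G ⧸ N := fun i => QuotientGroup.mk (g i)
    have hf : Function.Injective f := fun i k hik => by
      rw [QuotientGroup.eq] at hik
      obtain ⟨c, hc⟩ := hline _ hik
      have e : mat (g k) *ᵥ vecOf fv = c • (mat (g i) *ᵥ vecOf fv) := by
        rw [← Matrix.mulVec_smul, ← hc, Matrix.mulVec_mulVec, ← map_mul, mul_inv_cancel_left]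
      have hc0 : c ≠ 0 := fun h0 => by
        obtain ⟨k', hk'⟩ := hnorm' k
        have := himg k k'
        rw [e, h0, zero_smul, Pi.zero_apply, mul_zero, hk'.1] at this
        exact zero_ne_one this
      have hu : vecOf (orb[k.1]).2.2 = vecOf (orb[i.1]).2.2 := by
        refine isNorm_eq (hnorm' k) (hnorm' i)
          (c := ((orb[k.1]).2.1 : ZMod 11) * c * ((orb[i.1]).2.1 : ZMod 11)⁻¹) ?_ fun l => ?_
        · exact mul_ne_zero (mul_ne_zero (hq k) hc0) (inv_ne_zero (hq i))
        · rw [← himg k l, ← himg i l, e, Pi.smul_apply, smul_eq_mul]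
          field_simp [hq i]
      have hlist : (orb[k.1]).2.2 = (orb[i.1]).2.2 := by
        obtain ⟨l1, e1⟩ := hred _ (hget k)
        obtain ⟨l2, e2⟩ := hred _ (hget i)
        refine List.ext_getElem (by omega) fun n h1 h2 => ?_
        have h3 := congrFun hu ⟨n, by omega⟩
        simp only [vecOf, List.getD_eq_getElem _ _ h1, List.getD_eq_getElem _ _ h2,
          ZMod.natCast_eq_natCast_iff'] at h3
        have a1 := e1 _ (List.getElem_mem h1)
        have a2 := e2 _ (List.getElem_mem h2)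
        rwa [Nat.mod_eq_of_lt a1, Nat.mod_eq_of_lt a2] at h3
      have hk : (orb.map fun q => q.2.2)[k.1]'(by rw [List.length_map]; exact k.2) =
          (orb.map fun q => q.2.2)[i.1]'(by rw [List.length_map]; exact i.2) := by
        simpa using hlist
      exact (Fin.ext ((hnodup.getElem_inj_iff).mp hk)).symm
    have := Nat.card_le_card_of_injective f hf
    rw [Nat.card_eq_fintype_card, Fintype.card_fin, hlen] at this
    rwa [Subgroup.index_eq_card]
  have hm0 : 0 < m := Nat.pos_of_ne_zero fun h => by rw [h, zero_mul] at hm; norm_num at hm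
  have hidx : N.index = m :=
    hbound ⟨N.index, Nat.lt_succ_of_le (Nat.le_of_dvd hm0 hnm)⟩ hnm hmod hBle
  have hcardN : Nat.card N = p * o := by
    rw [hidx, ← hm] at hindex
    exact Nat.eq_of_mul_eq_mul_right hm0 (by linarith)
  -- the centralizer
  set C := Subgroup.centralizer ({X} : Set G) with hC
  have hCN : C ≤ N := fun y hy => by
    rw [hC, Subgroup.mem_centralizer_singleton_iff] at hy
    have hy' : ∀ h ∈ Subgroup.zpowers X, y * h * y⁻¹ = h := fun h hh => by
      obtain ⟨n, rfl⟩ := Subgroup.mem_zpowers_iff.mp hh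
      rw [mul_inv_eq_iff_eq_mul]
      exact Commute.zpow_right (show Commute y X from hy) n
    rw [hN, Subgroup.mem_normalizer_iff]
    intro h
    refine ⟨fun hh => by rw [hy' h hh]; exact hh, fun hh => ?_⟩
    have e := hy' _ hh
    have : h = y * h * y⁻¹ := mul_left_cancel (a := y) (mul_right_cancel (b := y⁻¹) (by
      conv_rhs => rw [e]))
    rw [this]; exact hh
  have hCX : Subgroup.zpowers X ≤ C := Subgroup.zpowers_le.mpr (Subgroup.mem_centralizer_singleton_iff.mpr rfl)
  have hCcard : Nat.card C = p := by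
    have h1 : p ∣ Nat.card C := by
      have := Subgroup.card_dvd_of_le hCX
      rwa [Nat.card_zpowers, hXo] at this
    have hdisj : ∀ u : Fin o, ∀ v : Fin o, W ^ u.1 * (W ^ v.1)⁻¹ ∈ C → u = v := by
      have key : ∀ k, k < o → W ^ k ∈ C → k = 0 := fun k hk hmem => by
        rcases hnorm.2 k hk with h' | h'
        · exact h'
        · exfalso
          rw [hC, Subgroup.mem_centralizer_singleton_iff] at hmem
          have h2 : pmul (ppow w k) x = pmul x (ppow w k) := by
            have a1 : IsCode (W ^ k * X) (pmul (ppow w k) x) := (hW.pow k).mul hX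
            have a2 : IsCode (X * W ^ k) (pmul x (ppow w k)) := hX.mul (hW.pow k)
            exact a1.symm.trans ((congrArg (fun q => enc (mat q)) hmem).trans a2)
          simp [h2] at h'
      intro u v huv
      rcases le_total v.1 u.1 with hle | hle
      · have : W ^ u.1 * (W ^ v.1)⁻¹ = W ^ (u.1 - v.1) := (pow_sub W hle).symm
        rw [this] at huv
        have := key _ (by omega) huv
        exact Fin.ext (by omega)
      · have : (W ^ u.1 * (W ^ v.1)⁻¹)⁻¹ = W ^ (v.1 - u.1) := by
          rw [_root_.mul_inv_rev, inv_inv, pow_sub W hle]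
        have hi := inv_mem huv
        rw [this] at hi
        have := key _ (by omega) hi
        exact Fin.ext (by omega)
    let f : C × Fin o → N := fun q => ⟨q.1.1 * W ^ q.2.1, mul_mem (hCN q.1.2) (pow_mem hWN _)⟩
    have hf : Function.Injective f := fun q q' he => by
      have he' : q.1.1 * W ^ q.2.1 = q'.1.1 * W ^ q'.2.1 := congrArg Subtype.val he
      have hmem : W ^ q.2.1 * (W ^ q'.2.1)⁻¹ ∈ C := by
        have : W ^ q.2.1 * (W ^ q'.2.1)⁻¹ = (q.1.1)⁻¹ * q'.1.1 := by
          rw [eq_inv_mul_iff_mul_eq, ← mul_assoc, he', mul_inv_cancel_right]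
        rw [this]
        exact mul_mem (inv_mem q.1.2) q'.1.2
      have h2 := hdisj _ _ hmem
      rw [h2] at he'
      exact Prod.ext (Subtype.ext (mul_right_cancel he')) h2
    have h2 := Nat.card_le_card_of_injective f hf
    rw [Nat.card_prod, Nat.card_eq_fintype_card (α := Fin o), Fintype.card_fin, hcardN] at h2
    exact le_antisymm (Nat.le_of_mul_le_mul_right h2 ho) (Nat.le_of_dvd Nat.card_pos h1)
  intro a b ha hb
  let Q : Sylow p G := Sylow.ofCard (Subgroup.zpowers a) (by rw [Nat.card_zpowers, ha, hfac, pow_one])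
  obtain ⟨g, hg⟩ := MulAction.exists_smul_eq G Q P
  have hmem : X ∈ ((g • Q : Sylow p G) : Subgroup G) := by
    rw [hg, hP]; exact Subgroup.mem_zpowers _
  rw [Sylow.coe_subgroup_smul, Subgroup.mem_pointwise_smul_iff_inv_smul_mem] at hmem
  have hmem' : g⁻¹ * X * g ∈ Subgroup.zpowers a := by
    simpa [Q, Sylow.coe_ofCard, MulAut.conj_apply] using hmem
  obtain ⟨j, hj⟩ := Subgroup.mem_zpowers_iff.mp hmem'
  have hcom : Commute (g * b * g⁻¹) X := by
    have h1 : Commute b (a ^ j) := hb.zpow_right j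
    rw [hj] at h1
    have h2 := h1.map (MulAut.conj g).toMonoidHom
    simp only [MulEquiv.coe_toMonoidHom, MulAut.conj_apply] at h2
    rwa [show g * (g⁻¹ * X * g) * g⁻¹ = X by group] at h2
  have hbC : g * b * g⁻¹ ∈ C := Subgroup.mem_centralizer_singleton_iff.mpr hcom
  have h1 : (g * b * g⁻¹) ^ p = 1 :=
    orderOf_dvd_iff_pow_eq_one.mp (hCcard ▸ Subgroup.orderOf_dvd_natCard C hbC)
  rw [conj_pow] at h1
  exact conj_eq_one_iff.mp h1

theorem seven_local : ∀ a b : G, orderOf a = 7 → Commute b a → b ^ 7 = 1 := by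
  haveI : Fact (Nat.Prime 7) := ⟨by norm_num⟩
  have ho := order_check
  simp only [Bool.and_eq_true] at ho
  obtain ⟨⟨⟨⟨⟨⟨⟨⟨⟨⟨⟨⟨⟨⟨⟨h7, -⟩, -⟩, -⟩, hw⟩, -⟩, -⟩, -⟩, -⟩, -⟩, -⟩, -⟩, -⟩, -⟩, -⟩, -⟩ := ho
  have hn := normal_check
  have horb := orbit_check
  simp only [Bool.and_eq_true] at hn horb
  obtain ⟨f1, -, -, l1, -, -⟩ := fix_check
  exact local_structure 7 6 3 191 4180 x7 w7 lin7 fix7 func7 orbit7 (by simp [named]) (by simp [named]) h7 hw
    (by norm_num) (by norm_num) hn.1.1.1 f1 l1 horb.1.1 (by norm_num) (by norm_num) (by decide +kernel)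

theorem nineteen_local : ∀ a b : G, orderOf a = 19 → Commute b a → b ^ 19 = 1 := by
  haveI : Fact (Nat.Prime 19) := ⟨by norm_num⟩
  have ho := order_check
  simp only [Bool.and_eq_true] at ho
  obtain ⟨⟨⟨⟨⟨⟨⟨⟨⟨⟨⟨⟨⟨⟨⟨-, h19⟩, -⟩, -⟩, -⟩, hw⟩, -⟩, -⟩, -⟩, -⟩, -⟩, -⟩, -⟩, -⟩, -⟩, -⟩ := ho
  have hn := normal_check
  have horb := orbit_check
  simp only [Bool.and_eq_true] at hn horb
  obtain ⟨-, f1, -, -, l1, -⟩ := fix_check
  exact local_structure 19 6 8 78 1540 x19 w19 lin19 fix19 func19 orbit19 (by simp [named]) (by simp [named]) h19 hw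
    (by norm_num) (by norm_num) hn.1.1.2 f1 l1 horb.1.2 (by norm_num) (by norm_num) (by decide +kernel)

theorem eleven_local : ∀ a b : G, orderOf a = 11 → Commute b a → b ^ 11 = 1 := by
  haveI : Fact (Nat.Prime 11) := ⟨by norm_num⟩
  have ho := order_check
  simp only [Bool.and_eq_true] at ho
  obtain ⟨⟨⟨⟨⟨⟨⟨⟨⟨⟨⟨⟨⟨⟨⟨-, -⟩, h11⟩, -⟩, -⟩, -⟩, hw⟩, -⟩, -⟩, -⟩, -⟩, -⟩, -⟩, -⟩, -⟩, -⟩ := ho
  have hn := normal_check
  have horb := orbit_check
  simp only [Bool.and_eq_true] at hn horb
  obtain ⟨-, -, f1, -, -, l1⟩ := fix_check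
  exact local_structure 11 10 2 134 1596 x11 w11 lin11 fix11 func11 orbit11 (by simp [named]) (by simp [named]) h11 hw
    (by norm_num) (by norm_num) hn.1.2 f1 l1 horb.2 (by norm_num) (by norm_num) (by decide +kernel)

end CfsgLib.Recog.JankoOne
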