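import Mathlib
import Cfsg.Agent.Lib.Recog.JankoOneLocal

/-!
# Element orders of the first Janko group
-/

set_option autoImplicit false
set_option maxRecDepth 20000

namespace CfsgLib.Recog.JankoOne

/-- an element of order five, its centraliser has order thirty and is not abelian -/
theorem five_local : ∃ X S T : G, orderOf X = 5 ∧ ¬ Commute S T ∧
    Nat.card (Subgroup.centralizer ({X} : Set G)) = 30 ∧
    S ∈ Subgroup.centralizer ({X} : Set G) ∧ T ∈ Subgroup.centralizer ({X} : Set G) := by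
  classical
  haveI : Fact (Nat.Prime 5) := ⟨by norm_num⟩
  have ho := order_check
  simp only [Bool.and_eq_true] at ho
  obtain ⟨⟨⟨⟨⟨⟨⟨⟨⟨⟨⟨⟨⟨⟨⟨-, -⟩, -⟩, h5⟩, -⟩, -⟩, -⟩, hw⟩, hs⟩, ht⟩, -⟩, -⟩, -⟩, -⟩, -⟩, -⟩ := ho
  obtain ⟨X, hX, hXo⟩ := exists_element x5 (by simp [named]) 5 (by norm_num) h5
  obtain ⟨W, hW, hWo⟩ := exists_element w5 (by simp [named]) 2 (by norm_num) hw
  obtain ⟨S, hS, hSo⟩ := exists_element s5 (by simp [named]) 3 (by norm_num) hs
  obtain ⟨T, hT, hTo⟩ := exists_element t5 (by simp [named]) 2 (by norm_num) ht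
  have hf := five_check
  simp only [Bool.and_eq_true, beq_iff_eq, Bool.not_eq_true'] at hf
  obtain ⟨⟨hsx, htx⟩, hst⟩ := hf
  have cSX : Commute S X := IsCode.eq (hS.mul hX) (by rw [hsx]; exact hX.mul hS)
  have cTX : Commute T X := IsCode.eq (hT.mul hX) (by rw [htx]; exact hX.mul hT)
  have nST : ¬ Commute S T := fun h => by
    have h1 := hS.mul hT
    rw [h.eq] at h1
    have h2 : pmul s5 t5 = pmul t5 s5 := h1.symm.trans (hT.mul hS)
    simp [h2] at hst
  have hn := normal_check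
  simp only [Bool.and_eq_true] at hn
  have hn5 := hn.2
  simp only [normalises, Bool.and_eq_true, beq_iff_eq, List.all_eq_true, List.mem_range, Bool.or_eq_true,
    Bool.not_eq_true'] at hn5
  have nWX : ¬ Commute W X := fun h => by
    rcases hn5.2 1 (by norm_num) with h' | h'
    · omega
    · have a1 : IsCode (W ^ 1 * X) (pmul (ppow w5 1) x5) := (hW.pow 1).mul hX
      have a2 : IsCode (X * W ^ 1) (pmul x5 (ppow w5 1)) := hX.mul (hW.pow 1)
      rw [pow_one, h.eq] at a1
      rw [pow_one] at a2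
      have h2 : pmul (ppow w5 1) x5 = pmul x5 (ppow w5 1) := a1.symm.trans a2
      simp [h2] at h'
  have hWX : W * X * W⁻¹ = X ^ 4 := by
    rw [mul_inv_eq_iff_eq_mul]
    exact IsCode.eq (hW.mul hX) (by rw [hn5.1]; exact (hX.pow 4).mul hW)
  have hfac : (Nat.card G).factorization 5 = 1 := by
    rw [card_eq]
    refine le_antisymm (Nat.le_of_lt_succ ?_) ?_
    · by_contra h
      have : (5 : ℕ) ^ 2 ∣ 175560 :=
        ((show Nat.Prime 5 by norm_num).pow_dvd_iff_le_factorization (by norm_num)).mpr (by omega)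
      norm_num at this
    · exact ((show Nat.Prime 5 by norm_num).dvd_iff_one_le_factorization (by norm_num)).mp (by norm_num)
  let P : Sylow 5 G := Sylow.ofCard (Subgroup.zpowers X) (by rw [Nat.card_zpowers, hXo, hfac, pow_one])
  have hP : (P : Subgroup G) = Subgroup.zpowers X := Sylow.coe_ofCard _ _
  set N := Subgroup.normalizer ((Subgroup.zpowers X : Subgroup G) : Set G) with hN
  have hWN : W ∈ N := by
    rw [hN, Subgroup.mem_normalizer_iff]
    have hW2 : W⁻¹ = W := inv_eq_of_mul_eq_one_left (by rw [← sq, ← hWo, pow_orderOf_eq_one])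
    have key : ∀ h ∈ Subgroup.zpowers X, W * h * W⁻¹ ∈ Subgroup.zpowers X := fun h hh => by
      obtain ⟨j, rfl⟩ := Subgroup.mem_zpowers_iff.mp hh
      rw [← conj_zpow, hWX]
      exact zpow_mem (Subgroup.npow_mem_zpowers X 4) j
    intro h
    refine ⟨key h, fun hh => ?_⟩
    have h2 := key _ hh
    rwa [hW2, show W * (W * h * W) * W = (W * W) * h * (W * W) by group, ← sq, ← hWo, pow_orderOf_eq_one,
      one_mul, mul_one] at h2
  set C := Subgroup.centralizer ({X} : Set G) with hC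
  have hCmem : ∀ y : G, y ∈ C ↔ Commute y X := fun y => by
    rw [hC]; exact Subgroup.mem_centralizer_singleton_iff
  have hCN : C ≤ N := fun y hy => by
    rw [hN, Subgroup.mem_normalizer_iff]
    intro h
    have hc : ∀ h ∈ Subgroup.zpowers X, y * h * y⁻¹ = h := fun h hh => by
      obtain ⟨n, rfl⟩ := Subgroup.mem_zpowers_iff.mp hh
      rw [mul_inv_eq_iff_eq_mul]
      exact Commute.zpow_right ((hCmem y).mp hy) n
    refine ⟨fun hh => by rw [hc h hh]; exact hh, fun hh => ?_⟩
    have e := hc _ hh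
    have e2 : y * h * y⁻¹ = h := mul_left_cancel (a := y) (mul_right_cancel (b := y⁻¹) e)
    exact e2 ▸ hh
  have hXC : X ∈ C := (hCmem X).mpr (Commute.refl X)
  have hSC : S ∈ C := (hCmem S).mpr cSX
  have hTC : T ∈ C := (hCmem T).mpr cTX
  have h30 : 30 ∣ Nat.card C := by
    rw [show (30 : ℕ) = 5 * 3 * 2 by norm_num]
    refine Nat.Coprime.mul_dvd_of_dvd_of_dvd (by norm_num) (Nat.Coprime.mul_dvd_of_dvd_of_dvd (by norm_num) ?_ ?_) ?_
    · exact hXo ▸ Subgroup.orderOf_dvd_natCard C hXC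
    · exact hSo ▸ Subgroup.orderOf_dvd_natCard C hSC
    · exact hTo ▸ Subgroup.orderOf_dvd_natCard C hTC
  have hindex : Nat.card N * N.index = 175560 := by rw [← card_eq]; exact N.card_mul_index
  have hmod : N.index % 5 = 1 := by
    have hsyl : Nat.card (Sylow 5 G) = N.index := by
      rw [Sylow.card_eq_index_normalizer P]
      show (Subgroup.normalizer (((P : Subgroup G)) : Set G)).index = _
      rw [hP]
    rw [← hsyl]; exact card_sylow_modEq_one 5 G
  -- no seven, eleven, nineteen in the normaliser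
  have hbig : ∀ q : ℕ, q.Prime → (∀ x y : G, orderOf x = q → Commute y x → y ^ q = 1) → q ≠ 5 → q ≠ 2 →
      ¬ q ∣ Nat.card N := by
    intro q hq hloc h5' h2' hdvd
    haveI : Fact q.Prime := ⟨hq⟩
    obtain ⟨g, hg⟩ := exists_prime_orderOf_dvd_card' q hdvd
    have hg' : orderOf (g : G) = q := by rwa [Subgroup.orderOf_coe]
    have hgX : (g : G) * X * (g : G)⁻¹ ∈ Subgroup.zpowers X :=
      ((Subgroup.mem_normalizer_iff.mp g.2) X).mp (Subgroup.mem_zpowers X)
    obtain ⟨j, hj⟩ := mem_powers_iff_mem_zpowers.mpr hgX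
    have hj' : (g : G) * X * (g : G)⁻¹ = X ^ j := hj.symm
    have hiter : ∀ k : ℕ, (g : G) ^ k * X * ((g : G) ^ k)⁻¹ = X ^ (j ^ k) := by
      intro k
      induction k with
      | zero => simp
      | succ k ih =>
        rw [pow_succ' (g : G) k, mul_inv_rev, show (g : G) * (g : G) ^ k * X * (((g : G) ^ k)⁻¹ * (g : G)⁻¹) =
          (g : G) * ((g : G) ^ k * X * ((g : G) ^ k)⁻¹) * (g : G)⁻¹ by group, ih, ← conj_pow, hj', ← pow_mul,
          pow_succ']
    have hq1 := hiter q
    rw [← hg', pow_orderOf_eq_one, one_mul, inv_one, mul_one, hg'] at hq1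
    have hjq : j ^ q % 5 = 1 := by
      have := (pow_eq_pow_iff_modEq (x := X) (n := j ^ q) (m := 1)).mp (by rw [pow_one]; exact hq1.symm)
      rw [hXo] at this
      exact this
    have hj5 : j % 5 = 1 := by
      have hqo : q % 4 = 1 ∨ q % 4 = 3 := by
        rcases hq.eq_two_or_odd with h | h <;> omega
      obtain ⟨u, hu⟩ : ∃ u, q = 4 * u + q % 4 := ⟨q / 4, (Nat.div_add_mod q 4).symm⟩
      rw [Nat.pow_mod, hu] at hjq
      have hlt : j % 5 < 5 := Nat.mod_lt _ (by norm_num)
      rw [pow_add, pow_mul, Nat.mul_mod, Nat.pow_mod] at hjq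
      rcases hqo with h | h <;> rw [h] at hjq <;> interval_cases (j % 5) <;> simp at hjq ⊢
    have hcom : Commute X (g : G) := by
      have : X ^ j = X := by
        rw [← pow_mod_orderOf, hXo, hj5, pow_one]
      rw [this] at hj'
      exact (mul_inv_eq_iff_eq_mul.mp hj').symm
    have := hXo ▸ orderOf_dvd_of_pow_eq_one (hloc (g : G) X hg' hcom)
    exact h5' (((Nat.prime_dvd_prime_iff_eq (by norm_num) hq).mp this).symm)
  have hcardN : Nat.card N = 60 := by
    have h1 : 30 ∣ Nat.card N := h30.trans (Subgroup.card_dvd_of_le hCN)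
    have h7 := hbig 7 (by norm_num) seven_local (by norm_num) (by norm_num)
    have h11 := hbig 11 (by norm_num) eleven_local (by norm_num) (by norm_num)
    have h19 := hbig 19 (by norm_num) nineteen_local (by norm_num) (by norm_num)
    have hdvd : Nat.card N ∣ 175560 := Dvd.intro _ hindex
    rw [show (175560 : ℕ) = 120 * 7 * 11 * 19 by norm_num] at hdvd
    have hd1 : Nat.card N ∣ 120 * 7 * 11 :=
      Nat.Coprime.dvd_of_dvd_mul_right (((show Nat.Prime 19 by norm_num).coprime_iff_not_dvd.mpr h19).symm) hdvd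
    have hd2 : Nat.card N ∣ 120 * 7 :=
      Nat.Coprime.dvd_of_dvd_mul_right (((show Nat.Prime 11 by norm_num).coprime_iff_not_dvd.mpr h11).symm) hd1
    have hd3 : Nat.card N ∣ 120 :=
      Nat.Coprime.dvd_of_dvd_mul_right (((show Nat.Prime 7 by norm_num).coprime_iff_not_dvd.mpr h7).symm) hd2
    obtain ⟨k, hk⟩ := h1
    have hk4 : k ∣ 4 := by
      rw [hk, show (120 : ℕ) = 30 * 4 by norm_num] at hd3
      exact (Nat.mul_dvd_mul_iff_left (by norm_num)).mp hd3
    have hk' : k = 1 ∨ k = 2 ∨ k = 4 := by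
      have := Nat.le_of_dvd (by norm_num) hk4
      interval_cases k <;> simp_all
    rw [hk] at hindex ⊢
    rcases hk' with rfl | rfl | rfl <;> omega
  refine ⟨X, S, T, hXo, nST, ?_, hSC, hTC⟩
  have hle : Nat.card C ∣ 60 := hcardN ▸ Subgroup.card_dvd_of_le hCN
  obtain ⟨k, hk⟩ := h30
  have hk2 : k ∣ 2 := by
    rw [hk, show (60 : ℕ) = 30 * 2 by norm_num] at hle
    exact (Nat.mul_dvd_mul_iff_left (by norm_num)).mp hle
  rcases (Nat.dvd_prime Nat.prime_two).mp hk2 with rfl | rfl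
  · exact hk
  · exfalso
    have hCN' : C = N := Subgroup.eq_of_le_of_card_ge hCN (by rw [hk, hcardN])
    exact nWX ((hCmem W).mp (hCN' ▸ hWN))

theorem no_thirty (z : G) : orderOf z ≠ 30 := by
  classical
  haveI : Fact (Nat.Prime 5) := ⟨by norm_num⟩
  intro hz
  obtain ⟨X, S, T, hXo, nST, hcard, hS, hT⟩ := five_local
  have hfac : (Nat.card G).factorization 5 = 1 := by
    rw [card_eq]
    refine le_antisymm (Nat.le_of_lt_succ ?_) ?_
    · by_contra h
      have : (5 : ℕ) ^ 2 ∣ 175560 :=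
        ((show Nat.Prime 5 by norm_num).pow_dvd_iff_le_factorization (by norm_num)).mpr (by omega)
      norm_num at this
    · exact ((show Nat.Prime 5 by norm_num).dvd_iff_one_le_factorization (by norm_num)).mp (by norm_num)
  let P : Sylow 5 G := Sylow.ofCard (Subgroup.zpowers X) (by rw [Nat.card_zpowers, hXo, hfac, pow_one])
  have h6 : orderOf (z ^ 6) = 5 := by rw [orderOf_pow_of_dvd (by norm_num) (by rw [hz]; norm_num), hz]
  let Q : Sylow 5 G := Sylow.ofCard (Subgroup.zpowers (z ^ 6)) (by rw [Nat.card_zpowers, h6, hfac, pow_one])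
  obtain ⟨g, hg⟩ := MulAction.exists_smul_eq G Q P
  have hmem : X ∈ ((g • Q : Sylow 5 G) : Subgroup G) := by
    rw [hg]; simp [P]
  rw [Sylow.coe_subgroup_smul, Subgroup.mem_pointwise_smul_iff_inv_smul_mem] at hmem
  have hmem' : g⁻¹ * X * g ∈ Subgroup.zpowers (z ^ 6) := by
    simpa [Q, Sylow.coe_ofCard, MulAut.conj_apply] using hmem
  obtain ⟨j, hj⟩ := Subgroup.mem_zpowers_iff.mp hmem'
  have hcom : Commute (g * z * g⁻¹) X := by
    have h1 : Commute z ((z ^ 6) ^ j) := ((Commute.refl z).pow_right 6).zpow_right j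
    rw [hj] at h1
    have h2 := h1.map (MulAut.conj g).toMonoidHom
    simp only [MulEquiv.coe_toMonoidHom, MulAut.conj_apply] at h2
    rwa [show g * (g⁻¹ * X * g) * g⁻¹ = X by group] at h2
  set C := Subgroup.centralizer ({X} : Set G)
  have hzC : g * z * g⁻¹ ∈ C := Subgroup.mem_centralizer_singleton_iff.mpr hcom
  have hle : Subgroup.zpowers (g * z * g⁻¹) ≤ C := Subgroup.zpowers_le.mpr hzC
  have hord : orderOf (g * z * g⁻¹) = 30 := by
    rw [← hz]
    exact orderOf_injective (MulAut.conj g).toMonoidHom (MulAut.conj g).injective z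
  have heq : Subgroup.zpowers (g * z * g⁻¹) = C :=
    Subgroup.eq_of_le_of_card_ge hle (by rw [hcard, Nat.card_zpowers, hord])
  rw [← heq] at hS hT
  obtain ⟨i, rfl⟩ := Subgroup.mem_zpowers_iff.mp hS
  obtain ⟨k, rfl⟩ := Subgroup.mem_zpowers_iff.mp hT
  exact nST (Commute.zpow_zpow (Commute.refl _) i k)

theorem no_four (z : G) : orderOf z ≠ 4 := by
  haveI : Fact (Nat.Prime 2) := ⟨Nat.prime_two⟩
  intro hz
  obtain ⟨P, hP, hexp⟩ := exists_eight
  have hfac : (Nat.card G).factorization 2 = 3 := by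
    rw [card_eq, show (175560 : ℕ) = 2 ^ 3 * 21945 by norm_num,
      Nat.factorization_mul_apply_of_coprime (by norm_num), Nat.Prime.factorization_pow Nat.prime_two,
      Nat.factorization_eq_zero_of_not_dvd (by norm_num : ¬ 2 ∣ 21945)]
    simp
  let S : Sylow 2 G := Sylow.ofCard P (by rw [hP, hfac]; norm_num)
  obtain ⟨Q, hQ⟩ := IsPGroup.exists_le_sylow (p := 2) (P := Subgroup.zpowers z)
    (IsPGroup.of_card (n := 2) (by rw [Nat.card_zpowers, hz]; norm_num))
  obtain ⟨g, hg⟩ := MulAction.exists_smul_eq G S Q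
  have hmem : z ∈ ((g • S : Sylow 2 G) : Subgroup G) := by
    rw [hg]; exact hQ (Subgroup.mem_zpowers z)
  rw [Sylow.coe_subgroup_smul, Subgroup.mem_pointwise_smul_iff_inv_smul_mem] at hmem
  have hmem' : g⁻¹ * z * g ∈ P := by
    simpa [S, Sylow.coe_ofCard, MulAut.conj_apply] using hmem
  have h1 := hexp _ hmem'
  have h2 : (g⁻¹ * z * g⁻¹⁻¹) ^ 2 = 1 := by rw [inv_inv]; exact h1
  rw [conj_pow, conj_eq_one_iff] at h2
  have := orderOf_dvd_of_pow_eq_one h2
  rw [hz] at this
  norm_num at this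

theorem orderOf_mem (z : G) : orderOf z ∈ [1, 2, 3, 5, 6, 7, 10, 11, 15, 19] := by
  have hdvd : orderOf z ∣ 175560 := card_eq ▸ orderOf_dvd_natCard z
  have hbig : ∀ q : ℕ, q.Prime → (∀ x y : G, orderOf x = q → Commute y x → y ^ q = 1) → q ∣ orderOf z →
      orderOf z = q := by
    intro q hq hloc hd
    have h1 : orderOf (z ^ (orderOf z / q)) = q := orderOf_pow_orderOf_div (orderOf_pos z).ne' hd
    have h2 := orderOf_dvd_of_pow_eq_one (hloc _ z h1 ((Commute.refl z).pow_right _))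
    exact Nat.dvd_antisymm h2 hd
  by_cases h7 : 7 ∣ orderOf z
  · rw [hbig 7 (by norm_num) seven_local h7]; simp
  by_cases h11 : 11 ∣ orderOf z
  · rw [hbig 11 (by norm_num) eleven_local h11]; simp
  by_cases h19 : 19 ∣ orderOf z
  · rw [hbig 19 (by norm_num) nineteen_local h19]; simp
  rw [show (175560 : ℕ) = 120 * 7 * 11 * 19 by norm_num] at hdvd
  have hd1 : orderOf z ∣ 120 * 7 * 11 :=
    Nat.Coprime.dvd_of_dvd_mul_right (((show Nat.Prime 19 by norm_num).coprime_iff_not_dvd.mpr h19).symm) hdvd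
  have hd2 : orderOf z ∣ 120 * 7 :=
    Nat.Coprime.dvd_of_dvd_mul_right (((show Nat.Prime 11 by norm_num).coprime_iff_not_dvd.mpr h11).symm) hd1
  have hd3 : orderOf z ∣ 120 :=
    Nat.Coprime.dvd_of_dvd_mul_right (((show Nat.Prime 7 by norm_num).coprime_iff_not_dvd.mpr h7).symm) hd2
  have h4 : ¬ 4 ∣ orderOf z := fun h => by
    have h4' := orderOf_pow_orderOf_div (orderOf_pos z).ne' h
    exact no_four _ h4'
  have h30 := no_thirty z
  have hle := Nat.le_of_dvd (by norm_num) hd3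
  have key : ∀ n : Fin 121, n.1 ∣ 120 → ¬ 4 ∣ n.1 → n.1 ≠ 30 → n.1 ∈ [1, 2, 3, 5, 6, 7, 10, 11, 15, 19] := by
    decide +kernel
  exact key ⟨orderOf z, by omega⟩ hd3 h4 h30

end CfsgLib.Recog.JankoOne
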