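import Mathlib
import Cfsg.Agent.Lib.Recog.JankoOneOrders

/-!
# Simplicity of the first Janko group
-/

set_option autoImplicit false
set_option maxRecDepth 20000

namespace CfsgLib.Recog.JankoOne

/-- an element whose centraliser has prime order lies in no normal subgroup of large index -/
theorem index_lt {q : ℕ} (hq : q.Prime) (hsq : ¬ q ^ 2 ∣ 175560)
    (hloc : ∀ a b : G, orderOf a = q → Commute b a → b ^ q = 1) (N : Subgroup G) [N.Normal]
    (hdvd : q ∣ Nat.card N) : N.index < q := by
  classical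
  haveI : Fact q.Prime := ⟨hq⟩
  obtain ⟨a, ha⟩ := exists_prime_orderOf_dvd_card' q hdvd
  have ha' : orderOf (a : G) = q := by rwa [Subgroup.orderOf_coe]
  set C := Subgroup.centralizer ({(a : G)} : Set G) with hC
  have hCmem : ∀ y : G, y ∈ C ↔ Commute y (a : G) := fun y => by
    rw [hC]; exact Subgroup.mem_centralizer_singleton_iff
  have hCcard : Nat.card C = q := by
    have hp : IsPGroup q C := fun y => ⟨1, Subtype.ext (by
      rw [pow_one, SubgroupClass.coe_pow]; exact hloc _ _ ha' ((hCmem y).mp y.2))⟩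
    obtain ⟨k, hk⟩ := IsPGroup.iff_card.mp hp
    have h1 : q ∣ Nat.card C := ha' ▸ Subgroup.orderOf_dvd_natCard C ((hCmem _).mpr (Commute.refl _))
    have h2 : Nat.card C ∣ 175560 := card_eq ▸ C.card_subgroup_dvd_card
    rw [hk] at h1 h2 ⊢
    rcases k with _ | _ | k
    · simp only [pow_zero, Nat.dvd_one] at h1; exact absurd h1 hq.one_lt.ne'
    · simp
    · exact absurd ((pow_dvd_pow q (by omega)).trans h2) hsq
  let f : G ⧸ C → {y : N // y ≠ 1} := Quotient.lift
    (fun g => (⟨⟨g * (a : G) * g⁻¹, Subgroup.Normal.conj_mem ‹_› _ a.2 g⟩, fun h => by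
      have h' := congrArg Subtype.val h
      simp only [OneMemClass.coe_one, conj_eq_one_iff] at h'
      rw [h', orderOf_one] at ha'
      exact hq.one_lt.ne ha'⟩ : {y : N // y ≠ 1}))
    (fun g g' h => by
      have hm : g⁻¹ * g' ∈ C := QuotientGroup.leftRel_apply.mp h
      have e := ((hCmem _).mp hm).eq
      apply Subtype.ext; apply Subtype.ext
      show g * (a : G) * g⁻¹ = g' * (a : G) * g'⁻¹
      calc g * (a : G) * g⁻¹ = g * ((a : G) * (g⁻¹ * g')) * g'⁻¹ := by group
        _ = g * ((g⁻¹ * g') * (a : G)) * g'⁻¹ := by rw [e]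
        _ = g' * (a : G) * g'⁻¹ := by group)
  have hf : Function.Injective f := by
    intro u v
    obtain ⟨g, rfl⟩ := QuotientGroup.mk_surjective u
    obtain ⟨g', rfl⟩ := QuotientGroup.mk_surjective v
    intro h
    have h' : g * (a : G) * g⁻¹ = g' * (a : G) * g'⁻¹ := congrArg (fun y => y.1.1) h
    rw [QuotientGroup.eq, hCmem]
    show g⁻¹ * g' * (a : G) = (a : G) * (g⁻¹ * g')
    calc g⁻¹ * g' * (a : G) = g⁻¹ * (g' * (a : G) * g'⁻¹) * g' := by group
      _ = g⁻¹ * (g * (a : G) * g⁻¹) * g' := by rw [h']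
      _ = (a : G) * (g⁻¹ * g') := by group
  have h1 := Nat.card_le_card_of_injective f hf
  have h2 : Nat.card {y : N // y ≠ 1} < Nat.card N :=
    Finite.card_subtype_lt (p := fun y : N => y ≠ 1) (x := 1) (by simp)
  rw [← Subgroup.index_eq_card] at h1
  have h3 := C.card_mul_index
  have h4 := N.card_mul_index
  by_contra hle
  push Not at hle
  have h5 : q * C.index < Nat.card N * N.index :=
    calc q * C.index < q * Nat.card N := Nat.mul_lt_mul_of_pos_left (lt_of_le_of_lt h1 h2) hq.pos
      _ = Nat.card N * q := mul_comm _ _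
      _ ≤ Nat.card N * N.index := Nat.mul_le_mul_left _ hle
  rw [← hCcard, h3, h4] at h5
  exact lt_irrefl _ h5

/-- an element acting without fixed points -/
theorem card_modEq_one {q : ℕ} (hq : q.Prime) {a : G} (ha : orderOf a = q)
    (hloc : ∀ b : G, Commute b a → b ^ q = 1) (N : Subgroup G) [N.Normal] (hN : ¬ q ∣ Nat.card N) :
    Nat.card N % q = 1 % q := by
  classical
  haveI : Fact q.Prime := ⟨hq⟩
  let A := Subgroup.zpowers a
  letI : MulAction A N := MulAction.compHom N ((MulAut.conjNormal (H := N)).comp A.subtype)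
  have hp : IsPGroup q A := IsPGroup.of_card (n := 1) (by rw [pow_one, Nat.card_zpowers, ha])
  have h := hp.card_modEq_card_fixedPoints N
  have hfix : MulAction.fixedPoints A N = {1} := by
    ext y
    simp only [MulAction.mem_fixedPoints, Set.mem_singleton_iff]
    constructor
    · intro hy
      have h1 : a * (y : G) * a⁻¹ = (y : G) :=
        congrArg Subtype.val (hy ⟨a, Subgroup.mem_zpowers a⟩)
      have hcom : Commute (y : G) a := (mul_inv_eq_iff_eq_mul.mp h1).symm
      by_contra hne
      have hy1 : orderOf y = q := orderOf_eq_prime (Subtype.ext (by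
        rw [SubgroupClass.coe_pow]; exact hloc _ hcom)) hne
      exact hN (hy1 ▸ orderOf_dvd_natCard y)
    · rintro rfl b
      apply Subtype.ext
      show (b : G) * 1 * (b : G)⁻¹ = 1
      group
  rw [hfix, Nat.card_coe_set_eq, Set.ncard_singleton] at h
  exact h

theorem mem_of_coprime_index (N : Subgroup G) [N.Normal] {g : G} (h : Nat.Coprime (orderOf g) N.index) : g ∈ N := by
  rw [← QuotientGroup.eq_one_iff, ← orderOf_eq_one_iff]
  refine Nat.eq_one_of_dvd_coprimes h (orderOf_map_dvd (QuotientGroup.mk' N) g) ?_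
  rw [Subgroup.index_eq_card]
  exact orderOf_dvd_natCard _

theorem mem_of_inverting (N : Subgroup G) [N.Normal] (hN : N.index.Prime) {x w : G} {r q : ℕ}
    (hx : orderOf x = q) (hw : w * x * w⁻¹ = x ^ r) (hr : 1 < r) (hco : Nat.Coprime (r - 1) q) : x ∈ N := by
  haveI : Fact N.index.Prime := ⟨hN⟩
  rw [← QuotientGroup.eq_one_iff]
  haveI : IsCyclic (G ⧸ N) := isCyclic_of_prime_card (p := N.index) (Subgroup.index_eq_card N).symm
  letI : CommGroup (G ⧸ N) := IsCyclic.commGroup
  have h1 : (QuotientGroup.mk' N) (w * x * w⁻¹) = (QuotientGroup.mk' N) (x ^ r) := by rw [hw]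
  simp only [map_mul, map_inv, map_pow] at h1
  rw [mul_inv_cancel_comm] at h1
  have h2 : (QuotientGroup.mk' N x) ^ (r - 1) = 1 := by
    have : (QuotientGroup.mk' N x) ^ (r - 1) * QuotientGroup.mk' N x = 1 * QuotientGroup.mk' N x := by
      rw [← pow_succ, Nat.sub_add_cancel hr.le, one_mul, ← h1]
    exact mul_right_cancel this
  have h3 : (QuotientGroup.mk' N x) ^ q = 1 := by rw [← map_pow, ← hx, pow_orderOf_eq_one, map_one]
  exact orderOf_eq_one_iff.mp (Nat.eq_one_of_dvd_coprimes hco (orderOf_dvd_of_pow_eq_one h2) (orderOf_dvd_of_pow_eq_one h3))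

theorem isSimpleGroup : IsSimpleGroup G := by
  classical
  have hne : Nontrivial G := Finite.one_lt_card_iff_nontrivial.mp (by rw [card_eq]; norm_num)
  refine { exists_pair_ne := hne.exists_pair_ne, eq_bot_or_eq_top_of_normal := fun N hN => ?_ }
  obtain ⟨hn7, -⟩ : normalises x7 w7 3 6 = true ∧ True := ⟨by
    have := normal_check; simp only [Bool.and_eq_true] at this; exact this.1.1.1, trivial⟩
  have hn5 : normalises x5 w5 4 2 = true := by
    have := normal_check; simp only [Bool.and_eq_true] at this; exact this.2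
  simp only [normalises, Bool.and_eq_true, beq_iff_eq] at hn7 hn5
  have ho := order_check
  simp only [Bool.and_eq_true] at ho
  obtain ⟨⟨⟨⟨⟨⟨⟨⟨⟨⟨⟨⟨⟨⟨⟨h7, h19⟩, -⟩, h5⟩, hw7⟩, -⟩, -⟩, hw5⟩, -⟩, -⟩, -⟩, -⟩, -⟩, -⟩, -⟩, -⟩ := ho
  obtain ⟨X7, hX7, oX7⟩ := exists_element x7 (by simp [named]) 7 (by norm_num) h7
  obtain ⟨W7, hW7, -⟩ := exists_element w7 (by simp [named]) 6 (by norm_num) hw7
  obtain ⟨X5, hX5, oX5⟩ := exists_element x5 (by simp [named]) 5 (by norm_num) h5
  obtain ⟨W5, hW5, -⟩ := exists_element w5 (by simp [named]) 2 (by norm_num) hw5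
  obtain ⟨X19, hX19, oX19⟩ := exists_element x19 (by simp [named]) 19 (by norm_num) h19
  have hc7 : W7 * X7 * W7⁻¹ = X7 ^ 3 := by
    rw [mul_inv_eq_iff_eq_mul]
    exact IsCode.eq (hW7.mul hX7) (by rw [hn7.1]; exact (hX7.pow 3).mul hW7)
  have hc5 : W5 * X5 * W5⁻¹ = X5 ^ 4 := by
    rw [mul_inv_eq_iff_eq_mul]
    exact IsCode.eq (hW5.mul hX5) (by rw [hn5.1]; exact (hX5.pow 4).mul hW5)
  have hcard : Nat.card N * N.index = 175560 := card_eq ▸ N.card_mul_index
  have hcop : ∀ q : ℕ, q.Prime → ¬ q ^ 2 ∣ 175560 → q ∣ Nat.card N → ¬ q ∣ N.index := fun q _ hsq h1 h2 =>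
    hsq (by rw [← hcard, sq]; exact mul_dvd_mul h1 h2)
  by_cases hall : 7 ∣ Nat.card N ∨ 11 ∣ Nat.card N ∨ 19 ∣ Nat.card N
  · right
    have h7N : 7 ∣ Nat.card N := by
      by_contra h7n
      have h7i : 7 ∣ N.index := ((show Nat.Prime 7 by norm_num).dvd_mul.mp (by rw [hcard]; norm_num)).resolve_left h7n
      have hi : N.index = 7 := by
        obtain ⟨k, hk⟩ := h7i
        have hk0 : 0 < k := by
          rcases Nat.eq_zero_or_pos k with rfl | h
          · rw [hk] at hcard; simp at hcard
          · exact h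
        rcases hall with h | h | h
        · exact absurd h h7n
        · have := index_lt (by norm_num) (by norm_num) eleven_local N h; omega
        · have h19i := index_lt (by norm_num) (by norm_num) nineteen_local N h
          have h11 : 11 ∣ Nat.card N :=
            ((show Nat.Prime 11 by norm_num).dvd_mul.mp (by rw [hcard]; norm_num)).resolve_right (fun h' => by
              obtain ⟨l, hl⟩ := h'; omega)
          have := index_lt (by norm_num) (by norm_num) eleven_local N h11
          omega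
      have hx := mem_of_inverting N (by rw [hi]; norm_num) oX7 hc7 (by norm_num) (by norm_num)
      exact h7n (by have := Subgroup.orderOf_dvd_natCard N hx; rwa [oX7] at this)
    have hi := index_lt (by norm_num) (by norm_num) seven_local N h7N
    have h5i : ¬ 5 ∣ N.index := by
      intro h5'
      have hi5 : N.index = 5 := by
        obtain ⟨l, hl⟩ := h5'
        have : l ≠ 0 := fun h => by rw [hl, h] at hcard; simp at hcard
        omega
      have hx := mem_of_inverting N (by rw [hi5]; norm_num) oX5 hc5 (by norm_num) (by norm_num)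
      exact hcop 5 (by norm_num) (by norm_num) (by have := Subgroup.orderOf_dvd_natCard N hx; rwa [oX5] at this) h5'
    have h7i : ¬ 7 ∣ N.index := hcop 7 (by norm_num) (by norm_num) h7N
    have hgen : ∀ (g : G) (q : ℕ), q.Prime → ¬ q ∣ N.index → g ^ q = 1 → g ∈ N := fun g q hq hqi hg =>
      mem_of_coprime_index N (Nat.Coprime.coprime_dvd_left (orderOf_dvd_of_pow_eq_one hg)
        (hq.coprime_iff_not_dvd.mpr hqi))
    refine (Subgroup.eq_top_iff' N).mpr fun g => ?_
    have hsub : ∀ x : GL (Fin 7) (ZMod 11), x ∈ Cfsg.Spor.J1 → ∃ hx : x ∈ Cfsg.Spor.J1, (⟨x, hx⟩ : G) ∈ N := by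
      intro x hx
      induction hx using Subgroup.closure_induction with
      | mem x hx =>
        rcases hx with rfl | rfl
        · refine ⟨Subgroup.subset_closure (Or.inl rfl), hgen _ 7 (by norm_num) h7i ?_⟩
          apply mat_injective
          rw [map_pow, map_one]
          show Cfsg.jankoMatrixX ^ 7 = 1
          decide +kernel
        · refine ⟨Subgroup.subset_closure (Or.inr rfl), hgen _ 5 (by norm_num) h5i ?_⟩
          apply mat_injective
          rw [map_pow, map_one]
          show Cfsg.jankoMatrixY ^ 5 = 1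
          decide +kernel
      | one => exact ⟨one_mem _, one_mem N⟩
      | mul a b _ _ iha ihb =>
        obtain ⟨ha, ha'⟩ := iha
        obtain ⟨hb, hb'⟩ := ihb
        exact ⟨mul_mem ha hb, mul_mem ha' hb'⟩
      | inv a _ iha =>
        obtain ⟨ha, ha'⟩ := iha
        exact ⟨inv_mem ha, inv_mem ha'⟩
    obtain ⟨_, h⟩ := hsub g.1 g.2
    exact h
  · left
    push Not at hall
    obtain ⟨n7, n11, n19⟩ := hall
    have e19 := card_modEq_one (by norm_num) oX19 (fun b hb => nineteen_local _ _ oX19 hb) N n19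
    have e7 := card_modEq_one (by norm_num) oX7 (fun b hb => seven_local _ _ oX7 hb) N n7
    have hdvd : Nat.card N ∣ 120 * 7 * 11 * 19 := by
      rw [show 120 * 7 * 11 * 19 = (175560 : ℕ) by norm_num, ← hcard]; exact dvd_mul_right _ _
    have hd1 : Nat.card N ∣ 120 * 7 * 11 :=
      Nat.Coprime.dvd_of_dvd_mul_right (((show Nat.Prime 19 by norm_num).coprime_iff_not_dvd.mpr n19).symm) hdvd
    have hd2 : Nat.card N ∣ 120 * 7 :=
      Nat.Coprime.dvd_of_dvd_mul_right (((show Nat.Prime 11 by norm_num).coprime_iff_not_dvd.mpr n11).symm) hd1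
    have hd3 : Nat.card N ∣ 120 :=
      Nat.Coprime.dvd_of_dvd_mul_right (((show Nat.Prime 7 by norm_num).coprime_iff_not_dvd.mpr n7).symm) hd2
    have hle := Nat.le_of_dvd (by norm_num) hd3
    exact Subgroup.card_eq_one.mp (by omega)

end CfsgLib.Recog.JankoOne
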