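import Mathlib
import Cfsg.Agent.Lib.Recog.JankoOneSimple
import Cfsg.Agent.Lib.Recog.JankoOneExtraChecks

/-!
# Involutions of the first Janko group
-/

set_option autoImplicit false
set_option maxRecDepth 20000

namespace CfsgLib.Recog.JankoOne

open Matrix Cfsg.Spor

theorem exists_extra {p : List ℕ × ℕ × ℕ} (hp : p ∈ extraNamed) : ∃ g : G, IsCode g p.1 := by
  have hc := List.all_eq_true.mp extraNamed_check p hp
  simp only [Bool.and_eq_true, decide_eq_true_eq, beq_iff_eq] at hc
  obtain ⟨⟨⟨-, h1⟩, h2⟩, h3⟩ := hc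
  obtain ⟨a, ha⟩ := code_sub _ h1
  obtain ⟨b, hb⟩ := code_rep _ h2
  exact ⟨a * b, h3 ▸ ha.mul hb⟩

/-- cancellation of codes -/
theorem code_cancel {x g : G} {l a b : List ℕ} (hg : IsCode g a) (hxg : IsCode (x * g) b) (hl : wf l = true)
    (h : pmul l a = b) : IsCode x l := by
  unfold IsCode at *
  have h1 : enc (dec l * mat g) = enc (mat x * mat g) := by
    rw [← enc_mul, enc_dec hl, hg, h, ← hxg, map_mul]
  have h2 := congrArg (· * mat g⁻¹) (enc_injective h1)
  simp only [mul_assoc, ← map_mul, mul_inv_cancel, map_one, mul_one] at h2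
  rw [← h2, enc_dec hl]

/-- code of a conjugate -/
theorem code_conj {g y : G} {a c l : List ℕ} (hg : IsCode g a) (hy : IsCode y c) (hl : wf l = true)
    (h : pmul a c = pmul l a) : IsCode (g * y * g⁻¹) l :=
  code_cancel hg (b := pmul a c) (by rw [inv_mul_cancel_right]; exact hg.mul hy) hl h.symm

/-- the first generator -/
def elX : G := ⟨jankoX, Subgroup.subset_closure (Or.inl rfl)⟩

/-- the second generator -/
def elY : G := ⟨jankoY, Subgroup.subset_closure (Or.inr rfl)⟩

theorem code_elX : IsCode elX pX := by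
  obtain ⟨h1, -, -, -, h5, -⟩ := gen_check
  show enc Cfsg.jankoMatrixX = _
  rw [← h5, enc_dec h1]

theorem code_elY : IsCode elY pY := by
  obtain ⟨-, h2, -, -, -, h6⟩ := gen_check
  show enc Cfsg.jankoMatrixY = _
  rw [← h6, enc_dec h2]

theorem closure_eq_top : Subgroup.closure ({elX, elY} : Set G) = ⊤ := by
  refine (top_le_iff).mp fun g _ => ?_
  obtain ⟨g, hg⟩ := g
  induction hg using Subgroup.closure_induction with
  | mem x hx =>
    rcases hx with rfl | rfl
    · exact Subgroup.subset_closure (Or.inl rfl)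
    · exact Subgroup.subset_closure (Or.inr rfl)
  | one => exact Subgroup.one_mem _
  | mul x y hx hy h1 h2 => exact Subgroup.mul_mem _ (h1 trivial) (h2 trivial)
  | inv x hx h1 => exact Subgroup.inv_mem _ (h1 trivial)

/-- an involution -/
noncomputable def elA : G := (exists_named (l := a2) (by simp [named])).choose

theorem code_elA : IsCode elA a2 := (exists_named (l := a2) (by simp [named])).choose_spec

/-- an element of order seven normalising a group of order eight -/
noncomputable def elN : G := (exists_extra (p := (xN, xNLoc)) (by simp [extraNamed])).choose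

theorem code_elN : IsCode elN xN := (exists_extra (p := (xN, xNLoc)) (by simp [extraNamed])).choose_spec

/-- the conjugates forming a group of order eight with the identity -/
noncomputable def e (k : ℕ) : G := elN ^ k * elA * (elN ^ k)⁻¹

theorem wf_eightAt {k : ℕ} (hk : k < 7) : wf (eightAt k) = true := by
  have h := wf_extra
  have h2 := eight_check
  simp only [Bool.and_eq_true, beq_iff_eq, List.all_eq_true] at h h2
  rw [eightAt, List.getD_eq_getElem _ _ (by omega)]
  exact h.2 _ (List.getElem_mem _)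

theorem code_e {k : ℕ} (hk : k < 7) : IsCode (e k) (eightAt k) := by
  have h := eight_check
  simp only [Bool.and_eq_true, beq_iff_eq, List.all_eq_true, List.mem_range] at h
  exact code_conj (code_elN.pow k) code_elA (wf_eightAt hk) (h.1.1.1.1.1.1.1.1.1.1 k hk)

theorem elN_pow_seven : elN ^ 7 = 1 := by
  have h := eight_check
  simp only [Bool.and_eq_true, beq_iff_eq] at h
  exact IsCode.eq (code_elN.pow 7) (by rw [h.1.1.1.1.1.1.1.1.1.2]; exact isCode_one)

theorem e_mod (k : ℕ) : e (k % 7) = e k := by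
  unfold e
  conv_rhs => rw [← Nat.mod_add_div k 7, pow_add, pow_mul, elN_pow_seven, one_pow, mul_one]

theorem e_rel : e 0 * e 1 = e 5 ∧ e 0 * e 2 = e 3 ∧ e 1 * e 3 = e 4 ∧ e 0 = elA := by
  have h := eight_check
  simp only [Bool.and_eq_true, beq_iff_eq] at h
  have c := fun k (hk : k < 7) => code_e hk
  refine ⟨?_, ?_, ?_, by simp [e]⟩
  · exact IsCode.eq ((c 0 (by norm_num)).mul (c 1 (by norm_num))) (by rw [h.1.1.1.2]; exact c 5 (by norm_num))
  · exact IsCode.eq ((c 0 (by norm_num)).mul (c 2 (by norm_num))) (by rw [h.1.1.2]; exact c 3 (by norm_num))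
  · exact IsCode.eq ((c 1 (by norm_num)).mul (c 3 (by norm_num))) (by rw [h.1.2]; exact c 4 (by norm_num))

theorem e_spec {i j : ℕ} (hi : i < 7) (hj : j < 7) :
    e i * e i = 1 ∧ e i ≠ 1 ∧ (i ≠ j → e i ≠ e j ∧ ∃ k < 7, e i * e j = e k) := by
  have h := eight_check
  simp only [Bool.and_eq_true, beq_iff_eq, List.all_eq_true, List.mem_range, Bool.or_eq_true, Bool.not_eq_true',
    beq_eq_false_iff_ne, List.any_eq_true] at h
  obtain ⟨⟨⟨⟨⟨⟨⟨-, hsq⟩, hcl⟩, hne⟩, -⟩, -⟩, -⟩, -⟩ := h
  refine ⟨IsCode.eq ((code_e hi).mul (code_e hi)) (by rw [(hsq i hi).1]; exact isCode_one), fun he => ?_, fun hij =>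
    ⟨fun he => ?_, ?_⟩⟩
  · exact (hsq i hi).2 ((code_e hi).symm.trans (he.symm ▸ isCode_one))
  · exact ((hne i hi j hj).resolve_left hij) ((code_e hi).symm.trans (he.symm ▸ code_e hj))
  · obtain ⟨k, hk, h'⟩ := (hcl i hi j hj).resolve_left hij
    exact ⟨k, hk, IsCode.eq ((code_e hi).mul (code_e hj)) (by rw [h']; exact code_e hk)⟩

/-- a group of order eight -/
noncomputable def eight : Subgroup G where
  carrier := {g | g = 1 ∨ ∃ k < 7, g = e k}
  one_mem' := Or.inl rfl
  mul_mem' := by
    rintro a b (rfl | ⟨i, hi, rfl⟩) (rfl | ⟨j, hj, rfl⟩)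
    · simp
    · exact Or.inr ⟨j, hj, one_mul _⟩
    · exact Or.inr ⟨i, hi, mul_one _⟩
    · by_cases hij : i = j
      · subst hij; exact Or.inl (e_spec hi hi).1
      · exact Or.inr ((e_spec hi hj).2.2 hij).2
  inv_mem' := by
    rintro a (rfl | ⟨i, hi, rfl⟩)
    · simp
    · exact Or.inr ⟨i, hi, inv_eq_of_mul_eq_one_right (e_spec hi hi).1⟩

theorem card_eight : Nat.card eight = 8 := by
  classical
  let f : Option (Fin 7) → eight := fun o => o.elim ⟨1, Or.inl rfl⟩ fun k => ⟨e k, Or.inr ⟨k, k.2, rfl⟩⟩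
  have hf : Function.Bijective f := by
    constructor
    · rintro (_ | a) (_ | b) hab
      · rfl
      · exact absurd (congrArg Subtype.val hab).symm (e_spec b.2 b.2).2.1
      · exact absurd (congrArg Subtype.val hab) (e_spec a.2 a.2).2.1
      · by_contra hne
        exact ((e_spec a.2 b.2).2.2 fun h => hne (congrArg some (Fin.ext h))).1 (congrArg Subtype.val hab)
    · rintro ⟨g, rfl | ⟨k, hk, rfl⟩⟩
      · exact ⟨none, rfl⟩
      · exact ⟨some ⟨k, hk⟩, rfl⟩
  rw [← Nat.card_eq_of_bijective f hf]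
  simp

theorem factorization_two : (Nat.card G).factorization 2 = 3 := by
  rw [card_eq, show (175560 : ℕ) = 2 ^ 3 * 21945 by norm_num,
    Nat.factorization_mul_apply_of_coprime (by norm_num), Nat.Prime.factorization_pow Nat.prime_two,
    Nat.factorization_eq_zero_of_not_dvd (by norm_num : ¬ 2 ∣ 21945)]
  simp

theorem orderOf_elA : orderOf elA = 2 := by
  rw [← e_rel.2.2.2]
  exact orderOf_eq_prime (by rw [sq]; exact (e_spec (by norm_num) (by norm_num) (i := 0) (j := 0)).1)
    (e_spec (by norm_num) (by norm_num) (i := 0) (j := 0)).2.1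

theorem exists_conj_elA {y : G} (hy : orderOf y = 2) : ∃ g : G, y = g * elA * g⁻¹ := by
  have : Fact (Nat.Prime 2) := ⟨Nat.prime_two⟩
  let S : Sylow 2 G := Sylow.ofCard eight (by rw [card_eight, factorization_two]; norm_num)
  obtain ⟨Q, hQ⟩ := IsPGroup.exists_le_sylow (p := 2) (P := Subgroup.zpowers y)
    (IsPGroup.of_card (n := 1) (by rw [Nat.card_zpowers, hy]; norm_num))
  obtain ⟨g, hg⟩ := MulAction.exists_smul_eq G S Q
  have hmem : y ∈ ((g • S : Sylow 2 G) : Subgroup G) := by
    rw [hg]; exact hQ (Subgroup.mem_zpowers y)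
  rw [Sylow.coe_subgroup_smul, Subgroup.mem_pointwise_smul_iff_inv_smul_mem] at hmem
  have hmem' : g⁻¹ * y * g ∈ eight := by
    simpa [S, Sylow.coe_ofCard, MulAut.conj_apply] using hmem
  rcases hmem' with h | ⟨k, hk, h⟩
  · exfalso
    have : y = 1 := by
      calc y = g * (g⁻¹ * y * g) * g⁻¹ := by group
        _ = 1 := by rw [h]; group
    simp [this] at hy
  · refine ⟨g * elN ^ k, ?_⟩
    calc y = g * (g⁻¹ * y * g) * g⁻¹ := by group
      _ = _ := by rw [h, e]; group

theorem wf_invAt {i : ℕ} (hi : i < 1463) : wf (invAt i) = true := by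
  have h := wf_extra
  have h2 := inv_head
  simp only [Bool.and_eq_true, beq_iff_eq, List.all_eq_true] at h h2
  rw [invAt, List.getD_eq_getElem _ _ (by omega)]
  exact h.1 _ (List.getElem_mem _)

theorem invAt_mem {i : ℕ} (hi : i < 1463) : invAt i ∈ invs := by
  have h2 := inv_head
  simp only [Bool.and_eq_true, beq_iff_eq] at h2
  rw [invAt, List.getD_eq_getElem _ _ (by omega)]
  exact List.getElem_mem _

theorem involution_listed {y : G} (hy : orderOf y = 2) : ∃ i < 1463, IsCode y (invAt i) := by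
  let C : Set G := {y | ∃ i < 1463, IsCode y (invAt i)}
  have hA : elA ∈ C := ⟨0, by norm_num, by
    have h := inv_head
    simp only [Bool.and_eq_true, beq_iff_eq] at h
    rw [h.1.1]; exact code_elA⟩
  have key : ∀ g : G, ∀ y ∈ C, g * y * g⁻¹ ∈ C := by
    intro g
    have hg : g ∈ Subgroup.closure ({elX, elY} : Set G) := closure_eq_top ▸ Subgroup.mem_top g
    induction hg using Subgroup.closure_induction with
    | mem x hx =>
      rintro y ⟨i, hi, hy⟩
      have h := List.all_eq_true.mp inv_closed i (List.mem_range.mpr hi)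
      simp only [Bool.and_eq_true, decide_eq_true_eq, beq_iff_eq] at h
      rcases hx with rfl | rfl
      · exact ⟨_, h.1.1.1, code_conj code_elX hy (wf_invAt h.1.1.1) h.1.2⟩
      · exact ⟨_, h.1.1.2, code_conj code_elY hy (wf_invAt h.1.1.2) h.2⟩
    | one => intro y hy; simpa using hy
    | mul a b _ _ ha hb =>
      intro y hy
      rw [show a * b * y * (a * b)⁻¹ = a * (b * y * b⁻¹) * a⁻¹ by group]
      exact ha _ (hb y hy)
    | inv a _ ha =>
      intro y hy
      obtain ⟨z, hz⟩ := (Finite.injective_iff_surjective (f := fun z : C => (⟨a * z.1 * a⁻¹, ha _ z.2⟩ : C))).mp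
        (fun u v huv => Subtype.ext (mul_left_cancel (mul_right_cancel (congrArg Subtype.val huv)))) ⟨y, hy⟩
      have h1 : a * z.1 * a⁻¹ = y := congrArg Subtype.val hz
      rw [← h1, show a⁻¹ * (a * z.1 * a⁻¹) * a⁻¹⁻¹ = z.1 by group]
      exact z.2
  obtain ⟨g, rfl⟩ := exists_conj_elA hy
  exact key g _ hA

/-! ### generation by an element of order seven and an involution -/

/-- the second generator in the new pair -/
noncomputable def elB : G := (exists_extra (p := (bI, bILoc)) (by simp [extraNamed])).choose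

theorem code_elB : IsCode elB bI := (exists_extra (p := (bI, bILoc)) (by simp [extraNamed])).choose_spec

theorem orderOf_elB : orderOf elB = 2 := orderOf_of_check code_elB (by norm_num) order_bI

theorem special_iff {y : G} {l : List ℕ} (hy : IsCode y l) :
    special l = true ↔ (elX ^ 2 * y) ^ 3 = 1 ∧ (elX * y) ^ 19 = 1 := by
  simp only [special, Bool.and_eq_true, beq_iff_eq]
  have h1 := (((code_elX.pow 2).mul hy).pow 3)
  have h2 := ((code_elX.mul hy).pow 19)
  constructor
  · rintro ⟨e1, e2⟩
    rw [e1] at h1; rw [e2] at h2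
    exact ⟨h1.eq isCode_one, h2.eq isCode_one⟩
  · rintro ⟨e1, e2⟩
    rw [e1] at h1; rw [e2] at h2
    exact ⟨h1.symm.trans isCode_one, h2.symm.trans isCode_one⟩

theorem mem_orbit_of_special {y : G} (hy : orderOf y = 2) (h3 : (elX ^ 2 * y) ^ 3 = 1) (h19 : (elX * y) ^ 19 = 1) :
    ∃ i, y = elX ^ i * elB * (elX ^ i)⁻¹ := by
  obtain ⟨j, hj, hc⟩ := involution_listed hy
  have hs := (special_iff hc).mpr ⟨h3, h19⟩
  have h := List.all_eq_true.mp special_orbit _ (invAt_mem hj)
  simp only [Bool.or_eq_true, Bool.not_eq_true', List.any_eq_true, List.mem_range, beq_iff_eq] at h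
  simp only [special, Bool.and_eq_true, beq_iff_eq] at hs
  rcases h with h | h | h
  · rw [beq_eq_false_iff_ne] at h; exact absurd hs.1 h
  · simp [special, hs.1, hs.2] at h
  · obtain ⟨i, -, hi⟩ := h
    refine ⟨i, ?_⟩
    have hl := (code_elX.pow i).mul code_elB
    have hr := hc.mul (code_elX.pow i)
    rw [hi] at hl
    rw [hl.eq hr, mul_inv_cancel_right]

theorem closure_XB : Subgroup.closure ({elX, elB} : Set G) = ⊤ := by
  set K := Subgroup.closure ({elX, elB} : Set G)
  have hfold : ∀ w : List ℕ, ∀ g ∈ K, ∀ l, IsCode g l → ∃ g' ∈ K,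
      IsCode g' (w.foldl (fun acc k => pmul acc (bif k == 0 then pX else bI)) l) := by
    intro w
    induction w with
    | nil => exact fun g hg l hl => ⟨g, hg, hl⟩
    | cons k w ih =>
      intro g hg l hl
      cases hk : k == 0
      · simpa [List.foldl_cons, hk] using ih (g * elB) (mul_mem hg (Subgroup.subset_closure (Or.inr rfl))) _ (hl.mul code_elB)
      · simpa [List.foldl_cons, hk] using ih (g * elX) (mul_mem hg (Subgroup.subset_closure (Or.inl rfl))) _ (hl.mul code_elX)
  obtain ⟨g, hg, hgY⟩ := hfold wordY 1 (one_mem K) pOne isCode_one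
  rw [beq_iff_eq.mp word_check] at hgY
  rw [← top_le_iff, ← closure_eq_top, Subgroup.closure_le]
  rintro x (rfl | rfl)
  · exact Subgroup.subset_closure (Or.inl rfl)
  · exact (hgY.eq code_elY) ▸ hg

end CfsgLib.Recog.JankoOne
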