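import Mathlib
import Cfsg.Agent.Lib.Recog.JankoOneInvolutions

/-!
# The centraliser of an involution in the first Janko group
-/

set_option autoImplicit false
set_option maxRecDepth 20000

namespace CfsgLib.Recog.JankoOne

/-- a generator of the alternating part -/
noncomputable def elU : G := (exists_extra (p := (uA, uALoc)) (by simp [extraNamed])).choose

theorem code_elU : IsCode elU uA := (exists_extra (p := (uA, uALoc)) (by simp [extraNamed])).choose_spec

/-- a generator of the alternating part -/
noncomputable def elV : G := (exists_extra (p := (vA, vALoc)) (by simp [extraNamed])).choose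

theorem code_elV : IsCode elV vA := (exists_extra (p := (vA, vALoc)) (by simp [extraNamed])).choose_spec

/-- the elements of the table -/
theorem code_altAt : ∀ i < 60, ∃ g : G, IsCode g (altAt i).2.1 := by
  have h := alt_check
  simp only [Bool.and_eq_true, beq_iff_eq, List.all_eq_true, List.mem_range, Bool.or_eq_true,
    decide_eq_true_eq] at h
  intro i
  induction i using Nat.strong_induction_on with
  | _ i ih =>
    intro hi
    rcases h.1.2 i hi with h0 | h0
    · subst h0; exact ⟨1, by rw [h.1.1.1.2]; exact isCode_one⟩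
    · obtain ⟨⟨⟨hp, -⟩, -⟩, hc⟩ := h0
      obtain ⟨g, hg⟩ := ih _ hp (by omega)
      cases hk : (altAt i).2.2.2 == 0
      · rw [hk, cond_false] at hc; exact ⟨g * elV, hc ▸ hg.mul code_elV⟩
      · rw [hk, cond_true] at hc; exact ⟨g * elU, hc ▸ hg.mul code_elU⟩

/-- the images of the five points -/
def key (g : alternatingGroup (Fin 5)) : List (Fin 5) := [g.1 0, g.1 1, g.1 2, g.1 3, g.1 4]

theorem key_injective : Function.Injective key := fun g h e => by
  simp only [key, List.cons.injEq] at e
  refine Subtype.ext (Equiv.ext fun x => ?_)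
  fin_cases x
  exacts [e.1, e.2.1, e.2.2.1, e.2.2.2.1, e.2.2.2.2.1]

theorem exists_index (g : alternatingGroup (Fin 5)) : ∃ i : Fin 60, (altAt i.1).1 = key g :=
  alt_cover g.1 (Equiv.Perm.mem_alternatingGroup.mp g.2)

theorem index_unique {i j : ℕ} (hi : i < 60) (hj : j < 60) (h : (altAt i).1 = (altAt j).1) : i = j := by
  have hl : altTable.length = 60 := by
    have h := alt_check
    simp only [Bool.and_eq_true, beq_iff_eq] at h
    exact h.1.1.1.1
  rw [altAt, altAt, List.getD_eq_getElem _ _ (by omega), List.getD_eq_getElem _ _ (by omega)] at h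
  exact (alt_keys_nodup.getElem_inj_iff (i := i) (hi := by simp [hl, hi]) (j := j) (hj := by simp [hl, hj])).mp
    (by simpa using h)

/-- the embedding of the alternating group -/
noncomputable def embFun (g : alternatingGroup (Fin 5)) : G :=
  (code_altAt (exists_index g).choose.1 (exists_index g).choose.2).choose

theorem embFun_code {g : alternatingGroup (Fin 5)} {i : ℕ} (hi : i < 60) (h : (altAt i).1 = key g) :
    IsCode (embFun g) (altAt i).2.1 := by
  have h1 := (exists_index g).choose_spec
  rw [index_unique hi (exists_index g).choose.2 (h.trans h1.symm)]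
  exact (code_altAt _ (exists_index g).choose.2).choose_spec

/-- the image of an involution -/
def sigmaA : alternatingGroup (Fin 5) :=
  ⟨⟨![1, 0, 3, 2, 4], ![1, 0, 3, 2, 4], by decide, by decide⟩, Equiv.Perm.mem_alternatingGroup.mpr (by decide)⟩

/-- the image of an element of order three -/
def tauA : alternatingGroup (Fin 5) :=
  ⟨⟨![0, 2, 4, 3, 1], ![0, 4, 1, 3, 2], by decide, by decide⟩, Equiv.Perm.mem_alternatingGroup.mpr (by decide)⟩

theorem map_getD (L : List (Fin 5)) (g : alternatingGroup (Fin 5)) :
    L.map (fun j : Fin 5 => (key g).getD j.1 0) = L.map (fun j => g.1 j) := by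
  refine List.map_congr_left fun j _ => ?_
  fin_cases j <;> rfl

theorem embFun_gen (g : alternatingGroup (Fin 5)) :
    embFun (g * sigmaA) = embFun g * elU ∧ embFun (g * tauA) = embFun g * elV := by
  obtain ⟨⟨i, hi⟩, he⟩ := exists_index g
  have h := alt_check
  simp only [Bool.and_eq_true, beq_iff_eq, List.all_eq_true, List.mem_range, decide_eq_true_eq] at h
  obtain ⟨⟨⟨⟨⟨ha, hb⟩, k1⟩, c1⟩, k2⟩, c2⟩ := h.2 i hi
  have hg := embFun_code hi he
  simp only at he
  rw [he, map_getD] at k1 k2
  refine ⟨(embFun_code ha ?_).eq (c1 ▸ hg.mul code_elU), (embFun_code hb ?_).eq (c2 ▸ hg.mul code_elV)⟩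
  · rw [k1]; rfl
  · rw [k2]; rfl

theorem key_one : key 1 = [0, 1, 2, 3, 4] := rfl

theorem embFun_one : embFun 1 = 1 := by
  have h := alt_check
  simp only [Bool.and_eq_true, beq_iff_eq] at h
  have h0 := embFun_code (g := 1) (i := 0) (by norm_num) (by rw [h.1.1.1.2]; rfl)
  rw [h.1.1.1.2] at h0
  exact h0.eq isCode_one

/-- the elements through which the embedding is multiplicative -/
noncomputable def multSet : Submonoid (alternatingGroup (Fin 5)) where
  carrier := {h | ∀ g, embFun (g * h) = embFun g * embFun h}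
  one_mem' g := by rw [mul_one, embFun_one, mul_one]
  mul_mem' {a b} ha hb g := by rw [← mul_assoc, hb (g * a), ha g, hb a, mul_assoc]

theorem mem_multSet (h : alternatingGroup (Fin 5)) : h ∈ multSet := by
  have gens : sigmaA ∈ multSet ∧ tauA ∈ multSet := by
    refine ⟨fun g => ?_, fun g => ?_⟩
    · have := (embFun_gen 1).1; rw [one_mul, embFun_one, one_mul] at this
      rw [(embFun_gen g).1, this]
    · have := (embFun_gen 1).2; rw [one_mul, embFun_one, one_mul] at this
      rw [(embFun_gen g).2, this]
  have hc := alt_check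
  simp only [Bool.and_eq_true, beq_iff_eq, List.all_eq_true, List.mem_range, Bool.or_eq_true,
    decide_eq_true_eq] at hc
  suffices H : ∀ i < 60, ∀ h : alternatingGroup (Fin 5), (altAt i).1 = key h → h ∈ multSet by
    obtain ⟨⟨i, hi⟩, he⟩ := exists_index h; exact H i hi h he
  intro i
  induction i using Nat.strong_induction_on with
  | _ i ih =>
    intro hi h he
    rcases hc.1.2 i hi with h0 | h0
    · subst h0
      rw [hc.1.1.1.2] at he
      rw [key_injective (a₁ := h) (a₂ := 1) he.symm]
      exact one_mem _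
    · obtain ⟨⟨⟨hp, -⟩, hk⟩, -⟩ := h0
      rw [he] at hk
      have hs : ∀ s ∈ multSet, key (h * s⁻¹) = (altAt (altAt i).2.2.1).1 → h ∈ multSet := fun s hs hk' => by
        have := mul_mem (ih _ hp (by omega) (h * s⁻¹) hk'.symm) hs
        rwa [inv_mul_cancel_right] at this
      have hlen : ∀ j : Fin 60, (altAt j.1).1.length = 5 := by decide +kernel
      obtain ⟨a, b, c, d, e, hP⟩ : ∃ a b c d e, (altAt (altAt i).2.2.1).1 = [a, b, c, d, e] := by
        have := hlen ⟨(altAt i).2.2.1, by omega⟩
        simp only at this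
        match hm : (altAt (altAt i).2.2.1).1, this with
        | [a, b, c, d, e], _ => exact ⟨a, b, c, d, e, rfl⟩
      rw [hP] at hk
      cases hb : (altAt i).2.2.2 == 0
      · rw [hb, cond_false] at hk
        simp [key] at hk
        refine hs tauA gens.2 ?_
        rw [hP]
        obtain ⟨k0, k1, k2, k3, k4⟩ := hk
        show [h.1 (tauA.1.symm 0), h.1 (tauA.1.symm 1), h.1 (tauA.1.symm 2), h.1 (tauA.1.symm 3), h.1 (tauA.1.symm 4)] = _
        simp [tauA, k0, k1, k2, k3, k4]
      · rw [hb, cond_true] at hk
        simp [key] at hk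
        refine hs sigmaA gens.1 ?_
        rw [hP]
        obtain ⟨k0, k1, k2, k3, k4⟩ := hk
        show [h.1 (sigmaA.1.symm 0), h.1 (sigmaA.1.symm 1), h.1 (sigmaA.1.symm 2), h.1 (sigmaA.1.symm 3), h.1 (sigmaA.1.symm 4)] = _
        simp [sigmaA, k0, k1, k2, k3, k4]

/-- the embedding -/
noncomputable def emb : alternatingGroup (Fin 5) →* G where
  toFun := embFun
  map_one' := embFun_one
  map_mul' g h := mem_multSet h g

theorem emb_spec (g : alternatingGroup (Fin 5)) :
    emb g * elA = elA * emb g ∧ emb g ≠ elA ∧ (emb g = 1 → g = 1) := by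
  obtain ⟨⟨i, hi⟩, he⟩ := exists_index g
  have h := alt_check
  simp only [Bool.and_eq_true, beq_iff_eq, List.all_eq_true, List.mem_range, Bool.or_eq_true, Bool.not_eq_true',
    beq_eq_false_iff_ne] at h
  obtain ⟨⟨hc, hne⟩, h1⟩ := h.1.1.2 i hi
  have hg : IsCode (emb g) (altAt i).2.1 := embFun_code hi he
  refine ⟨IsCode.eq (hg.mul code_elA) (by rw [hc]; exact code_elA.mul hg), fun e => ?_, fun e => ?_⟩
  · exact hne (hg.symm.trans (e.symm ▸ code_elA))
  · rcases h1 with h1 | h1
    · subst h1
      refine key_injective ?_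
      rw [← he]
      simp only [h.1.1.1.2]
      rfl
    · exact absurd (hg.symm.trans (e.symm ▸ isCode_one)) h1

theorem card_centralizer_dvd : Nat.card (Subgroup.centralizer ({elA} : Set G)) ∣ 120 := by
  set C := Subgroup.centralizer ({elA} : Set G)
  have hd : Nat.card C ∣ 120 * 7 * 11 * 19 :=
    (show (120 * 7 * 11 * 19 : ℕ) = Nat.card G by rw [card_eq]) ▸ C.card_subgroup_dvd_card
  have hq : ∀ q : ℕ, q.Prime → q ≠ 2 → (∀ x y : G, orderOf x = q → Commute y x → y ^ q = 1) → ¬ q ∣ Nat.card C := by
    intro q hq h2 hloc hdvd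
    have : Fact q.Prime := ⟨hq⟩
    obtain ⟨g, hg⟩ := exists_prime_orderOf_dvd_card' q hdvd
    have := orderOf_dvd_of_pow_eq_one (hloc g.1 elA (by rwa [Subgroup.orderOf_coe])
      (show Commute elA g.1 from (Subgroup.mem_centralizer_singleton_iff.mp g.2).symm))
    rw [orderOf_elA] at this
    exact h2 ((Nat.prime_dvd_prime_iff_eq Nat.prime_two hq).mp this).symm
  have h7 := hq 7 (by norm_num) (by norm_num) seven_local
  have h11 := hq 11 (by norm_num) (by norm_num) eleven_local
  have h19 := hq 19 (by norm_num) (by norm_num) nineteen_local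
  exact Nat.Coprime.dvd_of_dvd_mul_right (((show Nat.Prime 7 by norm_num).coprime_iff_not_dvd.mpr h7).symm)
    (Nat.Coprime.dvd_of_dvd_mul_right (((show Nat.Prime 11 by norm_num).coprime_iff_not_dvd.mpr h11).symm)
      (Nat.Coprime.dvd_of_dvd_mul_right (((show Nat.Prime 19 by norm_num).coprime_iff_not_dvd.mpr h19).symm) hd))

theorem centralizer_iso :
    ∃ t : G, orderOf t = 2 ∧ Nonempty (↥(Subgroup.centralizer ({t} : Set G)) ≃*
      Multiplicative (ZMod 2) × ↥(alternatingGroup (Fin 5))) := by
  classical
  set C := Subgroup.centralizer ({elA} : Set G)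
  let T : Multiplicative (ZMod 2) →* C :=
    { toFun := fun i => ⟨elA ^ i.toAdd.val, Subgroup.mem_centralizer_singleton_iff.mpr ((Commute.refl elA).pow_left _)⟩
      map_one' := by ext; simp
      map_mul' := fun i j => Subtype.ext (by
        show elA ^ (i.toAdd + j.toAdd).val = elA ^ i.toAdd.val * elA ^ j.toAdd.val
        rw [← pow_add, ZMod.val_add]
        conv_rhs => rw [← pow_mod_orderOf, orderOf_elA]) }
  let E : alternatingGroup (Fin 5) →* C := emb.codRestrict C fun g =>
    Subgroup.mem_centralizer_singleton_iff.mpr (emb_spec g).1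
  let F : Multiplicative (ZMod 2) × alternatingGroup (Fin 5) →* C :=
    MonoidHom.noncommCoprod T E fun i g => by
      refine Subtype.ext ?_
      exact ((show Commute (emb g) elA from (emb_spec g).1).pow_right _).symm
  have hF : Function.Injective F := by
    refine (injective_iff_map_eq_one F).mpr fun v hv => ?_
    obtain ⟨i, g⟩ := v
    obtain ⟨i, rfl⟩ := Multiplicative.ofAdd.surjective i
    have h : elA ^ i.val * emb g = 1 := congrArg Subtype.val hv
    have h2 : ∀ x : ZMod 2, x = 0 ∨ x = 1 := by decide
    rcases h2 i with rfl | rfl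
    · rw [ZMod.val_zero, pow_zero, one_mul] at h
      rw [(emb_spec g).2.2 h]; rfl
    · rw [ZMod.val_one, pow_one] at h
      exact absurd ((eq_inv_of_mul_eq_one_right h).trans
        (inv_eq_of_mul_eq_one_right (by rw [← sq, ← orderOf_elA, pow_orderOf_eq_one]))) (emb_spec g).2.1
  have hcard : Nat.card (Multiplicative (ZMod 2) × alternatingGroup (Fin 5)) = 120 := by
    rw [Nat.card_prod, nat_card_alternatingGroup, Nat.card_congr Multiplicative.toAdd, Nat.card_zmod, Nat.card_fin]
    rfl
  have hle := Nat.le_of_dvd (by norm_num) card_centralizer_dvd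
  exact ⟨elA, orderOf_elA, ⟨(MulEquiv.ofBijective F ((Nat.bijective_iff_injective_and_card F).mpr
    ⟨hF, le_antisymm (Nat.card_le_card_of_injective F hF) (hle.trans hcard.ge)⟩)).symm⟩⟩

end CfsgLib.Recog.JankoOne
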