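import Mathlib
import Cfsg.Prelude.Def_KGroupFacts
import Cfsg.Agent.Lib.Recog.JankoOneInvolutions

/-!
# Automorphisms of the first Janko group
-/

set_option autoImplicit false
set_option maxRecDepth 20000

namespace CfsgLib.Recog.JankoOne

theorem x7_loc : hasOrder pX 7 = true := by
  have h := order_check
  simp only [Bool.and_eq_true] at h
  rw [← x7_eq]
  exact h.1.1.1.1.1.1.1.1.1.1.1.1.1.1.1

theorem orderOf_elX : orderOf elX = 7 := orderOf_of_check code_elX (by norm_num) x7_loc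

theorem pow_conj_pow {w : G} {x : G} (r : ℕ) (h : w * x * w⁻¹ = x ^ r) (k : ℕ) :
    w ^ k * x * (w ^ k)⁻¹ = x ^ (r ^ k) := by
  induction k with
  | zero => simp
  | succ k ih =>
    rw [pow_succ' w k, mul_inv_rev, show w * w ^ k * x * ((w ^ k)⁻¹ * w⁻¹) = w * (w ^ k * x * (w ^ k)⁻¹) * w⁻¹ by group,
      ih, ← conj_pow, h, ← pow_mul, pow_succ']

theorem exists_conj_fix (φ : MulAut G) : ∃ g : G, g * φ elX * g⁻¹ = elX := by
  classical
  have : Fact (Nat.Prime 7) := ⟨by norm_num⟩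
  have hfac : (Nat.card G).factorization 7 = 1 := by
    rw [card_eq, show (175560 : ℕ) = 7 ^ 1 * 25080 by norm_num,
      Nat.factorization_mul_apply_of_coprime (by norm_num), Nat.Prime.factorization_pow (by norm_num),
      Nat.factorization_eq_zero_of_not_dvd (by norm_num : ¬ 7 ∣ 25080)]
    simp
  have ho : orderOf (φ elX) = 7 := by rw [MulEquiv.orderOf_eq]; exact orderOf_elX
  let S : Sylow 7 G := Sylow.ofCard (Subgroup.zpowers elX) (by rw [Nat.card_zpowers, orderOf_elX, hfac, pow_one])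
  let Q : Sylow 7 G := Sylow.ofCard (Subgroup.zpowers (φ elX)) (by rw [Nat.card_zpowers, ho, hfac, pow_one])
  obtain ⟨g, hg⟩ := MulAction.exists_smul_eq G S Q
  have hmem : φ elX ∈ ((g • S : Sylow 7 G) : Subgroup G) := by
    rw [hg]; simp [Q]
  rw [Sylow.coe_subgroup_smul, Subgroup.mem_pointwise_smul_iff_inv_smul_mem] at hmem
  have hmem' : g⁻¹ * φ elX * g ∈ Subgroup.zpowers elX := by
    simpa [S, Sylow.coe_ofCard, MulAut.conj_apply] using hmem
  obtain ⟨j, hj⟩ := mem_powers_iff_mem_zpowers.mpr hmem'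
  have hj' : elX ^ j = g⁻¹ * φ elX * g := hj
  have hjne : j % 7 ≠ 0 := fun h => by
    rw [← pow_mod_orderOf, orderOf_elX, h, pow_zero] at hj'
    have h1 : φ elX = 1 := by
      calc φ elX = g * (g⁻¹ * φ elX * g) * g⁻¹ := by group
        _ = 1 := by rw [← hj']; group
    rw [h1, orderOf_one] at ho
    norm_num at ho
  obtain ⟨w, hw⟩ := exists_named (l := w7) (by simp [named])
  have hn := normal_check
  simp only [Bool.and_eq_true] at hn
  have hn7 := hn.1.1.1
  simp only [normalises, Bool.and_eq_true, beq_iff_eq] at hn7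
  rw [x7_eq] at hn7
  have hwx : w * elX * w⁻¹ = elX ^ 3 := by
    rw [mul_inv_eq_iff_eq_mul]
    exact IsCode.eq (hw.mul code_elX) (by rw [hn7.1]; exact (code_elX.pow 3).mul hw)
  have hk : ∀ j : Fin 7, j.1 ≠ 0 → ∃ k : Fin 6, 3 ^ k.1 * j.1 % 7 = 1 := by decide
  obtain ⟨k, hk⟩ := hk ⟨j % 7, Nat.mod_lt _ (by norm_num)⟩ hjne
  refine ⟨w ^ k.1 * g⁻¹, ?_⟩
  calc w ^ k.1 * g⁻¹ * φ elX * (w ^ k.1 * g⁻¹)⁻¹ = w ^ k.1 * (g⁻¹ * φ elX * g) * (w ^ k.1)⁻¹ := by group
    _ = (w ^ k.1 * elX * (w ^ k.1)⁻¹) ^ j := by rw [← hj', conj_pow]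
    _ = elX := by
      rw [pow_conj_pow 3 hwx, ← pow_mul, ← pow_mod_orderOf, orderOf_elX, Nat.mul_mod]
      simp only at hk
      rw [Nat.mul_mod, Nat.mod_mod] at hk
      rw [hk, pow_one]

theorem aut_inner (φ : MulAut G) : φ ∈ Cfsg.Inn G := by
  obtain ⟨g, hg⟩ := exists_conj_fix φ
  let ψ : MulAut G := φ.trans (MulAut.conj g)
  have hψX : ψ elX = elX := hg
  have hb := (special_iff code_elB).mp special_bI.1
  obtain ⟨i, hi⟩ := mem_orbit_of_special (y := ψ elB) (by rw [MulEquiv.orderOf_eq]; exact orderOf_elB)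
    (by have := congrArg ψ hb.1; simpa only [map_pow, map_mul, map_one, hψX] using this)
    (by have := congrArg ψ hb.2; simpa only [map_pow, map_mul, map_one, hψX] using this)
  have heq : ψ.toMonoidHom = (MulAut.conj (elX ^ i)).toMonoidHom := by
    refine MonoidHom.eq_of_eqOn_dense closure_XB ?_
    rintro x (rfl | rfl)
    · show ψ elX = elX ^ i * elX * (elX ^ i)⁻¹
      rw [hψX, (Commute.pow_self elX i).eq, mul_inv_cancel_right]
    · exact hi
  refine ⟨g⁻¹ * elX ^ i, ?_⟩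
  refine MulEquiv.ext fun x => ?_
  have h := DFunLike.congr_fun heq x
  have h' : g * φ x * g⁻¹ = elX ^ i * x * (elX ^ i)⁻¹ := h
  show g⁻¹ * elX ^ i * x * (g⁻¹ * elX ^ i)⁻¹ = φ x
  calc g⁻¹ * elX ^ i * x * (g⁻¹ * elX ^ i)⁻¹ = g⁻¹ * (elX ^ i * x * (elX ^ i)⁻¹) * g := by group
    _ = φ x := by rw [← h']; group

theorem card_out : Nat.card (Cfsg.Out G) = 1 := by
  have : Subsingleton (Cfsg.Out G) := ⟨fun a b => by
    obtain ⟨φ, rfl⟩ := QuotientGroup.mk_surjective a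
    obtain ⟨χ, rfl⟩ := QuotientGroup.mk_surjective b
    exact (QuotientGroup.eq).mpr (aut_inner _)⟩
  exact Nat.card_of_subsingleton (QuotientGroup.mk 1)

end CfsgLib.Recog.JankoOne
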