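import Mathlib
import Cfsg.Agent.S0016
import Cfsg.Agent.S0519
import Cfsg.Agent.Lib.PGroups.Basic
import Cfsg.Agent.Lib.PGroups.Omega

/-!
Irreducible faithful linear `p`-groups that are neither cyclic, quaternion, dihedral nor semidihedral are
imprimitive, induced from a subgroup of index `p`.
-/

set_option autoImplicit false
set_option linter.all false

namespace CfsgLib.Recog.PGroupImprimitive

open Subgroup
open scoped commutatorElement

variable {q : ℕ} [Fact q.Prime] {V : Type*} [AddCommGroup V] [Module (ZMod q) V] [Finite V]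
  {G : Type*} [Group G] [Finite G] {p : ℕ} [Fact p.Prime]

theorem mul_act (ρ : G →* (V ≃ₗ[ZMod q] V)) (a b : G) (x : V) : ρ (a * b) x = ρ a (ρ b x) := by rw [map_mul]; rfl

theorem one_act (ρ : G →* (V ≃ₗ[ZMod q] V)) (x : V) : ρ 1 x = x := by rw [map_one]; rfl

/-- The fixed space of an element. -/
def fixed (ρ : G →* (V ≃ₗ[ZMod q] V)) (g : G) : Submodule (ZMod q) V :=
  LinearMap.eqLocus (ρ g : V →ₗ[ZMod q] V) LinearMap.id

theorem mem_fixed {ρ : G →* (V ≃ₗ[ZMod q] V)} {g : G} {x : V} : x ∈ fixed ρ g ↔ ρ g x = x := Iff.rfl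

theorem fixed_pow {ρ : G →* (V ≃ₗ[ZMod q] V)} {g : G} {x : V} (h : x ∈ fixed ρ g) : ∀ n : ℕ, ρ (g ^ n) x = x := by
  intro n
  induction n with
  | zero => rw [pow_zero, one_act]
  | succ n ih => rw [pow_succ, mul_act, mem_fixed.1 h, ih]

theorem char_ne [Nontrivial V] (hG : IsPGroup p G) (ρ : G →* (V ≃ₗ[ZMod q] V)) (hρ : Function.Injective ρ)
    (hirr : ∀ W : Submodule (ZMod q) V, (∀ g : G, ∀ w ∈ W, ρ g w ∈ W) → W = ⊥ ∨ W = ⊤) [Nontrivial G] : q ≠ p := by
  rintro rfl
  letI : MulAction G V := MulAction.compHom V ρ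
  have hqV : q ∣ Nat.card V := by
    haveI : Module.Finite (ZMod q) V := Module.Finite.of_finite
    rw [Module.natCard_eq_pow_finrank (K := ZMod q), Nat.card_zmod]
    exact dvd_pow_self q Module.finrank_pos.ne'
  obtain ⟨v, hv, hv0⟩ := hG.exists_fixed_point_of_prime_dvd_card_of_fixed_point V hqV (a := 0)
    (fun g => (ρ g).map_zero)
  let W : Submodule (ZMod q) V := ⨅ g : G, fixed ρ g
  rcases hirr W (fun g w hw => by
    simp only [W, Submodule.mem_iInf, mem_fixed] at hw ⊢
    intro g'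
    rw [hw g]; exact hw g') with h | h
  · refine hv0 ?_
    have : v ∈ W := by simp only [W, Submodule.mem_iInf, mem_fixed]; exact fun g => hv g
    rw [h, Submodule.mem_bot] at this
    exact this.symm
  · obtain ⟨g, hg⟩ := exists_ne (1 : G)
    refine hg (hρ (LinearEquiv.ext fun x => ?_))
    rw [one_act]
    have : x ∈ W := h ▸ Submodule.mem_top
    simp only [W, Submodule.mem_iInf, mem_fixed] at this
    exact this g

theorem eq_of_cyclic {B H K : Subgroup G} [IsCyclic B] (hH : H ≤ B) (hK : K ≤ B) (cH : Nat.card H = p)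
    (cK : Nat.card K = p) : H = K := by
  classical
  haveI := Fintype.ofFinite B
  have hp := (Fact.out : p.Prime)
  set S : Set B := {r | r ^ p = 1}
  have hS : S.ncard ≤ p := by
    rw [show S = ((Finset.univ.filter fun r : B => r ^ p = 1 : Finset B) : Set B) by ext; simp [S], Set.ncard_coe_finset]
    exact IsCyclic.card_pow_eq_one_le hp.pos
  have key : ∀ L : Subgroup G, L ≤ B → Nat.card L = p → (L.subgroupOf B : Set B) = S := by
    intro L hL cL
    refine Set.eq_of_subset_of_ncard_le (fun r hr => ?_) ?_ (Set.toFinite _)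
    · have h := pow_card_eq_one' (x := (⟨r.1, hr⟩ : L))
      rw [cL] at h
      exact Subtype.ext (congrArg Subtype.val h : (r : G) ^ p = 1)
    · rw [← Nat.card_coe_set_eq (L.subgroupOf B : Set B)]
      exact hS.trans (le_of_eq ((Nat.card_congr (subgroupOfEquivOfLe hL).toEquiv).trans cL).symm)
  have h := SetLike.coe_injective ((key H hH cH).trans (key K hK cK).symm)
  rw [← map_subgroupOf_eq_of_le hH, ← map_subgroupOf_eq_of_le hK, h]

theorem exists_noncyclic_normal (hG : IsPGroup p G) (hnc : ¬ IsCyclic G)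
    (hnq : ∀ n : ℕ, ¬ Nonempty (G ≃* QuaternionGroup n)) (hnd : ∀ n : ℕ, ¬ Nonempty (G ≃* DihedralGroup n))
    (hnsd : ¬ Cfsg.IsQuasiDihedral G) : ∃ A : Subgroup G, A.Normal ∧ IsMulCommutative A ∧ ¬ IsCyclic A := by
  by_contra hno
  push Not at hno
  by_cases hm : ∃ B : Subgroup G, IsMulCommutative B ∧ ¬ IsCyclic B
  · obtain ⟨-, ⟨n, h⟩ | ⟨n, -, h⟩ | h⟩ := Cfsg.Agent.S0519.result p hG hno hm
    exacts [hnq n h, hnd n h, hnsd h]
  push Not at hm
  have huniq : ∀ H K : Subgroup G, Nat.card H = p → Nat.card K = p → H = K := by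
    have hne : (⊤ : Subgroup G) ≠ ⊥ := fun e => hnc (by
      haveI : Subsingleton G := ⟨fun a b => by
        have ha : a ∈ (⊤ : Subgroup G) := mem_top a
        have hb : b ∈ (⊤ : Subgroup G) := mem_top b
        rw [e, Subgroup.mem_bot] at ha hb
        rw [ha, hb]⟩
      infer_instance)
    have hz := CfsgLib.PGroups.inf_center_ne_bot hG hne
    rw [top_inf_eq] at hz
    obtain ⟨Z, hZ⟩ : ∃ Z : Subgroup G, Nat.card Z = p ∧ Z ≤ center G := by
      obtain ⟨j, hj⟩ := IsPGroup.iff_card.1 (hG.to_subgroup (center G))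
      have hj1 : 1 ≤ j := by
        by_contra h
        rw [show j = 0 by omega, pow_zero] at hj
        exact hz (Subgroup.card_eq_one.1 hj)
      obtain ⟨Z, hZ⟩ := Sylow.exists_subgroup_card_pow_prime p (G := center G) (n := 1)
        (by rw [hj]; exact pow_dvd_pow p hj1)
      exact ⟨Z.map (center G).subtype, by
        rw [Subgroup.card_map_of_injective (center G).subtype_injective, hZ, pow_one], map_subtype_le Z⟩
    suffices h : ∀ H : Subgroup G, Nat.card H = p → H = Z from fun H K hH hK => (h H hH).trans (h K hK).symm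
    intro H hH
    haveI : IsCyclic H := isCyclic_of_prime_card hH
    haveI : IsCyclic Z := isCyclic_of_prime_card hZ.1
    have hcomm : IsMulCommutative (H ⊔ Z : Subgroup G) := by
      rw [← Subgroup.closure_eq H, ← Subgroup.closure_eq Z, ← Subgroup.closure_union]
      refine Subgroup.isMulCommutative_closure fun a ha b hb => ?_
      rcases ha with ha | ha <;> rcases hb with hb | hb
      · exact Subtype.ext_iff.1 ((IsCyclic.commGroup (α := H)).mul_comm ⟨a, ha⟩ ⟨b, hb⟩)
      · exact mem_center_iff.1 (hZ.2 hb) a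
      · exact (mem_center_iff.1 (hZ.2 ha) b).symm
      · exact Subtype.ext_iff.1 ((IsCyclic.commGroup (α := Z)).mul_comm ⟨a, ha⟩ ⟨b, hb⟩)
    haveI := hm _ hcomm
    exact eq_of_cyclic le_sup_left le_sup_right hH hZ.1
  rcases Cfsg.Agent.S0016.result p hG huniq with h | ⟨-, n, h⟩
  · exact hnc h
  · exact hnq _ h

theorem exists_pair (hG : IsPGroup p G) {A : Subgroup G} (hAn : A.Normal) (hA : IsMulCommutative A)
    (hnc : ¬ IsCyclic A) :
    ∃ z e : G, z ∈ center G ∧ orderOf z = p ∧ e ^ p = 1 ∧ e ∉ zpowers z ∧ e * z = z * e ∧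
      ∀ g : G, ⁅g, e⁆ ∈ zpowers z := by
  classical
  haveI := hAn
  haveI := hA
  have hp := (Fact.out : p.Prime)
  have hcomm : ∀ a ∈ A, ∀ b ∈ A, a * b = b * a := fun a ha b hb =>
    Subtype.ext_iff.1 (IsMulCommutative.is_comm.comm (⟨a, ha⟩ : A) ⟨b, hb⟩)
  let W : Subgroup G :=
    { carrier := {x | x ∈ A ∧ x ^ p = 1}
      one_mem' := ⟨one_mem _, one_pow _⟩
      mul_mem' := fun {a b} ha hb => ⟨mul_mem ha.1 hb.1, by
        rw [(show Commute a b from hcomm a ha.1 b hb.1).mul_pow, ha.2, hb.2, one_mul]⟩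
      inv_mem' := fun {a} ha => ⟨inv_mem ha.1, by rw [inv_pow, ha.2, inv_one]⟩ }
  haveI hWn : W.Normal := ⟨fun x hx g => ⟨hAn.conj_mem x hx.1 g, by rw [conj_pow, hx.2]; group⟩⟩
  have hWbig : p < Nat.card W := by
    by_contra h
    push Not at h
    refine hnc ?_
    have huniq : ∀ H K : Subgroup A, Nat.card H = p → Nat.card K = p → H = K := by
      have key : ∀ L : Subgroup A, Nat.card L = p → L.map A.subtype = W := by
        intro L hL
        refine eq_of_le_of_card_ge ?_ (by rw [Subgroup.card_map_of_injective A.subtype_injective, hL]; exact h)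
        rintro _ ⟨x, hx, rfl⟩
        refine ⟨x.2, ?_⟩
        have h1 := pow_card_eq_one' (x := (⟨x, hx⟩ : L))
        rw [hL] at h1
        exact congrArg (fun y : L => ((y : A) : G)) h1
      intro H K hH hK
      exact map_injective A.subtype_injective ((key H hH).trans (key K hK).symm)
    rcases Cfsg.Agent.S0016.result p (hG.to_subgroup A) huniq with hc | ⟨-, n, ⟨φ⟩⟩
    · exact hc
    · have hc : ∀ x y : QuaternionGroup (2 ^ n), x * y = y * x := fun x y => by
        obtain ⟨x, rfl⟩ := φ.surjective x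
        obtain ⟨y, rfl⟩ := φ.surjective y
        rw [← map_mul, ← map_mul, hA.is_comm.comm]
      have h2 := hc (QuaternionGroup.a 1) (QuaternionGroup.xa 0)
      simp only [QuaternionGroup.a_mul_xa, QuaternionGroup.xa_mul_a, QuaternionGroup.xa.injEq, zero_sub, zero_add] at h2
      have h3 : ((2 : ℕ) : ZMod (2 * 2 ^ n)) = 0 := by
        rw [Nat.cast_two]; linear_combination -h2
      have h4 := Nat.le_of_dvd two_pos ((ZMod.natCast_eq_zero_iff _ _).1 h3)
      have hn : n = 0 := by
        by_contra hn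
        have := Nat.pow_le_pow_right two_pos (show 1 ≤ n by omega)
        omega
      subst hn
      haveI : IsCyclic (QuaternionGroup (2 ^ 0)) := QuaternionGroup.quaternionGroup_one_isCyclic
      exact isCyclic_of_surjective φ.symm φ.symm.surjective
  obtain ⟨z, hzW, hzc, hz1⟩ : ∃ z, z ∈ W ∧ z ∈ center G ∧ z ≠ 1 := by
    have hne : W ≠ ⊥ := fun e => by
      rw [e, Subgroup.card_bot] at hWbig
      exact absurd hWbig (by have := hp.two_le; omega)
    obtain ⟨⟨z, hz⟩, hz1⟩ := Subgroup.ne_bot_iff_exists_ne_one.1 (CfsgLib.PGroups.inf_center_ne_bot hG hne)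
    exact ⟨z, (Subgroup.mem_inf.1 hz).1, (Subgroup.mem_inf.1 hz).2, fun e => hz1 (Subtype.ext e)⟩
  have hzo : orderOf z = p := orderOf_eq_prime hzW.2 hz1
  haveI hZn : (zpowers z).Normal := ⟨fun x hx g => by
    obtain ⟨k, rfl⟩ := mem_zpowers_iff.1 hx
    rw [mem_center_iff.1 (zpow_mem hzc k) g, mul_inv_cancel_right]
    exact zpow_mem (mem_zpowers z) k⟩
  set π := QuotientGroup.mk' (zpowers z)
  haveI : (W.map π).Normal := hWn.map π (QuotientGroup.mk'_surjective _)
  have hne : W.map π ≠ ⊥ := by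
    intro h
    rw [Subgroup.map_eq_bot_iff, QuotientGroup.ker_mk'] at h
    have := Subgroup.card_le_of_le h
    rw [Nat.card_zpowers, hzo] at this
    omega
  obtain ⟨⟨x, hx⟩, hx1⟩ := Subgroup.ne_bot_iff_exists_ne_one.1
    (CfsgLib.PGroups.inf_center_ne_bot (hG.to_quotient _) hne)
  obtain ⟨⟨e, heW, hex⟩, hxc⟩ := Subgroup.mem_inf.1 hx
  refine ⟨z, e, hzc, hzo, heW.2, fun he => ?_, mem_center_iff.1 hzc e, fun g => ?_⟩
  · refine hx1 (Subtype.ext ?_)
    show x = 1
    rw [← hex]
    exact (QuotientGroup.eq_one_iff e).2 he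
  · rw [← QuotientGroup.eq_one_iff]
    show π ⁅g, e⁆ = 1
    rw [map_commutatorElement, commutatorElement_eq_one_iff_mul_comm, hex]
    exact mem_center_iff.1 hxc _

theorem main [Nontrivial V] (hG : IsPGroup p G) (ρ : G →* (V ≃ₗ[ZMod q] V)) (hρ : Function.Injective ρ)
    (hirr : ∀ W : Submodule (ZMod q) V, (∀ g : G, ∀ w ∈ W, ρ g w ∈ W) → W = ⊥ ∨ W = ⊤)
    (hnc : ¬ IsCyclic G) (hnq : ∀ n : ℕ, ¬ Nonempty (G ≃* QuaternionGroup n))
    (hnd : ∀ n : ℕ, ¬ Nonempty (G ≃* DihedralGroup n)) (hnsd : ¬ Cfsg.IsQuasiDihedral G) :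
    ∃ (H : Subgroup G) (W : Fin p → Submodule (ZMod q) V), H.index = p ∧
      iSup W = ⊤ ∧ iSupIndep W ∧
      (∀ h ∈ H, ∀ i, ∀ w ∈ W i, ρ h w ∈ W i) ∧
      (∀ i, ∃ h ∈ H, h ≠ 1 ∧ ∀ w ∈ W i, ρ h w = w) ∧
      ∀ g : G, g ∉ H → ∃ σ : Equiv.Perm (Fin p), orderOf σ = p ∧ ∀ i, (W i).map (ρ g : V →ₗ[ZMod q] V) = W (σ i) := by
  classical
  have hp := (Fact.out : p.Prime)
  haveI : NeZero p := ⟨hp.ne_zero⟩
  haveI : Nontrivial G := not_subsingleton_iff_nontrivial.1 fun h => hnc inferInstance
  have hqp := char_ne hG ρ hρ hirr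
  obtain ⟨A, hAn, hA, hAc⟩ := exists_noncyclic_normal hG hnc hnq hnd hnsd
  obtain ⟨z, e, hzc, hzo, hep, hez, hcomm, hconj⟩ := exists_pair hG hAn hA hAc
  have hzp : z ^ p = 1 := hzo ▸ pow_orderOf_eq_one z
  have hz1 : z ≠ 1 := fun h => by rw [h, orderOf_one] at hzo; exact hp.ne_one hzo.symm
  have hpz : ∀ x : V, p • x = 0 → x = 0 := by
    intro x hx
    have h : (p : ZMod q) • x = 0 := by rw [Nat.cast_smul_eq_nsmul]; exact hx
    refine (smul_eq_zero.1 h).resolve_left fun h0 => hqp ?_
    exact (Nat.prime_dvd_prime_iff_eq (Fact.out : q.Prime) hp).1 ((ZMod.natCast_eq_zero_iff _ _).1 h0)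
  -- no nonzero vector is fixed by `z`
  have hzfix : ∀ x, ρ z x = x → x = 0 := by
    intro x hx
    rcases hirr (fixed ρ z) (fun g w hw => by
      rw [mem_fixed, ← mul_act, ← mem_center_iff.1 hzc g, mul_act, mem_fixed.1 hw]) with h | h
    · have : x ∈ fixed ρ z := hx
      rwa [h, Submodule.mem_bot] at this
    · exact absurd (hρ (LinearEquiv.ext fun y => by
        rw [one_act]; exact mem_fixed.1 (h ▸ Submodule.mem_top : y ∈ fixed ρ z))) hz1
  have hS : ∀ d : ℕ, ¬ p ∣ d → ∀ x, ∑ i ∈ Finset.range p, ρ (z ^ (d * i)) x = 0 := by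
    intro d hd x
    set y := ∑ i ∈ Finset.range p, ρ (z ^ (d * i)) x with hy
    have hfix : ρ (z ^ d) y = y := by
      have h1 := Finset.sum_range_succ (fun i => ρ (z ^ (d * i)) x) p
      have h2 := Finset.sum_range_succ' (fun i => ρ (z ^ (d * i)) x) p
      have h3 : ρ (z ^ (d * p)) x = ρ (z ^ (d * 0)) x := by rw [mul_comm, pow_mul, hzp, one_pow, mul_zero, pow_zero]
      rw [h3] at h1
      have h4 := add_right_cancel (h1.symm.trans h2)
      rw [hy, map_sum]
      conv_rhs => rw [h4]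
      refine Finset.sum_congr rfl fun i _ => ?_
      rw [← mul_act, ← pow_add, show d + d * i = d * (i + 1) by ring]
    refine hzfix y ?_
    obtain ⟨k, hk⟩ : ∃ k : ℕ, (z ^ d) ^ k = z := by
      refine ⟨((d : ZMod p)⁻¹).val, ?_⟩
      have hd0 : (d : ZMod p) ≠ 0 := fun h => hd ((ZMod.natCast_eq_zero_iff _ _).1 h)
      have h1 : ((d * ((d : ZMod p)⁻¹).val : ℕ) : ZMod p) = ((1 : ℕ) : ZMod p) := by
        rw [Nat.cast_mul, ZMod.natCast_zmod_val, Nat.cast_one, mul_inv_cancel₀ hd0]
      rw [ZMod.natCast_eq_natCast_iff', Nat.mod_eq_of_lt hp.one_lt] at h1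
      rw [← pow_mul, ← pow_mod_orderOf, hzo, h1, pow_one]
    rw [← hk]
    exact fixed_pow (mem_fixed.2 hfix) k
  let u : ℕ → G := fun i => e * z ^ i
  have hupow : ∀ i j : ℕ, u i ^ j = e ^ j * z ^ (i * j) := fun i j => by
    rw [show u i ^ j = (e * z ^ i) ^ j from rfl, ((show Commute e z from hcomm).pow_right i).mul_pow, ← pow_mul]
  let T : ℕ → V → V := fun i x => ∑ j ∈ Finset.range p, ρ (u i ^ j) x
  have hTfix : ∀ i x, ρ (u i) (T i x) = T i x := by
    intro i x
    have h1 := Finset.sum_range_succ (fun j => ρ (u i ^ j) x) p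
    have h2 := Finset.sum_range_succ' (fun j => ρ (u i ^ j) x) p
    have h3 : ρ (u i ^ p) x = ρ (u i ^ 0) x := by
      rw [hupow, hep, one_mul, mul_comm, pow_mul, hzp, one_pow, pow_zero]
    rw [h3] at h1
    have h4 := add_right_cancel (h1.symm.trans h2)
    show ρ (u i) (∑ j ∈ Finset.range p, ρ (u i ^ j) x) = ∑ j ∈ Finset.range p, ρ (u i ^ j) x
    rw [map_sum]
    conv_rhs => rw [h4]
    exact Finset.sum_congr rfl fun j _ => by rw [← mul_act, ← pow_succ']
  have hTsum : ∀ x, ∑ i ∈ Finset.range p, T i x = p • x := by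
    intro x
    show ∑ i ∈ Finset.range p, ∑ j ∈ Finset.range p, ρ (u i ^ j) x = p • x
    rw [Finset.sum_comm, Finset.sum_eq_single 0]
    · simp [one_act]
    · intro j hj hj0
      rw [Finset.mem_range] at hj
      calc ∑ i ∈ Finset.range p, ρ (u i ^ j) x = ∑ i ∈ Finset.range p, ρ (e ^ j) (ρ (z ^ (j * i)) x) :=
            Finset.sum_congr rfl fun i _ => by rw [hupow, mul_act, mul_comm i j]
        _ = 0 := by
          rw [← map_sum, hS j (fun h => absurd (Nat.le_of_dvd (Nat.pos_of_ne_zero hj0) h) (by omega)) x, map_zero]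
    · intro h; exact absurd (Finset.mem_range.2 hp.pos) h
  -- `e` is not central
  have henc : e ∉ center G := by
    intro hec
    obtain ⟨x, hx⟩ := exists_ne (0 : V)
    refine hx (hpz x ?_)
    rw [← hTsum x]
    refine Finset.sum_eq_zero fun i _ => ?_
    have hmem : T i x ∈ fixed ρ (u i) := hTfix i x
    rcases hirr (fixed ρ (u i)) (fun g w hw => by
      rw [mem_fixed, ← mul_act, ← mem_center_iff.1 (mul_mem hec (pow_mem hzc i)) g, mul_act, mem_fixed.1 hw]) with h | h
    · rwa [h, Submodule.mem_bot] at hmem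
    · exfalso
      have h1 : u i = 1 := hρ (LinearEquiv.ext fun y => by
        rw [one_act]; exact mem_fixed.1 (h ▸ Submodule.mem_top : y ∈ fixed ρ (u i)))
      refine hez ?_
      rw [show e = (z ^ i)⁻¹ from eq_inv_of_mul_eq_one_left h1]
      exact inv_mem (pow_mem (mem_zpowers z) i)
  -- the exponent
  have hzinj : ∀ a b : ℕ, z ^ a = z ^ b → (a : ZMod p) = b := fun a b h => by
    rw [ZMod.natCast_eq_natCast_iff']
    have := pow_eq_pow_iff_modEq.1 h
    rwa [hzo] at this
  have hex : ∀ g : G, ∃ c : ℕ, g * e * g⁻¹ = e * z ^ c := by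
    intro g
    obtain ⟨m, hm⟩ : ∃ m : ℕ, z ^ m = ⁅g, e⁆ := by
      have := (IsOfFinOrder.mem_powers_iff_mem_zpowers (isOfFinOrder_of_finite z)).2 (hconj g)
      exact this
    refine ⟨m, ?_⟩
    rw [← mem_center_iff.1 (pow_mem hzc m) e |>.symm, hm, commutatorElement_def]
    group
  choose c hc using hex
  let f : G →* Multiplicative (ZMod p) := MonoidHom.mk' (fun g => Multiplicative.ofAdd (c g : ZMod p)) fun a b => by
    rw [← ofAdd_add, ← Nat.cast_add]
    refine congrArg _ (hzinj _ _ ?_)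
    have h1 : a * b * e * (a * b)⁻¹ = e * z ^ (c a + c b) := by
      calc a * b * e * (a * b)⁻¹ = a * (b * e * b⁻¹) * a⁻¹ := by group
        _ = a * e * a⁻¹ * (a * z ^ c b * a⁻¹) := by rw [hc b]; group
        _ = e * z ^ (c a + c b) := by
          rw [hc a, mem_center_iff.1 (pow_mem hzc (c b)) a, mul_inv_cancel_right, pow_add, mul_assoc]
    exact mul_left_cancel ((hc (a * b)).symm.trans h1)
  set H := f.ker
  have hH : ∀ g, g ∈ H ↔ (c g : ZMod p) = 0 := fun g => by
    show f g = 1 ↔ _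
    exact Iff.rfl
  have hidx : H.index = p := by
    rw [Subgroup.index_ker]
    have hcard : Nat.card (Multiplicative (ZMod p)) = p := by
      rw [Nat.card_congr Multiplicative.toAdd, Nat.card_zmod]
    rcases (Nat.dvd_prime hp).1 (hcard ▸ Subgroup.card_subgroup_dvd_card f.range) with h | h
    · exfalso
      refine henc (mem_center_iff.2 fun g => ?_)
      have hg : f g = 1 := by
        have : f g ∈ f.range := ⟨g, rfl⟩
        rwa [Subgroup.card_eq_one.1 h, Subgroup.mem_bot] at this
      have h0 : z ^ c g = 1 := by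
        have : p ∣ c g := (ZMod.natCast_eq_zero_iff _ _).1 ((hH g).1 hg)
        obtain ⟨k, hk⟩ := this
        rw [hk, pow_mul, hzp, one_pow]
      have := hc g
      rw [h0, mul_one] at this
      exact mul_inv_eq_iff_eq_mul.1 this
    · exact h
  let d : G → Fin p := fun g => ⟨c g % p, Nat.mod_lt _ hp.pos⟩
  let W : Fin p → Submodule (ZMod q) V := fun i => fixed ρ (u i.val)
  have hmove : ∀ g : G, ∀ i : Fin p, ∀ w ∈ W i, ρ g w ∈ W (i + (d g)) := by
    intro g i w hw
    show ρ (u _) (ρ g w) = ρ g w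
    have key : u (i + (d g)).val * g = g * u i.val := by
      have h1 : z ^ (i + (d g)).val = z ^ (i.val + c g) := by
        rw [pow_eq_pow_iff_modEq, hzo, Fin.val_add, Nat.ModEq, Nat.mod_mod]
        exact Nat.add_mod_mod _ _ _
      show e * z ^ (i + (d g)).val * g = g * (e * z ^ i.val)
      rw [h1, mul_assoc, ← mem_center_iff.1 (pow_mem hzc (i.val + c g)) g, add_comm, pow_add,
        show g * (e * z ^ i.val) = g * e * g⁻¹ * g * z ^ i.val by group, hc g,
        show e * z ^ c g * g = e * (z ^ c g * g) by group, ← mem_center_iff.1 (pow_mem hzc (c g)) g]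
      group
    rw [← mul_act, key, mul_act, mem_fixed.1 hw]
  have hTmem : ∀ (i : Fin p) x, T i.val x ∈ W i := fun i x => hTfix i.val x
  refine ⟨H, W, hidx, ?_, ?_, fun h hh i w hw => ?_, fun i => ⟨u i.val, ?_, ?_, fun w hw => hw⟩, fun g hg => ?_⟩
  · rw [eq_top_iff]
    intro x _
    have hps : p • x ∈ iSup W := by
      rw [← hTsum x, ← Fin.sum_univ_eq_sum_range (fun i => T i x)]
      exact Submodule.sum_mem _ fun i _ => le_iSup W i (hTmem i x)
    rw [← Nat.cast_smul_eq_nsmul (ZMod q)] at hps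
    have hne : (p : ZMod q) ≠ 0 := fun h0 => hqp
      ((Nat.prime_dvd_prime_iff_eq (Fact.out : q.Prime) hp).1 ((ZMod.natCast_eq_zero_iff _ _).1 h0))
    exact (Submodule.smul_mem_iff _ hne).1 hps
  · intro i
    rw [Submodule.disjoint_def]
    intro x hx hx'
    refine hpz x ?_
    have hTi : T i.val x = p • x := by
      show ∑ j ∈ Finset.range p, ρ (u i.val ^ j) x = p • x
      rw [Finset.sum_congr rfl fun j _ => fixed_pow hx j]; simp
    have hker : ∀ y ∈ ⨆ (j : Fin p) (_ : j ≠ i), W j, T i.val y = 0 := by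
      let L : V →ₗ[ZMod q] V := ∑ j ∈ Finset.range p, (ρ (u i.val ^ j) : V →ₗ[ZMod q] V)
      have hL : ∀ y, L y = T i.val y := fun y => by simp [L, T]
      suffices h : (⨆ (j : Fin p) (_ : j ≠ i), W j) ≤ LinearMap.ker L from fun y hy => (hL y).symm.trans (h hy)
      refine iSup₂_le fun k hki w hw => ?_
      rw [LinearMap.mem_ker, hL]
      show ∑ j ∈ Finset.range p, ρ (u i.val ^ j) w = 0
      have hd : ¬ p ∣ i.val + (p - k.val) := by
        rintro ⟨m, hm⟩
        have hm2 : m < 2 := by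
          by_contra h
          have := Nat.mul_le_mul_left p (show 2 ≤ m by omega)
          have := i.isLt; have := k.isLt; have := Fin.val_ne_of_ne hki
          omega
        interval_cases m <;> (have := i.isLt; have := k.isLt; have := Fin.val_ne_of_ne hki; omega)
      calc ∑ j ∈ Finset.range p, ρ (u i.val ^ j) w
          = ∑ j ∈ Finset.range p, ρ (z ^ ((i.val + (p - k.val)) * j)) w := Finset.sum_congr rfl fun j _ => by
            have he : u i.val ^ j = z ^ ((i.val + (p - k.val)) * j) * u k.val ^ j := by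
              rw [hupow, hupow, ← mul_assoc,
                mem_center_iff.1 (pow_mem hzc _) (e ^ j) |>.symm, mul_assoc (e ^ j), ← pow_add,
                show (i.val + (p - k.val)) * j + k.val * j = i.val * j + p * j by
                  rw [← add_mul, ← add_mul]; congr 1; have := k.isLt; omega,
                pow_add z (i.val * j), pow_mul z p, hzp, one_pow, mul_one]
            rw [he, mul_act, fixed_pow hw]
        _ = 0 := hS _ hd w
    rw [← hTi]
    exact hker x hx'
  · have h0 : (d h) = 0 := by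
      apply Fin.ext
      exact Nat.mod_eq_zero_of_dvd ((ZMod.natCast_eq_zero_iff _ _).1 ((hH h).1 hh))
    have := hmove h i w hw
    rwa [h0, add_zero] at this
  · rw [hH]
    have h1 : z ^ c (u i.val) = z ^ 0 := by
      refine mul_left_cancel (a := e) ?_
      rw [← hc, pow_zero, mul_one]
      have hcu : Commute (u i.val) e := (Commute.refl e).mul_left ((show Commute e z from hcomm).pow_right _).symm
      rw [hcu.eq, mul_inv_cancel_right]
    simpa using hzinj _ _ h1
  · intro h
    refine hez ?_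
    rw [show e = (z ^ i.val)⁻¹ from eq_inv_of_mul_eq_one_left h]
    exact inv_mem (pow_mem (mem_zpowers z) _)
  · have hc0 : (d g) ≠ 0 := by
      intro h
      refine hg ((hH g).2 ?_)
      have := congrArg Fin.val h
      rw [Fin.val_zero] at this
      exact (ZMod.natCast_eq_zero_iff _ _).2 (Nat.dvd_of_mod_eq_zero this)
    refine ⟨Equiv.addRight (d g), orderOf_eq_prime ?_ ?_, fun i => ?_⟩
    · have hk : ∀ (k : ℕ) (x : Fin p), (Equiv.addRight (d g) ^ k) x = x + k • (d g) := by
        intro k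
        induction k with
        | zero => intro x; simp
        | succ k ih => intro x; rw [pow_succ', Equiv.Perm.mul_apply, ih, Equiv.coe_addRight, succ_nsmul]; exact add_assoc _ _ _
      refine Equiv.ext fun x => ?_
      rw [hk, Equiv.Perm.one_apply]
      have : p • (d g) = 0 := by
        simpa using card_nsmul_eq_zero (G := Fin p) (x := (d g))
      rw [this, add_zero]
    · intro h
      have := Equiv.congr_fun h 0
      simp at this
      exact hc0 this
    · refine le_antisymm (Submodule.map_le_iff_le_comap.2 fun w hw => hmove g i w hw) fun w hw => ?_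
      have hg' : (d g⁻¹) = -(d g) := by
        rw [eq_neg_iff_add_eq_zero]
        apply Fin.ext
        rw [Fin.val_add, Fin.val_zero]
        show (c g⁻¹ % p + c g % p) % p = 0
        rw [← Nat.add_mod]
        refine Nat.mod_eq_zero_of_dvd ((ZMod.natCast_eq_zero_iff _ _).1 ?_)
        have h1 : f (g⁻¹ * g) = 1 := by rw [inv_mul_cancel, map_one]
        rw [map_mul] at h1
        rw [Nat.cast_add]
        exact h1
      refine ⟨ρ g⁻¹ w, ?_, ?_⟩
      · have := hmove g⁻¹ (i + (d g)) w hw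
        rwa [hg', add_neg_cancel_right] at this
      · show ρ g (ρ g⁻¹ w) = w
        rw [← mul_act, mul_inv_cancel, one_act]

end CfsgLib.Recog.PGroupImprimitive
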