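import Mathlib
import Cfsg.Prelude.Def_Sz

/-!
# Fixed vectors of elements of the Suzuki groups

For `g` in `Sp₄(F)` in characteristic two, `g ↦ g*` is multiplicative, so every element of
`Sz(F, θ)` satisfies `g* = g^θ`.  Taking traces, an element with a non-zero fixed vector has
trace zero, so characteristic polynomial `X⁴ + 1`, so `g⁴ = 1`.
-/

set_option autoImplicit false

namespace CfsgLib.Recog.SuzukiFix

open Matrix Cfsg.Lie
open scoped Polynomial

variable {R : Type*} [CommRing R]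

/-- the permanent of a two by two submatrix (equal to the minor in characteristic two) -/
def per (g : Matrix (Fin 4) (Fin 4) R) (k l i j : Fin 4) : R := g k i * g l j + g l i * g k j

/-- the sum of the principal two by two minors -/
def e2 (g : Matrix (Fin 4) (Fin 4) R) : R :=
  (g 0 0 * g 1 1 - g 1 0 * g 0 1) + (g 0 0 * g 2 2 - g 2 0 * g 0 2) +
  (g 0 0 * g 3 3 - g 3 0 * g 0 3) + (g 1 1 * g 2 2 - g 2 1 * g 1 2) +
  (g 1 1 * g 3 3 - g 3 1 * g 1 3) + (g 2 2 * g 3 3 - g 3 2 * g 2 3)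

theorem det_smul_add (x : R) (g : Matrix (Fin 4) (Fin 4) R) :
    (x • (1 : Matrix (Fin 4) (Fin 4) R) + g).det =
      x ^ 4 + g.trace * x ^ 3 + e2 g * x ^ 2 + g.adjugate.trace * x + g.det := by
  have a0 : (0 : Fin 4).succAbove = ![1, 2, 3] := by decide
  have a1 : (1 : Fin 4).succAbove = ![0, 2, 3] := by decide
  have a2 : (2 : Fin 4).succAbove = ![0, 1, 3] := by decide
  have a3 : (3 : Fin 4).succAbove = ![0, 1, 2] := by decide
  rw [Matrix.det_succ_row_zero, Matrix.det_succ_row_zero g]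
  simp only [Matrix.trace, Fin.sum_univ_four, Matrix.diag_apply,
    Matrix.adjugate_fin_succ_eq_det_submatrix, a0, a1, a2, a3, Matrix.det_fin_three,
    Matrix.submatrix_apply, Matrix.add_apply, Matrix.smul_apply, Matrix.one_apply, e2]
  simp
  ring

/-- the matrix which is the inverse of a symplectic matrix -/
def flipT (g : Matrix (Fin 4) (Fin 4) R) : Matrix (Fin 4) (Fin 4) R :=
  (g.submatrix Fin.revPerm Fin.revPerm)ᵀ

/-- preservation of the form -/
def IsSymp (g : Matrix (Fin 4) (Fin 4) R) : Prop :=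
  ∀ u v, altForm4 (g *ᵥ u) (g *ᵥ v) = altForm4 u v

theorem mem_Sp4_iff {F : Type*} [Field F] (g : GL (Fin 4) F) :
    g ∈ Sp4 F ↔ IsSymp (g : Matrix (Fin 4) (Fin 4) F) := Iff.rfl

theorem IsSymp.col {g : Matrix (Fin 4) (Fin 4) R} (hg : IsSymp g) (i j : Fin 4) :
    g 0 i * g 3 j + g 1 i * g 2 j + g 2 i * g 1 j + g 3 i * g 0 j =
      if j = i.rev then 1 else 0 := by
  have h := hg (Pi.single i 1) (Pi.single j 1)
  simp only [Matrix.mulVec_single_one, altForm4, Matrix.col_apply] at h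
  rw [h]
  fin_cases i <;> fin_cases j <;> simp [Fin.rev]

theorem IsSymp.flip_mul {g : Matrix (Fin 4) (Fin 4) R} (hg : IsSymp g) : flipT g * g = 1 := by
  ext i j
  have h := hg.col i.rev j
  rw [Fin.rev_rev] at h
  simp only [Matrix.mul_apply, Fin.sum_univ_four, flipT, Matrix.transpose_apply,
    Matrix.submatrix_apply, Fin.revPerm_apply, Matrix.one_apply]
  by_cases hij : i = j
  · subst hij
    simp only [if_true] at h ⊢
    rw [show Fin.rev (0 : Fin 4) = 3 from rfl, show Fin.rev (1 : Fin 4) = 2 from rfl,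
      show Fin.rev (2 : Fin 4) = 1 from rfl, show Fin.rev (3 : Fin 4) = 0 from rfl]
    linear_combination h
  · rw [if_neg (fun h' => hij h'.symm)] at h
    rw [if_neg hij, show Fin.rev (0 : Fin 4) = 3 from rfl, show Fin.rev (1 : Fin 4) = 2 from rfl,
      show Fin.rev (2 : Fin 4) = 1 from rfl, show Fin.rev (3 : Fin 4) = 0 from rfl]
    linear_combination h

theorem IsSymp.row {g : Matrix (Fin 4) (Fin 4) R} (hg : IsSymp g) (k l : Fin 4) :
    g k 0 * g l 3 + g k 1 * g l 2 + g k 2 * g l 1 + g k 3 * g l 0 =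
      if l = k.rev then 1 else 0 := by
  have h0 : g * flipT g = 1 := _root_.mul_eq_one_comm.mp hg.flip_mul
  have h := congrFun (congrFun h0 k) l.rev
  simp only [Matrix.mul_apply, Fin.sum_univ_four, flipT, Matrix.transpose_apply,
    Matrix.submatrix_apply, Fin.revPerm_apply, Fin.rev_rev, Matrix.one_apply] at h
  rw [show Fin.rev (0 : Fin 4) = 3 from rfl, show Fin.rev (1 : Fin 4) = 2 from rfl,
    show Fin.rev (2 : Fin 4) = 1 from rfl, show Fin.rev (3 : Fin 4) = 0 from rfl] at h
  rw [h]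
  by_cases hkl : l = k.rev
  · subst hkl; simp
  · rw [if_neg hkl, if_neg]
    intro h'
    exact hkl (by rw [h', Fin.rev_rev])

theorem IsSymp.mul {g h : Matrix (Fin 4) (Fin 4) R} (hg : IsSymp g) (hh : IsSymp h) :
    IsSymp (g * h) := by
  intro u v
  rw [← Matrix.mulVec_mulVec, ← Matrix.mulVec_mulVec, hg, hh]

theorem IsSymp.det_eq_one [CharP R 2] [IsDomain R] {g : Matrix (Fin 4) (Fin 4) R} (hg : IsSymp g) :
    g.det = 1 := by
  have h := congrArg Matrix.det hg.flip_mul
  rw [Matrix.det_mul, flipT, Matrix.det_transpose, Matrix.det_submatrix_equiv_self,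
    Matrix.det_one] at h
  rcases mul_self_eq_one_iff.mp h with h' | h'
  · exact h'
  · rwa [CharTwo.neg_eq] at h'

theorem IsSymp.adjugate_eq [CharP R 2] [IsDomain R] {g : Matrix (Fin 4) (Fin 4) R} (hg : IsSymp g) :
    g.adjugate = flipT g := by
  calc g.adjugate = g.adjugate * (g * flipT g) := by
        rw [_root_.mul_eq_one_comm.mp hg.flip_mul, mul_one]
    _ = flipT g := by rw [← mul_assoc, Matrix.adjugate_mul, hg.det_eq_one, one_smul, one_mul]

theorem trace_flipT (g : Matrix (Fin 4) (Fin 4) R) : (flipT g).trace = g.trace := by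
  simp [flipT, Matrix.trace, Fin.sum_univ_four, Fin.rev]
  ring

theorem star4_apply [CharP R 2] (g : Matrix (Fin 4) (Fin 4) R) (p r : Fin 4) :
    star4 g p r = per g (pairOf p).1 (pairOf p).2 (pairOf r).1 (pairOf r).2 := by
  simp [star4, per, CharTwo.sub_eq_add]

theorem per_mul [CharP R 2] {g h : Matrix (Fin 4) (Fin 4) R} (hg : IsSymp g) (hh : IsSymp h)
    (k l i j : Fin 4) (hkl : l ≠ k.rev) (hij : j ≠ i.rev) :
    per (g * h) k l i j = per g k l 0 1 * per h 0 1 i j + per g k l 0 2 * per h 0 2 i j +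
      per g k l 1 3 * per h 1 3 i j + per g k l 2 3 * per h 2 3 i j := by
  have hr := hg.row k l
  have hc := hh.col i j
  rw [if_neg hkl] at hr
  rw [if_neg hij] at hc
  have h2 : (2 : R) = 0 := CharTwo.two_eq_zero
  simp only [per, Matrix.mul_apply, Fin.sum_univ_four]
  linear_combination (h 0 i * h 3 j + h 3 i * h 0 j) * hr +
    (g k 1 * g l 2 + g l 1 * g k 2) * hc +
    (g k 0 * h 0 i * g l 0 * h 0 j + g k 1 * h 1 i * g l 1 * h 1 j +
      g k 2 * h 2 i * g l 2 * h 2 j + g k 3 * h 3 i * g l 3 * h 3 j -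
      (g k 1 * g l 2 + g l 1 * g k 2) * (h 0 i * h 3 j + h 3 i * h 0 j)) * h2

theorem star4_mul [CharP R 2] {g h : Matrix (Fin 4) (Fin 4) R} (hg : IsSymp g) (hh : IsSymp h) :
    star4 (g * h) = star4 g * star4 h := by
  have hpr : ∀ p : Fin 4, (pairOf p).2 ≠ (pairOf p).1.rev := by decide
  ext p r
  rw [star4_apply, per_mul hg hh _ _ _ _ (hpr p) (hpr r), Matrix.mul_apply, Fin.sum_univ_four]
  simp only [star4_apply]
  rfl

theorem star4_one : star4 (1 : Matrix (Fin 4) (Fin 4) R) = 1 := by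
  ext p r
  fin_cases p <;> fin_cases r <;> simp [star4, pairOf, Matrix.one_apply]

theorem IsSymp.e2_eq [CharP R 2] {g : Matrix (Fin 4) (Fin 4) R} (hg : IsSymp g) :
    e2 g = (star4 g).trace := by
  have c03 := hg.col 0 3
  have r12 := hg.row 1 2
  rw [if_pos (by decide)] at c03 r12
  have h2 : (2 : R) = 0 := CharTwo.two_eq_zero
  simp [e2, Matrix.trace, Fin.sum_univ_four, star4_apply, per, pairOf, CharTwo.sub_eq_add]
  linear_combination c03 + r12 + (1 - g 1 0 * g 2 3 - g 2 0 * g 1 3) * h2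

section Field

variable {F : Type*} [Field F] [CharP F 2]

/-- Every element of the Suzuki group satisfies the defining equation. -/
theorem sz_star4 {e : ℕ} (φ : F →+* F) (hφ : ∀ x, φ x = x ^ e) {g : GL (Fin 4) F}
    (hg : g ∈ Sz F e) :
    IsSymp (g : Matrix (Fin 4) (Fin 4) F) ∧
      star4 (g : Matrix (Fin 4) (Fin 4) F) = φ.mapMatrix (g : Matrix (Fin 4) (Fin 4) F) := by
  change g ∈ Subgroup.closure {g : GL (Fin 4) F | g ∈ Sp4 F ∧
    star4 (g : Matrix (Fin 4) (Fin 4) F) =
      (g : Matrix (Fin 4) (Fin 4) F).map (fun x => x ^ e)} at hg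
  refine Subgroup.closure_induction
    (p := fun (g : GL (Fin 4) F) _ => IsSymp (g : Matrix (Fin 4) (Fin 4) F) ∧
      star4 (g : Matrix (Fin 4) (Fin 4) F) = φ.mapMatrix (g : Matrix (Fin 4) (Fin 4) F))
    ?_ ?_ ?_ ?_ hg
  · rintro x ⟨hx1, hx2⟩
    refine ⟨hx1, hx2.trans ?_⟩
    ext i j
    simp [hφ]
  · refine ⟨fun u v => by simp, ?_⟩
    rw [Units.val_one, star4_one, map_one]
  · intro x y _ _ hx hy
    refine ⟨by rw [Units.val_mul]; exact hx.1.mul hy.1, ?_⟩
    rw [Units.val_mul, star4_mul hx.1 hy.1, hx.2, hy.2, map_mul]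
  · intro x _ hx
    have hs : IsSymp ((x⁻¹ : GL (Fin 4) F) : Matrix (Fin 4) (Fin 4) F) :=
      (Sp4 F).inv_mem ((mem_Sp4_iff x).mpr hx.1)
    refine ⟨hs, left_inv_eq_right_inv (a := star4 (x : Matrix (Fin 4) (Fin 4) F)) ?_ ?_⟩
    · rw [← star4_mul hs hx.1, ← Units.val_mul, inv_mul_cancel, Units.val_one, star4_one]
    · rw [hx.2, ← map_mul, ← Units.val_mul, mul_inv_cancel, Units.val_one, map_one]

/-- An element of the Suzuki group fixing a non-zero vector has order dividing four. -/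
theorem pow_four_of_fixed {e : ℕ} (φ : F →+* F) (hφ : ∀ x, φ x = x ^ e) {g : GL (Fin 4) F}
    (hg : g ∈ Sz F e) {v : Fin 4 → F} (hv : v ≠ 0)
    (hfix : (g : Matrix (Fin 4) (Fin 4) F) *ᵥ v = v) : g ^ 4 = 1 := by
  obtain ⟨hs, hstar⟩ := sz_star4 φ hφ hg
  set M : Matrix (Fin 4) (Fin 4) F := (g : Matrix (Fin 4) (Fin 4) F) with hM
  have he2 : e2 M = φ M.trace := by
    rw [hs.e2_eq, hstar, RingHom.mapMatrix_apply]
    simp [Matrix.trace]
  have hadj : M.adjugate.trace = M.trace := by rw [hs.adjugate_eq, trace_flipT]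
  have h2 : (2 : F) = 0 := CharTwo.two_eq_zero
  have hdet : ((1 : F) • (1 : Matrix (Fin 4) (Fin 4) F) + M).det = 0 := by
    refine Matrix.exists_mulVec_eq_zero_iff.mp ⟨v, hv, ?_⟩
    rw [one_smul, Matrix.add_mulVec, Matrix.one_mulVec, hfix]
    exact funext fun i => CharTwo.add_self_eq_zero _
  rw [det_smul_add, hadj, hs.det_eq_one] at hdet
  have he0 : e2 M = 0 := by linear_combination hdet - (1 + M.trace) * h2
  have htr : M.trace = 0 := (map_eq_zero φ).mp (he2.symm.trans he0)
  have hchar : M.charpoly = Polynomial.X ^ 4 + 1 := by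
    have hc : Matrix.charmatrix M =
        (Polynomial.X : F[X]) • (1 : Matrix (Fin 4) (Fin 4) F[X]) + M.map Polynomial.C := by
      refine Matrix.ext fun i j => ?_
      have hneg : ∀ a : F, (Polynomial.C a : F[X]) = -Polynomial.C a := fun a => by
        rw [← map_neg, CharTwo.neg_eq]
      rw [Matrix.charmatrix_apply, Matrix.add_apply, Matrix.smul_apply, Matrix.map_apply,
        Matrix.one_apply, Matrix.diagonal_apply, sub_eq_add_neg, ← hneg]
      split_ifs <;> simp
    rw [Matrix.charpoly, hc, det_smul_add]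
    have e1 : (M.map Polynomial.C).trace = Polynomial.C M.trace := by
      simp [Matrix.trace]
    have e3 : (M.map Polynomial.C).adjugate.trace = Polynomial.C M.adjugate.trace := by
      rw [← RingHom.mapMatrix_apply, ← RingHom.map_adjugate, RingHom.mapMatrix_apply]
      simp [Matrix.trace]
    have e4 : (M.map Polynomial.C).det = Polynomial.C M.det := by
      rw [← RingHom.mapMatrix_apply, ← RingHom.map_det]
    have e5 : e2 (M.map Polynomial.C) = Polynomial.C (e2 M) := by
      simp [e2]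
    rw [e1, e3, e4, e5, hadj, htr, he0, hs.det_eq_one]
    simp
  have hcH := Matrix.aeval_self_charpoly M
  rw [hchar] at hcH
  simp only [map_add, map_pow, Polynomial.aeval_X, map_one] at hcH
  apply Units.ext
  rw [Units.val_pow_eq_pow_val, Units.val_one]
  calc M ^ 4 = M ^ 4 + (1 + 1) := by
        rw [show (1 : Matrix (Fin 4) (Fin 4) F) + 1 = 0 from
          Matrix.ext fun i j => by rw [Matrix.add_apply]; exact CharTwo.add_self_eq_zero _, add_zero]
    _ = (M ^ 4 + 1) + 1 := (add_assoc _ _ _).symm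
    _ = 1 := by rw [hcH, zero_add]

end Field

end CfsgLib.Recog.SuzukiFix
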