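import Mathlib

/-! Jordan sets of at most half the points of a 2-transitive group. -/

namespace CfsgLib.Recog

open Finset Pointwise

variable {G Ω : Type*} [Group G] [MulAction G Ω]

/-- `S` is a Jordan set in the weak sense: the pointwise stabiliser of its complement is
transitive on it. -/
def JordanSet (G : Type*) [Group G] {Ω : Type*} [MulAction G Ω] (S : Finset Ω) : Prop :=
  ∀ x ∈ S, ∀ y ∈ S, ∃ g : G, (∀ z ∉ S, g • z = z) ∧ g • x = y

theorem JordanSet.union [DecidableEq Ω] {S T : Finset Ω} (hS : JordanSet G S)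
    (hT : JordanSet G T) (h : (S ∩ T).Nonempty) : JordanSet G (S ∪ T) := by
  obtain ⟨z, hz⟩ := h
  rw [mem_inter] at hz
  have key : ∀ x ∈ S ∪ T, ∃ g : G, (∀ w ∉ S ∪ T, g • w = w) ∧ g • x = z := by
    intro x hx
    rcases mem_union.1 hx with hx | hx
    · obtain ⟨g, hg, hgx⟩ := hS x hx z hz.1
      exact ⟨g, fun w hw => hg w fun h => hw (mem_union_left _ h), hgx⟩
    · obtain ⟨g, hg, hgx⟩ := hT x hx z hz.2
      exact ⟨g, fun w hw => hg w fun h => hw (mem_union_right _ h), hgx⟩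
  intro x hx y hy
  obtain ⟨g, hg, hgx⟩ := key x hx
  obtain ⟨k, hk, hky⟩ := key y hy
  refine ⟨k⁻¹ * g, fun w hw => ?_, ?_⟩
  · rw [mul_smul, hg w hw, inv_smul_eq_iff, hk w hw]
  · rw [mul_smul, hgx, inv_smul_eq_iff, hky]

theorem JordanSet.smul [DecidableEq Ω] {S : Finset Ω} (hS : JordanSet G S) (g : G) :
    JordanSet G (g • S) := by
  intro x hx y hy
  rw [← inv_smul_mem_iff] at hx hy
  obtain ⟨k, hk, hkx⟩ := hS _ hx _ hy
  refine ⟨g * k * g⁻¹, fun w hw => ?_, ?_⟩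
  · rw [mul_smul, mul_smul, hk _ (fun h => hw (inv_smul_mem_iff.1 h)), smul_inv_smul]
  · rw [mul_smul, mul_smul, hkx, smul_inv_smul]

set_option maxHeartbeats 1600000 in
/-- In a doubly transitive group with a Jordan set of at most half of the points, the complement
of some two points is a Jordan set. -/
theorem exists_jordanSet_compl_pair [Finite G] [Fintype Ω] [DecidableEq Ω]
    (h2 : ∀ a b c d : Ω, a ≠ b → c ≠ d → ∃ g : G, g • a = c ∧ g • b = d)
    (Γ : Finset Ω) (hΓ : JordanSet G Γ) (h1 : 1 < Γ.card) (hhalf : 2 * Γ.card ≤ Fintype.card Ω) :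
    ∃ Λ : Finset Ω, JordanSet G Λ ∧ Λᶜ.card = 2 := by
  classical
  haveI : Fintype G := Fintype.ofFinite G
  let s : Finset (Finset Ω) :=
    univ.filter fun S => JordanSet G S ∧ Γ.card ≤ S.card ∧ 2 ≤ Sᶜ.card
  have hΓc : 2 ≤ Γᶜ.card := by rw [card_compl]; omega
  obtain ⟨Λ, hΛs, hmax⟩ := s.exists_max_image card ⟨Γ, by simp [s, hΓ, hΓc]⟩
  simp only [s, mem_filter, mem_univ, true_and] at hΛs hmax
  obtain ⟨hΛ, hΓΛ, hΔ⟩ := hΛs
  refine ⟨Λ, hΛ, ?_⟩
  by_contra hne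
  have h3 : 3 ≤ Λᶜ.card := by omega
  have hn : Λ.card + Λᶜ.card = Fintype.card Ω := card_add_card_compl Λ
  obtain ⟨k, hk⟩ : ∃ k, k = Γ.card := ⟨_, rfl⟩
  -- translates through a point of `Λ` which leave it
  have htwo : ∀ g : G, ((g • Γ) ∩ Λ).Nonempty → ((g • Γ) ∩ Λᶜ).Nonempty →
      Λᶜ.card ≤ ((g • Γ) ∩ Λᶜ).card + 1 := by
    intro g hgΛ hgΔ
    by_contra hlt
    obtain ⟨d, hd⟩ := hgΔ
    rw [mem_inter, mem_compl] at hd
    have hU : (g • Γ ∪ Λ)ᶜ = Λᶜ \ (g • Γ) := by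
      ext w; simp only [mem_compl, mem_union, mem_sdiff]; tauto
    have hUc : 2 ≤ (g • Γ ∪ Λ)ᶜ.card := by
      rw [hU, card_sdiff, inter_comm]
      rw [inter_comm] at hlt
      have := card_le_card (inter_subset_left (s₁ := Λᶜ) (s₂ := g • Γ))
      simp only [inter_comm Λᶜ] at this hlt ⊢
      omega
    have hJ := (hΓ.smul g).union hΛ hgΛ
    have hle := hmax (g • Γ ∪ Λ) ⟨hJ, hΓΛ.trans (card_le_card subset_union_right), hUc⟩
    have : g • Γ ∪ Λ = Λ := (eq_of_subset_of_card_le subset_union_right hle).symm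
    exact hd.2 (this ▸ mem_union_left _ hd.1)
  let T : Finset G := univ.filter fun g => ((g • Γ) ∩ Λ).Nonempty ∧ ((g • Γ) ∩ Λᶜ).Nonempty
  let N : Ω → Ω → ℕ := fun x y => (univ.filter fun g : G => x ∈ g • Γ ∧ y ∈ g • Γ).card
  obtain ⟨x0, hx0, y0, hy0, hxy⟩ := one_lt_card.1 h1
  obtain ⟨l, hl⟩ : ∃ l, l = N x0 y0 := ⟨_, rfl⟩
  have hlpos : 0 < l := by
    rw [hl]
    exact card_pos.2 ⟨1, by simp [hx0, hy0]⟩
  have hN : ∀ x y, x ≠ y → N x y = l := by
    intro x y hne'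
    obtain ⟨t, rfl, rfl⟩ := h2 x0 y0 x y hxy hne'
    rw [hl]
    refine card_bij' (fun g _ => t⁻¹ * g) (fun g _ => t * g) ?_ ?_ ?_ ?_
    · intro g hg
      simp only [mem_filter, mem_univ, true_and, mul_smul] at hg ⊢
      exact ⟨inv_smul_smul t x0 ▸ smul_mem_smul_finset hg.1, inv_smul_smul t y0 ▸ smul_mem_smul_finset hg.2⟩
    · intro g hg
      simp only [mem_filter, mem_univ, true_and, mul_smul] at hg ⊢
      exact ⟨(smul_mem_smul_finset_iff t).2 hg.1, (smul_mem_smul_finset_iff t).2 hg.2⟩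
    · intro g _; simp
    · intro g _; simp
  have hswap : ∀ A : Finset (Ω × Ω), (∀ q ∈ A, q.1 ≠ q.2) →
      A.card * l = ∑ g : G, (A.filter fun q => q.1 ∈ g • Γ ∧ q.2 ∈ g • Γ).card := by
    intro A hA
    simp only [card_filter]
    rw [sum_comm, ← smul_eq_mul, ← sum_const]
    refine sum_congr rfl fun q hq => ?_
    rw [← hN q.1 q.2 (hA q hq)]
    simp only [N, card_filter]
  have hE1 : Λᶜ.card * Λ.card * l =
      ∑ g ∈ T, ((g • Γ) ∩ Λᶜ).card * ((g • Γ) ∩ Λ).card := by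
    rw [← card_product, hswap _ (fun q hq h => by
      rw [mem_product] at hq; exact mem_compl.1 hq.1 (h ▸ hq.2))]
    have : ∀ g : G, ((Λᶜ ×ˢ Λ).filter fun q => q.1 ∈ g • Γ ∧ q.2 ∈ g • Γ).card =
        ((g • Γ) ∩ Λᶜ).card * ((g • Γ) ∩ Λ).card := by
      intro g
      rw [← card_product]
      refine congrArg card ?_
      ext ⟨u, v⟩
      simp only [mem_filter, mem_product, mem_inter]
      tauto
    simp only [this]
    refine (sum_subset (subset_univ T) fun g _ hg => ?_).symm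
    simp only [T, mem_filter, mem_univ, true_and, not_and_or, not_nonempty_iff_eq_empty] at hg
    rcases hg with hg | hg <;> simp [hg]
  have hE2 : ∑ g ∈ T, ((g • Γ) ∩ Λᶜ).card * (((g • Γ) ∩ Λᶜ).card - 1) ≤
      Λᶜ.card * (Λᶜ.card - 1) * l := by
    rw [Nat.mul_sub, mul_one, ← offDiag_card, hswap _ (fun q hq => (mem_offDiag.1 hq).2.2)]
    refine (sum_le_sum fun g _ => le_of_eq ?_).trans
      (sum_le_sum_of_subset (subset_univ T))
    rw [Nat.mul_sub, mul_one, ← offDiag_card]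
    refine congrArg card ?_
    ext ⟨u, v⟩
    simp only [mem_filter, mem_offDiag, mem_inter]
    tauto
  have hT : ∀ g ∈ T, Λᶜ.card ≤ ((g • Γ) ∩ Λᶜ).card + 1 ∧
      ((g • Γ) ∩ Λ).card + ((g • Γ) ∩ Λᶜ).card = k := by
    intro g hg
    simp only [T, mem_filter, mem_univ, true_and] at hg
    refine ⟨htwo g hg.1 hg.2, ?_⟩
    rw [hk, ← card_smul_finset g Γ, ← card_union_of_disjoint, ← inter_union_distrib_left]
    · simp
    · exact disjoint_left.2 fun w hw hw' => mem_compl.1 (mem_inter.1 hw').2 (mem_inter.1 hw).2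
  obtain ⟨S, hS⟩ : ∃ S, S = ∑ g ∈ T, ((g • Γ) ∩ Λᶜ).card := ⟨_, rfl⟩
  have hA : Λᶜ.card * Λ.card * l + (Λᶜ.card - 1) * S ≤ k * S := by
    rw [hE1, hS, mul_sum, mul_sum, ← sum_add_distrib]
    refine sum_le_sum fun g hg => ?_
    obtain ⟨ha, hb⟩ := hT g hg
    rw [mul_comm (Λᶜ.card - 1), ← mul_add, mul_comm k]
    exact Nat.mul_le_mul_left _ (by omega)
  have hB : (Λᶜ.card - 2) * S ≤ Λᶜ.card * (Λᶜ.card - 1) * l := by
    refine le_trans ?_ hE2
    rw [hS, mul_sum]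
    refine sum_le_sum fun g hg => ?_
    obtain ⟨ha, hb⟩ := hT g hg
    rw [mul_comm]
    exact Nat.mul_le_mul_left _ (by omega)
  have hΛpos : 0 < Λ.card := lt_of_lt_of_le (by omega) hΓΛ
  obtain ⟨e, he⟩ : ∃ e, Λᶜ.card = e + 3 := ⟨Λᶜ.card - 3, by omega⟩
  rw [he] at hA hB hn
  simp only [show e + 3 - 1 = e + 2 by omega, show e + 3 - 2 = e + 1 by omega] at hA hB
  have hk2 : 2 * k ≤ Λ.card + (e + 3) := by rw [hn, hk]; exact hhalf
  have hA' : 2 * ((e + 3) * Λ.card * l) + 2 * (e + 2) * S ≤ (Λ.card + (e + 3)) * S := by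
    calc _ ≤ 2 * k * S := by linarith
      _ ≤ _ := Nat.mul_le_mul_right _ hk2
  have hm : e + 1 ≤ Λ.card := by
    by_contra hc
    push Not at hc
    have : (Λ.card + (e + 3)) * S ≤ 2 * (e + 2) * S := Nat.mul_le_mul_right _ (by omega)
    have h0 : 0 < (e + 3) * Λ.card * l := by positivity
    omega
  obtain ⟨j, hj⟩ := Nat.exists_eq_add_of_le hm
  rw [hj] at hA'
  have hA'' : 2 * ((e + 3) * (e + 1 + j) * l) ≤ j * S := by nlinarith
  have h5 : 2 * ((e + 3) * (e + 1 + j) * l) * (e + 1) ≤ j * ((e + 3) * (e + 2) * l) :=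
    calc _ ≤ j * S * (e + 1) := Nat.mul_le_mul_right _ hA''
      _ = j * ((e + 1) * S) := by ring
      _ ≤ _ := Nat.mul_le_mul_left _ hB
  have h6 : j * (e + 2) < 2 * (e + 1 + j) * (e + 1) := by nlinarith
  have h7 := Nat.mul_lt_mul_of_pos_left h6 (show 0 < (e + 3) * l by positivity)
  nlinarith

end CfsgLib.Recog
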