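import Mathlib

/-!
# Element orders in powers of `A₅`
-/

namespace CfsgLib.Recog.AltFive

set_option maxHeartbeats 1000000 in
theorem orders : ∀ g : alternatingGroup (Fin 5), g ^ 2 = 1 ∨ g ^ 3 = 1 ∨ g ^ 5 = 1 := by
  decide +kernel

theorem spectrum :
    Set.range (orderOf : alternatingGroup (Fin 5) → ℕ) = {1, 2, 3, 5} := by
  haveI := Fact.mk Nat.prime_two
  haveI := Fact.mk Nat.prime_three
  haveI := Fact.mk Nat.prime_five
  ext n
  simp only [Set.mem_range, Set.mem_insert_iff, Set.mem_singleton_iff]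
  constructor
  · rintro ⟨g, rfl⟩
    rcases orders g with e | e | e
    · rcases (Nat.dvd_prime Nat.prime_two).mp (orderOf_dvd_of_pow_eq_one e) with h | h <;> omega
    · rcases (Nat.dvd_prime Nat.prime_three).mp (orderOf_dvd_of_pow_eq_one e) with h | h <;> omega
    · rcases (Nat.dvd_prime Nat.prime_five).mp (orderOf_dvd_of_pow_eq_one e) with h | h <;> omega
  · rintro (rfl | rfl | rfl | rfl)
    · exact ⟨1, orderOf_one⟩
    · exact ⟨⟨Equiv.swap 0 1 * Equiv.swap 2 3, Equiv.Perm.mem_alternatingGroup.mpr (by decide +kernel)⟩,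
        orderOf_eq_prime (by decide +kernel) (by decide +kernel)⟩
    · exact ⟨⟨Equiv.swap 0 1 * Equiv.swap 1 2, Equiv.Perm.mem_alternatingGroup.mpr (by decide +kernel)⟩,
        orderOf_eq_prime (by decide +kernel) (by decide +kernel)⟩
    · exact ⟨⟨Equiv.swap 0 1 * Equiv.swap 1 2 * Equiv.swap 2 3 * Equiv.swap 3 4, Equiv.Perm.mem_alternatingGroup.mpr (by decide +kernel)⟩,
        orderOf_eq_prime (by decide +kernel) (by decide +kernel)⟩

theorem range_prod (G H : Type*) [Group G] [Group H] :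
    Set.range (orderOf : G × H → ℕ) =
      Set.image2 Nat.lcm (Set.range (orderOf : G → ℕ)) (Set.range (orderOf : H → ℕ)) := by
  ext n
  simp only [Set.mem_range, Set.mem_image2]
  constructor
  · rintro ⟨x, rfl⟩
    exact ⟨_, ⟨x.1, rfl⟩, _, ⟨x.2, rfl⟩, (Prod.orderOf x).symm⟩
  · rintro ⟨_, ⟨a, rfl⟩, _, ⟨b, rfl⟩, rfl⟩
    exact ⟨(a, b), Prod.orderOf (a, b)⟩

theorem spectrum_sq :
    Set.range (orderOf : alternatingGroup (Fin 5) × alternatingGroup (Fin 5) → ℕ) = {1, 2, 3, 5, 6, 10, 15} := by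
  rw [range_prod, spectrum]
  simp only [Set.image2_insert_left, Set.image2_singleton_left, Set.image_insert_eq, Set.image_singleton]
  norm_num
  ext n
  simp only [Set.mem_insert_iff, Set.mem_singleton_iff, Set.mem_union]
  omega

end CfsgLib.Recog.AltFive
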