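import Mathlib

/-!
Owner: helper7. Counting in the alternating group of degree five.
-/

set_option maxRecDepth 100000
set_option Elab.async false

namespace CfsgLib.Recog.AltFive

theorem card_involutions :
    Nat.card {k : alternatingGroup (Fin 5) // k * k = 1 ∧ k ≠ 1} = 15 := by
  rw [Nat.card_eq_fintype_card]
  decide +kernel

theorem card_odd_pairs :
    Nat.card {p : alternatingGroup (Fin 5) × alternatingGroup (Fin 5) //
      (p.1 * p.1 = 1 ∧ p.1 ≠ 1) ∧ p.2 * p.2 = 1 ∧ (p.1 * p.2) ^ 15 = 1} = 195 := by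
  rw [Nat.card_eq_fintype_card]
  decide +kernel

theorem exists_inverted : ∀ k : alternatingGroup (Fin 5), k * k = 1 → k ≠ 1 →
    ∃ c : alternatingGroup (Fin 5), c ^ 5 = 1 ∧ c ≠ 1 ∧ k * c * k⁻¹ = c⁻¹ := by
  decide +kernel

theorem pow_cases : ∀ x : alternatingGroup (Fin 5), x ^ 15 = 1 ∨ x * x = 1 := by
  decide +kernel

theorem card_eq : Nat.card (alternatingGroup (Fin 5)) = 60 := by
  rw [Nat.card_eq_fintype_card]
  decide +kernel

end CfsgLib.Recog.AltFive
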