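import Mathlib

/-!
# An embedding of `SL(2,5)` into `SL(2,11)`
-/

namespace CfsgLib.Recog.Icosahedral

abbrev Q5 := ZMod 5 × ZMod 5 × ZMod 5 × ZMod 5
abbrev Q11 := ZMod 11 × ZMod 11 × ZMod 11 × ZMod 11

/-- image table -/
def tableNat : List (List ℕ) := [
  [0, 0, 0, 0, 0, 0, 0, 0, 0, 0, 0, 0, 0, 0, 0, 0, 0, 0, 0, 0, 0, 0, 0, 0, 0],
  [0, 0, 0, 0, 0, 0, 0, 0, 0, 0, 0, 0, 0, 0, 0, 0, 0, 0, 0, 0, 1221, 6564, 2477, 14067, 10420],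
  [0, 0, 0, 0, 0, 0, 0, 0, 0, 0, 11971, 11048, 5327, 13041, 5462, 0, 0, 0, 0, 0, 0, 0, 0, 0, 0],
  [0, 0, 0, 0, 0, 0, 0, 0, 0, 0, 0, 0, 0, 0, 0, 4133, 10642, 3063, 9325, 5056, 0, 0, 0, 0, 0],
  [0, 0, 0, 0, 0, 231, 5684, 2037, 13627, 9540, 0, 0, 0, 0, 0, 0, 0, 0, 0, 0, 0, 0, 0, 0, 0],
  [0, 1332, 0, 0, 0, 0, 1850, 0, 0, 0, 0, 2887, 0, 0, 0, 0, 7889, 0, 0, 0, 0, 3598, 0, 0, 0],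
  [0, 1740, 0, 0, 0, 0, 0, 7988, 0, 0, 0, 0, 0, 9035, 0, 0, 0, 0, 0, 1693, 11752, 0, 0, 0, 0],
  [0, 3767, 0, 0, 0, 0, 0, 0, 8925, 0, 6794, 0, 0, 0, 0, 0, 0, 12898, 0, 0, 0, 0, 0, 0, 1155],
  [0, 7009, 0, 0, 0, 0, 0, 0, 0, 2573, 0, 0, 12788, 0, 0, 6388, 0, 0, 0, 0, 0, 0, 0, 4913, 0],
  [0, 3708, 0, 0, 0, 10872, 0, 0, 0, 0, 0, 0, 0, 0, 825, 0, 0, 0, 4803, 0, 0, 0, 12121, 0, 0],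
  [0, 0, 0, 2397, 0, 0, 0, 0, 11696, 0, 0, 0, 0, 572, 0, 0, 0, 0, 5145, 0, 0, 0, 0, 13850, 0],
  [0, 0, 0, 11586, 0, 0, 14639, 0, 0, 0, 0, 0, 0, 0, 10367, 0, 0, 8298, 0, 0, 3411, 0, 0, 0, 0],
  [0, 0, 0, 1012, 0, 0, 0, 0, 0, 10257, 7713, 0, 0, 0, 0, 0, 8644, 0, 0, 0, 0, 0, 6034, 0, 0],
  [0, 0, 0, 4705, 0, 0, 0, 8738, 0, 0, 0, 8534, 0, 0, 0, 3997, 0, 0, 0, 0, 0, 0, 0, 0, 6245],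
  [0, 0, 0, 13960, 0, 2971, 0, 0, 0, 0, 0, 0, 6474, 0, 0, 0, 0, 0, 0, 6135, 0, 2668, 0, 0, 0],
  [0, 0, 13707, 0, 0, 0, 0, 2254, 0, 0, 0, 0, 10959, 0, 0, 0, 0, 880, 0, 0, 0, 0, 4408, 0, 0],
  [0, 0, 2144, 0, 0, 0, 0, 0, 0, 11984, 0, 9969, 0, 0, 0, 0, 0, 0, 9630, 0, 13133, 0, 0, 0, 0],
  [0, 0, 11399, 0, 0, 0, 9859, 0, 0, 0, 10655, 0, 0, 0, 0, 0, 0, 0, 0, 7570, 0, 0, 0, 7366, 0],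
  [0, 0, 440, 0, 0, 0, 0, 0, 10070, 0, 0, 0, 0, 0, 7460, 8391, 0, 0, 0, 0, 0, 5847, 0, 0, 0],
  [0, 0, 4518, 0, 0, 12693, 0, 0, 0, 0, 0, 0, 0, 7806, 0, 0, 5737, 0, 0, 0, 0, 0, 0, 0, 1465],
  [0, 0, 0, 0, 13320, 0, 0, 0, 0, 12506, 0, 0, 0, 0, 8215, 0, 0, 0, 0, 13217, 0, 0, 0, 0, 14254],
  [0, 0, 0, 0, 12396, 0, 0, 0, 3983, 0, 0, 0, 11301, 0, 0, 0, 627, 0, 0, 0, 5232, 0, 0, 0, 0],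
  [0, 0, 0, 0, 9095, 0, 0, 11191, 0, 0, 9716, 0, 0, 0, 0, 0, 0, 0, 3316, 0, 0, 13531, 0, 0, 0],
  [0, 0, 0, 0, 12337, 0, 297, 0, 0, 0, 0, 0, 0, 3206, 0, 9310, 0, 0, 0, 0, 0, 0, 7179, 0, 0],
  [0, 0, 0, 0, 14364, 4352, 0, 0, 0, 0, 0, 14411, 0, 0, 0, 0, 0, 7069, 0, 0, 0, 0, 0, 6664, 0]]

/-- word table -/
def wordNat : List (List ℕ) := [
  [0, 0, 0, 0, 0, 0, 0, 0, 0, 0, 0, 0, 0, 0, 0, 0, 0, 0, 0, 0, 0, 0, 0, 0, 0],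
  [0, 0, 0, 0, 0, 0, 0, 0, 0, 0, 0, 0, 0, 0, 0, 0, 0, 0, 0, 0, 0, 4, 3, 2, 1],
  [0, 0, 0, 0, 0, 0, 0, 0, 0, 0, 237, 235, 238, 236, 239, 0, 0, 0, 0, 0, 0, 0, 0, 0, 0],
  [0, 0, 0, 0, 0, 0, 0, 0, 0, 0, 0, 0, 0, 0, 0, 216, 218, 215, 217, 219, 0, 0, 0, 0, 0],
  [0, 0, 0, 0, 0, 182, 183, 184, 180, 181, 0, 0, 0, 0, 0, 0, 0, 0, 0, 0, 0, 0, 0, 0, 0],
  [0, 124, 0, 0, 0, 0, 99, 0, 0, 0, 0, 74, 0, 0, 0, 0, 49, 0, 0, 0, 0, 24, 0, 0, 0],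
  [0, 120, 0, 0, 0, 0, 0, 95, 0, 0, 0, 0, 0, 70, 0, 0, 0, 0, 0, 45, 20, 0, 0, 0, 0],
  [0, 121, 0, 0, 0, 0, 0, 0, 96, 0, 71, 0, 0, 0, 0, 0, 0, 46, 0, 0, 0, 0, 0, 0, 21],
  [0, 122, 0, 0, 0, 0, 0, 0, 0, 97, 0, 0, 72, 0, 0, 47, 0, 0, 0, 0, 0, 0, 0, 22, 0],
  [0, 123, 0, 0, 0, 98, 0, 0, 0, 0, 0, 0, 0, 0, 73, 0, 0, 0, 48, 0, 0, 0, 23, 0, 0],
  [0, 0, 0, 67, 0, 0, 0, 0, 117, 0, 0, 0, 0, 42, 0, 0, 0, 0, 92, 0, 0, 0, 0, 17, 0],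
  [0, 0, 0, 65, 0, 0, 115, 0, 0, 0, 0, 0, 0, 0, 40, 0, 0, 90, 0, 0, 15, 0, 0, 0, 0],
  [0, 0, 0, 68, 0, 0, 0, 0, 0, 118, 43, 0, 0, 0, 0, 0, 93, 0, 0, 0, 0, 0, 18, 0, 0],
  [0, 0, 0, 66, 0, 0, 0, 116, 0, 0, 0, 41, 0, 0, 0, 91, 0, 0, 0, 0, 0, 0, 0, 0, 16],
  [0, 0, 0, 69, 0, 119, 0, 0, 0, 0, 0, 0, 44, 0, 0, 0, 0, 0, 0, 94, 0, 19, 0, 0, 0],
  [0, 0, 88, 0, 0, 0, 0, 38, 0, 0, 0, 0, 113, 0, 0, 0, 0, 63, 0, 0, 0, 0, 13, 0, 0],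
  [0, 0, 85, 0, 0, 0, 0, 0, 0, 35, 0, 110, 0, 0, 0, 0, 0, 0, 60, 0, 10, 0, 0, 0, 0],
  [0, 0, 87, 0, 0, 0, 37, 0, 0, 0, 112, 0, 0, 0, 0, 0, 0, 0, 0, 62, 0, 0, 0, 12, 0],
  [0, 0, 89, 0, 0, 0, 0, 0, 39, 0, 0, 0, 0, 0, 114, 64, 0, 0, 0, 0, 0, 14, 0, 0, 0],
  [0, 0, 86, 0, 0, 36, 0, 0, 0, 0, 0, 0, 0, 111, 0, 0, 61, 0, 0, 0, 0, 0, 0, 0, 11],
  [0, 0, 0, 0, 31, 0, 0, 0, 0, 56, 0, 0, 0, 0, 81, 0, 0, 0, 0, 106, 0, 0, 0, 0, 6],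
  [0, 0, 0, 0, 30, 0, 0, 0, 55, 0, 0, 0, 80, 0, 0, 0, 105, 0, 0, 0, 5, 0, 0, 0, 0],
  [0, 0, 0, 0, 34, 0, 0, 59, 0, 0, 84, 0, 0, 0, 0, 0, 0, 0, 109, 0, 0, 9, 0, 0, 0],
  [0, 0, 0, 0, 33, 0, 58, 0, 0, 0, 0, 0, 0, 83, 0, 108, 0, 0, 0, 0, 0, 0, 8, 0, 0],
  [0, 0, 0, 0, 32, 57, 0, 0, 0, 0, 0, 82, 0, 0, 0, 0, 0, 107, 0, 0, 0, 0, 0, 7, 0]]

def get (L : List (List ℕ)) (x : Q5) : ℕ :=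
  (L.getD (x.1.val * 5 + x.2.1.val) []).getD (x.2.2.1.val * 5 + x.2.2.2.val) 0

def img (x : Q5) : Q11 :=
  let n := get tableNat x
  ((n / 1331 : ℕ), (n / 121 % 11 : ℕ), (n / 11 % 11 : ℕ), (n % 11 : ℕ))

def mul4 {R : Type*} [CommRing R] (A B : R × R × R × R) : R × R × R × R :=
  (A.1 * B.1 + A.2.1 * B.2.2.1, A.1 * B.2.1 + A.2.1 * B.2.2.2,
    A.2.2.1 * B.1 + A.2.2.2 * B.2.2.1, A.2.2.1 * B.2.1 + A.2.2.2 * B.2.2.2)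

def det4 {R : Type*} [CommRing R] (A : R × R × R × R) : R := A.1 * A.2.2.2 - A.2.1 * A.2.2.1

def gS : Q5 := (0, -1, 1, 0)
def gT : Q5 := (1, 1, 0, 1)

def tPow (i : ℕ) : Q5 := (1, (i : ZMod 5), 0, 1)

def word (x : Q5) : Q5 :=
  let n := get wordNat x
  mul4 (mul4 (mul4 (mul4 (mul4 (mul4 (tPow (n / 125)) gS) (tPow (n / 25 % 5))) gS) (tPow (n / 5 % 5))) gS) (tPow (n % 5))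

set_option maxHeartbeats 2000000 in
theorem check : ∀ a b c d : ZMod 5, det4 (a, b, c, d) = 1 →
    img (mul4 (a, b, c, d) gS) = mul4 (img (a, b, c, d)) (img gS) ∧
    img (mul4 (a, b, c, d) gT) = mul4 (img (a, b, c, d)) (img gT) ∧
    det4 (img (a, b, c, d)) = 1 ∧
    (img (a, b, c, d) = (1, 0, 0, 1) → (a, b, c, d) = (1, 0, 0, 1)) ∧
    word (a, b, c, d) = (a, b, c, d) := by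
  decide +kernel

theorem img_one : img (1, 0, 0, 1) = (1, 0, 0, 1) := by decide +kernel

end CfsgLib.Recog.Icosahedral
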