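import Mathlib

/-!
# The subgroup generated by the derangements of a transitive group
-/

namespace CfsgLib.Recog.Derangement

variable (G Ω : Type*) [Group G] [Finite G] [MulAction G Ω] [Finite Ω]

/-- the subgroup generated by the derangements -/
abbrev derSubgroup : Subgroup G := Subgroup.closure {g : G | ∀ ω : Ω, g • ω ≠ ω}

variable {G Ω}

open scoped Classical in
theorem one_le_card_fixedBy {g : G} (hg : g ∉ derSubgroup G Ω) : 1 ≤ Nat.card (MulAction.fixedBy Ω g) := by
  by_contra h
  apply hg
  refine Subgroup.subset_closure fun ω hω => h ?_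
  haveI : Nonempty (MulAction.fixedBy Ω g) := ⟨⟨ω, hω⟩⟩
  exact Nat.card_pos

open scoped Classical in
theorem burnside (H : Type*) [Group H] [Fintype H] (X : Type*) [Finite X] [MulAction H X] :
    ∑ h : H, Nat.card (MulAction.fixedBy X h) = Nat.card (MulAction.orbitRel.Quotient H X) * Nat.card H := by
  haveI := Fintype.ofFinite X
  simp only [Nat.card_eq_fintype_card]
  exact MulAction.sum_card_fixedBy_eq_card_orbits_mul_card_group H X

open scoped Classical in
theorem card_orbits_of_isPretransitive [Nonempty Ω] (h : MulAction.IsPretransitive G Ω) :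
    Nat.card (MulAction.orbitRel.Quotient G Ω) = 1 := by
  rw [Nat.card_eq_one_iff_unique]
  exact ⟨⟨Quotient.ind₂' fun x y => Quotient.sound' (MulAction.mem_orbit_iff.mpr (MulAction.exists_smul_eq G y x))⟩,
    ⟨Quotient.mk'' (Classical.arbitrary Ω)⟩⟩

open scoped Classical in
theorem sum_split [Fintype G] (f : G → ℕ) :
    ∑ g : G, f g = (∑ d : derSubgroup G Ω, f d) + ∑ g ∈ Finset.univ.filter (· ∉ derSubgroup G Ω), f g := by
  rw [← Finset.sum_filter_add_sum_filter_not Finset.univ (· ∈ derSubgroup G Ω) f]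
  congr 1
  exact (Finset.sum_subtype _ (fun x => by simp) f)

open scoped Classical in
theorem card_compl [Fintype G] :
    Nat.card (derSubgroup G Ω) + (Finset.univ.filter (· ∉ derSubgroup G Ω)).card = Nat.card G := by
  have h := sum_split (G := G) (Ω := Ω) (fun _ => 1)
  simp only [Finset.sum_const, smul_eq_mul, mul_one, Finset.card_univ] at h
  rw [Nat.card_eq_fintype_card, Nat.card_eq_fintype_card]
  exact h.symm

open scoped Classical in
theorem main [Nonempty Ω] (h : MulAction.IsPretransitive G Ω) :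
    MulAction.IsPretransitive (derSubgroup G Ω) Ω ∧
      ∀ g : G, g ∉ derSubgroup G Ω → Nat.card (MulAction.fixedBy Ω g) = 1 := by
  haveI := Fintype.ofFinite G
  have h1 := burnside G Ω
  rw [card_orbits_of_isPretransitive h, one_mul, sum_split (Ω := Ω)] at h1
  have hD : ∑ d : derSubgroup G Ω, Nat.card (MulAction.fixedBy Ω (d : G)) =
      Nat.card (MulAction.orbitRel.Quotient (derSubgroup G Ω) Ω) * Nat.card (derSubgroup G Ω) := by
    rw [← burnside]; rfl
  rw [hD] at h1
  set T := Finset.univ.filter (fun g : G => g ∉ derSubgroup G Ω) with hT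
  have hle : T.card ≤ ∑ g ∈ T, Nat.card (MulAction.fixedBy Ω g) := by
    rw [Finset.card_eq_sum_ones]
    exact Finset.sum_le_sum fun g hg => one_le_card_fixedBy (Finset.mem_filter.mp hg).2
  have hc := card_compl (G := G) (Ω := Ω)
  rw [← hT] at hc
  haveI : Nonempty (MulAction.orbitRel.Quotient (derSubgroup G Ω) Ω) := ⟨Quotient.mk'' (Classical.arbitrary Ω)⟩
  have hpos : 0 < Nat.card (MulAction.orbitRel.Quotient (derSubgroup G Ω) Ω) := Nat.card_pos
  have ht : Nat.card (MulAction.orbitRel.Quotient (derSubgroup G Ω) Ω) = 1 := by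
    have : Nat.card (MulAction.orbitRel.Quotient (derSubgroup G Ω) Ω) * Nat.card (derSubgroup G Ω) ≤
        1 * Nat.card (derSubgroup G Ω) := by omega
    have := Nat.le_of_mul_le_mul_right this Nat.card_pos
    omega
  refine ⟨⟨fun x y => ?_⟩, ?_⟩
  · have := (Nat.card_eq_one_iff_unique.mp ht).1.elim (Quotient.mk'' y) (Quotient.mk'' x)
    exact MulAction.mem_orbit_iff.mp (Quotient.exact' this)
  · intro g hg
    rw [ht, one_mul] at h1
    have heq : ∑ g ∈ T, 1 = ∑ g ∈ T, Nat.card (MulAction.fixedBy Ω g) := by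
      rw [← Finset.card_eq_sum_ones]; omega
    exact ((Finset.sum_eq_sum_iff_of_le fun g hg => one_le_card_fixedBy (Finset.mem_filter.mp hg).2).mp heq g
      (by simp [hT, hg])).symm

open scoped Classical in
theorem rank_formula [Nonempty Ω] (h : MulAction.IsPretransitive G Ω) :
    Nat.card (MulAction.orbitRel.Quotient (derSubgroup G Ω) (Ω × Ω)) - 1 =
      (Nat.card (MulAction.orbitRel.Quotient G (Ω × Ω)) - 1) * (derSubgroup G Ω).index := by
  haveI := Fintype.ofFinite G
  have hfix : ∀ g : G, Nat.card (MulAction.fixedBy (Ω × Ω) g) =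
      Nat.card (MulAction.fixedBy Ω g) * Nat.card (MulAction.fixedBy Ω g) := fun g => by
    rw [← Nat.card_prod]
    exact Nat.card_congr
      { toFun := fun x => (⟨x.1.1, congrArg Prod.fst x.2⟩, ⟨x.1.2, congrArg Prod.snd x.2⟩)
        invFun := fun y => ⟨(y.1.1, y.2.1), Prod.ext y.1.2 y.2.2⟩
        left_inv := fun x => rfl
        right_inv := fun y => rfl }
  have h1 := burnside G (Ω × Ω)
  rw [sum_split (Ω := Ω)] at h1
  have hD : ∑ d : derSubgroup G Ω, Nat.card (MulAction.fixedBy (Ω × Ω) (d : G)) =
      Nat.card (MulAction.orbitRel.Quotient (derSubgroup G Ω) (Ω × Ω)) * Nat.card (derSubgroup G Ω) := by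
    rw [← burnside]; rfl
  rw [hD] at h1
  set T := Finset.univ.filter (fun g : G => g ∉ derSubgroup G Ω) with hT
  have hs : ∑ g ∈ T, Nat.card (MulAction.fixedBy (Ω × Ω) g) = T.card := by
    rw [Finset.card_eq_sum_ones]
    refine Finset.sum_congr rfl fun g hg => ?_
    rw [hfix, (main h).2 g (Finset.mem_filter.mp hg).2]
  rw [hs] at h1
  have hc := card_compl (G := G) (Ω := Ω)
  rw [← hT] at hc
  have hidx := (derSubgroup G Ω).card_mul_index
  have hD0 : 0 < Nat.card (derSubgroup G Ω) := Nat.card_pos
  generalize Nat.card (MulAction.orbitRel.Quotient (derSubgroup G Ω) (Ω × Ω)) = rD at *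
  generalize Nat.card (MulAction.orbitRel.Quotient G (Ω × Ω)) = r at *
  generalize (derSubgroup G Ω).index = i at *
  generalize Nat.card (derSubgroup G Ω) = D at *
  generalize Nat.card G = N at *
  subst hidx
  have key : rD + i = r * i + 1 := by
    apply Nat.eq_of_mul_eq_mul_left hD0
    zify at h1 hc ⊢
    linear_combination h1 - hc
  rw [Nat.sub_mul, one_mul]
  omega

end CfsgLib.Recog.Derangement
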