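import Mathlib

/-!
# Functions on a prime field determining few directions are linear
-/

namespace CfsgLib.Recog.Directions

variable {p : ℕ} [Fact p.Prime]

open Finset in
/-- low mixed power sums vanish -/
theorem sum_eq_zero (f : ZMod p → ZMod p) (C : Finset (ZMod p)) (hC : (p + 1) / 2 ≤ C.card)
    (hp : p ≠ 2) (h : ∀ c ∈ C, Function.Bijective (fun x => f x + c * x)) (i j : ℕ)
    (hij : i + j ≤ (p - 1) / 2) : ∑ x : ZMod p, x ^ i * f x ^ j = 0 := by
  classical
  have hp3 : 3 ≤ p := by
    have := (Fact.out : p.Prime).two_le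
    omega
  set k := i + j with hk
  let Q : Polynomial (ZMod p) := ∑ x : ZMod p, (Polynomial.C (f x) + Polynomial.C x * Polynomial.X) ^ k
  have hdeg : Q.natDegree ≤ k := by
    refine Polynomial.natDegree_sum_le_of_forall_le _ _ fun x _ => ?_
    refine Polynomial.natDegree_pow_le.trans ?_
    have : (Polynomial.C (f x) + Polynomial.C x * Polynomial.X).natDegree ≤ 1 := by
      rw [add_comm]; exact Polynomial.natDegree_linear_le
    calc k * _ ≤ k * 1 := Nat.mul_le_mul_left k this
      _ = k := mul_one k
  have hroots : ∀ c ∈ C, Q.eval c = 0 := by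
    intro c hc
    simp only [Q, Polynomial.eval_finset_sum, Polynomial.eval_pow, Polynomial.eval_add, Polynomial.eval_mul,
      Polynomial.eval_C, Polynomial.eval_X]
    rw [show (∑ x, (f x + x * c) ^ k) = ∑ x : ZMod p, x ^ k from
      Fintype.sum_bijective (fun x => f x + c * x) (h c hc) _ _ (fun x => by rw [mul_comm])]
    exact FiniteField.sum_pow_lt_card_sub_one (K := ZMod p) k (by rw [ZMod.card]; omega)
  have hQ : Q = 0 := Polynomial.eq_zero_of_natDegree_lt_card_of_eval_eq_zero' Q C hroots (by omega)
  have hc := congrArg (fun P => Polynomial.coeff P i) hQ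
  have hterm : ∀ x : ZMod p, ((Polynomial.C (f x) + Polynomial.C x * Polynomial.X) ^ k).coeff i =
      (k.choose i : ZMod p) * (x ^ i * f x ^ j) := by
    intro x
    rw [add_comm, add_pow, Polynomial.finset_sum_coeff, Finset.sum_eq_single i]
    · rw [mul_pow, show k - i = j by omega, ← Polynomial.C_pow, ← Polynomial.C_pow,
        ← Polynomial.C_eq_natCast]
      rw [show Polynomial.C (x ^ i) * Polynomial.X ^ i * Polynomial.C (f x ^ j) * Polynomial.C ((k.choose i : ℕ) : ZMod p) =
        Polynomial.C ((k.choose i : ℕ) * (x ^ i * f x ^ j) : ZMod p) * Polynomial.X ^ i by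
        simp only [Polynomial.C_mul]; ring]
      rw [Polynomial.coeff_C_mul_X_pow]; simp
    · intro b _ hb
      rw [mul_pow, ← Polynomial.C_pow, ← Polynomial.C_pow, ← Polynomial.C_eq_natCast]
      rw [show Polynomial.C (x ^ b) * Polynomial.X ^ b * Polynomial.C (f x ^ (k - b)) * Polynomial.C ((k.choose b : ℕ) : ZMod p) =
        Polynomial.C ((k.choose b : ℕ) * (x ^ b * f x ^ (k - b)) : ZMod p) * Polynomial.X ^ b by
        simp only [Polynomial.C_mul]; ring]
      rw [Polynomial.coeff_C_mul_X_pow, if_neg (Ne.symm hb)]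
    · intro hi
      exact absurd (Finset.mem_range.mpr (by omega)) hi
  simp only [Q, Polynomial.finset_sum_coeff, Polynomial.coeff_zero, hterm, ← Finset.mul_sum] at hc
  refine (mul_eq_zero.mp hc).resolve_left fun h0 => ?_
  rw [ZMod.natCast_eq_zero_iff] at h0
  exact (Fact.out : p.Prime).not_dvd_mul (Nat.not_dvd_of_pos_of_lt (Nat.one_pos) ((Fact.out : p.Prime).one_lt))
    (fun hd => by
      have h1 : k.choose i ∣ k.factorial := ⟨i.factorial * (k - i).factorial, by
        rw [← mul_assoc, Nat.choose_mul_factorial_mul_factorial (show i ≤ k by omega)]⟩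
      have := (Nat.Prime.dvd_factorial (Fact.out : p.Prime)).mp (hd.trans h1)
      omega) (by rw [one_mul]; exact h0)

theorem sum_pow_card_sub_one : ∑ x : ZMod p, x ^ (p - 1) = -1 := by
  classical
  have h1 : ∀ x : ZMod p, x ^ (p - 1) = 1 - (if x = 0 then 1 else 0) := by
    intro x
    by_cases hx : x = 0
    · subst hx
      rw [zero_pow (by have := (Fact.out : p.Prime).two_le; omega)]; simp
    · rw [ZMod.pow_card_sub_one_eq_one hx]; simp [hx]
  simp only [h1, Finset.sum_sub_distrib, Finset.sum_const, Finset.card_univ, ZMod.card, nsmul_one,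
    ZMod.natCast_self, Finset.sum_ite_eq', Finset.mem_univ, if_true, zero_sub]

theorem linear_of_few_directions (hp : p ≠ 2) (f : ZMod p → ZMod p) (C : Finset (ZMod p))
    (hC : (p + 1) / 2 ≤ C.card) (h : ∀ c ∈ C, Function.Bijective (fun x => f x + c * x)) :
    ∃ a b : ZMod p, ∀ x, f x = a * x + b := by
  classical
  have hpp := (Fact.out : p.Prime)
  have hp3 : 3 ≤ p := by have := hpp.two_le; omega
  let P := Lagrange.interpolate (Finset.univ : Finset (ZMod p)) id f
  have hev : ∀ x, P.eval x = f x := fun x =>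
    Lagrange.eval_interpolate_at_node (v := id) f Function.injective_id.injOn (Finset.mem_univ x)
  have hdegP : P.natDegree ≤ p - 1 := by
    have := Lagrange.degree_interpolate_le (r := f) (s := (Finset.univ : Finset (ZMod p))) (v := id) Function.injective_id.injOn
    rw [Finset.card_univ, ZMod.card] at this
    exact Polynomial.natDegree_le_of_degree_le this
  by_cases hm : P.natDegree ≤ 1
  · refine ⟨P.coeff 1, P.coeff 0, fun x => ?_⟩
    rw [← hev]
    conv_lhs => rw [Polynomial.eq_X_add_C_of_natDegree_le_one hm]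
    simp
  exfalso
  set m := P.natDegree with hmdef
  set a := (p - 1) / m with ha
  set b := (p - 1) % m with hb
  have hab : m * a + b = p - 1 := Nat.div_add_mod _ _
  have hodd : p % 2 = 1 := hpp.eq_two_or_odd.resolve_left hp
  have hblt : b < m := Nat.mod_lt _ (by omega)
  have ha1 : 1 ≤ a := Nat.div_pos (by omega) (by omega)
  have hbound : b + a ≤ (p - 1) / 2 := by
    by_cases hbig : (p - 1) / 2 < m
    · have : a = 1 := by
        refine le_antisymm ?_ ha1
        rw [ha, Nat.div_le_iff_le_mul_add_pred (by omega)]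
        omega
      rw [this] at hab ⊢
      omega
    · have h2 : 2 ≤ a := (Nat.le_div_iff_mul_le (by omega)).mpr (by omega)
      rcases Nat.lt_or_ge m 3 with h3 | h3
      · have hm2 : m = 2 := by omega
        rw [hm2] at hab hblt
        omega
      · have : a * 2 + b * 2 ≤ m * a + b := by nlinarith
        omega
  have hS := sum_eq_zero f C hC hp h b a hbound
  set R : Polynomial (ZMod p) := Polynomial.X ^ b * P ^ a with hR
  have hPne : P ≠ 0 := fun h0 => by
    rw [hmdef, h0, Polynomial.natDegree_zero] at hm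
    omega
  have hdegR : R.natDegree = p - 1 := by
    rw [hR, Polynomial.natDegree_mul (pow_ne_zero _ Polynomial.X_ne_zero) (pow_ne_zero _ hPne),
      Polynomial.natDegree_pow, Polynomial.natDegree_pow, Polynomial.natDegree_X, mul_one, ← hmdef, mul_comm a]
    omega
  have hsum : ∑ x : ZMod p, R.eval x = - R.coeff (p - 1) := by
    simp only [Polynomial.eval_eq_sum_range' (show R.natDegree < p - 1 + 1 by omega)]
    rw [Finset.sum_comm, Finset.sum_range_succ]
    have h0 : ∀ i ∈ Finset.range (p - 1), ∑ x : ZMod p, R.coeff i * x ^ i = 0 := fun i hi => by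
      rw [← Finset.mul_sum, FiniteField.sum_pow_lt_card_sub_one (K := ZMod p) i (by rw [ZMod.card]; exact Finset.mem_range.mp hi), mul_zero]
    rw [Finset.sum_eq_zero h0, zero_add, ← Finset.mul_sum, sum_pow_card_sub_one, mul_neg_one]
  have hsum2 : ∑ x : ZMod p, R.eval x = 0 := by
    rw [← hS]
    refine Finset.sum_congr rfl fun x _ => ?_
    simp [hR, hev]
  rw [hsum, neg_eq_zero, ← hdegR, Polynomial.coeff_natDegree, Polynomial.leadingCoeff_eq_zero] at hsum2
  exact (mul_ne_zero (pow_ne_zero _ Polynomial.X_ne_zero) (pow_ne_zero _ hPne)) hsum2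

end CfsgLib.Recog.Directions
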