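import Mathlib

/-!
# Powers in a semidirect product with abelian kernel
-/

set_option autoImplicit false

namespace CfsgLib.Recog.SemidirectFix

variable {V G : Type*} [CommGroup V] [Group G] {φ : G →* MulAut V}

theorem right_pow (x : V ⋊[φ] G) (n : ℕ) : (x ^ n).right = x.right ^ n :=
  map_pow SemidirectProduct.rightHom x n

/-- the left part of a power is a norm -/
theorem left_pow (x : V ⋊[φ] G) (n : ℕ) :
    (x ^ n).left = ∏ j ∈ Finset.range n, φ (x.right ^ j) x.left := by
  induction n with
  | zero => simp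
  | succ n ih =>
    rw [pow_succ, SemidirectProduct.mul_left, ih, right_pow, Finset.prod_range_succ]

/-- if `x.right ^ n = 1` then the left part of `x ^ n` is fixed by `x.right` -/
theorem left_pow_fixed (x : V ⋊[φ] G) {n : ℕ} (hn : x.right ^ n = 1) :
    φ x.right (x ^ n).left = (x ^ n).left := by
  have h := congrArg SemidirectProduct.left (Commute.self_pow x n).eq
  rw [SemidirectProduct.mul_left, SemidirectProduct.mul_left, right_pow, hn, map_one,
    MulAut.one_apply, mul_comm (x ^ n).left] at h
  exact mul_left_cancel h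

/-- if only the neutral element is fixed, the order is that of the image -/
theorem pow_eq_one_of_fixed (x : V ⋊[φ] G) {n : ℕ} (hn : x.right ^ n = 1)
    (hfix : ∀ v : V, φ x.right v = v → v = 1) : x ^ n = 1 := by
  refine SemidirectProduct.ext (hfix _ (left_pow_fixed x hn)) ?_
  rw [right_pow, hn, SemidirectProduct.one_right]

theorem orderOf_eq_of_fixed (x : V ⋊[φ] G) (hfix : ∀ v : V, φ x.right v = v → v = 1) :
    orderOf x = orderOf x.right :=
  Nat.dvd_antisymm (orderOf_dvd_of_pow_eq_one (pow_eq_one_of_fixed x (pow_orderOf_eq_one _) hfix))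
    (orderOf_map_dvd SemidirectProduct.rightHom x)

theorem pow_mul_eq_one (x : V ⋊[φ] G) {r n : ℕ} (hr : ∀ v : V, v ^ r = 1) (hn : x.right ^ n = 1) :
    x ^ (n * r) = 1 := by
  rw [pow_mul]
  have : x ^ n = SemidirectProduct.inl (x ^ n).left := by
    refine SemidirectProduct.ext (by simp) ?_
    rw [right_pow, hn, SemidirectProduct.right_inl]
  rw [this, ← map_pow, hr, map_one]

/-- an order with a non-trivial norm -/
theorem orderOf_eq_mul (x : V ⋊[φ] G) {r : ℕ} (hr : r.Prime) (hexp : ∀ v : V, v ^ r = 1)
    (h : (x ^ orderOf x.right).left ≠ 1) : orderOf x = orderOf x.right * r := by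
  obtain ⟨c, hc⟩ : orderOf x.right ∣ orderOf x := orderOf_map_dvd SemidirectProduct.rightHom x
  have hd : orderOf x ∣ orderOf x.right * r :=
    orderOf_dvd_of_pow_eq_one (pow_mul_eq_one x hexp (pow_orderOf_eq_one _))
  rw [hc] at hd
  have hc0 : orderOf x.right ≠ 0 := fun h0 => by
    rw [h0] at h
    simp at h
  rcases (Nat.dvd_prime hr).mp
    (Nat.dvd_of_mul_dvd_mul_left (Nat.pos_of_ne_zero hc0) hd) with rfl | rfl
  · exfalso
    rw [mul_one] at hc
    rw [← hc, pow_orderOf_eq_one] at h
    exact h rfl
  · exact hc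

end CfsgLib.Recog.SemidirectFix
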