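import Mathlib
import Cfsg.Agent.Lib.Recog.SemidirectFix

/-!
# Groups of unbounded order whose element orders are the proper divisors of a given number

For `n > 1` and a prime `p` not dividing `n`, the cyclic group of order `n` acts on the functions of
sum zero `ZMod n → ZMod p` by translations. A generator fixes no non-zero function, every other
element fixes one.
-/

set_option autoImplicit false

namespace CfsgLib.Recog.DivisorCover

variable (n p N : ℕ) [NeZero n] [Fact p.Prime]

/-- functions of sum zero -/
def aug : AddSubgroup (Fin (N + 1) → ZMod n → ZMod p) where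
  carrier := {f | ∀ i, ∑ x, f i x = 0}
  zero_mem' := fun i => by simp
  add_mem' := fun {f g} hf hg i => by simp [Finset.sum_add_distrib, hf i, hg i]
  neg_mem' := fun {f} hf i => by simp [hf i]

/-- translation -/
def shiftFun (c : ZMod n) (f : aug n p N) : aug n p N :=
  ⟨fun i x => f.1 i (x + c), fun i => by
    rw [← f.2 i]
    exact Equiv.sum_comp (Equiv.addRight c) (f.1 i)⟩

/-- translation as an automorphism -/
def shiftAut (c : ZMod n) : MulAut (Multiplicative (aug n p N)) where
  toFun v := Multiplicative.ofAdd (shiftFun n p N c v.toAdd)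
  invFun v := Multiplicative.ofAdd (shiftFun n p N (-c) v.toAdd)
  left_inv v := Multiplicative.toAdd.injective (Subtype.ext (funext fun i => funext fun x => by
    show v.toAdd.1 i (x + -c + c) = _
    rw [neg_add_cancel_right]))
  right_inv v := Multiplicative.toAdd.injective (Subtype.ext (funext fun i => funext fun x => by
    show v.toAdd.1 i (x + c + -c) = _
    rw [add_neg_cancel_right]))
  map_mul' _ _ := rfl

/-- the action -/
def act : Multiplicative (ZMod n) →* MulAut (Multiplicative (aug n p N)) where
  toFun c := shiftAut n p N c.toAdd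
  map_one' := MulEquiv.ext fun v => Multiplicative.toAdd.injective (Subtype.ext (funext fun i => funext fun x => by
    show v.toAdd.1 i (x + 0) = _
    rw [add_zero]
    rfl))
  map_mul' a b := MulEquiv.ext fun v => Multiplicative.toAdd.injective (Subtype.ext (funext fun i => funext fun x => by
    show v.toAdd.1 i (x + (a.toAdd + b.toAdd)) = v.toAdd.1 i (x + a.toAdd + b.toAdd)
    rw [add_assoc]))

theorem act_apply (c : Multiplicative (ZMod n)) (v : Multiplicative (aug n p N)) (i : Fin (N + 1)) (x : ZMod n) :
    (act n p N c v).toAdd.1 i x = v.toAdd.1 i (x + c.toAdd) := rfl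

theorem pow_p (v : Multiplicative (aug n p N)) : v ^ p = 1 :=
  Multiplicative.toAdd.injective (Subtype.ext (funext fun i => funext fun x => by simp))

theorem fixed_trivial (hpn : ¬ p ∣ n) (c : Multiplicative (ZMod n)) (hc : orderOf c = n)
    (v : Multiplicative (aug n p N)) (hv : act n p N c v = v) : v = 1 := by
  refine Multiplicative.toAdd.injective (Subtype.ext (funext fun i => funext fun x => ?_))
  have hshift : ∀ y, v.toAdd.1 i (y + c.toAdd) = v.toAdd.1 i y := fun y => by
    rw [← act_apply n p N c v i y, hv]
  have hmul : ∀ (k : ℕ) (y), v.toAdd.1 i (y + k • c.toAdd) = v.toAdd.1 i y := by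
    intro k y
    induction k with
    | zero => simp
    | succ k ih => rw [succ_nsmul, ← add_assoc, hshift, ih]
  have hgen : ∀ z : Multiplicative (ZMod n), z ∈ Submonoid.powers c := fun z => by
    rw [mem_powers_iff_mem_zpowers]
    have htop : Subgroup.zpowers c = ⊤ := Subgroup.eq_top_of_card_eq _ (by
      rw [Nat.card_zpowers, hc, Nat.card_congr Multiplicative.toAdd, Nat.card_zmod])
    rw [htop]; trivial
  have hconst : ∀ y, v.toAdd.1 i y = v.toAdd.1 i x := fun y => by
    obtain ⟨k, hk⟩ := hgen (Multiplicative.ofAdd (y - x))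
    have hk' : k • c.toAdd = y - x := by
      have := congrArg Multiplicative.toAdd hk
      simpa using this
    rw [← hmul k x, hk', add_sub_cancel]
  have hsum := v.toAdd.2 i
  rw [Finset.sum_congr rfl fun y _ => hconst y, Finset.sum_const, Finset.card_univ, ZMod.card, nsmul_eq_mul,
    mul_eq_zero] at hsum
  rcases hsum with h | h
  · exact absurd ((ZMod.natCast_eq_zero_iff n p).mp h) hpn
  · simpa using h

theorem exists_fixed (c : Multiplicative (ZMod n)) (hc : orderOf c ≠ n) :
    ∃ v : Multiplicative (aug n p N), v ≠ 1 ∧ act n p N c v = v := by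
  classical
  let K := Subgroup.zpowers c
  have hK : K ≠ ⊤ := fun h => hc (by
    rw [← Nat.card_zpowers, show Subgroup.zpowers c = ⊤ from h, Subgroup.card_top,
      Nat.card_congr Multiplicative.toAdd, Nat.card_zmod])
  obtain ⟨a, ha⟩ : ∃ a, a ∉ K := by
    by_contra h
    push Not at h
    exact hK (Subgroup.eq_top_iff' K |>.mpr h)
  let g : ZMod n → ZMod p := fun x => if Multiplicative.ofAdd x ∈ K then 1 else 0
  let f : Fin (N + 1) → ZMod n → ZMod p := fun _ x => g x - g (x + a.toAdd)
  have hf : f ∈ aug n p N := fun i => by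
    show ∑ x, (g x - g (x + a.toAdd)) = 0
    rw [Finset.sum_sub_distrib, sub_eq_zero]
    exact (Equiv.sum_comp (Equiv.addRight a.toAdd) g).symm
  refine ⟨Multiplicative.ofAdd ⟨f, hf⟩, fun h => ?_, ?_⟩
  · have := congrArg (fun w : Multiplicative (aug n p N) => w.toAdd.1 0 0) h
    have h0 : g 0 = 1 := if_pos (one_mem K)
    have h1 : g (0 + a.toAdd) = 0 := if_neg (by simpa using ha)
    rw [zero_add] at h1
    simp [f, h0, h1] at this
  · have hg : ∀ x, g (x + c.toAdd) = g x := fun x => by
      have hiff : Multiplicative.ofAdd (x + c.toAdd) ∈ K ↔ Multiplicative.ofAdd x ∈ K := by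
        rw [ofAdd_add, ofAdd_toAdd]
        exact K.mul_mem_cancel_right (Subgroup.mem_zpowers c)
      exact if_congr hiff rfl rfl
    refine Multiplicative.toAdd.injective (Subtype.ext (funext fun i => funext fun x => ?_))
    rw [act_apply]
    show g (x + c.toAdd) - g (x + c.toAdd + a.toAdd) = g x - g (x + a.toAdd)
    rw [hg, add_right_comm, hg]

/-- the group -/
abbrev Cover : Type := Multiplicative (aug n p N) ⋊[act n p N] Multiplicative (ZMod n)

theorem range_orderOf (hn : 1 < n) (hpn : ¬ p ∣ n) :
    Set.range (orderOf : Cover n p N → ℕ) = {m | m ∣ n * p ∧ m ≠ n * p} := by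
  have hp : p.Prime := Fact.out
  have hp1 : 1 < p := hp.one_lt
  have hdn : ∀ c : Multiplicative (ZMod n), orderOf c ∣ n := fun c => by
    have := orderOf_dvd_natCard c
    rwa [Nat.card_congr Multiplicative.toAdd, Nat.card_zmod] at this
  ext m
  constructor
  · rintro ⟨x, rfl⟩
    by_cases hc : orderOf x.right = n
    · rw [SemidirectFix.orderOf_eq_of_fixed x fun v hv => fixed_trivial n p N hpn x.right hc v hv, hc]
      exact ⟨dvd_mul_right n p, fun h => by nlinarith⟩
    · have h := orderOf_dvd_of_pow_eq_one
        (SemidirectFix.pow_mul_eq_one x (fun v => pow_p n p N v) (pow_orderOf_eq_one x.right))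
      refine ⟨h.trans (mul_dvd_mul_right (hdn _) p), fun he => hc ?_⟩
      have h' := Nat.le_of_dvd (Nat.mul_pos (orderOf_pos _) hp.pos) h
      rw [he] at h'
      exact le_antisymm (Nat.le_of_dvd (Nat.pos_of_neZero n) (hdn _)) (Nat.le_of_mul_le_mul_right h' hp.pos)
  · rintro ⟨hm, hne⟩
    have hm0 : 0 < m := Nat.pos_of_dvd_of_pos hm (Nat.mul_pos (Nat.pos_of_neZero n) hp.pos)
    obtain ⟨d, hd, hcase⟩ : ∃ d, d ∣ n ∧ (m = d ∨ (m = d * p ∧ d ≠ n)) := by
      by_cases hpm : p ∣ m
      · obtain ⟨d, rfl⟩ := hpm
        refine ⟨d, (Nat.mul_dvd_mul_iff_left hp.pos).mp (by rwa [mul_comm n p] at hm),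
          Or.inr ⟨mul_comm p d, fun h => hne (by rw [h, mul_comm])⟩⟩
      · exact ⟨m, (Nat.Coprime.dvd_of_dvd_mul_right ((hp.coprime_iff_not_dvd.mpr hpm).symm) hm), Or.inl rfl⟩
    obtain ⟨g, hg⟩ := IsCyclic.exists_ofOrder_eq_natCard (α := Multiplicative (ZMod n))
    rw [Nat.card_congr Multiplicative.toAdd, Nat.card_zmod] at hg
    obtain ⟨k, hk⟩ := hd
    have hk0 : k ≠ 0 := fun h => NeZero.ne n (by rw [hk, h, mul_zero])
    have hgk : orderOf (g ^ k) = d := by
      rw [orderOf_pow_of_dvd hk0 (by rw [hg, hk]; exact dvd_mul_left k d), hg, hk,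
        Nat.mul_div_cancel _ (Nat.pos_of_ne_zero hk0)]
    rcases hcase with rfl | ⟨rfl, hdn'⟩
    · refine ⟨SemidirectProduct.inr (g ^ k), ?_⟩
      rw [orderOf_injective SemidirectProduct.inr SemidirectProduct.inr_injective, hgk]
    · obtain ⟨v, hv, hfix⟩ := exists_fixed n p N (g ^ k) (by rw [hgk]; exact hdn')
      let a : Cover n p N := SemidirectProduct.inl v
      let b : Cover n p N := SemidirectProduct.inr (g ^ k)
      have ha : orderOf a = p := by
        rw [orderOf_injective SemidirectProduct.inl SemidirectProduct.inl_injective]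
        exact orderOf_eq_prime (pow_p n p N v) hv
      have hb : orderOf b = d := by
        rw [orderOf_injective SemidirectProduct.inr SemidirectProduct.inr_injective, hgk]
      have hcom : Commute a b := by
        refine SemidirectProduct.ext ?_ ?_ <;> simp only [a, b, SemidirectProduct.mul_left, SemidirectProduct.mul_right,
          SemidirectProduct.left_inl, SemidirectProduct.left_inr, SemidirectProduct.right_inl, SemidirectProduct.right_inr, map_one,
          MulAut.one_apply, hfix, one_mul, mul_one]
      refine ⟨a * b, ?_⟩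
      have hco : Nat.Coprime (orderOf a) (orderOf b) := by
        rw [ha, hb]
        exact hp.coprime_iff_not_dvd.mpr fun h => hpn (h.trans ⟨k, hk⟩)
      rw [hcom.orderOf_mul_eq_mul_orderOf_of_coprime hco, ha, hb, mul_comm]

theorem card_large (hn : 1 < n) : N < Nat.card (Cover n p N) := by
  classical
  have hp : p.Prime := Fact.out
  have : Fact (1 < n) := ⟨hn⟩
  let e : Fin (N + 1) → aug n p N := fun i =>
    ⟨fun j x => if j = i then ((if x = 0 then 1 else 0) - (if x = 1 then 1 else 0)) else 0, fun j => by
      by_cases h : j = i <;> simp [h]⟩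
  have hinj : Function.Injective fun i => (SemidirectProduct.inl (Multiplicative.ofAdd (e i)) : Cover n p N) := by
    intro i j hij
    by_contra h
    have h2 := Multiplicative.ofAdd.injective (SemidirectProduct.inl_injective hij)
    have h3 := congrFun (congrFun (congrArg Subtype.val h2) i) 0
    simp [e, h] at h3
  haveI : Finite (Cover n p N) := Finite.of_equiv _ SemidirectProduct.equivProd.symm
  have := Nat.card_le_card_of_injective _ hinj
  rw [Nat.card_eq_fintype_card (α := Fin (N + 1)), Fintype.card_fin] at this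
  exact Nat.lt_of_succ_le this

theorem exists_large_group (hn : 1 < n) (hpn : ¬ p ∣ n) :
    ∃ (H : Type) (_ : Group H) (_ : Fintype H), N < Fintype.card H ∧
      Set.range (orderOf : H → ℕ) = {m | m ∣ n * p ∧ m ≠ n * p} := by
  haveI : Finite (Cover n p N) := Finite.of_equiv _ SemidirectProduct.equivProd.symm
  refine ⟨Cover n p N, inferInstance, Fintype.ofFinite _, ?_, range_orderOf n p N hn hpn⟩
  rw [Fintype.card_eq_nat_card]
  exact card_large n p N hn

end CfsgLib.Recog.DivisorCover
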