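import Mathlib

/-!
# Codes for the field of eight elements and powers modulo a quartic

An element of the field is coded by its coordinates with respect to `1, τ, τ²` with `τ³ = τ + 1`; a polynomial
modulo `X⁴ + tX³ + t⁴X² + tX + 1` by its four coefficients.
-/

set_option autoImplicit false

namespace CfsgLib.Recog.EightCodes

/-- codes of field elements -/
abbrev C8 := ZMod 2 × ZMod 2 × ZMod 2

/-- codes of polynomials of degree at most three -/
abbrev P4 := C8 × C8 × C8 × C8

/-- product of codes -/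
def mc : C8 → C8 → C8
  | (a, b, c), (d, e, f) =>
    (a * d + (b * f + c * e), a * e + b * d + (b * f + c * e) + c * f, a * f + b * e + c * d + c * f)

/-- one -/
def one8 : C8 := (1, 0, 0)

/-- square -/
def sqc (t : C8) : C8 := mc t t

/-- fourth power -/
def qc (t : C8) : C8 := sqc (sqc t)

/-- multiplication by the indeterminate -/
def step (t : C8) : P4 → P4
  | (a, b, c, d) => (d, a + mc d t, b + mc d (qc t), c + mc d t)

/-- the constant one -/
def one4 : P4 := (one8, 0, 0, 0)

/-- powers of the indeterminate -/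
def pw (t : C8) : ℕ → P4
  | 0 => one4
  | n + 1 => step t (pw t n)

/-- scalar multiple -/
def sm (x : C8) : P4 → P4
  | (a, b, c, d) => (mc x a, mc x b, mc x c, mc x d)

/-- product modulo the quartic -/
def mulP (t : C8) : P4 → P4 → P4
  | (a, b, c, d), v => sm a v + sm b (step t v) + sm c (step t (step t v)) + sm d (step t (step t (step t v)))

variable {F : Type*} [Field F] [CharP F 2] (τ : F)

/-- the value of a code -/
def val (a : C8) : F := (ZMod.castHom dvd_rfl F a.1) + (ZMod.castHom dvd_rfl F a.2.1) * τ +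
  (ZMod.castHom dvd_rfl F a.2.2) * τ ^ 2

theorem val_add (a b : C8) : val τ (a + b) = val τ a + val τ b := by
  simp only [val, Prod.fst_add, Prod.snd_add, map_add]; ring

theorem val_one8 : val τ one8 = 1 := by simp [val, one8]

theorem val_zero : val τ 0 = 0 := by simp [val]

variable {τ}

theorem val_mc (hτ : τ ^ 3 = τ + 1) (a b : C8) : val τ (mc a b) = val τ a * val τ b := by
  obtain ⟨a0, a1, a2⟩ := a
  obtain ⟨b0, b1, b2⟩ := b
  simp only [val, mc, map_add, map_mul]
  set z := ZMod.castHom (dvd_rfl : 2 ∣ 2) F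
  linear_combination (-(z a1 * z b2 + z a2 * z b1) - z a2 * z b2 * τ) * hτ

theorem val_sqc (hτ : τ ^ 3 = τ + 1) (a : C8) : val τ (sqc a) = val τ a ^ 2 := by
  rw [sqc, val_mc hτ, sq]

theorem val_qc (hτ : τ ^ 3 = τ + 1) (a : C8) : val τ (qc a) = val τ a ^ 4 := by
  rw [qc, val_sqc hτ, val_sqc hτ, ← pow_mul]

theorem inv_check : ∀ a : C8, a = 0 ∨ ∃ b : C8, mc a b = one8 := by decide

theorem val_injective (hτ : τ ^ 3 = τ + 1) : Function.Injective (val (F := F) τ) := by
  intro a b h
  rcases inv_check (a + b) with h0 | ⟨c, hc⟩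
  · have : ∀ x y : C8, x + y = 0 → x = y := by decide
    exact this a b h0
  · have h1 := congrArg (val τ) hc
    rw [val_mc hτ, val_add, h, CharTwo.add_self_eq_zero, zero_mul, val_one8] at h1
    exact absurd h1 zero_ne_one

variable {A : Type*} [Ring A] [Algebra F A]

/-- the value of a polynomial code -/
def ev (τ : F) (M : A) : P4 → A
  | (a, b, c, d) => val τ a • (1 : A) + val τ b • M + val τ c • M ^ 2 + val τ d • M ^ 3

theorem ev_add (M : A) (u v : P4) : ev τ M (u + v) = ev τ M u + ev τ M v := by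
  obtain ⟨a, b, c, d⟩ := u
  obtain ⟨a', b', c', d'⟩ := v
  simp only [ev, Prod.mk_add_mk, val_add, add_smul]
  abel

theorem ev_one4 (M : A) : ev τ M one4 = 1 := by
  simp only [ev, one4, val_one8, val_zero, zero_smul, add_zero, one_smul]

theorem ev_sm (hτ : τ ^ 3 = τ + 1) (x : C8) (M : A) (v : P4) : ev τ M (sm x v) = val τ x • ev τ M v := by
  obtain ⟨a, b, c, d⟩ := v
  simp only [ev, sm, val_mc hτ, mul_smul, smul_add]

/-- `M` is a root of the quartic belonging to `t` -/
def Root (τ : F) (t : C8) (M : A) : Prop :=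
  M ^ 4 = val τ t • M ^ 3 + val τ (qc t) • M ^ 2 + val τ t • M + 1

theorem ev_step (hτ : τ ^ 3 = τ + 1) {t : C8} {M : A} (h : Root τ t M) (v : P4) :
    ev τ M (step t v) = M * ev τ M v := by
  obtain ⟨a, b, c, d⟩ := v
  simp only [ev, step, mul_add, mul_smul_comm, mul_one, ← pow_succ', val_add, val_mc hτ, add_smul, mul_smul]
  rw [show M * M = M ^ 2 from (sq M).symm]
  show _ = val τ a • M + val τ b • M ^ 2 + val τ c • M ^ 3 + val τ d • M ^ 4
  rw [h]
  simp only [smul_add]
  abel

theorem ev_pw (hτ : τ ^ 3 = τ + 1) {t : C8} {M : A} (h : Root τ t M) (n : ℕ) : ev τ M (pw t n) = M ^ n := by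
  induction n with
  | zero => rw [pw, ev_one4, pow_zero]
  | succ n ih => rw [pw, ev_step hτ h, ih, pow_succ']

theorem ev_mulP (hτ : τ ^ 3 = τ + 1) {t : C8} {M : A} (h : Root τ t M) (u v : P4) :
    ev τ M (mulP t u v) = ev τ M u * ev τ M v := by
  obtain ⟨a, b, c, d⟩ := u
  simp only [mulP, ev_add, ev_sm hτ, ev_step hτ h]
  simp only [ev, add_mul, smul_mul_assoc, one_mul, pow_succ, pow_zero, mul_assoc]

theorem pow_eq_one (hτ : τ ^ 3 = τ + 1) {t : C8} {M : A} (h : Root τ t M) {n : ℕ} (hn : pw t n = one4) :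
    M ^ n = 1 := by
  rw [← ev_pw hτ h, hn, ev_one4]

/-- the quartic of `t` as a code modulo the quartic of `s` -/
def diff (t s : C8) : P4 := (0, t + s, qc t + qc s, t + s)

theorem ev_diff {t s : C8} {M : A} (h : Root τ s M) :
    ev τ M (diff t s) = M ^ 4 + val τ t • M ^ 3 + val τ (qc t) • M ^ 2 + val τ t • M + 1 := by
  rw [h]
  simp only [ev, diff, val_zero, zero_smul, zero_add, val_add, add_smul]
  have h2 : ∀ x : A, x + x = 0 := fun x => by
    rw [← two_smul F x, CharTwo.two_eq_zero, zero_smul]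
  calc _ = val τ t • M + val τ s • M + (val τ (qc t) • M ^ 2 + val τ (qc s) • M ^ 2) +
        (val τ t • M ^ 3 + val τ s • M ^ 3) + ((1 : A) + 1) := by rw [h2 1, add_zero]
    _ = _ := by abel

/-- inverses of the differences -/
def cands : List P4 := [((1, 1, 1), 0, (1, 1, 1), (0, 1, 0)), ((1, 1, 0), 0, (1, 1, 0), (0, 0, 1)),
  ((1, 0, 1), 0, (1, 0, 1), (0, 1, 1))]

set_option synthInstance.maxSize 2000 in
set_option synthInstance.maxHeartbeats 200000 in
/-- the classification of the quartics -/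
theorem classify : ∀ t : C8, ((t = 0 ∨ t = one8) ∧ (pw t 4 = one4 ∨ pw t 5 = one4)) ∨ pw t 7 = one4 ∨
    (pw t 13 = one4 ∧ (cands.any fun q => decide (mulP (sqc t) q (diff t (sqc t)) = one4)) = true) := by
  decide +kernel

end CfsgLib.Recog.EightCodes
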