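import Mathlib
import Cfsg.Agent.Lib.Classical.PSLTwoSimple
import Cfsg.Agent.Lib.Classical.SevenTwo
import Cfsg.Agent.Lib.Perm.Simple168Two

/-!
# Facts on `Z₂ × S₄`, `S₅` and `SL(3, 2)`

Finite computations and the two centraliser properties of `S₅` and `SL(3, 2)` used for groups
with an involution centraliser isomorphic to `Z₂ × S₄`.
-/

set_option autoImplicit false
set_option linter.all false

namespace CfsgLib.Recog.TwoSFour

open Equiv Subgroup

/-- The group `Z₂ × S₄`. -/
abbrev M : Type := Multiplicative (ZMod 2) × Perm (Fin 4)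

/-- The central involution. -/
def g1 : M := (Multiplicative.ofAdd 1, 1)

/-- A four-cycle. -/
def r0 : Perm (Fin 4) := swap 0 1 * swap 1 2 * swap 2 3

/-- Its square. -/
def z0 : Perm (Fin 4) := r0 * r0

/-- A transposition commuting with the square. -/
def a0 : Perm (Fin 4) := swap 0 2

/-- Another double transposition. -/
def b0 : Perm (Fin 4) := swap 0 1 * swap 2 3

theorem z0_eq : z0 = swap 0 2 * swap 1 3 := by decide

theorem m_center : ∀ m : M, (∀ x, m * x = x * m) → m = 1 ∨ m = g1 := by decide +kernel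

theorem m_card_centralizer :
    ((Finset.univ : Finset M).filter fun m => m.2 * z0 = z0 * m.2).card = 16 := by decide +kernel

theorem comm_cases : ∀ a b : Perm (Fin 4), a * z0 = z0 * a → b * z0 = z0 * b →
    a * b * a⁻¹ * b⁻¹ = 1 ∨ a * b * a⁻¹ * b⁻¹ = z0 := by decide +kernel

theorem comm_eq : r0 * a0 * r0⁻¹ * a0⁻¹ = z0 ∧ r0 * z0 = z0 * r0 ∧ a0 * z0 = z0 * a0 ∧ z0 ≠ 1 ∧
    r0 * b0 ≠ b0 * r0 ∧ b0 * z0 = z0 * b0 ∧ b0 ≠ z0 ∧ b0 ≠ 1 := by decide

theorem inv_classes : ∀ d : Perm (Fin 4), d * z0 = z0 * d → d * d = 1 → d ≠ 1 →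
    ∃ s, s * d * s⁻¹ = z0 ∨ s * d * s⁻¹ = a0 := by decide +kernel

theorem double_conj : ∃ s s' : Perm (Fin 4), s * z0 * s⁻¹ = b0 ∧ s' * z0 * s'⁻¹ = z0 * b0 := by
  decide +kernel

theorem sq_of_even : ∀ σ : Perm (Fin 4), Perm.sign σ = 1 → ∃ τ, τ * τ = σ := by decide +kernel

theorem center_four : ∀ σ : Perm (Fin 4), (∀ τ, σ * τ = τ * σ) → σ = 1 := by decide +kernel

theorem exists_three : ∃ σ : Perm (Fin 4), σ ^ 3 = 1 ∧ σ ≠ 1 := by decide +kernel

/-- The dihedral subgroup. -/
def rhoFun : DihedralGroup 4 → Perm (Fin 4)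
  | .r k => r0 ^ k.val
  | .sr k => a0 * r0 ^ k.val

theorem rho_mul : ∀ x y, rhoFun (x * y) = rhoFun x * rhoFun y := by decide +kernel

/-- The dihedral subgroup, as a homomorphism. -/
def rho : DihedralGroup 4 →* Perm (Fin 4) := MonoidHom.mk' rhoFun rho_mul

theorem rho_injective : Function.Injective rho := by
  show Function.Injective rhoFun
  unfold Function.Injective
  decide +kernel

theorem rho_range : ∀ σ : Perm (Fin 4), σ * z0 = z0 * σ ↔ ∃ d, rhoFun d = σ := by decide +kernel

/-- Representatives of the classes of `S₅`. -/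
def reps5 : List (Perm (Fin 5)) :=
  [1, swap 0 1, swap 0 1 * swap 2 3, swap 0 1 * swap 1 2, swap 0 1 * swap 1 2 * swap 2 3,
    swap 0 1 * swap 1 2 * swap 2 3 * swap 3 4, swap 0 1 * swap 1 2 * swap 3 4]

theorem cover_five : ∀ q : Perm (Fin 5), ∃ g : Perm (Fin 5), g * q * g⁻¹ ∈ reps5 := by decide +kernel

theorem reps_cent : ∀ q ∈ reps5, q * q = 1 ∨
    Nat.gcd 24 ((Finset.univ.filter fun x => x * q = q * x).card) < 6 ∨
      (Finset.univ.filter fun x => x * q = q * x).card < 12 := by decide +kernel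

theorem reps_noncomm : ∀ p ∈ reps5, p = 1 ∨ ∃ g, p * (g * p * g⁻¹) ≠ (g * p * g⁻¹) * p := by
  decide +kernel

theorem eq_of_small_dvd {k c d : ℕ} (h : Nat.gcd 24 c < k ∨ c < 2 * k) (hk : k ≤ d) (h24 : d ∣ 24)
    (hd : d ∣ c) (hc : 0 < c) : c = d := by
  rcases h with h | h
  · have := Nat.le_of_dvd (Nat.gcd_pos_of_pos_left _ (by norm_num)) (Nat.dvd_gcd h24 hd)
    omega
  · obtain ⟨m, rfl⟩ := hd
    rcases m with _ | _ | m
    · simp at hc
    · simp
    · exfalso; nlinarith

variable {H : Type*} [Group H] [Finite H]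

/-- The two properties of `S₅`. -/
theorem five_props (ψ : H ≃* Perm (Fin 5)) :
    (∀ q : H, q * q = 1 ∨ ∀ d, 6 ≤ d → d ∣ 24 → d ∣ Nat.card (centralizer ({q} : Set H)) →
      Nat.card (centralizer ({q} : Set H)) = d) ∧
    (∀ p : H, (∀ g, p * (g * p * g⁻¹) = (g * p * g⁻¹) * p) → p = 1) := by
  constructor
  · intro q
    obtain ⟨g, hg⟩ := cover_five (ψ q)
    obtain ⟨p, hp⟩ : ∃ p, p = g * ψ q * g⁻¹ := ⟨_, rfl⟩
    rw [← hp] at hg
    obtain ⟨φ, hφ⟩ : ∃ φ : H ≃* Perm (Fin 5), φ = ψ.trans (MulAut.conj g) := ⟨_, rfl⟩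
    have hφq : φ q = p := by rw [hφ, hp]; rfl
    have hc : Nat.card (centralizer ({q} : Set H)) = (Finset.univ.filter fun x => x * p = p * x).card := by
      rw [← Nat.subtype_card (p := fun x => x * p = p * x) _ fun x => by simp]
      refine Nat.card_congr (φ.toEquiv.subtypeEquiv fun x => ?_)
      show x ∈ centralizer ({q} : Set H) ↔ φ x * p = p * φ x
      rw [mem_centralizer_singleton_iff, ← hφq, ← map_mul, ← map_mul, φ.injective.eq_iff]
    have hpos : 0 < Nat.card (centralizer ({q} : Set H)) := Nat.card_pos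
    rcases reps_cent p hg with h | h
    · exact Or.inl (φ.injective (by rw [map_mul, hφq, h, map_one]))
    · exact Or.inr fun d h1 h2 h3 => eq_of_small_dvd (k := 6) (by rw [hc]; exact h) h1 h2 h3 hpos
  · intro q hq
    obtain ⟨g, hg⟩ := cover_five (ψ q)
    obtain ⟨φ, hφ⟩ : ∃ φ : H ≃* Perm (Fin 5), φ = ψ.trans (MulAut.conj g) := ⟨_, rfl⟩
    have hφq : φ q = g * ψ q * g⁻¹ := by rw [hφ]; rfl
    rw [← hφq] at hg
    rcases reps_noncomm _ hg with h | ⟨x, hx⟩
    · exact φ.injective (h.trans (map_one φ).symm)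
    · refine absurd ?_ hx
      obtain ⟨y, rfl⟩ := φ.surjective x
      rw [← map_inv, ← map_mul, ← map_mul, ← map_mul, ← map_mul, hq y]

open CfsgLib.Perm.Simple168

/-- The two properties of a simple group of order 168. -/
theorem seven_props [IsSimpleGroup H] (h : Nat.card H = 168) :
    (∀ q : H, q * q = 1 ∨ ∀ d, 4 ≤ d → d ∣ 24 → d ∣ Nat.card (centralizer ({q} : Set H)) →
      Nat.card (centralizer ({q} : Set H)) = d) ∧
    (∀ p : H, (∀ g, p * (g * p * g⁻¹) = (g * p * g⁻¹) * p) → p = 1) := by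
  classical
  constructor
  · intro q
    by_cases hq : q * q = 1
    · exact Or.inl hq
    refine Or.inr fun d h1 h2 h3 => eq_of_small_dvd (k := 4) (Or.inr ?_) h1 h2 h3 Nat.card_pos
    rcases orderOf_cases h q with h' | h' | h' | h' | h'
    · exact absurd (by rw [orderOf_eq_one_iff.1 h', mul_one]) hq
    · exact absurd (by rw [← pow_two, ← h', pow_orderOf_eq_one]) hq
    · rw [card_centralizer_of_orderOf_three h h']; norm_num
    · -- an element of order four is centralised only by a proper subgroup of a Sylow 2-subgroup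
      haveI : Fact (Nat.Prime 2) := ⟨Nat.prime_two⟩
      have hsq : orderOf (q * q) = 2 := orderOf_eq_prime (by
        rw [← pow_two q, ← pow_mul, show 2 * 2 = orderOf q from h'.symm, pow_orderOf_eq_one]) hq
      have hle : centralizer ({q} : Set H) ≤ centralizer ({q * q} : Set H) := fun x hx => by
        rw [mem_centralizer_singleton_iff] at hx ⊢
        rw [← mul_assoc, hx, mul_assoc, hx, ← mul_assoc]
      obtain ⟨T, hT⟩ := ((isPGroup_centralizer_involution h hsq).to_le hle).exists_le_sylow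
      by_contra hc
      have hc8 : Nat.card (T : Subgroup H) ≤ Nat.card (centralizer ({q} : Set H)) := by
        rw [card_sylow_two_subgroup h T]; omega
      have heq := eq_of_le_of_card_ge hT hc8
      have hqT : q ∈ (T : Subgroup H) := heq ▸ mem_centralizer_singleton_iff.2 rfl
      obtain ⟨e⟩ := two_dihedral h T
      have hcen : ∀ y, e ⟨q, hqT⟩ * y = y * e ⟨q, hqT⟩ := fun y => by
        obtain ⟨⟨x, hx⟩, rfl⟩ := e.surjective y
        rw [← map_mul, ← map_mul]
        exact congrArg e (Subtype.ext (mem_centralizer_singleton_iff.1 (heq.symm ▸ hx)).symm)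
      have hd4 : ∀ u : DihedralGroup 4, (∀ y, u * y = y * u) → u * u = 1 := by decide
      have := congrArg Subtype.val (e.injective (show e (⟨q, hqT⟩ * ⟨q, hqT⟩) = e 1 by
        rw [map_mul, map_one]; exact hd4 _ hcen))
      exact hq this
    · rw [card_centralizer_of_orderOf_seven h h']; norm_num
  · intro p hp
    by_contra hp1
    have htop : normalClosure ({p} : Set H) = ⊤ :=
      ((normalClosure_normal (s := ({p} : Set H))).eq_bot_or_eq_top).resolve_left fun hb =>
        hp1 ((eq_bot_iff_forall _).1 hb p (subset_normalClosure rfl))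
    have hab : ∀ a ∈ Group.conjugatesOfSet ({p} : Set H), ∀ b ∈ Group.conjugatesOfSet ({p} : Set H),
        a * b = b * a := by
      intro a ha b hb
      rw [Group.mem_conjugatesOfSet_iff] at ha hb
      obtain ⟨_, rfl, ha⟩ := ha
      obtain ⟨_, rfl, hb⟩ := hb
      obtain ⟨x, rfl⟩ := isConj_iff.1 ha
      obtain ⟨y, rfl⟩ := isConj_iff.1 hb
      have := congrArg (fun w => x * w * x⁻¹) (hp (x⁻¹ * y))
      simpa [mul_assoc] using this
    refine not_comm h ⟨⟨fun a b => ?_⟩⟩
    have hcl : normalClosure ({p} : Set H) ≤ centralizer (Group.conjugatesOfSet ({p} : Set H)) :=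
      (closure_le _).2 fun a ha => mem_centralizer_iff.2 fun b hb => hab b hb a ha
    have hcl2 : normalClosure ({p} : Set H) ≤
        centralizer (normalClosure ({p} : Set H) : Set H) :=
      (closure_le _).2 fun a ha => mem_centralizer_iff.2 fun b hb =>
        (mem_centralizer_iff.1 (hcl hb) a ha).symm
    exact mem_centralizer_iff.1 (hcl2 (htop.symm ▸ mem_top b)) a (htop.symm ▸ mem_top a)

/-- `SL(3, 2)` is simple of order 168. -/
theorem seven_simple (ψ : H ≃* Matrix.SpecialLinearGroup (Fin 3) (ZMod 2)) :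
    IsSimpleGroup H ∧ Nat.card H = 168 := by
  obtain ⟨φ⟩ := CfsgLib.Classical.Seven.nonempty_sl_three_equiv
  haveI : Fact (Nat.Prime 7) := ⟨by norm_num⟩
  haveI := CfsgLib.Classical.isSimpleGroup_PSL_two (F := ZMod 7) (by simp)
  have h2 := CfsgLib.Classical.Two.card_PSL_two (F := ZMod 7)
  rw [ZMod.card] at h2
  norm_num at h2
  rw [← Nat.card_eq_fintype_card] at h2
  haveI : Nontrivial H := (ψ.trans φ).toEquiv.nontrivial
  refine ⟨IsSimpleGroup.isSimpleGroup_of_surjective (ψ.trans φ).symm.toMonoidHom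
    (ψ.trans φ).symm.surjective, ?_⟩
  rw [Nat.card_congr (ψ.trans φ).toEquiv]
  omega

end CfsgLib.Recog.TwoSFour
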