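import Mathlib

/-!
# The unital of order four: data
-/

set_option autoImplicit false

namespace CfsgLib.Recog.UnitalFour

abbrev R4 : Type := QuadraticAlgebra (ZMod 2) 1 1
abbrev R16 : Type := QuadraticAlgebra R4 ⟨0, 1⟩ 1

/-- the isotropic points -/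
def pts : List (Fin 3 → R16) := [
  ![⟨⟨0, 0⟩, ⟨0, 0⟩⟩, ⟨⟨1, 0⟩, ⟨0, 0⟩⟩, ⟨⟨1, 0⟩, ⟨0, 0⟩⟩],
  ![⟨⟨0, 0⟩, ⟨0, 0⟩⟩, ⟨⟨1, 0⟩, ⟨0, 0⟩⟩, ⟨⟨0, 1⟩, ⟨1, 1⟩⟩],
  ![⟨⟨0, 0⟩, ⟨0, 0⟩⟩, ⟨⟨1, 0⟩, ⟨0, 0⟩⟩, ⟨⟨0, 1⟩, ⟨0, 1⟩⟩],
  ![⟨⟨0, 0⟩, ⟨0, 0⟩⟩, ⟨⟨1, 0⟩, ⟨0, 0⟩⟩, ⟨⟨0, 0⟩, ⟨0, 1⟩⟩],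
  ![⟨⟨0, 0⟩, ⟨0, 0⟩⟩, ⟨⟨1, 0⟩, ⟨0, 0⟩⟩, ⟨⟨1, 0⟩, ⟨1, 1⟩⟩],
  ![⟨⟨1, 0⟩, ⟨0, 0⟩⟩, ⟨⟨0, 0⟩, ⟨0, 0⟩⟩, ⟨⟨1, 0⟩, ⟨0, 0⟩⟩],
  ![⟨⟨1, 0⟩, ⟨0, 0⟩⟩, ⟨⟨0, 0⟩, ⟨0, 0⟩⟩, ⟨⟨0, 1⟩, ⟨1, 1⟩⟩],
  ![⟨⟨1, 0⟩, ⟨0, 0⟩⟩, ⟨⟨0, 0⟩, ⟨0, 0⟩⟩, ⟨⟨0, 1⟩, ⟨0, 1⟩⟩],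
  ![⟨⟨1, 0⟩, ⟨0, 0⟩⟩, ⟨⟨0, 0⟩, ⟨0, 0⟩⟩, ⟨⟨0, 0⟩, ⟨0, 1⟩⟩],
  ![⟨⟨1, 0⟩, ⟨0, 0⟩⟩, ⟨⟨0, 0⟩, ⟨0, 0⟩⟩, ⟨⟨1, 0⟩, ⟨1, 1⟩⟩],
  ![⟨⟨1, 0⟩, ⟨0, 0⟩⟩, ⟨⟨1, 0⟩, ⟨0, 0⟩⟩, ⟨⟨0, 0⟩, ⟨0, 0⟩⟩],
  ![⟨⟨1, 0⟩, ⟨0, 0⟩⟩, ⟨⟨0, 0⟩, ⟨1, 0⟩⟩, ⟨⟨0, 1⟩, ⟨1, 0⟩⟩],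
  ![⟨⟨1, 0⟩, ⟨0, 0⟩⟩, ⟨⟨0, 0⟩, ⟨1, 0⟩⟩, ⟨⟨1, 1⟩, ⟨1, 0⟩⟩],
  ![⟨⟨1, 0⟩, ⟨0, 0⟩⟩, ⟨⟨0, 0⟩, ⟨1, 0⟩⟩, ⟨⟨0, 1⟩, ⟨0, 0⟩⟩],
  ![⟨⟨1, 0⟩, ⟨0, 0⟩⟩, ⟨⟨0, 0⟩, ⟨1, 0⟩⟩, ⟨⟨1, 1⟩, ⟨1, 1⟩⟩],
  ![⟨⟨1, 0⟩, ⟨0, 0⟩⟩, ⟨⟨0, 0⟩, ⟨1, 0⟩⟩, ⟨⟨0, 0⟩, ⟨1, 1⟩⟩],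
  ![⟨⟨1, 0⟩, ⟨0, 0⟩⟩, ⟨⟨1, 0⟩, ⟨1, 0⟩⟩, ⟨⟨0, 1⟩, ⟨1, 0⟩⟩],
  ![⟨⟨1, 0⟩, ⟨0, 0⟩⟩, ⟨⟨1, 0⟩, ⟨1, 0⟩⟩, ⟨⟨1, 1⟩, ⟨1, 0⟩⟩],
  ![⟨⟨1, 0⟩, ⟨0, 0⟩⟩, ⟨⟨1, 0⟩, ⟨1, 0⟩⟩, ⟨⟨0, 1⟩, ⟨0, 0⟩⟩],
  ![⟨⟨1, 0⟩, ⟨0, 0⟩⟩, ⟨⟨1, 0⟩, ⟨1, 0⟩⟩, ⟨⟨1, 1⟩, ⟨1, 1⟩⟩],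
  ![⟨⟨1, 0⟩, ⟨0, 0⟩⟩, ⟨⟨1, 0⟩, ⟨1, 0⟩⟩, ⟨⟨0, 0⟩, ⟨1, 1⟩⟩],
  ![⟨⟨1, 0⟩, ⟨0, 0⟩⟩, ⟨⟨0, 1⟩, ⟨1, 0⟩⟩, ⟨⟨0, 0⟩, ⟨1, 0⟩⟩],
  ![⟨⟨1, 0⟩, ⟨0, 0⟩⟩, ⟨⟨0, 1⟩, ⟨1, 0⟩⟩, ⟨⟨1, 0⟩, ⟨1, 0⟩⟩],
  ![⟨⟨1, 0⟩, ⟨0, 0⟩⟩, ⟨⟨0, 1⟩, ⟨1, 0⟩⟩, ⟨⟨1, 1⟩, ⟨0, 0⟩⟩],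
  ![⟨⟨1, 0⟩, ⟨0, 0⟩⟩, ⟨⟨0, 1⟩, ⟨1, 0⟩⟩, ⟨⟨1, 1⟩, ⟨0, 1⟩⟩],
  ![⟨⟨1, 0⟩, ⟨0, 0⟩⟩, ⟨⟨0, 1⟩, ⟨1, 0⟩⟩, ⟨⟨1, 0⟩, ⟨0, 1⟩⟩],
  ![⟨⟨1, 0⟩, ⟨0, 0⟩⟩, ⟨⟨1, 1⟩, ⟨1, 0⟩⟩, ⟨⟨0, 0⟩, ⟨1, 0⟩⟩],
  ![⟨⟨1, 0⟩, ⟨0, 0⟩⟩, ⟨⟨1, 1⟩, ⟨1, 0⟩⟩, ⟨⟨1, 0⟩, ⟨1, 0⟩⟩],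
  ![⟨⟨1, 0⟩, ⟨0, 0⟩⟩, ⟨⟨1, 1⟩, ⟨1, 0⟩⟩, ⟨⟨1, 1⟩, ⟨0, 0⟩⟩],
  ![⟨⟨1, 0⟩, ⟨0, 0⟩⟩, ⟨⟨1, 1⟩, ⟨1, 0⟩⟩, ⟨⟨1, 1⟩, ⟨0, 1⟩⟩],
  ![⟨⟨1, 0⟩, ⟨0, 0⟩⟩, ⟨⟨1, 1⟩, ⟨1, 0⟩⟩, ⟨⟨1, 0⟩, ⟨0, 1⟩⟩],
  ![⟨⟨1, 0⟩, ⟨0, 0⟩⟩, ⟨⟨0, 1⟩, ⟨0, 0⟩⟩, ⟨⟨0, 0⟩, ⟨1, 0⟩⟩],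
  ![⟨⟨1, 0⟩, ⟨0, 0⟩⟩, ⟨⟨0, 1⟩, ⟨0, 0⟩⟩, ⟨⟨1, 0⟩, ⟨1, 0⟩⟩],
  ![⟨⟨1, 0⟩, ⟨0, 0⟩⟩, ⟨⟨0, 1⟩, ⟨0, 0⟩⟩, ⟨⟨1, 1⟩, ⟨0, 0⟩⟩],
  ![⟨⟨1, 0⟩, ⟨0, 0⟩⟩, ⟨⟨0, 1⟩, ⟨0, 0⟩⟩, ⟨⟨1, 1⟩, ⟨0, 1⟩⟩],
  ![⟨⟨1, 0⟩, ⟨0, 0⟩⟩, ⟨⟨0, 1⟩, ⟨0, 0⟩⟩, ⟨⟨1, 0⟩, ⟨0, 1⟩⟩],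
  ![⟨⟨1, 0⟩, ⟨0, 0⟩⟩, ⟨⟨1, 1⟩, ⟨0, 0⟩⟩, ⟨⟨0, 1⟩, ⟨1, 0⟩⟩],
  ![⟨⟨1, 0⟩, ⟨0, 0⟩⟩, ⟨⟨1, 1⟩, ⟨0, 0⟩⟩, ⟨⟨1, 1⟩, ⟨1, 0⟩⟩],
  ![⟨⟨1, 0⟩, ⟨0, 0⟩⟩, ⟨⟨1, 1⟩, ⟨0, 0⟩⟩, ⟨⟨0, 1⟩, ⟨0, 0⟩⟩],
  ![⟨⟨1, 0⟩, ⟨0, 0⟩⟩, ⟨⟨1, 1⟩, ⟨0, 0⟩⟩, ⟨⟨1, 1⟩, ⟨1, 1⟩⟩],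
  ![⟨⟨1, 0⟩, ⟨0, 0⟩⟩, ⟨⟨1, 1⟩, ⟨0, 0⟩⟩, ⟨⟨0, 0⟩, ⟨1, 1⟩⟩],
  ![⟨⟨1, 0⟩, ⟨0, 0⟩⟩, ⟨⟨0, 1⟩, ⟨1, 1⟩⟩, ⟨⟨0, 0⟩, ⟨0, 0⟩⟩],
  ![⟨⟨1, 0⟩, ⟨0, 0⟩⟩, ⟨⟨1, 1⟩, ⟨1, 1⟩⟩, ⟨⟨0, 0⟩, ⟨1, 0⟩⟩],
  ![⟨⟨1, 0⟩, ⟨0, 0⟩⟩, ⟨⟨1, 1⟩, ⟨1, 1⟩⟩, ⟨⟨1, 0⟩, ⟨1, 0⟩⟩],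
  ![⟨⟨1, 0⟩, ⟨0, 0⟩⟩, ⟨⟨1, 1⟩, ⟨1, 1⟩⟩, ⟨⟨1, 1⟩, ⟨0, 0⟩⟩],
  ![⟨⟨1, 0⟩, ⟨0, 0⟩⟩, ⟨⟨1, 1⟩, ⟨1, 1⟩⟩, ⟨⟨1, 1⟩, ⟨0, 1⟩⟩],
  ![⟨⟨1, 0⟩, ⟨0, 0⟩⟩, ⟨⟨1, 1⟩, ⟨1, 1⟩⟩, ⟨⟨1, 0⟩, ⟨0, 1⟩⟩],
  ![⟨⟨1, 0⟩, ⟨0, 0⟩⟩, ⟨⟨0, 1⟩, ⟨0, 1⟩⟩, ⟨⟨0, 0⟩, ⟨0, 0⟩⟩],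
  ![⟨⟨1, 0⟩, ⟨0, 0⟩⟩, ⟨⟨1, 1⟩, ⟨0, 1⟩⟩, ⟨⟨0, 1⟩, ⟨1, 0⟩⟩],
  ![⟨⟨1, 0⟩, ⟨0, 0⟩⟩, ⟨⟨1, 1⟩, ⟨0, 1⟩⟩, ⟨⟨1, 1⟩, ⟨1, 0⟩⟩],
  ![⟨⟨1, 0⟩, ⟨0, 0⟩⟩, ⟨⟨1, 1⟩, ⟨0, 1⟩⟩, ⟨⟨0, 1⟩, ⟨0, 0⟩⟩],
  ![⟨⟨1, 0⟩, ⟨0, 0⟩⟩, ⟨⟨1, 1⟩, ⟨0, 1⟩⟩, ⟨⟨1, 1⟩, ⟨1, 1⟩⟩],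
  ![⟨⟨1, 0⟩, ⟨0, 0⟩⟩, ⟨⟨1, 1⟩, ⟨0, 1⟩⟩, ⟨⟨0, 0⟩, ⟨1, 1⟩⟩],
  ![⟨⟨1, 0⟩, ⟨0, 0⟩⟩, ⟨⟨0, 0⟩, ⟨0, 1⟩⟩, ⟨⟨0, 0⟩, ⟨0, 0⟩⟩],
  ![⟨⟨1, 0⟩, ⟨0, 0⟩⟩, ⟨⟨1, 0⟩, ⟨0, 1⟩⟩, ⟨⟨0, 1⟩, ⟨1, 0⟩⟩],
  ![⟨⟨1, 0⟩, ⟨0, 0⟩⟩, ⟨⟨1, 0⟩, ⟨0, 1⟩⟩, ⟨⟨1, 1⟩, ⟨1, 0⟩⟩],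
  ![⟨⟨1, 0⟩, ⟨0, 0⟩⟩, ⟨⟨1, 0⟩, ⟨0, 1⟩⟩, ⟨⟨0, 1⟩, ⟨0, 0⟩⟩],
  ![⟨⟨1, 0⟩, ⟨0, 0⟩⟩, ⟨⟨1, 0⟩, ⟨0, 1⟩⟩, ⟨⟨1, 1⟩, ⟨1, 1⟩⟩],
  ![⟨⟨1, 0⟩, ⟨0, 0⟩⟩, ⟨⟨1, 0⟩, ⟨0, 1⟩⟩, ⟨⟨0, 0⟩, ⟨1, 1⟩⟩],
  ![⟨⟨1, 0⟩, ⟨0, 0⟩⟩, ⟨⟨0, 0⟩, ⟨1, 1⟩⟩, ⟨⟨0, 0⟩, ⟨1, 0⟩⟩],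
  ![⟨⟨1, 0⟩, ⟨0, 0⟩⟩, ⟨⟨0, 0⟩, ⟨1, 1⟩⟩, ⟨⟨1, 0⟩, ⟨1, 0⟩⟩],
  ![⟨⟨1, 0⟩, ⟨0, 0⟩⟩, ⟨⟨0, 0⟩, ⟨1, 1⟩⟩, ⟨⟨1, 1⟩, ⟨0, 0⟩⟩],
  ![⟨⟨1, 0⟩, ⟨0, 0⟩⟩, ⟨⟨0, 0⟩, ⟨1, 1⟩⟩, ⟨⟨1, 1⟩, ⟨0, 1⟩⟩],
  ![⟨⟨1, 0⟩, ⟨0, 0⟩⟩, ⟨⟨0, 0⟩, ⟨1, 1⟩⟩, ⟨⟨1, 0⟩, ⟨0, 1⟩⟩],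
  ![⟨⟨1, 0⟩, ⟨0, 0⟩⟩, ⟨⟨1, 0⟩, ⟨1, 1⟩⟩, ⟨⟨0, 0⟩, ⟨0, 0⟩⟩]]

/-- the non-isotropic points -/
def poles : List (Fin 3 → R16) := [
  ![⟨⟨0, 0⟩, ⟨0, 0⟩⟩, ⟨⟨0, 0⟩, ⟨0, 0⟩⟩, ⟨⟨1, 0⟩, ⟨0, 0⟩⟩],
  ![⟨⟨0, 0⟩, ⟨0, 0⟩⟩, ⟨⟨1, 0⟩, ⟨0, 0⟩⟩, ⟨⟨0, 0⟩, ⟨0, 0⟩⟩],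
  ![⟨⟨0, 0⟩, ⟨0, 0⟩⟩, ⟨⟨1, 0⟩, ⟨0, 0⟩⟩, ⟨⟨0, 0⟩, ⟨1, 0⟩⟩],
  ![⟨⟨0, 0⟩, ⟨0, 0⟩⟩, ⟨⟨1, 0⟩, ⟨0, 0⟩⟩, ⟨⟨1, 0⟩, ⟨1, 0⟩⟩],
  ![⟨⟨0, 0⟩, ⟨0, 0⟩⟩, ⟨⟨1, 0⟩, ⟨0, 0⟩⟩, ⟨⟨0, 1⟩, ⟨1, 0⟩⟩],
  ![⟨⟨0, 0⟩, ⟨0, 0⟩⟩, ⟨⟨1, 0⟩, ⟨0, 0⟩⟩, ⟨⟨1, 1⟩, ⟨1, 0⟩⟩],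
  ![⟨⟨0, 0⟩, ⟨0, 0⟩⟩, ⟨⟨1, 0⟩, ⟨0, 0⟩⟩, ⟨⟨0, 1⟩, ⟨0, 0⟩⟩],
  ![⟨⟨0, 0⟩, ⟨0, 0⟩⟩, ⟨⟨1, 0⟩, ⟨0, 0⟩⟩, ⟨⟨1, 1⟩, ⟨0, 0⟩⟩],
  ![⟨⟨0, 0⟩, ⟨0, 0⟩⟩, ⟨⟨1, 0⟩, ⟨0, 0⟩⟩, ⟨⟨1, 1⟩, ⟨1, 1⟩⟩],
  ![⟨⟨0, 0⟩, ⟨0, 0⟩⟩, ⟨⟨1, 0⟩, ⟨0, 0⟩⟩, ⟨⟨1, 1⟩, ⟨0, 1⟩⟩],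
  ![⟨⟨0, 0⟩, ⟨0, 0⟩⟩, ⟨⟨1, 0⟩, ⟨0, 0⟩⟩, ⟨⟨1, 0⟩, ⟨0, 1⟩⟩],
  ![⟨⟨0, 0⟩, ⟨0, 0⟩⟩, ⟨⟨1, 0⟩, ⟨0, 0⟩⟩, ⟨⟨0, 0⟩, ⟨1, 1⟩⟩],
  ![⟨⟨1, 0⟩, ⟨0, 0⟩⟩, ⟨⟨0, 0⟩, ⟨0, 0⟩⟩, ⟨⟨0, 0⟩, ⟨0, 0⟩⟩],
  ![⟨⟨1, 0⟩, ⟨0, 0⟩⟩, ⟨⟨0, 0⟩, ⟨0, 0⟩⟩, ⟨⟨0, 0⟩, ⟨1, 0⟩⟩],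
  ![⟨⟨1, 0⟩, ⟨0, 0⟩⟩, ⟨⟨0, 0⟩, ⟨0, 0⟩⟩, ⟨⟨1, 0⟩, ⟨1, 0⟩⟩],
  ![⟨⟨1, 0⟩, ⟨0, 0⟩⟩, ⟨⟨0, 0⟩, ⟨0, 0⟩⟩, ⟨⟨0, 1⟩, ⟨1, 0⟩⟩],
  ![⟨⟨1, 0⟩, ⟨0, 0⟩⟩, ⟨⟨0, 0⟩, ⟨0, 0⟩⟩, ⟨⟨1, 1⟩, ⟨1, 0⟩⟩],
  ![⟨⟨1, 0⟩, ⟨0, 0⟩⟩, ⟨⟨0, 0⟩, ⟨0, 0⟩⟩, ⟨⟨0, 1⟩, ⟨0, 0⟩⟩],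
  ![⟨⟨1, 0⟩, ⟨0, 0⟩⟩, ⟨⟨0, 0⟩, ⟨0, 0⟩⟩, ⟨⟨1, 1⟩, ⟨0, 0⟩⟩],
  ![⟨⟨1, 0⟩, ⟨0, 0⟩⟩, ⟨⟨0, 0⟩, ⟨0, 0⟩⟩, ⟨⟨1, 1⟩, ⟨1, 1⟩⟩],
  ![⟨⟨1, 0⟩, ⟨0, 0⟩⟩, ⟨⟨0, 0⟩, ⟨0, 0⟩⟩, ⟨⟨1, 1⟩, ⟨0, 1⟩⟩],
  ![⟨⟨1, 0⟩, ⟨0, 0⟩⟩, ⟨⟨0, 0⟩, ⟨0, 0⟩⟩, ⟨⟨1, 0⟩, ⟨0, 1⟩⟩],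
  ![⟨⟨1, 0⟩, ⟨0, 0⟩⟩, ⟨⟨0, 0⟩, ⟨0, 0⟩⟩, ⟨⟨0, 0⟩, ⟨1, 1⟩⟩],
  ![⟨⟨1, 0⟩, ⟨0, 0⟩⟩, ⟨⟨1, 0⟩, ⟨0, 0⟩⟩, ⟨⟨1, 0⟩, ⟨0, 0⟩⟩],
  ![⟨⟨1, 0⟩, ⟨0, 0⟩⟩, ⟨⟨1, 0⟩, ⟨0, 0⟩⟩, ⟨⟨0, 0⟩, ⟨1, 0⟩⟩],
  ![⟨⟨1, 0⟩, ⟨0, 0⟩⟩, ⟨⟨1, 0⟩, ⟨0, 0⟩⟩, ⟨⟨1, 0⟩, ⟨1, 0⟩⟩],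
  ![⟨⟨1, 0⟩, ⟨0, 0⟩⟩, ⟨⟨1, 0⟩, ⟨0, 0⟩⟩, ⟨⟨0, 1⟩, ⟨1, 0⟩⟩],
  ![⟨⟨1, 0⟩, ⟨0, 0⟩⟩, ⟨⟨1, 0⟩, ⟨0, 0⟩⟩, ⟨⟨1, 1⟩, ⟨1, 0⟩⟩],
  ![⟨⟨1, 0⟩, ⟨0, 0⟩⟩, ⟨⟨1, 0⟩, ⟨0, 0⟩⟩, ⟨⟨0, 1⟩, ⟨0, 0⟩⟩],
  ![⟨⟨1, 0⟩, ⟨0, 0⟩⟩, ⟨⟨1, 0⟩, ⟨0, 0⟩⟩, ⟨⟨1, 1⟩, ⟨0, 0⟩⟩],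
  ![⟨⟨1, 0⟩, ⟨0, 0⟩⟩, ⟨⟨1, 0⟩, ⟨0, 0⟩⟩, ⟨⟨0, 1⟩, ⟨1, 1⟩⟩],
  ![⟨⟨1, 0⟩, ⟨0, 0⟩⟩, ⟨⟨1, 0⟩, ⟨0, 0⟩⟩, ⟨⟨1, 1⟩, ⟨1, 1⟩⟩],
  ![⟨⟨1, 0⟩, ⟨0, 0⟩⟩, ⟨⟨1, 0⟩, ⟨0, 0⟩⟩, ⟨⟨0, 1⟩, ⟨0, 1⟩⟩],
  ![⟨⟨1, 0⟩, ⟨0, 0⟩⟩, ⟨⟨1, 0⟩, ⟨0, 0⟩⟩, ⟨⟨1, 1⟩, ⟨0, 1⟩⟩],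
  ![⟨⟨1, 0⟩, ⟨0, 0⟩⟩, ⟨⟨1, 0⟩, ⟨0, 0⟩⟩, ⟨⟨0, 0⟩, ⟨0, 1⟩⟩],
  ![⟨⟨1, 0⟩, ⟨0, 0⟩⟩, ⟨⟨1, 0⟩, ⟨0, 0⟩⟩, ⟨⟨1, 0⟩, ⟨0, 1⟩⟩],
  ![⟨⟨1, 0⟩, ⟨0, 0⟩⟩, ⟨⟨1, 0⟩, ⟨0, 0⟩⟩, ⟨⟨0, 0⟩, ⟨1, 1⟩⟩],
  ![⟨⟨1, 0⟩, ⟨0, 0⟩⟩, ⟨⟨1, 0⟩, ⟨0, 0⟩⟩, ⟨⟨1, 0⟩, ⟨1, 1⟩⟩],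
  ![⟨⟨1, 0⟩, ⟨0, 0⟩⟩, ⟨⟨0, 0⟩, ⟨1, 0⟩⟩, ⟨⟨0, 0⟩, ⟨0, 0⟩⟩],
  ![⟨⟨1, 0⟩, ⟨0, 0⟩⟩, ⟨⟨0, 0⟩, ⟨1, 0⟩⟩, ⟨⟨1, 0⟩, ⟨0, 0⟩⟩],
  ![⟨⟨1, 0⟩, ⟨0, 0⟩⟩, ⟨⟨0, 0⟩, ⟨1, 0⟩⟩, ⟨⟨0, 0⟩, ⟨1, 0⟩⟩],
  ![⟨⟨1, 0⟩, ⟨0, 0⟩⟩, ⟨⟨0, 0⟩, ⟨1, 0⟩⟩, ⟨⟨1, 0⟩, ⟨1, 0⟩⟩],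
  ![⟨⟨1, 0⟩, ⟨0, 0⟩⟩, ⟨⟨0, 0⟩, ⟨1, 0⟩⟩, ⟨⟨1, 1⟩, ⟨0, 0⟩⟩],
  ![⟨⟨1, 0⟩, ⟨0, 0⟩⟩, ⟨⟨0, 0⟩, ⟨1, 0⟩⟩, ⟨⟨0, 1⟩, ⟨1, 1⟩⟩],
  ![⟨⟨1, 0⟩, ⟨0, 0⟩⟩, ⟨⟨0, 0⟩, ⟨1, 0⟩⟩, ⟨⟨0, 1⟩, ⟨0, 1⟩⟩],
  ![⟨⟨1, 0⟩, ⟨0, 0⟩⟩, ⟨⟨0, 0⟩, ⟨1, 0⟩⟩, ⟨⟨1, 1⟩, ⟨0, 1⟩⟩],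
  ![⟨⟨1, 0⟩, ⟨0, 0⟩⟩, ⟨⟨0, 0⟩, ⟨1, 0⟩⟩, ⟨⟨0, 0⟩, ⟨0, 1⟩⟩],
  ![⟨⟨1, 0⟩, ⟨0, 0⟩⟩, ⟨⟨0, 0⟩, ⟨1, 0⟩⟩, ⟨⟨1, 0⟩, ⟨0, 1⟩⟩],
  ![⟨⟨1, 0⟩, ⟨0, 0⟩⟩, ⟨⟨0, 0⟩, ⟨1, 0⟩⟩, ⟨⟨1, 0⟩, ⟨1, 1⟩⟩],
  ![⟨⟨1, 0⟩, ⟨0, 0⟩⟩, ⟨⟨1, 0⟩, ⟨1, 0⟩⟩, ⟨⟨0, 0⟩, ⟨0, 0⟩⟩],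
  ![⟨⟨1, 0⟩, ⟨0, 0⟩⟩, ⟨⟨1, 0⟩, ⟨1, 0⟩⟩, ⟨⟨1, 0⟩, ⟨0, 0⟩⟩],
  ![⟨⟨1, 0⟩, ⟨0, 0⟩⟩, ⟨⟨1, 0⟩, ⟨1, 0⟩⟩, ⟨⟨0, 0⟩, ⟨1, 0⟩⟩],
  ![⟨⟨1, 0⟩, ⟨0, 0⟩⟩, ⟨⟨1, 0⟩, ⟨1, 0⟩⟩, ⟨⟨1, 0⟩, ⟨1, 0⟩⟩],
  ![⟨⟨1, 0⟩, ⟨0, 0⟩⟩, ⟨⟨1, 0⟩, ⟨1, 0⟩⟩, ⟨⟨1, 1⟩, ⟨0, 0⟩⟩],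
  ![⟨⟨1, 0⟩, ⟨0, 0⟩⟩, ⟨⟨1, 0⟩, ⟨1, 0⟩⟩, ⟨⟨0, 1⟩, ⟨1, 1⟩⟩],
  ![⟨⟨1, 0⟩, ⟨0, 0⟩⟩, ⟨⟨1, 0⟩, ⟨1, 0⟩⟩, ⟨⟨0, 1⟩, ⟨0, 1⟩⟩],
  ![⟨⟨1, 0⟩, ⟨0, 0⟩⟩, ⟨⟨1, 0⟩, ⟨1, 0⟩⟩, ⟨⟨1, 1⟩, ⟨0, 1⟩⟩],
  ![⟨⟨1, 0⟩, ⟨0, 0⟩⟩, ⟨⟨1, 0⟩, ⟨1, 0⟩⟩, ⟨⟨0, 0⟩, ⟨0, 1⟩⟩],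
  ![⟨⟨1, 0⟩, ⟨0, 0⟩⟩, ⟨⟨1, 0⟩, ⟨1, 0⟩⟩, ⟨⟨1, 0⟩, ⟨0, 1⟩⟩],
  ![⟨⟨1, 0⟩, ⟨0, 0⟩⟩, ⟨⟨1, 0⟩, ⟨1, 0⟩⟩, ⟨⟨1, 0⟩, ⟨1, 1⟩⟩],
  ![⟨⟨1, 0⟩, ⟨0, 0⟩⟩, ⟨⟨0, 1⟩, ⟨1, 0⟩⟩, ⟨⟨0, 0⟩, ⟨0, 0⟩⟩],
  ![⟨⟨1, 0⟩, ⟨0, 0⟩⟩, ⟨⟨0, 1⟩, ⟨1, 0⟩⟩, ⟨⟨1, 0⟩, ⟨0, 0⟩⟩],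
  ![⟨⟨1, 0⟩, ⟨0, 0⟩⟩, ⟨⟨0, 1⟩, ⟨1, 0⟩⟩, ⟨⟨0, 1⟩, ⟨1, 0⟩⟩],
  ![⟨⟨1, 0⟩, ⟨0, 0⟩⟩, ⟨⟨0, 1⟩, ⟨1, 0⟩⟩, ⟨⟨1, 1⟩, ⟨1, 0⟩⟩],
  ![⟨⟨1, 0⟩, ⟨0, 0⟩⟩, ⟨⟨0, 1⟩, ⟨1, 0⟩⟩, ⟨⟨0, 1⟩, ⟨0, 0⟩⟩],
  ![⟨⟨1, 0⟩, ⟨0, 0⟩⟩, ⟨⟨0, 1⟩, ⟨1, 0⟩⟩, ⟨⟨0, 1⟩, ⟨1, 1⟩⟩],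
  ![⟨⟨1, 0⟩, ⟨0, 0⟩⟩, ⟨⟨0, 1⟩, ⟨1, 0⟩⟩, ⟨⟨1, 1⟩, ⟨1, 1⟩⟩],
  ![⟨⟨1, 0⟩, ⟨0, 0⟩⟩, ⟨⟨0, 1⟩, ⟨1, 0⟩⟩, ⟨⟨0, 1⟩, ⟨0, 1⟩⟩],
  ![⟨⟨1, 0⟩, ⟨0, 0⟩⟩, ⟨⟨0, 1⟩, ⟨1, 0⟩⟩, ⟨⟨0, 0⟩, ⟨0, 1⟩⟩],
  ![⟨⟨1, 0⟩, ⟨0, 0⟩⟩, ⟨⟨0, 1⟩, ⟨1, 0⟩⟩, ⟨⟨0, 0⟩, ⟨1, 1⟩⟩],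
  ![⟨⟨1, 0⟩, ⟨0, 0⟩⟩, ⟨⟨0, 1⟩, ⟨1, 0⟩⟩, ⟨⟨1, 0⟩, ⟨1, 1⟩⟩],
  ![⟨⟨1, 0⟩, ⟨0, 0⟩⟩, ⟨⟨1, 1⟩, ⟨1, 0⟩⟩, ⟨⟨0, 0⟩, ⟨0, 0⟩⟩],
  ![⟨⟨1, 0⟩, ⟨0, 0⟩⟩, ⟨⟨1, 1⟩, ⟨1, 0⟩⟩, ⟨⟨1, 0⟩, ⟨0, 0⟩⟩],
  ![⟨⟨1, 0⟩, ⟨0, 0⟩⟩, ⟨⟨1, 1⟩, ⟨1, 0⟩⟩, ⟨⟨0, 1⟩, ⟨1, 0⟩⟩],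
  ![⟨⟨1, 0⟩, ⟨0, 0⟩⟩, ⟨⟨1, 1⟩, ⟨1, 0⟩⟩, ⟨⟨1, 1⟩, ⟨1, 0⟩⟩],
  ![⟨⟨1, 0⟩, ⟨0, 0⟩⟩, ⟨⟨1, 1⟩, ⟨1, 0⟩⟩, ⟨⟨0, 1⟩, ⟨0, 0⟩⟩],
  ![⟨⟨1, 0⟩, ⟨0, 0⟩⟩, ⟨⟨1, 1⟩, ⟨1, 0⟩⟩, ⟨⟨0, 1⟩, ⟨1, 1⟩⟩],
  ![⟨⟨1, 0⟩, ⟨0, 0⟩⟩, ⟨⟨1, 1⟩, ⟨1, 0⟩⟩, ⟨⟨1, 1⟩, ⟨1, 1⟩⟩],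
  ![⟨⟨1, 0⟩, ⟨0, 0⟩⟩, ⟨⟨1, 1⟩, ⟨1, 0⟩⟩, ⟨⟨0, 1⟩, ⟨0, 1⟩⟩],
  ![⟨⟨1, 0⟩, ⟨0, 0⟩⟩, ⟨⟨1, 1⟩, ⟨1, 0⟩⟩, ⟨⟨0, 0⟩, ⟨0, 1⟩⟩],
  ![⟨⟨1, 0⟩, ⟨0, 0⟩⟩, ⟨⟨1, 1⟩, ⟨1, 0⟩⟩, ⟨⟨0, 0⟩, ⟨1, 1⟩⟩],
  ![⟨⟨1, 0⟩, ⟨0, 0⟩⟩, ⟨⟨1, 1⟩, ⟨1, 0⟩⟩, ⟨⟨1, 0⟩, ⟨1, 1⟩⟩],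
  ![⟨⟨1, 0⟩, ⟨0, 0⟩⟩, ⟨⟨0, 1⟩, ⟨0, 0⟩⟩, ⟨⟨0, 0⟩, ⟨0, 0⟩⟩],
  ![⟨⟨1, 0⟩, ⟨0, 0⟩⟩, ⟨⟨0, 1⟩, ⟨0, 0⟩⟩, ⟨⟨1, 0⟩, ⟨0, 0⟩⟩],
  ![⟨⟨1, 0⟩, ⟨0, 0⟩⟩, ⟨⟨0, 1⟩, ⟨0, 0⟩⟩, ⟨⟨0, 1⟩, ⟨1, 0⟩⟩],
  ![⟨⟨1, 0⟩, ⟨0, 0⟩⟩, ⟨⟨0, 1⟩, ⟨0, 0⟩⟩, ⟨⟨1, 1⟩, ⟨1, 0⟩⟩],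
  ![⟨⟨1, 0⟩, ⟨0, 0⟩⟩, ⟨⟨0, 1⟩, ⟨0, 0⟩⟩, ⟨⟨0, 1⟩, ⟨0, 0⟩⟩],
  ![⟨⟨1, 0⟩, ⟨0, 0⟩⟩, ⟨⟨0, 1⟩, ⟨0, 0⟩⟩, ⟨⟨0, 1⟩, ⟨1, 1⟩⟩],
  ![⟨⟨1, 0⟩, ⟨0, 0⟩⟩, ⟨⟨0, 1⟩, ⟨0, 0⟩⟩, ⟨⟨1, 1⟩, ⟨1, 1⟩⟩],
  ![⟨⟨1, 0⟩, ⟨0, 0⟩⟩, ⟨⟨0, 1⟩, ⟨0, 0⟩⟩, ⟨⟨0, 1⟩, ⟨0, 1⟩⟩],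
  ![⟨⟨1, 0⟩, ⟨0, 0⟩⟩, ⟨⟨0, 1⟩, ⟨0, 0⟩⟩, ⟨⟨0, 0⟩, ⟨0, 1⟩⟩],
  ![⟨⟨1, 0⟩, ⟨0, 0⟩⟩, ⟨⟨0, 1⟩, ⟨0, 0⟩⟩, ⟨⟨0, 0⟩, ⟨1, 1⟩⟩],
  ![⟨⟨1, 0⟩, ⟨0, 0⟩⟩, ⟨⟨0, 1⟩, ⟨0, 0⟩⟩, ⟨⟨1, 0⟩, ⟨1, 1⟩⟩],
  ![⟨⟨1, 0⟩, ⟨0, 0⟩⟩, ⟨⟨1, 1⟩, ⟨0, 0⟩⟩, ⟨⟨0, 0⟩, ⟨0, 0⟩⟩],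
  ![⟨⟨1, 0⟩, ⟨0, 0⟩⟩, ⟨⟨1, 1⟩, ⟨0, 0⟩⟩, ⟨⟨1, 0⟩, ⟨0, 0⟩⟩],
  ![⟨⟨1, 0⟩, ⟨0, 0⟩⟩, ⟨⟨1, 1⟩, ⟨0, 0⟩⟩, ⟨⟨0, 0⟩, ⟨1, 0⟩⟩],
  ![⟨⟨1, 0⟩, ⟨0, 0⟩⟩, ⟨⟨1, 1⟩, ⟨0, 0⟩⟩, ⟨⟨1, 0⟩, ⟨1, 0⟩⟩],
  ![⟨⟨1, 0⟩, ⟨0, 0⟩⟩, ⟨⟨1, 1⟩, ⟨0, 0⟩⟩, ⟨⟨1, 1⟩, ⟨0, 0⟩⟩],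
  ![⟨⟨1, 0⟩, ⟨0, 0⟩⟩, ⟨⟨1, 1⟩, ⟨0, 0⟩⟩, ⟨⟨0, 1⟩, ⟨1, 1⟩⟩],
  ![⟨⟨1, 0⟩, ⟨0, 0⟩⟩, ⟨⟨1, 1⟩, ⟨0, 0⟩⟩, ⟨⟨0, 1⟩, ⟨0, 1⟩⟩],
  ![⟨⟨1, 0⟩, ⟨0, 0⟩⟩, ⟨⟨1, 1⟩, ⟨0, 0⟩⟩, ⟨⟨1, 1⟩, ⟨0, 1⟩⟩],
  ![⟨⟨1, 0⟩, ⟨0, 0⟩⟩, ⟨⟨1, 1⟩, ⟨0, 0⟩⟩, ⟨⟨0, 0⟩, ⟨0, 1⟩⟩],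
  ![⟨⟨1, 0⟩, ⟨0, 0⟩⟩, ⟨⟨1, 1⟩, ⟨0, 0⟩⟩, ⟨⟨1, 0⟩, ⟨0, 1⟩⟩],
  ![⟨⟨1, 0⟩, ⟨0, 0⟩⟩, ⟨⟨1, 1⟩, ⟨0, 0⟩⟩, ⟨⟨1, 0⟩, ⟨1, 1⟩⟩],
  ![⟨⟨1, 0⟩, ⟨0, 0⟩⟩, ⟨⟨0, 1⟩, ⟨1, 1⟩⟩, ⟨⟨1, 0⟩, ⟨0, 0⟩⟩],
  ![⟨⟨1, 0⟩, ⟨0, 0⟩⟩, ⟨⟨0, 1⟩, ⟨1, 1⟩⟩, ⟨⟨0, 0⟩, ⟨1, 0⟩⟩],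
  ![⟨⟨1, 0⟩, ⟨0, 0⟩⟩, ⟨⟨0, 1⟩, ⟨1, 1⟩⟩, ⟨⟨1, 0⟩, ⟨1, 0⟩⟩],
  ![⟨⟨1, 0⟩, ⟨0, 0⟩⟩, ⟨⟨0, 1⟩, ⟨1, 1⟩⟩, ⟨⟨0, 1⟩, ⟨1, 0⟩⟩],
  ![⟨⟨1, 0⟩, ⟨0, 0⟩⟩, ⟨⟨0, 1⟩, ⟨1, 1⟩⟩, ⟨⟨1, 1⟩, ⟨1, 0⟩⟩],
  ![⟨⟨1, 0⟩, ⟨0, 0⟩⟩, ⟨⟨0, 1⟩, ⟨1, 1⟩⟩, ⟨⟨0, 1⟩, ⟨0, 0⟩⟩],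
  ![⟨⟨1, 0⟩, ⟨0, 0⟩⟩, ⟨⟨0, 1⟩, ⟨1, 1⟩⟩, ⟨⟨1, 1⟩, ⟨0, 0⟩⟩],
  ![⟨⟨1, 0⟩, ⟨0, 0⟩⟩, ⟨⟨0, 1⟩, ⟨1, 1⟩⟩, ⟨⟨0, 1⟩, ⟨1, 1⟩⟩],
  ![⟨⟨1, 0⟩, ⟨0, 0⟩⟩, ⟨⟨0, 1⟩, ⟨1, 1⟩⟩, ⟨⟨1, 1⟩, ⟨1, 1⟩⟩],
  ![⟨⟨1, 0⟩, ⟨0, 0⟩⟩, ⟨⟨0, 1⟩, ⟨1, 1⟩⟩, ⟨⟨0, 1⟩, ⟨0, 1⟩⟩],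
  ![⟨⟨1, 0⟩, ⟨0, 0⟩⟩, ⟨⟨0, 1⟩, ⟨1, 1⟩⟩, ⟨⟨1, 1⟩, ⟨0, 1⟩⟩],
  ![⟨⟨1, 0⟩, ⟨0, 0⟩⟩, ⟨⟨0, 1⟩, ⟨1, 1⟩⟩, ⟨⟨0, 0⟩, ⟨0, 1⟩⟩],
  ![⟨⟨1, 0⟩, ⟨0, 0⟩⟩, ⟨⟨0, 1⟩, ⟨1, 1⟩⟩, ⟨⟨1, 0⟩, ⟨0, 1⟩⟩],
  ![⟨⟨1, 0⟩, ⟨0, 0⟩⟩, ⟨⟨0, 1⟩, ⟨1, 1⟩⟩, ⟨⟨0, 0⟩, ⟨1, 1⟩⟩],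
  ![⟨⟨1, 0⟩, ⟨0, 0⟩⟩, ⟨⟨0, 1⟩, ⟨1, 1⟩⟩, ⟨⟨1, 0⟩, ⟨1, 1⟩⟩],
  ![⟨⟨1, 0⟩, ⟨0, 0⟩⟩, ⟨⟨1, 1⟩, ⟨1, 1⟩⟩, ⟨⟨0, 0⟩, ⟨0, 0⟩⟩],
  ![⟨⟨1, 0⟩, ⟨0, 0⟩⟩, ⟨⟨1, 1⟩, ⟨1, 1⟩⟩, ⟨⟨1, 0⟩, ⟨0, 0⟩⟩],
  ![⟨⟨1, 0⟩, ⟨0, 0⟩⟩, ⟨⟨1, 1⟩, ⟨1, 1⟩⟩, ⟨⟨0, 1⟩, ⟨1, 0⟩⟩],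
  ![⟨⟨1, 0⟩, ⟨0, 0⟩⟩, ⟨⟨1, 1⟩, ⟨1, 1⟩⟩, ⟨⟨1, 1⟩, ⟨1, 0⟩⟩],
  ![⟨⟨1, 0⟩, ⟨0, 0⟩⟩, ⟨⟨1, 1⟩, ⟨1, 1⟩⟩, ⟨⟨0, 1⟩, ⟨0, 0⟩⟩],
  ![⟨⟨1, 0⟩, ⟨0, 0⟩⟩, ⟨⟨1, 1⟩, ⟨1, 1⟩⟩, ⟨⟨0, 1⟩, ⟨1, 1⟩⟩],
  ![⟨⟨1, 0⟩, ⟨0, 0⟩⟩, ⟨⟨1, 1⟩, ⟨1, 1⟩⟩, ⟨⟨1, 1⟩, ⟨1, 1⟩⟩],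
  ![⟨⟨1, 0⟩, ⟨0, 0⟩⟩, ⟨⟨1, 1⟩, ⟨1, 1⟩⟩, ⟨⟨0, 1⟩, ⟨0, 1⟩⟩],
  ![⟨⟨1, 0⟩, ⟨0, 0⟩⟩, ⟨⟨1, 1⟩, ⟨1, 1⟩⟩, ⟨⟨0, 0⟩, ⟨0, 1⟩⟩],
  ![⟨⟨1, 0⟩, ⟨0, 0⟩⟩, ⟨⟨1, 1⟩, ⟨1, 1⟩⟩, ⟨⟨0, 0⟩, ⟨1, 1⟩⟩],
  ![⟨⟨1, 0⟩, ⟨0, 0⟩⟩, ⟨⟨1, 1⟩, ⟨1, 1⟩⟩, ⟨⟨1, 0⟩, ⟨1, 1⟩⟩],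
  ![⟨⟨1, 0⟩, ⟨0, 0⟩⟩, ⟨⟨0, 1⟩, ⟨0, 1⟩⟩, ⟨⟨1, 0⟩, ⟨0, 0⟩⟩],
  ![⟨⟨1, 0⟩, ⟨0, 0⟩⟩, ⟨⟨0, 1⟩, ⟨0, 1⟩⟩, ⟨⟨0, 0⟩, ⟨1, 0⟩⟩],
  ![⟨⟨1, 0⟩, ⟨0, 0⟩⟩, ⟨⟨0, 1⟩, ⟨0, 1⟩⟩, ⟨⟨1, 0⟩, ⟨1, 0⟩⟩],
  ![⟨⟨1, 0⟩, ⟨0, 0⟩⟩, ⟨⟨0, 1⟩, ⟨0, 1⟩⟩, ⟨⟨0, 1⟩, ⟨1, 0⟩⟩],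
  ![⟨⟨1, 0⟩, ⟨0, 0⟩⟩, ⟨⟨0, 1⟩, ⟨0, 1⟩⟩, ⟨⟨1, 1⟩, ⟨1, 0⟩⟩],
  ![⟨⟨1, 0⟩, ⟨0, 0⟩⟩, ⟨⟨0, 1⟩, ⟨0, 1⟩⟩, ⟨⟨0, 1⟩, ⟨0, 0⟩⟩],
  ![⟨⟨1, 0⟩, ⟨0, 0⟩⟩, ⟨⟨0, 1⟩, ⟨0, 1⟩⟩, ⟨⟨1, 1⟩, ⟨0, 0⟩⟩],
  ![⟨⟨1, 0⟩, ⟨0, 0⟩⟩, ⟨⟨0, 1⟩, ⟨0, 1⟩⟩, ⟨⟨0, 1⟩, ⟨1, 1⟩⟩],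
  ![⟨⟨1, 0⟩, ⟨0, 0⟩⟩, ⟨⟨0, 1⟩, ⟨0, 1⟩⟩, ⟨⟨1, 1⟩, ⟨1, 1⟩⟩],
  ![⟨⟨1, 0⟩, ⟨0, 0⟩⟩, ⟨⟨0, 1⟩, ⟨0, 1⟩⟩, ⟨⟨0, 1⟩, ⟨0, 1⟩⟩],
  ![⟨⟨1, 0⟩, ⟨0, 0⟩⟩, ⟨⟨0, 1⟩, ⟨0, 1⟩⟩, ⟨⟨1, 1⟩, ⟨0, 1⟩⟩],
  ![⟨⟨1, 0⟩, ⟨0, 0⟩⟩, ⟨⟨0, 1⟩, ⟨0, 1⟩⟩, ⟨⟨0, 0⟩, ⟨0, 1⟩⟩],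
  ![⟨⟨1, 0⟩, ⟨0, 0⟩⟩, ⟨⟨0, 1⟩, ⟨0, 1⟩⟩, ⟨⟨1, 0⟩, ⟨0, 1⟩⟩],
  ![⟨⟨1, 0⟩, ⟨0, 0⟩⟩, ⟨⟨0, 1⟩, ⟨0, 1⟩⟩, ⟨⟨0, 0⟩, ⟨1, 1⟩⟩],
  ![⟨⟨1, 0⟩, ⟨0, 0⟩⟩, ⟨⟨0, 1⟩, ⟨0, 1⟩⟩, ⟨⟨1, 0⟩, ⟨1, 1⟩⟩],
  ![⟨⟨1, 0⟩, ⟨0, 0⟩⟩, ⟨⟨1, 1⟩, ⟨0, 1⟩⟩, ⟨⟨0, 0⟩, ⟨0, 0⟩⟩],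
  ![⟨⟨1, 0⟩, ⟨0, 0⟩⟩, ⟨⟨1, 1⟩, ⟨0, 1⟩⟩, ⟨⟨1, 0⟩, ⟨0, 0⟩⟩],
  ![⟨⟨1, 0⟩, ⟨0, 0⟩⟩, ⟨⟨1, 1⟩, ⟨0, 1⟩⟩, ⟨⟨0, 0⟩, ⟨1, 0⟩⟩],
  ![⟨⟨1, 0⟩, ⟨0, 0⟩⟩, ⟨⟨1, 1⟩, ⟨0, 1⟩⟩, ⟨⟨1, 0⟩, ⟨1, 0⟩⟩],
  ![⟨⟨1, 0⟩, ⟨0, 0⟩⟩, ⟨⟨1, 1⟩, ⟨0, 1⟩⟩, ⟨⟨1, 1⟩, ⟨0, 0⟩⟩],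
  ![⟨⟨1, 0⟩, ⟨0, 0⟩⟩, ⟨⟨1, 1⟩, ⟨0, 1⟩⟩, ⟨⟨0, 1⟩, ⟨1, 1⟩⟩],
  ![⟨⟨1, 0⟩, ⟨0, 0⟩⟩, ⟨⟨1, 1⟩, ⟨0, 1⟩⟩, ⟨⟨0, 1⟩, ⟨0, 1⟩⟩],
  ![⟨⟨1, 0⟩, ⟨0, 0⟩⟩, ⟨⟨1, 1⟩, ⟨0, 1⟩⟩, ⟨⟨1, 1⟩, ⟨0, 1⟩⟩],
  ![⟨⟨1, 0⟩, ⟨0, 0⟩⟩, ⟨⟨1, 1⟩, ⟨0, 1⟩⟩, ⟨⟨0, 0⟩, ⟨0, 1⟩⟩],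
  ![⟨⟨1, 0⟩, ⟨0, 0⟩⟩, ⟨⟨1, 1⟩, ⟨0, 1⟩⟩, ⟨⟨1, 0⟩, ⟨0, 1⟩⟩],
  ![⟨⟨1, 0⟩, ⟨0, 0⟩⟩, ⟨⟨1, 1⟩, ⟨0, 1⟩⟩, ⟨⟨1, 0⟩, ⟨1, 1⟩⟩],
  ![⟨⟨1, 0⟩, ⟨0, 0⟩⟩, ⟨⟨0, 0⟩, ⟨0, 1⟩⟩, ⟨⟨1, 0⟩, ⟨0, 0⟩⟩],
  ![⟨⟨1, 0⟩, ⟨0, 0⟩⟩, ⟨⟨0, 0⟩, ⟨0, 1⟩⟩, ⟨⟨0, 0⟩, ⟨1, 0⟩⟩],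
  ![⟨⟨1, 0⟩, ⟨0, 0⟩⟩, ⟨⟨0, 0⟩, ⟨0, 1⟩⟩, ⟨⟨1, 0⟩, ⟨1, 0⟩⟩],
  ![⟨⟨1, 0⟩, ⟨0, 0⟩⟩, ⟨⟨0, 0⟩, ⟨0, 1⟩⟩, ⟨⟨0, 1⟩, ⟨1, 0⟩⟩],
  ![⟨⟨1, 0⟩, ⟨0, 0⟩⟩, ⟨⟨0, 0⟩, ⟨0, 1⟩⟩, ⟨⟨1, 1⟩, ⟨1, 0⟩⟩],
  ![⟨⟨1, 0⟩, ⟨0, 0⟩⟩, ⟨⟨0, 0⟩, ⟨0, 1⟩⟩, ⟨⟨0, 1⟩, ⟨0, 0⟩⟩],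
  ![⟨⟨1, 0⟩, ⟨0, 0⟩⟩, ⟨⟨0, 0⟩, ⟨0, 1⟩⟩, ⟨⟨1, 1⟩, ⟨0, 0⟩⟩],
  ![⟨⟨1, 0⟩, ⟨0, 0⟩⟩, ⟨⟨0, 0⟩, ⟨0, 1⟩⟩, ⟨⟨0, 1⟩, ⟨1, 1⟩⟩],
  ![⟨⟨1, 0⟩, ⟨0, 0⟩⟩, ⟨⟨0, 0⟩, ⟨0, 1⟩⟩, ⟨⟨1, 1⟩, ⟨1, 1⟩⟩],
  ![⟨⟨1, 0⟩, ⟨0, 0⟩⟩, ⟨⟨0, 0⟩, ⟨0, 1⟩⟩, ⟨⟨0, 1⟩, ⟨0, 1⟩⟩],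
  ![⟨⟨1, 0⟩, ⟨0, 0⟩⟩, ⟨⟨0, 0⟩, ⟨0, 1⟩⟩, ⟨⟨1, 1⟩, ⟨0, 1⟩⟩],
  ![⟨⟨1, 0⟩, ⟨0, 0⟩⟩, ⟨⟨0, 0⟩, ⟨0, 1⟩⟩, ⟨⟨0, 0⟩, ⟨0, 1⟩⟩],
  ![⟨⟨1, 0⟩, ⟨0, 0⟩⟩, ⟨⟨0, 0⟩, ⟨0, 1⟩⟩, ⟨⟨1, 0⟩, ⟨0, 1⟩⟩],
  ![⟨⟨1, 0⟩, ⟨0, 0⟩⟩, ⟨⟨0, 0⟩, ⟨0, 1⟩⟩, ⟨⟨0, 0⟩, ⟨1, 1⟩⟩],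
  ![⟨⟨1, 0⟩, ⟨0, 0⟩⟩, ⟨⟨0, 0⟩, ⟨0, 1⟩⟩, ⟨⟨1, 0⟩, ⟨1, 1⟩⟩],
  ![⟨⟨1, 0⟩, ⟨0, 0⟩⟩, ⟨⟨1, 0⟩, ⟨0, 1⟩⟩, ⟨⟨0, 0⟩, ⟨0, 0⟩⟩],
  ![⟨⟨1, 0⟩, ⟨0, 0⟩⟩, ⟨⟨1, 0⟩, ⟨0, 1⟩⟩, ⟨⟨1, 0⟩, ⟨0, 0⟩⟩],
  ![⟨⟨1, 0⟩, ⟨0, 0⟩⟩, ⟨⟨1, 0⟩, ⟨0, 1⟩⟩, ⟨⟨0, 0⟩, ⟨1, 0⟩⟩],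
  ![⟨⟨1, 0⟩, ⟨0, 0⟩⟩, ⟨⟨1, 0⟩, ⟨0, 1⟩⟩, ⟨⟨1, 0⟩, ⟨1, 0⟩⟩],
  ![⟨⟨1, 0⟩, ⟨0, 0⟩⟩, ⟨⟨1, 0⟩, ⟨0, 1⟩⟩, ⟨⟨1, 1⟩, ⟨0, 0⟩⟩],
  ![⟨⟨1, 0⟩, ⟨0, 0⟩⟩, ⟨⟨1, 0⟩, ⟨0, 1⟩⟩, ⟨⟨0, 1⟩, ⟨1, 1⟩⟩],
  ![⟨⟨1, 0⟩, ⟨0, 0⟩⟩, ⟨⟨1, 0⟩, ⟨0, 1⟩⟩, ⟨⟨0, 1⟩, ⟨0, 1⟩⟩],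
  ![⟨⟨1, 0⟩, ⟨0, 0⟩⟩, ⟨⟨1, 0⟩, ⟨0, 1⟩⟩, ⟨⟨1, 1⟩, ⟨0, 1⟩⟩],
  ![⟨⟨1, 0⟩, ⟨0, 0⟩⟩, ⟨⟨1, 0⟩, ⟨0, 1⟩⟩, ⟨⟨0, 0⟩, ⟨0, 1⟩⟩],
  ![⟨⟨1, 0⟩, ⟨0, 0⟩⟩, ⟨⟨1, 0⟩, ⟨0, 1⟩⟩, ⟨⟨1, 0⟩, ⟨0, 1⟩⟩],
  ![⟨⟨1, 0⟩, ⟨0, 0⟩⟩, ⟨⟨1, 0⟩, ⟨0, 1⟩⟩, ⟨⟨1, 0⟩, ⟨1, 1⟩⟩],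
  ![⟨⟨1, 0⟩, ⟨0, 0⟩⟩, ⟨⟨0, 0⟩, ⟨1, 1⟩⟩, ⟨⟨0, 0⟩, ⟨0, 0⟩⟩],
  ![⟨⟨1, 0⟩, ⟨0, 0⟩⟩, ⟨⟨0, 0⟩, ⟨1, 1⟩⟩, ⟨⟨1, 0⟩, ⟨0, 0⟩⟩],
  ![⟨⟨1, 0⟩, ⟨0, 0⟩⟩, ⟨⟨0, 0⟩, ⟨1, 1⟩⟩, ⟨⟨0, 1⟩, ⟨1, 0⟩⟩],
  ![⟨⟨1, 0⟩, ⟨0, 0⟩⟩, ⟨⟨0, 0⟩, ⟨1, 1⟩⟩, ⟨⟨1, 1⟩, ⟨1, 0⟩⟩],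
  ![⟨⟨1, 0⟩, ⟨0, 0⟩⟩, ⟨⟨0, 0⟩, ⟨1, 1⟩⟩, ⟨⟨0, 1⟩, ⟨0, 0⟩⟩],
  ![⟨⟨1, 0⟩, ⟨0, 0⟩⟩, ⟨⟨0, 0⟩, ⟨1, 1⟩⟩, ⟨⟨0, 1⟩, ⟨1, 1⟩⟩],
  ![⟨⟨1, 0⟩, ⟨0, 0⟩⟩, ⟨⟨0, 0⟩, ⟨1, 1⟩⟩, ⟨⟨1, 1⟩, ⟨1, 1⟩⟩],
  ![⟨⟨1, 0⟩, ⟨0, 0⟩⟩, ⟨⟨0, 0⟩, ⟨1, 1⟩⟩, ⟨⟨0, 1⟩, ⟨0, 1⟩⟩],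
  ![⟨⟨1, 0⟩, ⟨0, 0⟩⟩, ⟨⟨0, 0⟩, ⟨1, 1⟩⟩, ⟨⟨0, 0⟩, ⟨0, 1⟩⟩],
  ![⟨⟨1, 0⟩, ⟨0, 0⟩⟩, ⟨⟨0, 0⟩, ⟨1, 1⟩⟩, ⟨⟨0, 0⟩, ⟨1, 1⟩⟩],
  ![⟨⟨1, 0⟩, ⟨0, 0⟩⟩, ⟨⟨0, 0⟩, ⟨1, 1⟩⟩, ⟨⟨1, 0⟩, ⟨1, 1⟩⟩],
  ![⟨⟨1, 0⟩, ⟨0, 0⟩⟩, ⟨⟨1, 0⟩, ⟨1, 1⟩⟩, ⟨⟨1, 0⟩, ⟨0, 0⟩⟩],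
  ![⟨⟨1, 0⟩, ⟨0, 0⟩⟩, ⟨⟨1, 0⟩, ⟨1, 1⟩⟩, ⟨⟨0, 0⟩, ⟨1, 0⟩⟩],
  ![⟨⟨1, 0⟩, ⟨0, 0⟩⟩, ⟨⟨1, 0⟩, ⟨1, 1⟩⟩, ⟨⟨1, 0⟩, ⟨1, 0⟩⟩],
  ![⟨⟨1, 0⟩, ⟨0, 0⟩⟩, ⟨⟨1, 0⟩, ⟨1, 1⟩⟩, ⟨⟨0, 1⟩, ⟨1, 0⟩⟩],
  ![⟨⟨1, 0⟩, ⟨0, 0⟩⟩, ⟨⟨1, 0⟩, ⟨1, 1⟩⟩, ⟨⟨1, 1⟩, ⟨1, 0⟩⟩],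
  ![⟨⟨1, 0⟩, ⟨0, 0⟩⟩, ⟨⟨1, 0⟩, ⟨1, 1⟩⟩, ⟨⟨0, 1⟩, ⟨0, 0⟩⟩],
  ![⟨⟨1, 0⟩, ⟨0, 0⟩⟩, ⟨⟨1, 0⟩, ⟨1, 1⟩⟩, ⟨⟨1, 1⟩, ⟨0, 0⟩⟩],
  ![⟨⟨1, 0⟩, ⟨0, 0⟩⟩, ⟨⟨1, 0⟩, ⟨1, 1⟩⟩, ⟨⟨0, 1⟩, ⟨1, 1⟩⟩],
  ![⟨⟨1, 0⟩, ⟨0, 0⟩⟩, ⟨⟨1, 0⟩, ⟨1, 1⟩⟩, ⟨⟨1, 1⟩, ⟨1, 1⟩⟩],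
  ![⟨⟨1, 0⟩, ⟨0, 0⟩⟩, ⟨⟨1, 0⟩, ⟨1, 1⟩⟩, ⟨⟨0, 1⟩, ⟨0, 1⟩⟩],
  ![⟨⟨1, 0⟩, ⟨0, 0⟩⟩, ⟨⟨1, 0⟩, ⟨1, 1⟩⟩, ⟨⟨1, 1⟩, ⟨0, 1⟩⟩],
  ![⟨⟨1, 0⟩, ⟨0, 0⟩⟩, ⟨⟨1, 0⟩, ⟨1, 1⟩⟩, ⟨⟨0, 0⟩, ⟨0, 1⟩⟩],
  ![⟨⟨1, 0⟩, ⟨0, 0⟩⟩, ⟨⟨1, 0⟩, ⟨1, 1⟩⟩, ⟨⟨1, 0⟩, ⟨0, 1⟩⟩],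
  ![⟨⟨1, 0⟩, ⟨0, 0⟩⟩, ⟨⟨1, 0⟩, ⟨1, 1⟩⟩, ⟨⟨0, 0⟩, ⟨1, 1⟩⟩],
  ![⟨⟨1, 0⟩, ⟨0, 0⟩⟩, ⟨⟨1, 0⟩, ⟨1, 1⟩⟩, ⟨⟨1, 0⟩, ⟨1, 1⟩⟩]]

/-- the secants -/
def blocks : List (List (Fin 65)) := [
  [10, 41, 47, 53, 64],
  [5, 6, 7, 8, 9],
  [25, 27, 31, 44, 62],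
  [21, 29, 32, 46, 61],
  [12, 20, 36, 51, 56],
  [14, 16, 37, 50, 58],
  [15, 19, 38, 48, 55],
  [24, 30, 33, 43, 59],
  [13, 17, 39, 52, 54],
  [22, 28, 34, 42, 63],
  [23, 26, 35, 45, 60],
  [11, 18, 40, 49, 57],
  [0, 1, 2, 3, 4],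
  [15, 20, 40, 52, 58],
  [14, 19, 39, 51, 57],
  [24, 29, 34, 45, 62],
  [25, 30, 35, 46, 63],
  [23, 28, 33, 44, 61],
  [13, 18, 38, 50, 56],
  [22, 27, 32, 43, 60],
  [11, 16, 36, 48, 54],
  [12, 17, 37, 49, 55],
  [21, 26, 31, 42, 59],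
  [0, 5, 10, 33, 38],
  [10, 22, 30, 50, 54],
  [10, 24, 26, 49, 56],
  [10, 15, 17, 44, 60],
  [10, 11, 19, 42, 61],
  [10, 14, 20, 46, 62],
  [10, 25, 29, 51, 58],
  [1, 6, 10, 35, 37],
  [10, 12, 18, 45, 59],
  [2, 7, 10, 32, 39],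
  [10, 23, 27, 52, 55],
  [3, 8, 10, 31, 40],
  [10, 21, 28, 48, 57],
  [10, 13, 16, 43, 63],
  [4, 9, 10, 34, 36],
  [59, 60, 61, 62, 63],
  [5, 16, 25, 34, 55],
  [0, 29, 39, 44, 49],
  [1, 28, 36, 46, 52],
  [2, 26, 37, 43, 48],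
  [6, 18, 21, 33, 58],
  [7, 20, 24, 31, 54],
  [3, 30, 38, 42, 51],
  [8, 17, 22, 35, 57],
  [4, 27, 40, 45, 50],
  [9, 19, 23, 32, 56],
  [42, 43, 44, 45, 46],
  [5, 12, 29, 35, 48],
  [4, 23, 37, 57, 62],
  [0, 25, 40, 54, 61],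
  [3, 22, 36, 55, 59],
  [6, 15, 28, 31, 50],
  [7, 11, 26, 34, 52],
  [1, 21, 39, 56, 63],
  [8, 14, 30, 32, 49],
  [2, 24, 38, 58, 60],
  [9, 13, 27, 33, 51],
  [48, 49, 50, 51, 52],
  [5, 20, 27, 39, 59],
  [0, 14, 35, 42, 56],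
  [3, 13, 32, 45, 58],
  [1, 11, 31, 43, 55],
  [6, 19, 29, 36, 60],
  [4, 15, 33, 46, 54],
  [7, 18, 30, 37, 61],
  [8, 16, 28, 38, 62],
  [2, 12, 34, 44, 57],
  [9, 17, 26, 40, 63],
  [54, 55, 56, 57, 58],
  [5, 14, 21, 40, 43],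
  [2, 18, 31, 51, 63],
  [0, 20, 34, 50, 60],
  [4, 17, 32, 48, 59],
  [6, 11, 22, 39, 45],
  [3, 16, 35, 52, 61],
  [7, 12, 23, 38, 46],
  [8, 13, 24, 36, 44],
  [1, 19, 33, 49, 62],
  [9, 15, 25, 37, 42],
  [36, 37, 38, 39, 40],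
  [5, 42, 52, 57, 60],
  [4, 13, 19, 21, 30],
  [1, 15, 18, 24, 27],
  [0, 12, 16, 22, 26],
  [6, 43, 51, 54, 62],
  [2, 11, 20, 25, 28],
  [7, 44, 50, 55, 63],
  [8, 45, 48, 56, 61],
  [3, 14, 17, 23, 29],
  [9, 46, 49, 58, 59],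
  [31, 32, 33, 34, 35],
  [5, 45, 49, 54, 63],
  [3, 12, 19, 24, 28],
  [2, 15, 16, 23, 30],
  [0, 11, 17, 21, 27],
  [6, 44, 52, 56, 59],
  [7, 42, 48, 58, 62],
  [4, 14, 18, 25, 26],
  [8, 46, 51, 55, 60],
  [1, 13, 20, 22, 29],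
  [9, 43, 50, 57, 61],
  [4, 5, 28, 41, 56],
  [11, 32, 38, 41, 63],
  [13, 34, 37, 41, 59],
  [20, 23, 41, 43, 49],
  [16, 21, 41, 44, 51],
  [19, 25, 41, 45, 52],
  [15, 35, 39, 41, 62],
  [0, 6, 30, 41, 55],
  [17, 24, 41, 42, 50],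
  [3, 7, 27, 41, 57],
  [12, 33, 40, 41, 60],
  [1, 8, 26, 41, 58],
  [14, 31, 36, 41, 61],
  [18, 22, 41, 46, 48],
  [2, 9, 29, 41, 54],
  [16, 17, 18, 19, 20],
  [5, 15, 26, 32, 51],
  [1, 25, 38, 57, 59],
  [2, 22, 40, 56, 62],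
  [3, 21, 37, 54, 60],
  [6, 14, 27, 34, 48],
  [0, 23, 36, 58, 63],
  [7, 13, 28, 35, 49],
  [8, 11, 29, 33, 50],
  [4, 24, 39, 55, 61],
  [9, 12, 30, 31, 52],
  [3, 5, 18, 44, 47],
  [13, 25, 47, 48, 60],
  [12, 21, 47, 50, 62],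
  [28, 32, 40, 47, 55],
  [26, 33, 36, 47, 57],
  [30, 34, 39, 47, 58],
  [14, 24, 47, 52, 63],
  [2, 6, 17, 46, 47],
  [29, 31, 37, 47, 56],
  [0, 7, 19, 43, 47],
  [15, 22, 47, 49, 61],
  [4, 8, 20, 42, 47],
  [11, 23, 47, 51, 59],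
  [27, 35, 38, 47, 54],
  [1, 9, 16, 45, 47],
  [21, 22, 23, 24, 25],
  [5, 17, 30, 36, 62],
  [2, 14, 33, 45, 55],
  [4, 11, 35, 44, 58],
  [1, 12, 32, 42, 54],
  [6, 20, 26, 38, 61],
  [7, 16, 29, 40, 59],
  [0, 13, 31, 46, 57],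
  [8, 19, 27, 37, 63],
  [3, 15, 34, 43, 56],
  [9, 18, 28, 39, 60],
  [2, 5, 13, 53, 61],
  [16, 27, 46, 53, 56],
  [18, 29, 42, 53, 55],
  [22, 33, 37, 52, 53],
  [23, 31, 39, 48, 53],
  [24, 35, 40, 51, 53],
  [20, 30, 45, 53, 57],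
  [4, 6, 12, 53, 63],
  [21, 34, 38, 49, 53],
  [1, 7, 14, 53, 60],
  [17, 28, 43, 53, 58],
  [0, 8, 15, 53, 59],
  [19, 26, 44, 53, 54],
  [25, 32, 36, 50, 53],
  [3, 9, 11, 53, 62],
  [26, 27, 28, 29, 30],
  [5, 11, 24, 37, 46],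
  [1, 17, 34, 51, 61],
  [3, 20, 33, 48, 63],
  [4, 16, 31, 49, 60],
  [6, 13, 23, 40, 42],
  [7, 15, 21, 36, 45],
  [2, 19, 35, 50, 59],
  [8, 12, 25, 39, 43],
  [0, 18, 32, 52, 62],
  [9, 14, 22, 38, 44],
  [11, 12, 13, 14, 15],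
  [5, 19, 22, 31, 58],
  [3, 26, 39, 46, 50],
  [4, 29, 38, 43, 52],
  [2, 27, 36, 42, 49],
  [6, 16, 24, 32, 57],
  [1, 30, 40, 44, 48],
  [7, 17, 25, 33, 56],
  [8, 18, 23, 34, 54],
  [0, 28, 37, 45, 51],
  [9, 20, 21, 35, 55],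
  [1, 5, 23, 50, 64],
  [18, 35, 36, 43, 64],
  [17, 31, 38, 45, 64],
  [12, 27, 58, 61, 64],
  [14, 28, 54, 59, 64],
  [15, 29, 57, 63, 64],
  [19, 34, 40, 46, 64],
  [3, 6, 25, 49, 64],
  [13, 26, 55, 62, 64],
  [4, 7, 22, 51, 64],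
  [20, 32, 37, 44, 64],
  [2, 8, 21, 52, 64],
  [16, 33, 39, 42, 64],
  [11, 30, 56, 60, 64],
  [0, 9, 24, 48, 64]]

def matX : Matrix (Fin 3) (Fin 3) R16 := !![⟨⟨0, 0⟩, ⟨1, 0⟩⟩, ⟨⟨0, 0⟩, ⟨0, 1⟩⟩, ⟨⟨1, 0⟩, ⟨1, 0⟩⟩; ⟨⟨1, 0⟩, ⟨0, 1⟩⟩, ⟨⟨1, 1⟩, ⟨1, 0⟩⟩, ⟨⟨0, 0⟩, ⟨0, 0⟩⟩; ⟨⟨0, 1⟩, ⟨1, 1⟩⟩, ⟨⟨1, 1⟩, ⟨1, 0⟩⟩, ⟨⟨0, 0⟩, ⟨1, 1⟩⟩]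
def mat10 : Matrix (Fin 3) (Fin 3) R16 := !![⟨⟨0, 0⟩, ⟨1, 1⟩⟩, ⟨⟨0, 1⟩, ⟨1, 0⟩⟩, ⟨⟨1, 0⟩, ⟨1, 1⟩⟩; ⟨⟨0, 1⟩, ⟨1, 1⟩⟩, ⟨⟨1, 1⟩, ⟨1, 0⟩⟩, ⟨⟨0, 1⟩, ⟨1, 0⟩⟩; ⟨⟨0, 1⟩, ⟨1, 0⟩⟩, ⟨⟨0, 1⟩, ⟨0, 1⟩⟩, ⟨⟨0, 1⟩, ⟨1, 0⟩⟩]
def mat15 : Matrix (Fin 3) (Fin 3) R16 := !![⟨⟨1, 0⟩, ⟨1, 1⟩⟩, ⟨⟨0, 1⟩, ⟨0, 1⟩⟩, ⟨⟨1, 0⟩, ⟨1, 1⟩⟩; ⟨⟨1, 1⟩, ⟨0, 1⟩⟩, ⟨⟨0, 1⟩, ⟨1, 1⟩⟩, ⟨⟨1, 1⟩, ⟨0, 0⟩⟩; ⟨⟨1, 0⟩, ⟨1, 0⟩⟩, ⟨⟨1, 0⟩, ⟨1, 1⟩⟩, ⟨⟨0, 0⟩, ⟨1, 0⟩⟩]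

def permX : Fin 65 → Fin 65 := ![61, 58, 27, 12, 64, 56, 42, 14, 35, 0, 48, 22, 33, 53, 37, 52, 23, 49, 20, 41, 43, 47, 28, 55, 40, 32, 44, 15, 60, 17, 10, 5, 6, 8, 9, 7, 24, 62, 45, 34, 29, 11, 18, 31, 51, 63, 2, 36, 25, 1, 57, 59, 38, 16, 21, 19, 30, 13, 4, 3, 50, 46, 26, 39, 54]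

def scalX : List R16 := [⟨⟨1, 0⟩, ⟨1, 1⟩⟩, ⟨⟨1, 1⟩, ⟨0, 0⟩⟩, ⟨⟨1, 0⟩, ⟨0, 0⟩⟩, ⟨⟨1, 1⟩, ⟨0, 1⟩⟩, ⟨⟨0, 0⟩, ⟨1, 1⟩⟩, ⟨⟨1, 0⟩, ⟨0, 0⟩⟩, ⟨⟨1, 1⟩, ⟨1, 1⟩⟩, ⟨⟨1, 0⟩, ⟨1, 1⟩⟩, ⟨⟨1, 1⟩, ⟨1, 0⟩⟩, ⟨⟨1, 0⟩, ⟨0, 1⟩⟩, ⟨⟨0, 0⟩, ⟨1, 1⟩⟩, ⟨⟨1, 1⟩, ⟨1, 0⟩⟩, ⟨⟨0, 1⟩, ⟨0, 0⟩⟩, ⟨⟨1, 0⟩, ⟨1, 0⟩⟩, ⟨⟨1, 0⟩, ⟨0, 0⟩⟩, ⟨⟨0, 1⟩, ⟨1, 1⟩⟩, ⟨⟨1, 1⟩, ⟨1, 1⟩⟩, ⟨⟨0, 1⟩, ⟨0, 1⟩⟩, ⟨⟨1, 0⟩, ⟨1, 1⟩⟩, ⟨⟨1, 0⟩, ⟨0, 1⟩⟩, ⟨⟨0, 1⟩, ⟨1, 0⟩⟩, ⟨⟨1, 0⟩, ⟨0, 0⟩⟩, ⟨⟨0, 0⟩, ⟨1, 0⟩⟩, ⟨⟨0, 0⟩, ⟨1, 1⟩⟩,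 ⟨⟨1, 1⟩, ⟨1, 1⟩⟩, ⟨⟨1, 0⟩, ⟨1, 0⟩⟩, ⟨⟨1, 0⟩, ⟨0, 1⟩⟩, ⟨⟨0, 0⟩, ⟨1, 1⟩⟩, ⟨⟨0, 0⟩, ⟨1, 0⟩⟩, ⟨⟨1, 1⟩, ⟨1, 0⟩⟩, ⟨⟨1, 0⟩, ⟨1, 1⟩⟩, ⟨⟨0, 1⟩, ⟨0, 1⟩⟩, ⟨⟨1, 1⟩, ⟨1, 1⟩⟩, ⟨⟨1, 1⟩, ⟨1, 0⟩⟩, ⟨⟨0, 0⟩, ⟨1, 0⟩⟩, ⟨⟨0, 1⟩, ⟨1, 1⟩⟩, ⟨⟨0, 0⟩, ⟨0, 1⟩⟩, ⟨⟨1, 0⟩, ⟨1, 1⟩⟩, ⟨⟨0, 1⟩, ⟨0, 1⟩⟩, ⟨⟨0, 1⟩, ⟨1, 1⟩⟩, ⟨⟨1, 0⟩, ⟨0, 0⟩⟩, ⟨⟨0, 1⟩, ⟨1, 1⟩⟩, ⟨⟨0, 0⟩, ⟨1, 0⟩⟩, ⟨⟨1, 0⟩, ⟨0, 0⟩⟩, ⟨⟨1, 0⟩, ⟨0, 1⟩⟩, ⟨⟨0, 1⟩, ⟨0, 1⟩⟩, ⟨⟨0, 1⟩, ⟨0, 0⟩⟩, ⟨⟨1, 0⟩, ⟨1, 0⟩⟩, ⟨⟨1, 0⟩, ⟨1, 0⟩⟩, ⟨⟨0,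 0⟩, ⟨0, 1⟩⟩, ⟨⟨1, 1⟩, ⟨1, 0⟩⟩, ⟨⟨1, 1⟩, ⟨0, 0⟩⟩, ⟨⟨0, 0⟩, ⟨1, 1⟩⟩, ⟨⟨1, 0⟩, ⟨0, 1⟩⟩, ⟨⟨1, 0⟩, ⟨0, 1⟩⟩, ⟨⟨0, 0⟩, ⟨1, 1⟩⟩, ⟨⟨1, 1⟩, ⟨0, 1⟩⟩, ⟨⟨1, 1⟩, ⟨1, 1⟩⟩, ⟨⟨1, 0⟩, ⟨0, 0⟩⟩, ⟨⟨0, 0⟩, ⟨1, 1⟩⟩, ⟨⟨1, 0⟩, ⟨1, 0⟩⟩, ⟨⟨1, 0⟩, ⟨1, 1⟩⟩, ⟨⟨0, 1⟩, ⟨1, 1⟩⟩, ⟨⟨0, 0⟩, ⟨1, 0⟩⟩, ⟨⟨0, 1⟩, ⟨0, 1⟩⟩]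

/-- certificates: the orbit sums differ by combinations of secants -/
def cert : List (List (Fin 208 × ZMod 5)) := [
  [(0, 1), (1, 3), (4, 3), (5, 1), (6, 4), (7, 3), (8, 1), (9, 3), (11, 3), (12, 1), (13, 1), (14, 4), (16, 4), (17, 4), (18, 3), (19, 1), (20, 1), (23, 4), (25, 4), (26, 4), (27, 1), (30, 3), (32, 3), (34, 1), (35, 2), (36, 2), (39, 1), (40, 4), (41, 2), (42, 1), (43, 4), (44, 4), (45, 3), (46, 1), (47, 1), (48, 1), (49, 3), (50, 2),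 (61, 2), (104, 4), (156, 4)],
  [(1, 3), (2, 2), (3, 4), (4, 2), (5, 1), (6, 4), (8, 3), (9, 4), (10, 3), (12, 1), (13, 1), (14, 1), (15, 2), (16, 2), (17, 3), (18, 2), (20, 1), (23, 3), (24, 3), (26, 4), (27, 4), (28, 4), (29, 3), (30, 2), (31, 3), (33, 3), (35, 1), (38, 3), (39, 3), (41, 2), (42, 3), (44, 3), (46, 3), (47, 4), (48, 1), (49, 2), (50, 1)],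
  [(1, 2), (4, 2), (5, 2), (6, 1), (7, 1), (8, 3), (9, 1), (10, 2), (11, 3), (12, 2), (13, 2), (16, 1), (18, 2), (24, 3), (26, 1), (27, 2), (28, 3), (29, 2), (31, 2), (32, 4), (33, 1), (34, 2), (35, 1), (38, 2), (39, 3), (40, 2), (41, 3), (42, 3), (43, 4), (44, 4), (45, 1), (46, 1), (47, 3), (48, 2), (49, 2), (50, 1)],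
  [(1, 3), (2, 4), (3, 2), (4, 4), (5, 2), (6, 2), (7, 2), (8, 4), (9, 3), (10, 1), (12, 2), (13, 1), (15, 3), (16, 3), (17, 3), (18, 3), (19, 4), (20, 3), (23, 3), (24, 4), (25, 1), (26, 1), (27, 3), (28, 3), (32, 3), (33, 1), (34, 2), (35, 1), (36, 3), (39, 3), (40, 4), (41, 3), (42, 3), (43, 2), (44, 4), (45, 1), (47, 2), (48, 1), (49, 3), (50, 1), (61, 3), (104, 1), (156, 1)]]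

def orbitReps : Fin 5 → Fin 65 := ![0, 1, 3, 5, 11]

/-- a vector of the code -/
def witness : Fin 65 → ZMod 5 := ![0, 3, 3, 4, 0, 2, 1, 0, 2, 0, 0, 1, 4, 0, 2, 3, 1, 3, 0, 1, 0, 0, 0, 4, 3, 3, 0, 1, 3, 2, 4, 2, 0, 4, 4, 0, 1, 1, 4, 2, 2, 0, 3, 4, 4, 1, 3, 0, 2, 2, 1, 0, 0, 0, 0, 0, 0, 0, 0, 0, 0, 0, 0, 0, 0]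

end CfsgLib.Recog.UnitalFour
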