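import Mathlib
import Cfsg.Agent.Lib.Recog.UnitalFourData
import Cfsg.Prelude.Def_ChevG2

/-!
# The six dimensional module of `G₂(4)`: data
-/

set_option autoImplicit false

namespace CfsgLib.Recog.GTwoFour

open UnitalFour (R4)

/-- the root elements in dimension six, coefficients packed in bits -/
def xPoly : Fin 12 → Matrix (Fin 6) (Fin 6) ℕ :=
  ![!![1, 0, 0, 0, 2, 0; 0, 1, 0, 0, 0, 2; 0, 0, 1, 0, 0, 0; 0, 0, 0, 1, 0, 0; 0, 0, 0, 0, 1, 0; 0, 0, 0, 0, 0, 1],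
  !![1, 0, 0, 2, 0, 0; 0, 1, 0, 0, 0, 0; 0, 0, 1, 0, 0, 2; 0, 0, 0, 1, 0, 0; 0, 0, 0, 0, 1, 0; 0, 0, 0, 0, 0, 1],
  !![1, 0, 0, 0, 0, 4; 0, 1, 0, 2, 0, 0; 0, 0, 1, 0, 2, 0; 0, 0, 0, 1, 0, 0; 0, 0, 0, 0, 1, 0; 0, 0, 0, 0, 0, 1],
  !![1, 0, 2, 0, 0, 0; 0, 1, 0, 0, 4, 0; 0, 0, 1, 0, 0, 0; 0, 0, 0, 1, 0, 2; 0, 0, 0, 0, 1, 0; 0, 0, 0, 0, 0, 1],
  !![1, 2, 0, 0, 0, 0; 0, 1, 0, 0, 0, 0; 0, 0, 1, 4, 0, 0; 0, 0, 0, 1, 0, 0; 0, 0, 0, 0, 1, 2; 0, 0, 0, 0, 0, 1],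
  !![1, 0, 0, 0, 0, 0; 0, 1, 2, 0, 0, 0; 0, 0, 1, 0, 0, 0; 0, 0, 0, 1, 2, 0; 0, 0, 0, 0, 1, 0; 0, 0, 0, 0, 0, 1],
  !![1, 0, 0, 0, 0, 0; 0, 1, 0, 0, 0, 0; 0, 2, 1, 0, 0, 0; 0, 0, 0, 1, 0, 0; 0, 0, 0, 2, 1, 0; 0, 0, 0, 0, 0, 1],
  !![1, 0, 0, 0, 0, 0; 2, 1, 0, 0, 0, 0; 0, 0, 1, 0, 0, 0; 0, 0, 4, 1, 0, 0; 0, 0, 0, 0, 1, 0; 0, 0, 0, 0, 2, 1],
  !![1, 0, 0, 0, 0, 0; 0, 1, 0, 0, 0, 0; 2, 0, 1, 0, 0, 0; 0, 0, 0, 1, 0, 0; 0, 4, 0, 0, 1, 0; 0, 0, 0, 2, 0, 1],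
  !![1, 0, 0, 0, 0, 0; 0, 1, 0, 0, 0, 0; 0, 0, 1, 0, 0, 0; 0, 2, 0, 1, 0, 0; 0, 0, 2, 0, 1, 0; 4, 0, 0, 0, 0, 1],
  !![1, 0, 0, 0, 0, 0; 0, 1, 0, 0, 0, 0; 0, 0, 1, 0, 0, 0; 2, 0, 0, 1, 0, 0; 0, 0, 0, 0, 1, 0; 0, 0, 2, 0, 0, 1],
  !![1, 0, 0, 0, 0, 0; 0, 1, 0, 0, 0, 0; 0, 0, 1, 0, 0, 0; 0, 0, 0, 1, 0, 0; 2, 0, 0, 0, 1, 0; 0, 2, 0, 0, 0, 1]]

/-- the fourteen dimensional algebra inside the six by six matrices -/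
def lieBit : Fin 14 → Matrix (Fin 6) (Fin 6) ℕ :=
  ![!![1, 0, 0, 0, 0, 0; 0, 1, 0, 0, 0, 0; 0, 0, 0, 0, 0, 0; 0, 0, 0, 0, 0, 0; 0, 0, 0, 0, 1, 0; 0, 0, 0, 0, 0, 1],
  !![0, 0, 0, 0, 0, 0; 0, 1, 0, 0, 0, 0; 0, 0, 1, 0, 0, 0; 0, 0, 0, 1, 0, 0; 0, 0, 0, 0, 1, 0; 0, 0, 0, 0, 0, 0],
  !![0, 0, 0, 0, 1, 0; 0, 0, 0, 0, 0, 1; 0, 0, 0, 0, 0, 0; 0, 0, 0, 0, 0, 0; 0, 0, 0, 0, 0, 0; 0, 0, 0, 0, 0, 0],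
  !![0, 0, 0, 1, 0, 0; 0, 0, 0, 0, 0, 0; 0, 0, 0, 0, 0, 1; 0, 0, 0, 0, 0, 0; 0, 0, 0, 0, 0, 0; 0, 0, 0, 0, 0, 0],
  !![0, 0, 0, 0, 0, 0; 0, 0, 0, 1, 0, 0; 0, 0, 0, 0, 1, 0; 0, 0, 0, 0, 0, 0; 0, 0, 0, 0, 0, 0; 0, 0, 0, 0, 0, 0],
  !![0, 0, 1, 0, 0, 0; 0, 0, 0, 0, 0, 0; 0, 0, 0, 0, 0, 0; 0, 0, 0, 0, 0, 1; 0, 0, 0, 0, 0, 0; 0, 0, 0, 0, 0, 0],
  !![0, 1, 0, 0, 0, 0; 0, 0, 0, 0, 0, 0; 0, 0, 0, 0, 0, 0; 0, 0, 0, 0, 0, 0; 0, 0, 0, 0, 0, 1; 0, 0, 0, 0, 0, 0],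
  !![0, 0, 0, 0, 0, 0; 0, 0, 1, 0, 0, 0; 0, 0, 0, 0, 0, 0; 0, 0, 0, 0, 1, 0; 0, 0, 0, 0, 0, 0; 0, 0, 0, 0, 0, 0],
  !![0, 0, 0, 0, 0, 0; 0, 0, 0, 0, 0, 0; 0, 1, 0, 0, 0, 0; 0, 0, 0, 0, 0, 0; 0, 0, 0, 1, 0, 0; 0, 0, 0, 0, 0, 0],
  !![0, 0, 0, 0, 0, 0; 1, 0, 0, 0, 0, 0; 0, 0, 0, 0, 0, 0; 0, 0, 0, 0, 0, 0; 0, 0, 0, 0, 0, 0; 0, 0, 0, 0, 1, 0],
  !![0, 0, 0, 0, 0, 0; 0, 0, 0, 0, 0, 0; 1, 0, 0, 0, 0, 0; 0, 0, 0, 0, 0, 0; 0, 0, 0, 0, 0, 0; 0, 0, 0, 1, 0, 0],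
  !![0, 0, 0, 0, 0, 0; 0, 0, 0, 0, 0, 0; 0, 0, 0, 0, 0, 0; 0, 1, 0, 0, 0, 0; 0, 0, 1, 0, 0, 0; 0, 0, 0, 0, 0, 0],
  !![0, 0, 0, 0, 0, 0; 0, 0, 0, 0, 0, 0; 0, 0, 0, 0, 0, 0; 1, 0, 0, 0, 0, 0; 0, 0, 0, 0, 0, 0; 0, 0, 1, 0, 0, 0],
  !![0, 0, 0, 0, 0, 0; 0, 0, 0, 0, 0, 0; 0, 0, 0, 0, 0, 0; 0, 0, 0, 0, 0, 0; 1, 0, 0, 0, 0, 0; 0, 1, 0, 0, 0, 0]]

/-- columns of the adjoint root elements: (row, degree in the parameter) -/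
def adCols : List (List (List (Fin 14 × ℕ))) := [
  [[(0, 0)], [(1, 0), (2, 1)], [(2, 0)], [(3, 0)], [(4, 0)], [(5, 0)], [(6, 0)], [(7, 0)], [(3, 1), (8, 0)], [(9, 0)], [(4, 1), (10, 0)], [(5, 1), (11, 0)], [(7, 1), (12, 0)], [(0, 1), (2, 2), (13, 0)]],
  [[(0, 0), (3, 1)], [(1, 0), (3, 1)], [(2, 0)], [(3, 0)], [(4, 0)], [(5, 0)], [(6, 0)], [(2, 1), (7, 0)], [(8, 0)], [(4, 1), (9, 0)], [(10, 0)], [(6, 1), (11, 0)], [(0, 1), (1, 1), (3, 2), (12, 0)], [(8, 1), (13, 0)]],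
  [[(0, 0), (4, 1)], [(1, 0)], [(2, 0)], [(3, 0)], [(4, 0)], [(2, 1), (5, 0)], [(3, 1), (6, 0)], [(7, 0)], [(8, 0)], [(2, 2), (9, 0)], [(3, 2), (10, 0)], [(1, 1), (4, 2), (11, 0)], [(2, 3), (5, 2), (9, 1), (12, 0)], [(3, 3), (6, 2), (10, 1), (13, 0)]],
  [[(0, 0), (5, 1)], [(1, 0), (5, 1)], [(2, 0)], [(3, 0)], [(2, 1), (4, 0)], [(5, 0)], [(2, 2), (6, 0)], [(7, 0)], [(2, 3), (4, 2), (6, 1), (8, 0)], [(7, 1), (9, 0)], [(0, 1), (1, 1), (5, 2), (10, 0)], [(7, 2), (11, 0)], [(12, 0)], [(7, 3), (9, 2), (11, 1), (13, 0)]],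
  [[(0, 0)], [(1, 0), (6, 1)], [(2, 0)], [(3, 0)], [(3, 1), (4, 0)], [(3, 2), (5, 0)], [(6, 0)], [(3, 3), (4, 2), (5, 1), (7, 0)], [(8, 0)], [(0, 1), (6, 2), (9, 0)], [(8, 1), (10, 0)], [(8, 2), (11, 0)], [(8, 3), (10, 2), (11, 1), (12, 0)], [(13, 0)]],
  [[(0, 0), (7, 1)], [(1, 0)], [(2, 0)], [(2, 1), (3, 0)], [(4, 0)], [(5, 0)], [(5, 1), (6, 0)], [(7, 0)], [(1, 1), (7, 2), (8, 0)], [(9, 0)], [(9, 1), (10, 0)], [(11, 0)], [(12, 0)], [(12, 1), (13, 0)]],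
  [[(0, 0), (8, 1)], [(1, 0)], [(2, 0), (3, 1)], [(3, 0)], [(4, 0)], [(5, 0), (6, 1)], [(6, 0)], [(1, 1), (7, 0), (8, 2)], [(8, 0)], [(9, 0), (10, 1)], [(10, 0)], [(11, 0)], [(12, 0), (13, 1)], [(13, 0)]],
  [[(0, 0)], [(1, 0), (9, 1)], [(2, 0)], [(3, 0), (4, 1), (5, 2), (7, 3)], [(4, 0), (7, 2)], [(5, 0), (7, 1)], [(0, 1), (6, 0), (9, 2)], [(7, 0)], [(8, 0), (10, 1), (11, 2), (12, 3)], [(9, 0)], [(10, 0), (12, 2)], [(11, 0), (12, 1)], [(12, 0)], [(13, 0)]],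
  [[(0, 0), (10, 1)], [(1, 0), (10, 1)], [(2, 0), (4, 1), (6, 2), (8, 3)], [(3, 0)], [(4, 0), (8, 2)], [(0, 1), (1, 1), (5, 0), (10, 2)], [(6, 0), (8, 1)], [(7, 0), (9, 1), (11, 2), (13, 3)], [(8, 0)], [(9, 0), (13, 2)], [(10, 0)], [(11, 0), (13, 1)], [(12, 0)], [(13, 0)]],
  [[(0, 0), (11, 1)], [(1, 0)], [(2, 0), (5, 1), (9, 2), (12, 3)], [(3, 0), (6, 1), (10, 2), (13, 3)], [(1, 1), (4, 0), (11, 2)], [(5, 0), (12, 2)], [(6, 0), (13, 2)], [(7, 0)], [(8, 0)], [(9, 0), (12, 1)], [(10, 0), (13, 1)], [(11, 0)], [(12, 0)], [(13, 0)]],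
  [[(0, 0), (12, 1)], [(1, 0), (12, 1)], [(2, 0), (7, 1)], [(0, 1), (1, 1), (3, 0), (12, 2)], [(4, 0), (9, 1)], [(5, 0)], [(6, 0), (11, 1)], [(7, 0)], [(8, 0), (13, 1)], [(9, 0)], [(10, 0)], [(11, 0)], [(12, 0)], [(13, 0)]],
  [[(0, 0)], [(1, 0), (13, 1)], [(0, 1), (2, 0), (13, 2)], [(3, 0), (8, 1)], [(4, 0), (10, 1)], [(5, 0), (11, 1)], [(6, 0)], [(7, 0), (12, 1)], [(8, 0)], [(9, 0)], [(10, 0)], [(11, 0)], [(12, 0)], [(13, 0)]]]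

/-- words in the algebra equal to matrix units -/
def unitWord : Fin 6 → Fin 6 → List (Fin 14) :=
  ![![[0, 3, 12], [3, 11], [0, 5], [0, 3], [2, 1], [2, 6]],
  ![[1, 9], [0, 4, 11], [0, 7], [0, 4], [2, 9], [1, 2]],
  ![[1, 10], [3, 13], [1, 3, 12], [3, 10], [3, 9], [1, 3]],
  ![[1, 12], [5, 13], [5, 12], [1, 5, 10], [5, 9], [1, 5]],
  ![[1, 13], [6, 13], [0, 11], [0, 8], [0, 8, 7], [1, 6]],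
  ![[9, 13], [10, 11], [0, 12], [0, 10], [9, 1], [0, 10, 5]]]

def word6 : List (Fin 12 × R4) := [(7, ⟨1, 0⟩), (5, ⟨1, 0⟩), (6, ⟨1, 0⟩)]
def word10 : List (Fin 12 × R4) := [(6, ⟨1, 1⟩), (3, ⟨1, 1⟩), (5, ⟨1, 1⟩)]
def word7 : List (Fin 12 × R4) := [(10, ⟨0, 1⟩), (8, ⟨0, 1⟩), (2, ⟨1, 1⟩)]
def word13 : List (Fin 12 × R4) := [(0, ⟨1, 0⟩), (7, ⟨0, 1⟩), (10, ⟨0, 1⟩), (4, ⟨0, 1⟩)]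
end CfsgLib.Recog.GTwoFour
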