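import Mathlib
import Cfsg.Agent.Lib.Recog.UnitalFourData

/-!
# The unital of order four: checks
-/

set_option autoImplicit false

namespace CfsgLib.Recog.UnitalFour

/-- conjugation -/
def conj16 (x : R16) : R16 := (x * x) * (x * x)

def herm (u v : Fin 3 → R16) : R16 := u 0 * conj16 (v 0) + u 1 * conj16 (v 1) + u 2 * conj16 (v 2)

def pt (i : Fin 65) : Fin 3 → R16 := pts.getD i.1 0
def pole (k : Fin 208) : Fin 3 → R16 := poles.getD k.1 0
def block (k : Fin 208) : List (Fin 65) := blocks.getD k.1 []

def elts4 : List R4 := [⟨0, 0⟩, ⟨1, 0⟩, ⟨0, 1⟩, ⟨1, 1⟩]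
def elts : List R16 := elts4.flatMap fun a => elts4.map fun b => ⟨a, b⟩

theorem mem_elts (x : R16) : x ∈ elts := by
  obtain ⟨⟨a, b⟩, ⟨c, d⟩⟩ := x
  revert a b c d
  decide +kernel

theorem inv_check : (elts.all fun x => x == 0 || elts.any fun y => x * y == 1) = true := by
  decide +kernel

theorem isotropic_check : ((List.finRange 65).all fun i => herm (pt i) (pt i) == 0) = true := by
  decide +kernel

/-- normalised vectors -/
def normed : List (Fin 3 → R16) :=
  (elts.flatMap fun x => elts.map fun y => ![1, x, y]) ++ (elts.map fun x => ![0, 1, x]) ++ [![0, 0, 1]]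

def eqv (u v : Fin 3 → R16) : Bool := u 0 == v 0 && u 1 == v 1 && u 2 == v 2

theorem complete_check : (normed.all fun v => bif herm v v == 0 then (List.finRange 65).any fun i => eqv (pt i) v
    else (List.finRange 208).any fun k => eqv (pole k) v) = true := by
  decide +kernel

theorem indep_check : ((List.finRange 65).all fun i => (List.finRange 65).all fun j => i == j ||
    !(pt i 0 * pt j 1 == pt i 1 * pt j 0 && pt i 0 * pt j 2 == pt i 2 * pt j 0 &&
      pt i 1 * pt j 2 == pt i 2 * pt j 1)) = true := by
  decide +kernel

theorem block_check : ((List.finRange 208).all fun k => (List.finRange 65).all fun i =>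
    (herm (pt i) (pole k) == 0) == (block k).elem i) = true := by
  decide +kernel

theorem witness_check : ((List.finRange 208).all fun k =>
    (List.finRange 65).foldl (fun s i => bif (block k).elem i then s + witness i else s) 0 == 0) = true := by
  decide +kernel

theorem perm_check : ((List.finRange 65).all fun i =>
    eqv (fun j => (scalX.getD i.1 0) * pt (permX i) j)
      (fun j => matX j 0 * pt i 0 + matX j 1 * pt i 1 + matX j 2 * pt i 2) &&
    !(scalX.getD i.1 0 == 0)) = true := by
  decide +kernel

/-- the characteristic vector of an orbit of `permX` -/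
def orbit (t : Fin 5) : List (Fin 65) := (List.range 13).map fun k => permX^[k] (orbitReps t)

theorem orbit_check : ((List.finRange 65).all fun i =>
    (List.finRange 5).any fun t => (orbit t).elem i) = true := by
  decide +kernel

theorem cert_check : ((List.finRange 4).all fun t => (List.finRange 65).all fun i =>
    ((cert.getD t.1 []).foldl (fun s kc => bif (block kc.1).elem i then s + kc.2 else s) (0 : ZMod 5)) ==
      ((bif (orbit t.succ).elem i then (1 : ZMod 5) else 0) - (bif (orbit 0).elem i then 1 else 0))) = true := by
  decide +kernel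

theorem nodup_check : ((List.finRange 5).all fun t => decide (orbit t).Nodup) = true := by
  decide +kernel

end CfsgLib.Recog.UnitalFour
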