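import Mathlib
import Cfsg.Agent.Lib.Recog.GTwoFourData
import Cfsg.Agent.Lib.Recog.UnitalFour

/-!
# The six dimensional module of `G₂(4)`
-/

set_option autoImplicit false
set_option maxRecDepth 4000

namespace CfsgLib.Recog.GTwoFour

open UnitalFour (R4)
open Cfsg.Lie

abbrev D : ChevalleyDatum := chevG2

/-- numbering of the basis of the adjoint module -/
def idx : Fin 14 → D.Idx := fun k =>
  if h : k.1 < 2 then Sum.inl ⟨k.1, h⟩ else Sum.inr ⟨k.1 - 2, by change k.1 - 2 < 12; omega⟩

theorem idx_bijective : Function.Bijective idx := by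
  refine (Fintype.bijective_iff_injective_and_card idx).mpr ⟨?_, rfl⟩
  decide +kernel

/-- one entry of the table -/
def adEntry {S : Type*} [CommRing S] (r : Fin 12) (t : S) (u k : Fin 14) : S :=
  (((adCols.getD r.1 []).getD k.1 []).map fun e => bif e.1 == u then t ^ e.2 else 0).sum

/-- the monomials of the table -/
def adTerms (r : Fin 12) (u k : Fin 14) : List (ℕ × ℤ) :=
  (((adCols.getD r.1 []).getD k.1 []).filter fun e => e.1 == u).map fun e => (e.2, 1)

/-- the monomials of an entry of a root element -/
def xTerms (r : Fin D.nroots) : D.Idx → D.Idx → List (ℕ × ℤ)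
  | row, Sum.inl i =>
      match row with
      | Sum.inl i' => if i' = i then [(0, 1)] else []
      | Sum.inr u => if u = r then [(1, - ((D.cartanSR.getD i.val #[]).getD r.val 0))] else []
  | row, Sum.inr s =>
      if s = r then (match row with | Sum.inr u => if u = r then [(0, 1)] else [] | Sum.inl _ => [])
      else if s.val = D.negIdx.getD r.val 0 then
        (match row with
         | Sum.inl i => [(1, (D.coroot.getD r.val #[]).getD i.val 0)]
         | Sum.inr u => if u = s then [(0, 1)] else if u = r then [(2, -1)] else [])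
      else
        (match row with
         | Sum.inl _ => []
         | Sum.inr u => (if u = s then [(0, 1)] else []) ++ D.chainCoeff r.val s.val u.val)

/-- value of a list of monomials -/
def evalTerms {S : Type*} [CommRing S] (t : S) (l : List (ℕ × ℤ)) : S :=
  (l.map fun e => (e.2 : S) * t ^ e.1).sum

set_option maxHeartbeats 1000000 in
theorem xMat_eq {F : Type*} [Field F] (r : Fin D.nroots) (t : F) (row col : D.Idx) :
    D.xMat F r t row col = evalTerms t (xTerms r row col) := by
  simp only [ChevalleyDatum.xMat, Matrix.of_apply, xTerms, evalTerms]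
  rcases col with i | s <;> rcases row with i' | u <;> (repeat' split) <;> simp_all

theorem adEntry_eq {S : Type*} [CommRing S] (r : Fin 12) (t : S) (u k : Fin 14) :
    adEntry r t u k = evalTerms t (adTerms r u k) := by
  simp only [adEntry, adTerms, evalTerms, List.map_map]
  induction (adCols.getD r.1 []).getD k.1 [] with
  | nil => simp
  | cons e l ih =>
    simp only [List.map_cons, List.sum_cons, ih, List.filter_cons]
    cases e.1 == u <;> simp

/-- the coefficient modulo two of degree `d` -/
def coef (d : ℕ) (l : List (ℕ × ℤ)) : Bool :=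
  l.foldl (fun b e => xor b (decide (e.1 = d) && decide (e.2 % 2 ≠ 0))) false

theorem coef_cons (d : ℕ) (e : ℕ × ℤ) (l : List (ℕ × ℤ)) :
    coef d (e :: l) = xor (decide (e.1 = d) && decide (e.2 % 2 ≠ 0)) (coef d l) := by
  have h : ∀ (l : List (ℕ × ℤ)) (b : Bool),
      l.foldl (fun b e => xor b (decide (e.1 = d) && decide (e.2 % 2 ≠ 0))) b = xor b (coef d l) := by
    intro l
    induction l with
    | nil => intro b; simp [coef]
    | cons e l ih =>
      intro b
      simp only [coef, List.foldl_cons]
      rw [ih, ih, Bool.false_xor, Bool.xor_assoc]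
  simp only [coef, List.foldl_cons, Bool.false_xor]
  exact h l _

theorem evalTerms_char_two {S : Type*} [CommRing S] [CharP S 2] (t : S) (l : List (ℕ × ℤ))
    (hl : l.all (fun e => decide (e.1 < 4)) = true) :
    evalTerms t l = ∑ d : Fin 4, (bif coef d l then t ^ (d : ℕ) else 0) := by
  have hx : ∀ (a b : Bool) (x : S), (bif xor a b then x else 0) = (bif a then x else 0) + (bif b then x else 0) := by
    intro a b x
    cases a <;> cases b <;> simp [CharTwo.add_self_eq_zero]
  induction l with
  | nil => simp [evalTerms, coef]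
  | cons e l ih =>
    rw [List.all_cons, Bool.and_eq_true, decide_eq_true_eq] at hl
    have hcast : (e.2 : S) = if e.2 % 2 ≠ 0 then 1 else 0 := by
      rcases Int.emod_two_eq_zero_or_one e.2 with h | h
      · rw [h, if_neg (by simp)]
        exact (CharP.intCast_eq_zero_iff S 2 e.2).mpr (by omega)
      · rw [h, if_pos one_ne_zero, show e.2 = 2 * (e.2 / 2) + 1 by omega]
        push_cast
        rw [CharTwo.two_eq_zero, zero_mul, zero_add]
    simp only [evalTerms, List.map_cons, List.sum_cons] at ih ⊢
    rw [ih hl.2, hcast]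
    simp only [coef_cons, hx, Finset.sum_add_distrib]
    congr 1
    rw [Finset.sum_eq_single (⟨e.1, hl.1⟩ : Fin 4)]
    · by_cases h : e.2 % 2 = 0 <;> simp [h]
    · intro d _ hd
      have : e.1 ≠ (d : ℕ) := fun h => hd (Fin.ext h.symm)
      simp [this]
    · simp

/-- the comparison of the two lists of monomials -/
def sameTerms (a b : List (ℕ × ℤ)) : Bool :=
  a.all (fun e => decide (e.1 < 4)) && b.all (fun e => decide (e.1 < 4)) &&
    (List.range 4).all fun d => coef d a == coef d b

theorem evalTerms_congr {S : Type*} [CommRing S] [CharP S 2] (t : S) {a b : List (ℕ × ℤ)}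
    (h : sameTerms a b = true) : evalTerms t a = evalTerms t b := by
  simp only [sameTerms, Bool.and_eq_true, List.all_eq_true (l := List.range 4), beq_iff_eq] at h
  rw [evalTerms_char_two t a h.1.1, evalTerms_char_two t b h.1.2]
  exact Finset.sum_congr rfl fun d _ => by rw [h.2 d (List.mem_range.mpr d.2)]

/-- value of a packed polynomial -/
def ev {S : Type*} [CommRing S] (t : S) (a : ℕ) : S :=
  ∑ d : Fin 6, bif a.testBit d then t ^ (d : ℕ) else 0

/-- the root elements in dimension six -/
def x6 {S : Type*} [CommRing S] (r : Fin 12) (t : S) : Matrix (Fin 6) (Fin 6) S :=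
  (xPoly r).map (ev t)

/-- the fourteen matrices -/
def lieMat {S : Type*} [CommRing S] (k : Fin 14) : Matrix (Fin 6) (Fin 6) S :=
  (lieBit k).map fun a => bif a == 1 then 1 else 0

/-- the right hand side of the covariance -/
def adSum {S : Type*} [CommRing S] (r : Fin 12) (t : S) (k : Fin 14) : Matrix (Fin 6) (Fin 6) S :=
  (((adCols.getD r.1 []).getD k.1 []).map fun e => t ^ e.2 • lieMat e.1).sum

def root (r : Fin 12) : Fin D.nroots := ⟨r.1, r.2⟩

theorem adEntry_check : ∀ r : Fin 12, ((List.finRange 14).all fun u => (List.finRange 14).all fun k =>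
    sameTerms (xTerms (root r) (idx u) (idx k)) (adTerms r u k)) = true := by
  decide +kernel

theorem ev_map {S T : Type*} [CommRing S] [CommRing T] (f : S →+* T) (t : S) (a : ℕ) :
    f (ev t a) = ev (f t) a := by
  rw [ev, ev, map_sum]
  exact Finset.sum_congr rfl fun d _ => by cases a.testBit d <;> simp

theorem x6_map {S T : Type*} [CommRing S] [CommRing T] (f : S →+* T) (r : Fin 12) (t : S) :
    (x6 r t).map f = x6 r (f t) := by
  ext i j
  exact ev_map f t _

theorem ev_xor {S : Type*} [CommRing S] [CharP S 2] (t : S) (a b : ℕ) :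
    ev t (Nat.xor a b) = ev t a + ev t b := by
  simp only [ev, ← Finset.sum_add_distrib]
  refine Finset.sum_congr rfl fun d _ => ?_
  show (bif (a ^^^ b).testBit d then t ^ (d : ℕ) else 0) = _
  rw [Nat.testBit_xor]
  cases a.testBit d <;> cases b.testBit d <;> simp [CharTwo.add_self_eq_zero]

theorem ev_zero {S : Type*} [CommRing S] (t : S) : ev t 0 = 0 := by simp [ev]

theorem ev_foldl {S : Type*} [CommRing S] [CharP S 2] (t : S) (l : List ℕ) :
    ev t (l.foldl Nat.xor 0) = (l.map (ev t)).sum := by
  have h : ∀ (l : List ℕ) (a : ℕ), ev t (l.foldl Nat.xor a) = ev t a + (l.map (ev t)).sum := by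
    intro l
    induction l with
    | nil => intro a; simp
    | cons x l ih => intro a; rw [List.foldl_cons, ih, ev_xor, List.map_cons, List.sum_cons, add_assoc]
  rw [h, ev_zero, zero_add]

/-- shift bound -/
def fits (a : ℕ) (d : ℕ) : Bool := decide (a * 2 ^ d < 64)

theorem ev_shift {S : Type*} [CommRing S] (t : S) {a d : ℕ} (h : fits a d = true) :
    ev t (a * 2 ^ d) = t ^ d * ev t a := by
  have hlt : a * 2 ^ d < 64 := of_decide_eq_true h
  rcases Nat.eq_zero_or_pos a with rfl | ha
  · simp [ev_zero]
  have hd : d < 6 := by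
    by_contra hd
    have : 2 ^ 6 ≤ 2 ^ d := Nat.pow_le_pow_right two_pos (by omega)
    nlinarith
  have ha64 : a < 64 := by nlinarith [Nat.one_le_two_pow (n := d)]
  have hi : ∀ i : Fin 6, (a * 2 ^ d).testBit i = (decide (d ≤ (i : ℕ)) && a.testBit ((i : ℕ) - d)) :=
    fun i => by rw [mul_comm, Nat.testBit_two_pow_mul]
  have ha' : ∀ m : ℕ, 6 - d ≤ m → a.testBit m = false := fun m hm => by
    refine Nat.testBit_eq_false_of_lt ?_
    have h1 : a * 2 ^ d < 2 ^ (6 - d) * 2 ^ d := by
      rw [← pow_add, Nat.sub_add_cancel hd.le]; exact hlt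
    exact lt_of_lt_of_le (Nat.lt_of_mul_lt_mul_right h1) (Nat.pow_le_pow_right two_pos hm)
  simp only [ev, Fin.sum_univ_six, hi, mul_add]
  interval_cases d <;>
    simp [ha' 1, ha' 2, ha' 3, ha' 4, ha' 5] <;>
    cases decide (a % 2 = 1) <;> cases a.testBit 1 <;> cases a.testBit 2 <;> cases a.testBit 3 <;>
      cases a.testBit 4 <;> simp [pow_succ] <;> ring

/-- the two sides of the covariance, packed -/
def covLeft (r : Fin 12) (k : Fin 14) (i j : Fin 6) : List ℕ :=
  (List.finRange 6).map fun l => bif lieBit k l j == 1 then xPoly r i l else 0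

def covRight (r : Fin 12) (k : Fin 14) (i j : Fin 6) : List ℕ :=
  ((adCols.getD r.1 []).getD k.1 []).flatMap fun e =>
    (List.finRange 6).map fun l => bif lieBit e.1 i l == 1 then xPoly r l j * 2 ^ e.2 else 0

theorem cov_check : ∀ r : Fin 12, ((List.finRange 14).all fun k => (List.finRange 6).all fun i =>
    (List.finRange 6).all fun j => (covLeft r k i j).foldl Nat.xor 0 == (covRight r k i j).foldl Nat.xor 0 &&
      ((adCols.getD r.1 []).getD k.1 []).all fun e =>
        (List.finRange 6).all fun l => fits (xPoly r l j) e.2) = true := by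
  decide +kernel

theorem cov {S : Type*} [CommRing S] [CharP S 2] (r : Fin 12) (t : S) (k : Fin 14) :
    x6 r t * lieMat k = adSum r t k * x6 r t := by
  refine Matrix.ext fun i j => ?_
  have h := List.all_eq_true.mp (List.all_eq_true.mp
    (List.all_eq_true.mp (cov_check r) k (List.mem_finRange k)) i (List.mem_finRange i)) j (List.mem_finRange j)
  rw [Bool.and_eq_true, beq_iff_eq] at h
  have h1 := congrArg (ev t) h.1
  rw [ev_foldl, ev_foldl] at h1
  have hl : (x6 r t * (lieMat k : Matrix (Fin 6) (Fin 6) S)) i j = ((covLeft r k i j).map (ev t)).sum := by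
    rw [Matrix.mul_apply, Fin.sum_univ_def, covLeft, List.map_map]
    refine congrArg List.sum (List.map_congr_left fun l _ => ?_)
    simp only [x6, lieMat, Matrix.map_apply, Function.comp_apply]
    cases lieBit k l j == 1 <;> simp [ev_zero]
  have hr : ∀ L : List (Fin 14 × ℕ), (∀ e ∈ L, ∀ l, fits (xPoly r l j) e.2 = true) →
      ((L.map fun e => t ^ e.2 • (lieMat e.1 : Matrix (Fin 6) (Fin 6) S)).sum * x6 r t) i j =
        ((L.flatMap fun e => (List.finRange 6).map fun l =>
          bif lieBit e.1 i l == 1 then xPoly r l j * 2 ^ e.2 else 0).map (ev t)).sum := by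
    intro L hL
    induction L with
    | nil => simp
    | cons e L ih =>
      rw [List.map_cons, List.sum_cons, add_mul, Matrix.add_apply, ih (fun e' he => hL e' (List.mem_cons_of_mem _ he)),
        List.flatMap_cons, List.map_append, List.sum_append]
      congr 1
      rw [Matrix.mul_apply, Fin.sum_univ_def, List.map_map]
      refine congrArg List.sum (List.map_congr_left fun l _ => ?_)
      simp only [x6, lieMat, Matrix.map_apply, Matrix.smul_apply, smul_eq_mul, Function.comp_apply]
      cases lieBit e.1 i l == 1 <;> simp [ev_zero, ev_shift t (hL e (List.mem_cons_self ..) l)]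
  rw [hl, h1]
  refine (hr _ fun e he l => ?_).symm
  exact List.all_eq_true.mp (List.all_eq_true.mp h.2 e he) l (List.mem_finRange l)

theorem x6_sq_check : ∀ r : Fin 12, (UnitalFour.elts4.all fun t => x6 r t * x6 r t == 1) = true := by
  decide +kernel

/-- the alternating form -/
def formJ {S : Type*} [CommRing S] : Matrix (Fin 6) (Fin 6) S :=
  !![0, 0, 0, 0, 0, 1; 0, 0, 0, 0, 1, 0; 0, 0, 0, 1, 0, 0; 0, 0, 1, 0, 0, 0; 0, 1, 0, 0, 0, 0; 1, 0, 0, 0, 0, 0]

theorem form_check : ∀ r : Fin 12, (UnitalFour.elts4.all fun t =>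
    (x6 r t).transpose * formJ * x6 r t == formJ) = true := by
  decide +kernel

theorem unit_check : ∀ i j : Fin 6,
    ((unitWord i j).map (lieMat (S := ZMod 2))).prod = Matrix.single i j 1 := by
  decide +kernel

/-- product of a word of root elements -/
def wordMat (w : List (Fin 12 × R4)) : Matrix (Fin 6) (Fin 6) R4 := (w.map fun e => x6 e.1 e.2).prod

/-- `1 + M + ⋯ + M^(n-1)` as a Horner expression -/
def geom (M : Matrix (Fin 6) (Fin 6) R4) : ℕ → Matrix (Fin 6) (Fin 6) R4
  | 0 => 0
  | n + 1 => 1 + M * geom M n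

theorem word6_check : wordMat word6 ^ 6 = 1 ∧ ∀ m : Fin 5, wordMat word6 ^ (m.1 + 1) ≠ 1 := by
  refine ⟨?_, ?_⟩ <;> decide +kernel

theorem word10_check : wordMat word10 ^ 10 = 1 ∧ ∀ m : Fin 9, wordMat word10 ^ (m.1 + 1) ≠ 1 := by
  refine ⟨?_, ?_⟩ <;> decide +kernel

theorem word7_check : geom (wordMat word7) 7 = 0 ∧ wordMat word7 ≠ 1 := by
  refine ⟨?_, ?_⟩ <;> decide +kernel

theorem word13_check : geom (wordMat word13) 13 = 0 ∧ wordMat word13 ≠ 1 := by
  refine ⟨?_, ?_⟩ <;> decide +kernel

end CfsgLib.Recog.GTwoFour
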