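import Cfsg.Agent.Lib.Recog.GTwoFour
import Cfsg.Agent.Lib.Lie.Rel.Inst
import Cfsg.Agent.Lib.Lie.Chev.Data.CertG2

/-!
The six dimensional faithful module of `G₂(4)` as a homomorphism.
The proof follows the argument in the file of statement 3662.
-/

set_option autoImplicit false

namespace CfsgLib.Recog.GTwoFour

open Cfsg.Lie Matrix

theorem r4_unit : ∀ x : UnitalFour.R4, x = 0 ∨ ∃ y ∈ UnitalFour.elts4, x * y = 1 := by
  rintro ⟨a, b⟩; revert a b; decide +kernel

theorem r4_mem : ∀ t : UnitalFour.R4, t ∈ UnitalFour.elts4 := by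
  rintro ⟨a, b⟩; revert a b; decide +kernel

theorem lieBit_support : ∀ k : Fin 14, ∃ i j : Fin 6, ∀ u : Fin 14, (lieBit u i j == 1) = decide (u = k) := by
  decide +kernel

theorem exists_module {F : Type*} [Field F] [Fintype F] (hF : Fintype.card F = 4) :
    ∃ (f : UnitalFour.R4 →+* F) (ρ : ↥(chevG2.group F) →* GL (Fin 6) F)
      (X : Fin 12 → UnitalFour.R4 → ↥(chevG2.group F)),
      Function.Injective f ∧ Function.Injective ρ ∧
      (∀ r a, (ρ (X r a) : Matrix (Fin 6) (Fin 6) F) = f.mapMatrix (x6 r a)) ∧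
      Subgroup.closure {g | ∃ r a, g = X r a} = ⊤ := by
  classical
  have := Fact.mk Nat.prime_two
  have : CharP F 2 := charP_of_card_eq_prime_pow (f := 2) hF
  let _ : Algebra (ZMod 2) F := ZMod.algebra F 2
  -- a root of `X² = X + 1`
  obtain ⟨c, hc⟩ : ∃ c : F, c * c = c + 1 := by
    have : Fact (Nat.Prime 3) := ⟨by norm_num⟩
    obtain ⟨u, hu⟩ := exists_prime_orderOf_dvd_card' (G := Fˣ) 3 (by
      rw [Nat.card_eq_fintype_card, Fintype.card_units, hF])
    refine ⟨u, ?_⟩
    have h3 : (u : F) ^ 3 = 1 := by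
      rw [← Units.val_pow_eq_pow_val, ← hu, pow_orderOf_eq_one, Units.val_one]
    have h1 : (u : F) - 1 ≠ 0 := sub_ne_zero.mpr fun h => by
      rw [Units.val_eq_one.mp h, orderOf_one] at hu; norm_num at hu
    have hφ : (u : F) ^ 2 + u + 1 = 0 := by
      refine (mul_eq_zero.mp (?_ : ((u : F) - 1) * _ = 0)).resolve_left h1
      linear_combination h3
    linear_combination hφ - ((u : F) + 1) * (CharTwo.two_eq_zero (R := F))
  have hc' : c * c = (1 : ZMod 2) • (1 : F) + (1 : ZMod 2) • c := by
    rw [one_smul, one_smul, hc, add_comm]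
  let f : UnitalFour.R4 →+* F := (QuadraticAlgebra.lift ⟨c, hc'⟩).toRingHom
  have : Finite UnitalFour.R4 := Finite.of_equiv _ (QuadraticAlgebra.equivProd _ _).symm
  have hfi : Function.Injective f := (injective_iff_map_eq_zero f).mpr fun x hx => by
    rcases r4_unit x with h | ⟨y, -, hy⟩
    · exact h
    · have := congrArg f hy
      rw [map_mul, hx, zero_mul, map_one] at this
      exact absurd this zero_ne_one
  have hfs : Function.Surjective f := (hfi.bijective_of_nat_card_le (by
    rw [Nat.card_eq_fintype_card, hF, Nat.card_congr (QuadraticAlgebra.equivProd _ _), Nat.card_prod,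
      Nat.card_zmod])).2
  have mem4 : ∀ t : UnitalFour.R4, t ∈ UnitalFour.elts4 := r4_mem
  have hsq : ∀ (r : Fin 12) (t : F), x6 r t * x6 r t = 1 := fun r t => by
    obtain ⟨a, rfl⟩ := hfs t
    rw [← GTwoFour.x6_map, ← RingHom.mapMatrix_apply, ← map_mul,
      beq_iff_eq.mp (List.all_eq_true.mp (GTwoFour.x6_sq_check r) a (mem4 a)), map_one]
  have hform : ∀ (r : Fin 12) (t : F), (x6 r t).transpose * formJ * x6 r t = formJ := fun r t => by
    obtain ⟨a, rfl⟩ := hfs t
    have hJ : f.mapMatrix formJ = formJ := by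
      ext i j; fin_cases i <;> fin_cases j <;> simp [GTwoFour.formJ]
    have h := congrArg f.mapMatrix (beq_iff_eq.mp (List.all_eq_true.mp (GTwoFour.form_check r) a (mem4 a)))
    rw [map_mul, map_mul, hJ] at h
    simp only [RingHom.mapMatrix_apply, Matrix.transpose_map, GTwoFour.x6_map] at h
    exact h
  let G := chevG2.group F
  have : Finite (GL D.Idx F) := inferInstance
  let T : GL (Fin 6) F × GL D.Idx F → Prop := fun p =>
    (∀ k, (p.1 : Matrix (Fin 6) (Fin 6) F) * lieMat k =
      (∑ u, (p.2 : Matrix D.Idx D.Idx F) (idx u) (idx k) • lieMat u) * (p.1 : Matrix (Fin 6) (Fin 6) F)) ∧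
    (p.1 : Matrix (Fin 6) (Fin 6) F).transpose * formJ * (p.1 : Matrix (Fin 6) (Fin 6) F) = formJ
  let S : Set (GL (Fin 6) F × GL D.Idx F) := {p | ∃ (r : Fin 12) (t : F),
    (p.1 : Matrix (Fin 6) (Fin 6) F) = x6 r t ∧ (p.2 : Matrix D.Idx D.Idx F) = D.xMat F (root r) t}
  let K : Subgroup (GL (Fin 6) F × GL D.Idx F) := Subgroup.closure S
  have hadE : ∀ (r : Fin 12) (t : F) (u k : Fin 14), D.xMat F (root r) t (idx u) (idx k) = adEntry r t u k :=
    fun r t u k => by
      rw [GTwoFour.xMat_eq, GTwoFour.adEntry_eq]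
      exact GTwoFour.evalTerms_congr t (List.all_eq_true.mp (List.all_eq_true.mp (GTwoFour.adEntry_check r)
        u (List.mem_finRange u)) k (List.mem_finRange k))
  have hsum : ∀ (r : Fin 12) (t : F) (k : Fin 14),
      adSum r t k = ∑ u, adEntry r t u k • (lieMat u : Matrix (Fin 6) (Fin 6) F) := fun r t k => by
    simp only [GTwoFour.adSum, GTwoFour.adEntry]
    induction (GTwoFour.adCols.getD r.1 []).getD k.1 [] with
    | nil => simp
    | cons e l ih =>
      simp only [List.map_cons, List.sum_cons, add_smul, Finset.sum_add_distrib, ← ih]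
      congr 1
      rw [Finset.sum_eq_single e.1 (fun u _ hu => by simp [(beq_eq_false_iff_ne).mpr hu.symm])
        (fun h => absurd (Finset.mem_univ _) h)]
      simp
  have hT : ∀ p ∈ K, T p := by
    intro p hp
    have : Finite (GL (Fin 6) F × GL D.Idx F) := inferInstance
    have hp' : p ∈ Submonoid.closure S := by
      rw [← Subgroup.closure_toSubmonoid_of_finite]; exact hp
    refine Submonoid.closure_induction (motive := fun q _ => T q) ?_ ?_ ?_ hp'
    · rintro q ⟨r, t, h1, h2⟩
      refine ⟨fun k => ?_, by rw [h1]; exact hform r t⟩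
      rw [h1, h2, GTwoFour.cov r t k, hsum]
      simp only [hadE]
    · refine ⟨fun k => ?_, by simp⟩
      simp only [Prod.fst_one, Prod.snd_one, Units.val_one, one_mul, mul_one]
      rw [Finset.sum_eq_single k (fun u _ hu => by
        rw [Matrix.one_apply_ne (fun h => hu (GTwoFour.idx_bijective.1 h)), zero_smul])
        (fun h => absurd (Finset.mem_univ _) h), Matrix.one_apply_eq, one_smul]
    · rintro a b _ _ ⟨ha1, ha2⟩ ⟨hb1, hb2⟩
      refine ⟨fun k => ?_, ?_⟩
      · rw [Prod.fst_mul, Prod.snd_mul, Units.val_mul, Units.val_mul, mul_assoc, hb1, ← mul_assoc,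
          Finset.mul_sum]
        simp only [mul_smul_comm, ha1]
        rw [show (∑ u, (b.2 : Matrix D.Idx D.Idx F) (idx u) (idx k) •
            ((∑ v, (a.2 : Matrix D.Idx D.Idx F) (idx v) (idx u) • lieMat v) * (a.1 : Matrix (Fin 6) (Fin 6) F))) =
          (∑ v, ((a.2 : Matrix D.Idx D.Idx F) * (b.2 : Matrix D.Idx D.Idx F)) (idx v) (idx k) • lieMat v) *
            (a.1 : Matrix (Fin 6) (Fin 6) F) by
          simp only [← smul_mul_assoc, ← Finset.sum_mul, Finset.smul_sum, smul_smul]
          congr 1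
          rw [Finset.sum_comm]
          refine Finset.sum_congr rfl fun v _ => ?_
          rw [← Finset.sum_smul, Matrix.mul_apply,
            ← (Equiv.ofBijective _ GTwoFour.idx_bijective).sum_comp]
          exact congrArg (· • _) (Finset.sum_congr rfl fun u _ => mul_comm _ _), mul_assoc]
      · rw [Prod.fst_mul, Units.val_mul]
        calc _ = (b.1 : Matrix (Fin 6) (Fin 6) F).transpose * ((a.1 : Matrix (Fin 6) (Fin 6) F).transpose * formJ *
              (a.1 : Matrix (Fin 6) (Fin 6) F)) * (b.1 : Matrix (Fin 6) (Fin 6) F) := by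
              simp only [Matrix.transpose_mul, mul_assoc]
          _ = formJ := by rw [ha2]; exact hb2
  -- only the identity lies over the identity
  have hker : ∀ p ∈ K, p.2 = 1 → p.1 = 1 := by
    intro p hp h2
    obtain ⟨h1, hJ⟩ := hT p hp
    set A := (p.1 : Matrix (Fin 6) (Fin 6) F)
    have hcom : ∀ k, A * lieMat k = lieMat k * A := fun k => by
      rw [h1 k, Finset.sum_eq_single k (fun u _ hu => by
        rw [h2, Units.val_one, Matrix.one_apply_ne (fun h => hu (GTwoFour.idx_bijective.1 h)), zero_smul])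
        (fun h => absurd (Finset.mem_univ _) h), h2, Units.val_one, Matrix.one_apply_eq, one_smul]
    let z : ZMod 2 →+* F := ZMod.castHom dvd_rfl F
    have hz : ∀ k, z.mapMatrix (lieMat k) = lieMat k := fun k => by
      ext i j
      simp only [RingHom.mapMatrix_apply, Matrix.map_apply, GTwoFour.lieMat]
      cases GTwoFour.lieBit k i j == 1 <;> simp
    have hE : ∀ i j : Fin 6, A * Matrix.single i j 1 = Matrix.single i j 1 * A := fun i j => by
      have hu := congrArg z.mapMatrix (GTwoFour.unit_check i j)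
      rw [map_list_prod, List.map_map,
        show z.mapMatrix (Matrix.single i j 1) = Matrix.single i j (1 : F) by simp [Matrix.map_single]] at hu
      rw [← hu]
      refine Commute.list_prod_right _ _ fun x hx => ?_
      simp only [List.mem_map, Function.comp_apply] at hx
      obtain ⟨k, -, rfl⟩ := hx
      rw [hz]
      exact hcom k
    have hscal : A = A 0 0 • 1 := by
      ext i j
      have h := congrFun (congrFun (hE j 0) i) 0
      rw [Matrix.mul_single_apply_same, mul_one] at h
      rw [h, Matrix.smul_apply, smul_eq_mul]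
      by_cases hij : i = j
      · subst hij
        simp
      · simp [hij, Ne.symm hij]
    have hlam : A 0 0 = 1 := by
      have h05 := congrFun (congrFun hJ 0) 5
      rw [hscal] at h05
      simp [Matrix.transpose_smul, GTwoFour.formJ, smul_smul] at h05
      rcases mul_self_eq_one_iff.mp h05 with h | h
      · exact h
      · rwa [CharTwo.neg_eq] at h
    refine Units.ext ?_
    rw [Units.val_one]
    show A = 1
    rw [hscal, hlam, one_smul]
  let π : K →* G := ((MonoidHom.snd _ _).comp K.subtype).codRestrict G (fun p => by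
    have hle : K ≤ (chevG2.group F).comap (MonoidHom.snd (GL (Fin 6) F) (GL D.Idx F)) := by
      rw [Subgroup.closure_le]
      rintro q ⟨r, t, -, h2⟩
      exact Subgroup.subset_closure ⟨root r, t, h2⟩
    exact hle p.2)
  have hπb : Function.Bijective π := by
    refine ⟨(injective_iff_map_eq_one π).mpr fun p hp => ?_, fun g => ?_⟩
    · have h2 : (p.1).2 = 1 := congrArg Subtype.val hp
      exact Subtype.ext (Prod.ext (hker _ p.2 h2) h2)
    · have hle : chevG2.group F ≤ K.map (MonoidHom.snd (GL (Fin 6) F) (GL D.Idx F)) := by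
        refine (Subgroup.closure_le _).mpr ?_
        rintro b ⟨r, t, hb⟩
        let r' : Fin 12 := ⟨r.1, r.2⟩
        have hr : root r' = r := rfl
        exact ⟨(⟨x6 r' t, x6 r' t, hsq r' t, hsq r' t⟩, b), Subgroup.subset_closure ⟨r', t, rfl, hr ▸ hb⟩, rfl⟩
      obtain ⟨p, hp, hpg⟩ := hle g.2
      exact ⟨⟨p, hp⟩, Subtype.ext hpg⟩
  let e : K ≃* G := MulEquiv.ofBijective π hπb
  let ρ : G →* GL (Fin 6) F := ((MonoidHom.fst _ _).comp K.subtype).comp e.symm.toMonoidHom
  have hb : ∀ (r : Fin 12) (a : UnitalFour.R4), ∃ g : G, (g : GL D.Idx F).val = D.xMat F (root r) (f a) ∧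
      (ρ g : Matrix (Fin 6) (Fin 6) F) = f.mapMatrix (x6 r a) := fun r a => by
    let b : GL D.Idx F := CfsgLib.Lie.Chev.xGL CfsgLib.Lie.Chev.certG2 F r.1 (f a)
    have hb : (b : Matrix D.Idx D.Idx F) = D.xMat F (root r) (f a) := dif_pos r.2
    let p : K := ⟨(⟨x6 r (f a), x6 r (f a), hsq _ _, hsq _ _⟩, b),
      Subgroup.subset_closure ⟨r, f a, rfl, hb⟩⟩
    refine ⟨e p, hb, ?_⟩
    show ((e.symm (e p) : K).1.1 : Matrix (Fin 6) (Fin 6) F) = _
    rw [e.symm_apply_apply]
    simp [p, GTwoFour.x6_map]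
  choose X hX1 hX2 using hb
  refine ⟨f, ρ, X, hfi, ?_, hX2, ?_⟩
  · rw [injective_iff_map_eq_one]
    intro g hg
    obtain ⟨⟨p, hp⟩, rfl⟩ := e.surjective g
    have hp1 : p.1 = 1 := by
      have h : ((e.symm (e ⟨p, hp⟩)) : K).1.1 = 1 := hg
      rwa [e.symm_apply_apply] at h
    obtain ⟨h1, -⟩ := hT p hp
    have hp2 : p.2 = 1 := by
      refine Units.ext (Matrix.ext fun row col => ?_)
      obtain ⟨u, rfl⟩ := GTwoFour.idx_bijective.2 row
      obtain ⟨k, rfl⟩ := GTwoFour.idx_bijective.2 col
      have h := h1 k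
      rw [hp1, Units.val_one, one_mul, mul_one] at h
      obtain ⟨i, j, hij⟩ := GTwoFour.lieBit_support u
      have hl : ∀ v : Fin 14, (lieMat v : Matrix (Fin 6) (Fin 6) F) i j = if v = u then 1 else 0 := fun v => by
        simp only [GTwoFour.lieMat, Matrix.map_apply, hij v]
        by_cases hv : v = u <;> simp [hv]
      have h' := congrFun (congrFun h i) j
      simp only [Matrix.sum_apply, Matrix.smul_apply, hl, smul_eq_mul, mul_ite, mul_one, mul_zero,
        Finset.sum_ite_eq', Finset.mem_univ, if_true] at h'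
      rw [← h', Units.val_one, Matrix.one_apply]
      exact (if_congr (GTwoFour.idx_bijective.1.eq_iff.trans eq_comm) rfl rfl).symm
    exact (congrArg e (Subtype.ext (Prod.ext hp1 hp2 : p = 1))).trans (map_one e)
  · refine (Subgroup.eq_top_iff' _).2 fun g => ?_
    have hle : G ≤ (Subgroup.closure {g : G | ∃ r a, g = X r a}).map G.subtype := by
      refine (Subgroup.closure_le _).2 ?_
      rintro b ⟨r, t, hb⟩
      obtain ⟨a, rfl⟩ := hfs t
      refine ⟨X ⟨r.1, r.2⟩ a, Subgroup.subset_closure ⟨_, _, rfl⟩, Units.ext ?_⟩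
      rw [hb]
      exact hX1 ⟨r.1, r.2⟩ a
    obtain ⟨y, hy, hye⟩ := hle g.2
    rwa [← Subtype.ext hye]

end CfsgLib.Recog.GTwoFour
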