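import Cfsg.Agent.Lib.Recog.HalfTransitiveBasic

/-!
Half-transitive dihedral and semidihedral linear groups.
-/

set_option autoImplicit false
set_option linter.all false

namespace CfsgLib.Recog.HalfTransitive

open Subgroup CfsgLib.Recog.PGroupImprimitive

variable {q : ℕ} [Fact q.Prime] {V : Type*} [AddCommGroup V] [Module (ZMod q) V] [Finite V]
  {G : Type*} [Group G] [Finite G] {ρ : G →* (V ≃ₗ[ZMod q] V)}

/-- Involutions outside a cyclic subgroup of index two. -/
abbrev Outer (a : G) : Type _ := {b : G // b ∉ zpowers a ∧ b * b = 1}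

theorem index_two_cyclic [Nontrivial V] (hG : IsPGroup 2 G) (hρ : Function.Injective ρ)
    (hcard : ∀ v w : V, v ≠ 0 → w ≠ 0 → Nat.card (St ρ v) = Nat.card (St ρ w))
    (hst : ∀ v : V, v ≠ 0 → St ρ v ≠ ⊥) (a : G) (m : ℕ) (hao : orderOf a = 2 ^ (m + 1))
    (hA : (zpowers a).index = 2)
    (hconjz : ∀ b : Outer a, ∃ g : G, g * (b : G) * g⁻¹ = (b : G) * a ^ 2 ^ m)
    (M : ℕ) (hM : Nat.card (Outer a) = 2 ^ M) :
    Nat.card V = q ^ 2 ∧ q = 2 ^ M - 1 := by
  classical
  haveI : Fact (Nat.Prime 2) := ⟨Nat.prime_two⟩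
  have hq2 := char_ne_p hG hρ hcard hst
  have hirr := irreducible hG hρ hcard hst
  set A := zpowers a with hAdef
  haveI hAn : A.Normal := Subgroup.normal_of_index_eq_two hA
  set z := a ^ 2 ^ m with hz
  have hzo : orderOf z = 2 := by
    rw [hz, orderOf_pow' _ (by positivity), hao, Nat.gcd_eq_right (pow_dvd_pow 2 (by omega)),
      Nat.pow_div (by omega) (by norm_num), show m + 1 - m = 1 by omega, pow_one]
  have hzz : z * z = 1 := by rw [← pow_two, ← hzo, pow_orderOf_eq_one]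
  have huniq : ∀ x ∈ A, x * x = 1 → x ≠ 1 → x = z := by
    intro x hx hxx hx1
    obtain ⟨k, hk⟩ := mem_zpowers_iff.1 hx
    obtain ⟨k, rfl⟩ : ∃ k : ℕ, a ^ k = x :=
      (IsOfFinOrder.mem_powers_iff_mem_zpowers (isOfFinOrder_of_finite a)).2 hx
    have hd : 2 ^ (m + 1) ∣ k + k := by
      rw [← hao]; exact orderOf_dvd_of_pow_eq_one (by rw [pow_add]; exact hxx)
    obtain ⟨c, hc⟩ : 2 ^ m ∣ k := by
      rw [pow_succ, ← two_mul, mul_comm _ 2] at hd
      exact Nat.dvd_of_mul_dvd_mul_left (by norm_num) hd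
    rcases Nat.even_or_odd c with ⟨d, hd⟩ | ⟨d, hd⟩
    · exfalso
      refine hx1 ?_
      rw [hc, hd, show 2 ^ m * (d + d) = 2 ^ (m + 1) * d by ring, pow_mul, ← hao, pow_orderOf_eq_one,
        one_pow]
    · rw [hc, hd, show 2 ^ m * (2 * d + 1) = 2 ^ (m + 1) * d + 2 ^ m by ring, pow_add, pow_mul,
        ← hao, pow_orderOf_eq_one, one_pow, one_mul]
  have hzA : z ∈ A := pow_mem (mem_zpowers a) _
  have hz1 : z ≠ 1 := fun h => by rw [h, orderOf_one] at hzo; omega
  have hzc : z ∈ center G := by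
    refine mem_center_iff.2 fun g => mul_inv_eq_iff_eq_mul.1 (huniq _ (hAn.conj_mem z hzA g) ?_ ?_)
    · rw [show g * z * g⁻¹ * (g * z * g⁻¹) = g * (z * z) * g⁻¹ by group, hzz, mul_one, mul_inv_cancel]
    · simpa using hz1
  have hzneg : ∀ x, ρ z x = -x := by
    intro x
    refine eq_neg_of_add_eq_zero_left (central_free hρ hirr hzc hz1 ?_)
    rw [map_add, ← mul_act, hzz, one_act, add_comm]
  have hfreeA : ∀ v : V, v ≠ 0 → St ρ v ⊓ A = ⊥ := by
    intro v hv
    by_contra hne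
    have hd : 2 ∣ Nat.card (St ρ v ⊓ A : Subgroup G) := (hG.to_subgroup _).card_eq_or_dvd.resolve_left
      fun h1 => hne (Subgroup.card_eq_one.1 h1)
    obtain ⟨⟨t, ht⟩, hto⟩ := exists_prime_orderOf_dvd_card' 2 hd
    rw [Subgroup.orderOf_mk] at hto
    have htz : t = z := huniq t ht.2 (by rw [← pow_two, ← hto, pow_orderOf_eq_one])
      (fun h => by rw [h, orderOf_one] at hto; omega)
    exact hv (central_free hρ hirr hzc hz1 (mem_St.1 (htz ▸ ht.1)))
  have hex : ∀ v : V, v ≠ 0 → ∃ b : Outer a, (b : G) ∈ St ρ v := by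
    intro v hv
    obtain ⟨⟨t, ht⟩, ht1⟩ := Subgroup.ne_bot_iff_exists_ne_one.1 (hst v hv)
    have ht1' : t ≠ 1 := fun h => ht1 (Subtype.ext h)
    have htA : t ∉ A := fun h => ht1' (by
      have : t ∈ St ρ v ⊓ A := ⟨ht, h⟩
      rwa [hfreeA v hv, Subgroup.mem_bot] at this)
    refine ⟨⟨t, htA, ?_⟩, ht⟩
    have : t * t ∈ St ρ v ⊓ A := ⟨mul_mem ht ht, Subgroup.mul_self_mem_of_index_two hA t⟩
    rwa [hfreeA v hv, Subgroup.mem_bot] at this
  have hun : ∀ v : V, v ≠ 0 → ∀ b c : Outer a, (b : G) ∈ St ρ v → (c : G) ∈ St ρ v → b = c := by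
    intro v hv b c hb hc
    refine Subtype.ext (inv_mul_eq_one.1 ?_)
    have : (b : G)⁻¹ * c ∈ St ρ v ⊓ A := Subgroup.mem_inf.2 ⟨mul_mem (inv_mem hb) hc,
      (Subgroup.mul_mem_iff_of_index_two hA).2 (iff_of_false (fun h => b.2.1 (inv_mem_iff.1 h)) c.2.1)⟩
    rwa [hfreeA v hv, Subgroup.mem_bot] at this
  let Fix : G → Type _ := fun b => {x : V // ρ b x = x}
  haveI := Fintype.ofFinite (Outer a)
  -- each fixed space is a square root of the space
  have hsqr : ∀ b : Outer a, Nat.card (Fix b) * Nat.card (Fix b) = Nat.card V := by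
    intro b
    obtain ⟨g, hg⟩ := hconjz b
    have e1 : Nat.card (Fix b) = Nat.card (Fix ((b : G) * z)) := by
      refine Nat.card_congr ((ρ g).toEquiv.subtypeEquiv fun x => ?_)
      show ρ b x = x ↔ ρ ((b : G) * z) (ρ g x) = ρ g x
      rw [← hg, ← mul_act, show g * (b : G) * g⁻¹ * g = g * b by group, mul_act]
      exact ((ρ g).injective.eq_iff).symm
    nth_rewrite 2 [e1]
    rw [← Nat.card_prod]
    have h2 : (2 : ZMod q) ≠ 0 := fun h0 => hq2
      ((Nat.prime_dvd_prime_iff_eq (Fact.out : q.Prime) Nat.prime_two).1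
        ((ZMod.natCast_eq_zero_iff 2 q).1 (by exact_mod_cast h0)))
    have hneg : ∀ x, ρ ((b : G) * z) x = -ρ (b : G) x := fun x => by
      rw [mul_act, hzneg, map_neg]
    refine Nat.card_congr (Equiv.ofBijective (fun x => x.1.1 + x.2.1) ⟨?_, ?_⟩)
    · rintro ⟨⟨x, hx⟩, ⟨y, hy⟩⟩ ⟨⟨x', hx'⟩, ⟨y', hy'⟩⟩ h
      have h' : x + y = x' + y' := h
      rw [hneg] at hy hy'
      have h3 := congrArg (ρ (b : G)) h'
      rw [map_add, map_add, hx, hx', neg_eq_iff_eq_neg.1 hy, neg_eq_iff_eq_neg.1 hy'] at h3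
      have h4 : (2 : ZMod q) • (x - x') = 0 := by
        rw [two_smul]
        have : x - x' + (x - x') = (x + y) + (x + -y) - ((x' + y') + (x' + -y')) := by abel
        rw [this, h', h3, sub_self]
      have hxe : x = x' := sub_eq_zero.1 ((smul_eq_zero.1 h4).resolve_left h2)
      subst hxe
      have hye : y = y' := add_left_cancel h'
      subst hye
      rfl
    · intro v
      refine ⟨(⟨(2 : ZMod q)⁻¹ • (v + ρ (b : G) v), ?_⟩, ⟨(2 : ZMod q)⁻¹ • (v - ρ (b : G) v), ?_⟩), ?_⟩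
      · show ρ (b : G) _ = _
        rw [map_smul, map_add, ← mul_act, b.2.2, one_act, add_comm]
      · show ρ ((b : G) * z) _ = _
        rw [hneg, map_smul, map_sub, ← mul_act, b.2.2, one_act, ← smul_neg, neg_sub]
      · show _ + _ = v
        rw [← smul_add, show v + ρ (b : G) v + (v - ρ (b : G) v) = v + v by abel, ← two_smul (ZMod q) v,
          smul_smul, inv_mul_cancel₀ h2, one_smul]
  have hcount : Nat.card {v : V // v ≠ 0} = ∑ b : Outer a, (Nat.card (Fix b) - 1) := by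
    haveI := Fintype.ofFinite V
    have h1 : ∀ b : Outer a, Nat.card (Fix b) - 1 =
        Nat.card {v : {v : V // v ≠ 0} // (b : G) ∈ St ρ v.1} := fun b => by
      have h := Nat.card_congr (Equiv.sumCompl (fun x : Fix b => x.1 = 0))
      rw [Nat.card_sum] at h
      have h0 : Nat.card {x : Fix b // x.1 = 0} = 1 := by
        rw [Nat.card_eq_one_iff_unique]
        exact ⟨⟨fun x y => Subtype.ext (Subtype.ext (x.2.trans y.2.symm))⟩,
          ⟨⟨⟨0, map_zero _⟩, rfl⟩⟩⟩
      rw [← h, h0, Nat.add_sub_cancel_left]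
      exact Nat.card_congr
        { toFun := fun x => ⟨⟨x.1.1, x.2⟩, x.1.2⟩
          invFun := fun x => ⟨⟨x.1.1, x.2⟩, x.1.2⟩
          left_inv := fun x => rfl
          right_inv := fun x => rfl }
    rw [Finset.sum_congr rfl fun b _ => h1 b, ← Nat.card_sigma]
    refine Nat.card_congr (Equiv.ofBijective (fun x => x.2.1) ⟨?_, ?_⟩).symm
    · rintro ⟨b, ⟨v, hv⟩⟩ ⟨c, ⟨w, hw⟩⟩ h
      have h' : v = w := h
      subst h'
      have := hun v.1 v.2 b c hv hw
      subst this
      rfl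
    · intro v
      obtain ⟨b, hb⟩ := hex v.1 v.2
      exact ⟨⟨b, ⟨v, hb⟩⟩, rfl⟩
  obtain ⟨v₀, hv₀⟩ := exists_ne (0 : V)
  obtain ⟨b₀, hb₀⟩ := hex v₀ hv₀
  set s := Nat.card (Fix b₀) with hs
  have hall : ∀ b : Outer a, Nat.card (Fix b) = s := fun b =>
    Nat.mul_self_inj.1 ((hsqr b).trans (hsqr b₀).symm)
  rw [Finset.sum_congr rfl fun b _ => by rw [hall b], Finset.sum_const, Finset.card_univ,
    ← Nat.card_eq_fintype_card, smul_eq_mul] at hcount
  have hV1 : Nat.card {v : V // v ≠ 0} + 1 = Nat.card V := by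
    rw [← Finite.card_option]
    exact Nat.card_congr (Equiv.optionSubtypeNe 0)
  have hV : 2 ≤ Nat.card V := Finite.one_lt_card
  have hsV := hsqr b₀
  rw [← hs] at hsV
  have hs1 : 1 < s := by
    by_contra h
    push Not at h
    nlinarith
  have hI : Nat.card (Outer a) = s + 1 := by
    obtain ⟨s', hs'⟩ : ∃ s', s = s' + 1 := ⟨s - 1, by omega⟩
    rw [hs'] at hcount hsV hs1 ⊢
    rw [Nat.add_sub_cancel] at hcount
    apply Nat.eq_of_mul_eq_mul_right (show 0 < s' by omega)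
    nlinarith
  -- the number of outer involutions is a power of two
  obtain ⟨j, hj⟩ : ∃ j, s = q ^ j := by
    let W : Submodule (ZMod q) V := fixed ρ (b₀ : G)
    haveI : Module.Finite (ZMod q) W := Module.Finite.of_finite
    refine ⟨Module.finrank (ZMod q) W, ?_⟩
    have h := Module.natCard_eq_pow_finrank (K := ZMod q) (V := W)
    rw [Nat.card_zmod] at h
    exact h
  have hM2 : 2 ≤ M := by
    by_contra h
    rw [hI] at hM
    interval_cases M <;> norm_num at hM <;> omega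
  have h2M : 2 ^ M = q ^ j + 1 := by omega
  obtain rfl := CfsgLib.Recog.PGroupTransitive.two_pow_eq_prime_pow (Fact.out : q.Prime) hM2 h2M
  rw [pow_one] at hj h2M
  exact ⟨by rw [← hsV, hj, pow_two], by omega⟩

end CfsgLib.Recog.HalfTransitive
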