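import Cfsg.Agent.Lib.Recog.HalfTransitiveImprimitive
import Cfsg.Agent.Lib.Recog.HalfTransitiveDihedral

/-!
Passman's classification of half-transitive linear `p`-groups.
-/

set_option autoImplicit false
set_option linter.all false

namespace CfsgLib.Recog.HalfTransitive

open Subgroup CfsgLib.Recog.PGroupImprimitive

variable {q : ℕ} [Fact q.Prime] {V : Type*} [AddCommGroup V] [Module (ZMod q) V] [Finite V]
  {G : Type*} [Group G] [Finite G] {ρ : G →* (V ≃ₗ[ZMod q] V)}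

theorem dihedral_case [Nontrivial V] {p : ℕ} [Fact p.Prime] (hG : IsPGroup p G) (hρ : Function.Injective ρ)
    (hcard : ∀ v w : V, v ≠ 0 → w ≠ 0 → Nat.card (St ρ v) = Nat.card (St ρ w))
    (hst : ∀ v : V, v ≠ 0 → St ρ v ≠ ⊥) {n : ℕ} (e : G ≃* DihedralGroup n) :
    Nat.card V = q ^ 2 ∧ ∃ m : ℕ, q = 2 ^ m - 1 ∧ Nonempty (G ≃* DihedralGroup (2 ^ m)) := by
  classical
  have hnab := (not_cyclic_quaternion hG hρ hcard hst).1
  have hn0 : n ≠ 0 := fun h => by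
    subst h
    have h1 : 0 < Nat.card G := Nat.card_pos
    rw [Nat.card_congr e.toEquiv, DihedralGroup.nat_card] at h1
    omega
  haveI : NeZero n := ⟨hn0⟩
  obtain ⟨N, hN⟩ := IsPGroup.iff_card.1 hG
  rw [Nat.card_congr e.toEquiv, DihedralGroup.nat_card] at hN
  obtain rfl : p = 2 := ((Nat.prime_dvd_prime_iff_eq Nat.prime_two Fact.out).1
    (Nat.prime_two.dvd_of_dvd_pow ⟨n, hN.symm⟩)).symm
  obtain ⟨k, -, rfl⟩ := (Nat.dvd_prime_pow Nat.prime_two).1 (Dvd.intro_left 2 hN : n ∣ 2 ^ N)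
  have hk : 2 ≤ k := by
    by_contra h
    refine hnab fun a b => e.injective ?_
    rw [map_mul, map_mul]
    have h1 : ∀ x y : DihedralGroup (2 ^ 0), x * y = y * x := by decide
    have h2 : ∀ x y : DihedralGroup (2 ^ 1), x * y = y * x := by decide
    interval_cases k
    · exact h1 _ _
    · exact h2 _ _
  obtain ⟨m, rfl⟩ : ∃ m, k = m + 2 := ⟨k - 2, by omega⟩
  set a := e.symm (DihedralGroup.r 1) with ha
  have hao : orderOf a = 2 ^ (m + 1 + 1) := by rw [ha, MulEquiv.orderOf_eq, DihedralGroup.orderOf_r_one]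
  have hmem : ∀ x : G, x ∈ zpowers a ↔ ∃ i, e x = DihedralGroup.r i := by
    intro x
    constructor
    · rintro ⟨i, rfl⟩
      exact ⟨i, by rw [map_zpow, ha, e.apply_symm_apply, DihedralGroup.r_one_zpow]⟩
    · rintro ⟨i, hi⟩
      refine ⟨(i.val : ℤ), e.injective ?_⟩
      show e (a ^ (i.val : ℤ)) = e x
      rw [zpow_natCast, map_pow, ha, e.apply_symm_apply, DihedralGroup.r_one_pow, ZMod.natCast_zmod_val, hi]
  have hA : (zpowers a).index = 2 := by
    have h := (zpowers a).card_mul_index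
    rw [Nat.card_zpowers, hao, Nat.card_congr e.toEquiv, DihedralGroup.nat_card, mul_comm 2] at h
    exact Nat.eq_of_mul_eq_mul_left (by positivity) h
  have hout : ∀ b : Outer a, ∃ i, e b.1 = DihedralGroup.sr i := fun b => by
    rcases h : e b.1 with i | i
    · exact absurd ((hmem _).2 ⟨i, h⟩) b.2.1
    · exact ⟨i, rfl⟩
  have hM : Nat.card (Outer a) = 2 ^ (m + 2) := by
    choose f hf using hout
    rw [← Nat.card_zmod (2 ^ (m + 2))]
    refine Nat.card_congr (Equiv.ofBijective f ⟨fun b c h => Subtype.ext (e.injective ?_), fun i => ?_⟩)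
    · rw [hf, hf, h]
    · have hb : e.symm (DihedralGroup.sr i) ∉ zpowers a ∧
          e.symm (DihedralGroup.sr i) * e.symm (DihedralGroup.sr i) = 1 := by
        refine ⟨fun h => ?_, ?_⟩
        · obtain ⟨j, hj⟩ := (hmem _).1 h
          rw [e.apply_symm_apply] at hj
          cases hj
        · apply e.injective
          rw [map_mul, e.apply_symm_apply, map_one, DihedralGroup.sr_mul_sr, sub_self, DihedralGroup.r_zero]
      refine ⟨⟨_, hb⟩, ?_⟩
      have := hf ⟨_, hb⟩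
      rw [e.apply_symm_apply] at this
      exact (DihedralGroup.sr.injEq _ _).mp this.symm
  have hea : e a = DihedralGroup.r 1 := e.apply_symm_apply _
  obtain ⟨h1, h2⟩ := index_two_cyclic hG hρ hcard hst a (m + 1) hao hA (fun b => by
    obtain ⟨i, hi⟩ := hout b
    refine ⟨e.symm (DihedralGroup.r (-((2 ^ m : ℕ) : ZMod (2 ^ (m + 2))))), e.injective ?_⟩
    rw [map_mul, map_mul, map_inv, map_mul, map_pow, hea, e.apply_symm_apply, hi,
      DihedralGroup.inv_r, DihedralGroup.r_one_pow, DihedralGroup.r_mul_sr, DihedralGroup.sr_mul_r,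
      DihedralGroup.sr_mul_r]
    congr 1
    push_cast
    ring) (m + 2) hM
  exact ⟨h1, m + 2, h2, ⟨e⟩⟩

theorem semidihedral_case [Nontrivial V] (hG : IsPGroup 2 G) (hρ : Function.Injective ρ)
    (hcard : ∀ v w : V, v ≠ 0 → w ≠ 0 → Nat.card (St ρ v) = Nat.card (St ρ w))
    (hst : ∀ v : V, v ≠ 0 → St ρ v ≠ ⊥) (hsd : Cfsg.IsQuasiDihedral G) :
    Nat.card V = q ^ 2 ∧ ∃ m : ℕ, q = 2 ^ m - 1 ∧ Nat.card G = 2 ^ (m + 2) := by
  classical
  obtain ⟨n, hn3, hcG, x, y, hxo, hyo, hrel⟩ := hsd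
  obtain ⟨k, rfl⟩ : ∃ k, n = k + 3 := ⟨n - 3, by omega⟩
  rw [show k + 3 - 1 = k + 2 by omega] at hrel
  set A := zpowers x
  have hy2 : y * y = 1 := by rw [← pow_two, ← hyo, pow_orderOf_eq_one]
  have hA : A.index = 2 := by
    have h := A.card_mul_index
    rw [Nat.card_zpowers, hxo, hcG, pow_succ 2 (k + 3)] at h
    exact Nat.eq_of_mul_eq_mul_left (by positivity) h
  have hxN : x ^ (2 ^ (k + 3)) = 1 := by rw [← hxo, pow_orderOf_eq_one]
  obtain ⟨r, hr⟩ : ∃ r, 2 ^ (k + 2) = r + 2 := ⟨2 ^ (k + 2) - 2, by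
    have := Nat.pow_le_pow_right (show 0 < 2 by norm_num) (show 1 ≤ k + 2 by omega); omega⟩
  rw [hr, show r + 2 - 1 = r + 1 by omega] at hrel
  have hrel' : ∀ i : ℕ, y * x ^ i * y⁻¹ = x ^ ((r + 1) * i) := fun i => by
    rw [← conj_pow, hrel, ← pow_mul]
  have hyi : y⁻¹ = y := inv_eq_of_mul_eq_one_right hy2
  have hyA : y ∉ A := by
    intro hy
    obtain ⟨i, hi⟩ := mem_zpowers_iff.1 hy
    have h1 : y * x * y⁻¹ = x := by
      rw [← hi, ((Commute.refl x).zpow_left i).eq, mul_inv_cancel_right]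
    rw [hrel] at h1
    have h2 : x ^ r = 1 := by
      rw [pow_succ] at h1
      exact mul_eq_right.1 h1
    have h3 := Nat.le_of_dvd (by
      have := Nat.pow_le_pow_right (show 0 < 2 by norm_num) (show 2 ≤ k + 2 by omega); omega)
      (hxo ▸ orderOf_dvd_of_pow_eq_one h2)
    have : 2 ^ (k + 3) = 2 * 2 ^ (k + 2) := by ring
    omega
  have hsq : ∀ i : ℕ, (y * x ^ i) * (y * x ^ i) = 1 ↔ Even i := by
    intro i
    have h1 : (y * x ^ i) * (y * x ^ i) = x ^ ((r + 2) * i) := by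
      calc (y * x ^ i) * (y * x ^ i) = (y * x ^ i * y⁻¹) * x ^ i := by rw [hyi]; group
        _ = x ^ ((r + 2) * i) := by rw [hrel', ← pow_add]; congr 1; ring
    rw [h1, ← orderOf_dvd_iff_pow_eq_one, hxo, ← hr, pow_succ, Nat.mul_dvd_mul_iff_left (by positivity),
      even_iff_two_dvd]
  have hform : ∀ b : Outer x, ∃ j : Fin (2 ^ (k + 2)), b.1 = y * x ^ (2 * (j : ℕ)) := by
    intro b
    have hmem : y⁻¹ * b.1 ∈ A := (Subgroup.mul_mem_iff_of_index_two hA).2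
      (iff_of_false (fun h => hyA (inv_mem_iff.1 h)) b.2.1)
    obtain ⟨i, hi, hx⟩ : ∃ i < 2 ^ (k + 3), x ^ i = y⁻¹ * b.1 := by
      obtain ⟨i, hi⟩ := (IsOfFinOrder.mem_powers_iff_mem_zpowers (isOfFinOrder_of_finite x)).2 hmem
      exact ⟨i % 2 ^ (k + 3), Nat.mod_lt _ (by positivity), by rw [← hi, ← hxo, pow_mod_orderOf]⟩
    have hb : b.1 = y * x ^ i := by rw [hx, mul_inv_cancel_left]
    have hev := (hsq i).1 (by rw [← hb]; exact b.2.2)
    obtain ⟨j, rfl⟩ := hev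
    exact ⟨⟨j, by rw [pow_succ] at hi; omega⟩, by rw [hb]; congr 2; show j + j = 2 * j; omega⟩
  have hM : Nat.card (Outer x) = 2 ^ (k + 2) := by
    choose f hf using hform
    rw [← Nat.card_fin (2 ^ (k + 2))]
    refine Nat.card_congr (Equiv.ofBijective f ⟨fun b c h => Subtype.ext (by rw [hf, hf c, h]), fun j => ?_⟩)
    have hb : y * x ^ (2 * (j : ℕ)) ∉ zpowers x ∧ y * x ^ (2 * (j : ℕ)) * (y * x ^ (2 * (j : ℕ))) = 1 := by
      refine ⟨fun h => hyA ?_, (hsq _).2 (even_two_mul _)⟩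
      have := mul_mem h (inv_mem (pow_mem (mem_zpowers x) (2 * (j : ℕ))))
      rwa [mul_inv_cancel_right] at this
    refine ⟨⟨_, hb⟩, ?_⟩
    · have h1 := hf ⟨_, hb⟩
      have h2 := mul_left_cancel h1.symm
      apply Fin.ext
      have h3 := pow_eq_pow_iff_modEq.1 h2
      rw [hxo] at h3
      have h4 := Nat.ModEq.eq_of_lt_of_lt h3
        (by have := (f ⟨_, hb⟩).isLt; have : 2 ^ (k + 3) = 2 ^ (k + 2) * 2 := pow_succ 2 (k + 2); omega)
        (by have := j.isLt; have : 2 ^ (k + 3) = 2 ^ (k + 2) * 2 := pow_succ 2 (k + 2); omega)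
      omega
  obtain ⟨h1, h2⟩ := index_two_cyclic hG hρ hcard hst x (k + 2) hxo hA (fun b => by
    obtain ⟨j, hj⟩ := hform b
    refine ⟨x ^ 2 ^ (k + 1), ?_⟩
    rw [hj]
    set s := 2 ^ (k + 1) with hs
    set i := 2 * (j : ℕ)
    -- move `x ^ s` past `y`
    have hys : x ^ s * y = y * x ^ ((r + 1) * s) := by
      rw [← hrel' s]
      calc x ^ s * y = (y * y) * x ^ s * y := by rw [hy2, one_mul]
        _ = y * (y * x ^ s * y⁻¹) := by rw [hyi]; group
    rw [mul_inv_eq_iff_eq_mul, ← mul_assoc, hys, mul_assoc, mul_assoc, mul_assoc, ← pow_add, ← pow_add,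
      ← pow_add, mul_right_inj, pow_eq_pow_iff_modEq, hxo]
    have hr' : 2 ^ (k + 2) = 2 * s := by rw [hs]; ring
    have hN : 2 ^ (k + 3) = 4 * s := by rw [hs]; ring
    have hs2 : s = 2 * 2 ^ k := by rw [hs]; ring
    rw [hN, show 2 ^ (k + 2) = 2 * s from hr']
    have : (r + 1) * s + i + 4 * s * 1 = i + (2 * s + s) + 4 * s * (2 ^ k) := by
      have hr2 : r + 2 = 2 * s := by omega
      nlinarith
    show _ % _ = _ % _
    rw [← Nat.add_mul_mod_self_left _ (4 * s) 1, this, Nat.add_mul_mod_self_left]) (k + 2) hM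
  exact ⟨h1, k + 2, h2, hcG⟩

theorem classification (q p : ℕ) [Fact q.Prime] {V : Type*} [AddCommGroup V] [Module (ZMod q) V] [Finite V]
    [Nontrivial V] {G : Type*} [Group G] [Finite G] [Fact p.Prime] (hG : IsPGroup p G)
    (ρ : G →* (V ≃ₗ[ZMod q] V)) (hρ : Function.Injective ρ)
    (hhalf : ∀ v w : V, v ≠ 0 → w ≠ 0 → Nat.card {u : V | ∃ g : G, ρ g v = u} = Nat.card {u : V | ∃ g : G, ρ g w = u}) :
    ((IsCyclic G ∨ ∃ n : ℕ, Nonempty (G ≃* QuaternionGroup n)) ∧ ∀ v : V, v ≠ 0 → ∀ g : G, ρ g v = v → g = 1) ∨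
    (Nat.card V = q ^ 2 ∧ ∃ m : ℕ, q = 2 ^ m - 1 ∧
      (Nonempty (G ≃* DihedralGroup (2 ^ m)) ∨ (Cfsg.IsQuasiDihedral G ∧ Nat.card G = 2 ^ (m + 2)))) ∨
    (Nat.card V = q ^ 2 ∧ (∃ m : ℕ, q = 2 ^ m + 1) ∧
      ∃ e : V ≃ₗ[ZMod q] (Fin 2 → ZMod q), ∀ f : (Fin 2 → ZMod q) ≃ₗ[ZMod q] (Fin 2 → ZMod q),
        (∃ g : G, f = e.symm.trans ((ρ g).trans e)) ↔
        ∃ a s : ZMod q, a ≠ 0 ∧ (s = 1 ∨ s = -1) ∧
          ((∀ v, f v = ![a * v 0, s * a⁻¹ * v 1]) ∨ (∀ v, f v = ![s * a⁻¹ * v 1, a * v 0]))) ∨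
    (Nat.card V = 81 ∧ q = 3 ∧ p = 2) := by
  classical
  have hcard : ∀ v w : V, v ≠ 0 → w ≠ 0 → Nat.card (St ρ v) = Nat.card (St ρ w) :=
    fun v w hv hw => card_St_eq hhalf hv hw
  by_cases hex : ∃ v : V, v ≠ 0 ∧ St ρ v = ⊥
  · left
    obtain ⟨v, hv, hb⟩ := hex
    have hsr : ∀ w : V, w ≠ 0 → ∀ g : G, ρ g w = w → g = 1 := fun w hw g hg => by
      have hw' : St ρ w = ⊥ := Subgroup.card_eq_one.1 (by rw [hcard w v hw hv, hb, Subgroup.card_bot])
      have : g ∈ St ρ w := hg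
      rwa [hw', Subgroup.mem_bot] at this
    exact ⟨semiregular_case hG hρ hsr, hsr⟩
  push Not at hex
  right
  obtain ⟨hnab, hnq⟩ := not_cyclic_quaternion hG hρ hcard hex
  by_cases hd : ∃ n, Nonempty (G ≃* DihedralGroup n)
  · obtain ⟨n, ⟨e⟩⟩ := hd
    obtain ⟨h1, m, h2, h3⟩ := dihedral_case hG hρ hcard hex e
    exact Or.inl ⟨h1, m, h2, Or.inl h3⟩
  push Not at hd
  by_cases hsd : Cfsg.IsQuasiDihedral G
  · obtain ⟨n, hn, hc, -⟩ := id hsd
    obtain ⟨N, hN⟩ := IsPGroup.iff_card.1 hG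
    rw [hc] at hN
    obtain rfl : 2 = p := (Nat.prime_dvd_prime_iff_eq Nat.prime_two Fact.out).1
      (Nat.prime_two.dvd_of_dvd_pow (hN ▸ dvd_pow_self 2 (by omega) : 2 ∣ p ^ N))
    obtain ⟨h1, m, h2, h3⟩ := semidihedral_case hG hρ hcard hex hsd
    exact Or.inl ⟨h1, m, h2, Or.inr ⟨hsd, h3⟩⟩
  obtain ⟨H, W, h1, h2, h3, h4, -, h6⟩ := PGroupImprimitive.main hG ρ hρ (irreducible hG hρ hcard hex)
    (fun hc => hnab fun a b => (IsCyclic.commGroup (α := G)).mul_comm a b) hnq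
    (fun n => not_nonempty_iff.2 (hd n)) hsd
  exact Or.inr (imprimitive hG hρ hcard hex H W h1 h2 h3 h4 h6)

end CfsgLib.Recog.HalfTransitive
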