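import Mathlib
import Cfsg.Prelude.Def_CaseTheorems
import Cfsg.Agent.Lib.TwoGroups.Recognition

/-!
Finite `p`-groups acting linearly and transitively on the nonzero vectors of a finite vector space over a prime field.
-/

set_option autoImplicit false
set_option linter.all false

namespace CfsgLib.Recog.PGroupTransitive

theorem two_pow_eq_prime_pow {p k n : ℕ} (hp : p.Prime) (hn : 2 ≤ n) (h : 2 ^ n = p ^ k + 1) : k = 1 := by
  have h4 : 4 ≤ 2 ^ n := le_trans (by norm_num) (Nat.pow_le_pow_right two_pos hn)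
  have h4d : 4 ∣ 2 ^ n := (show (4 : ℕ) = 2 ^ 2 from rfl) ▸ pow_dvd_pow 2 hn
  rcases Nat.eq_zero_or_pos k with rfl | hk
  · simp at h; omega
  have hp2 : p ≠ 2 := by
    rintro rfl
    have : 2 ∣ 2 ^ k := dvd_pow_self 2 (by omega)
    omega
  have hpo : Odd p := hp.odd_of_ne_two hp2
  rcases Nat.even_or_odd k with ⟨j, rfl⟩ | ⟨j, rfl⟩
  · obtain ⟨d, hd⟩ := hpo.pow (n := j)
    rw [← two_mul, mul_comm, pow_mul, pow_two, hd] at h
    obtain ⟨c, hc⟩ := h4d
    rw [hc] at h
    ring_nf at h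
    omega
  · by_contra hne
    have hdvd : p + 1 ∣ 2 ^ n := by
      rw [h]
      have := Odd.nat_add_dvd_pow_add_pow p 1 (show Odd (2 * j + 1) from ⟨j, rfl⟩)
      simpa using this
    obtain ⟨a, ha, hpa⟩ := (Nat.dvd_prime_pow Nat.prime_two).1 hdvd
    have han : a < n := by
      rcases Nat.lt_or_ge a n with h' | h'
      · exact h'
      · have e : p + 1 = p ^ (2 * j + 1) + 1 := by rw [hpa, show a = n by omega, h]
        have := Nat.pow_lt_pow_right hp.one_lt (show 1 < 2 * j + 1 by omega)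
        rw [pow_one] at this
        omega
    have ha1 : 1 ≤ a := by
      rcases Nat.eq_zero_or_pos a with rfl | h'
      · simp at hpa; exact absurd hp (by rw [hpa]; decide)
      · exact h'
    have hexp : ∀ i : ℕ, ∀ x : ℤ, ∃ c : ℤ, (x - 1) ^ (2 * i + 1) = -1 + (2 * i + 1) * x + c * (x * x) := by
      intro i x
      induction i with
      | zero => exact ⟨0, by ring⟩
      | succ i ih =>
        obtain ⟨c, hc⟩ := ih
        exact ⟨c * (x - 1) ^ 2 + (2 * i + 1) * (x - 2) - 1, by
          rw [show 2 * (i + 1) + 1 = 2 * i + 1 + 2 by ring, pow_add, hc]; push_cast; ring⟩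
    obtain ⟨c, hc⟩ := hexp j ((2 : ℤ) ^ a)
    have hp' : ((p : ℤ)) = 2 ^ a - 1 := by
      have e : ((p + 1 : ℕ) : ℤ) = ((2 ^ a : ℕ) : ℤ) := by rw [hpa]
      push_cast at e; linarith
    have hz : (2 : ℤ) ^ n = 2 ^ a * ((2 * j + 1) + c * 2 ^ a) := by
      have e : ((2 ^ n : ℕ) : ℤ) = ((p ^ (2 * j + 1) + 1 : ℕ) : ℤ) := by rw [h]
      push_cast at e
      rw [e, hp', hc]; ring
    rw [show n = a + (n - a) by omega, pow_add] at hz
    have hz' := mul_left_cancel₀ (by positivity) hz
    have h2 : (2 : ℤ) ∣ 2 ^ (n - a) := dvd_pow_self 2 (by omega)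
    have h3 : (2 : ℤ) ∣ c * 2 ^ a := (dvd_pow_self 2 (by omega)).mul_left c
    rw [hz'] at h2
    have h5 := (dvd_add_left h3).1 h2
    omega

theorem odd_prime_pow_eq {q k n : ℕ} (hq : q.Prime) (hq2 : q ≠ 2) (hn : 2 ≤ n) (h : q ^ n = 2 ^ k + 1) :
    q = 3 ∧ n = 2 := by
  have hqo : Odd q := hq.odd_of_ne_two hq2
  rcases Nat.even_or_odd n with ⟨m, rfl⟩ | hno
  · obtain ⟨d, hd⟩ := hqo.pow (n := m)
    rw [pow_add, hd] at h
    have h' : (2 * d) * (2 * d + 2) = 2 ^ k := by ring_nf at h ⊢; omega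
    obtain ⟨a, -, ha⟩ := (Nat.dvd_prime_pow Nat.prime_two).1 (Dvd.intro _ h')
    obtain ⟨b, -, hb⟩ := (Nat.dvd_prime_pow Nat.prime_two).1 (Dvd.intro_left _ h')
    have ha1 : a = 1 := by
      by_contra hne
      rcases Nat.lt_or_ge a 1 with h1 | h1
      · rw [show a = 0 by omega] at ha; simp at ha
      · have hd4 : 4 ∣ 2 * d := ha ▸ (show (4 : ℕ) = 2 ^ 2 from rfl) ▸ pow_dvd_pow 2 (by omega)
        rcases Nat.lt_or_ge b 2 with h2 | h2
        · have := Nat.pow_le_pow_right two_pos (show b ≤ 1 by omega)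
          have := Nat.pow_le_pow_right two_pos (show 2 ≤ a by omega)
          omega
        · have hb4 : 4 ∣ 2 * d + 2 := hb ▸ (show (4 : ℕ) = 2 ^ 2 from rfl) ▸ pow_dvd_pow 2 h2
          omega
    rw [ha1, pow_one] at ha
    have hd1 : d = 1 := by omega
    subst hd1
    have hq3 : q ∣ 3 := by
      rw [show (3 : ℕ) = 2 * 1 + 1 from rfl, ← hd]
      exact dvd_pow_self q (by omega)
    obtain rfl := (Nat.prime_dvd_prime_iff_eq hq Nat.prime_three).1 hq3
    refine ⟨rfl, ?_⟩
    have := Nat.pow_right_injective (le_refl 2 |>.trans (by norm_num : 2 ≤ 3)) (show 3 ^ m = 3 ^ 1 by rw [hd]; rfl)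
    omega
  · exfalso
    have hsum := geom_sum_mul_add (q - 1) n
    rw [show q - 1 + 1 = q by have := hq.pos; omega, h] at hsum
    have hS : (∑ i ∈ Finset.range n, q ^ i) ∣ 2 ^ k := Dvd.intro (q - 1) (by omega)
    obtain ⟨a, -, ha⟩ := (Nat.dvd_prime_pow Nat.prime_two).1 hS
    have hodd : Odd (∑ i ∈ Finset.range n, q ^ i) := by
      rw [Finset.odd_sum_iff_odd_card_odd]
      rw [Finset.filter_true_of_mem fun i _ => hqo.pow, Finset.card_range]
      exact hno
    rw [ha] at hodd
    rcases Nat.eq_zero_or_pos a with rfl | ha'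
    · have hle : (∑ i ∈ Finset.range 2, q ^ i) ≤ ∑ i ∈ Finset.range n, q ^ i :=
        Finset.sum_le_sum_of_subset (Finset.range_mono hn)
      rw [ha] at hle
      simp [Finset.sum_range_succ] at hle
      exact hq.ne_zero hle
    · exact (Nat.not_even_iff_odd.2 hodd) (Nat.even_pow.2 ⟨even_two, by omega⟩)

section
variable {q : ℕ} [Fact q.Prime] {V : Type*} [AddCommGroup V] [Module (ZMod q) V] [Finite V]
  {G : Type*} [Group G] [Finite G] {p : ℕ} [Fact p.Prime] (ρ : G →* (V ≃ₗ[ZMod q] V))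

theorem card_dvd (htrans : ∀ v w : V, v ≠ 0 → w ≠ 0 → ∃ g : G, ρ g v = w) [Nontrivial V] :
    Nat.card V - 1 ∣ Nat.card G := by
  classical
  letI : MulAction G {v : V // v ≠ 0} :=
    { smul := fun g v => ⟨ρ g v.1, fun h => v.2 ((ρ g).map_eq_zero_iff.1 h)⟩
      one_smul := fun v => Subtype.ext (by show ρ 1 v.1 = v.1; rw [map_one]; rfl)
      mul_smul := fun a b v => Subtype.ext (by show ρ (a * b) v.1 = ρ a (ρ b v.1); rw [map_mul]; rfl) }
  obtain ⟨v, hv⟩ := exists_ne (0 : V)
  haveI : MulAction.IsPretransitive G {v : V // v ≠ 0} :=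
    ⟨fun a b => (htrans a.1 b.1 a.2 b.2).imp fun g hg => Subtype.ext hg⟩
  have h1 := Subgroup.card_mul_index (MulAction.stabilizer G (⟨v, hv⟩ : {v : V // v ≠ 0}))
  rw [MulAction.index_stabilizer_of_transitive] at h1
  have h2 : Nat.card {v : V // v ≠ 0} = Nat.card V - 1 := by
    haveI := Fintype.ofFinite V
    rw [Nat.card_eq_fintype_card, Fintype.card_subtype_compl, Fintype.card_subtype_eq, Nat.card_eq_fintype_card]
  exact h2 ▸ Dvd.intro_left _ h1

theorem card_eq_of_semiregular [Nontrivial V] (htrans : ∀ v w : V, v ≠ 0 → w ≠ 0 → ∃ g : G, ρ g v = w)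
    (hfree : ∀ g : G, ∀ v : V, v ≠ 0 → ρ g v = v → g = 1) : Nat.card G = Nat.card V - 1 := by
  classical
  obtain ⟨v, hv⟩ := exists_ne (0 : V)
  haveI := Fintype.ofFinite V
  have h2 : Nat.card {v : V // v ≠ 0} = Nat.card V - 1 := by
    rw [Nat.card_eq_fintype_card, Fintype.card_subtype_compl, Fintype.card_subtype_eq, Nat.card_eq_fintype_card]
  rw [← h2]
  refine Nat.card_congr (Equiv.ofBijective (fun g => ⟨ρ g v, fun h => hv ((ρ g).map_eq_zero_iff.1 h)⟩) ⟨?_, ?_⟩)
  · intro a b h
    have h' : ρ a v = ρ b v := congrArg Subtype.val h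
    refine (inv_mul_eq_one.1 (hfree (b⁻¹ * a) v hv ?_)).symm
    rw [map_mul, LinearEquiv.mul_apply, h', ← LinearEquiv.mul_apply, ← map_mul, inv_mul_cancel, map_one]
    rfl
  · intro w
    obtain ⟨g, hg⟩ := htrans v w.1 hv w.2
    exact ⟨g, Subtype.ext hg⟩

/-- In characteristic two a Mersenne element fixes no nonzero vector. -/
theorem free_of_mersenne (hρ : Function.Injective ρ) (hG : IsPGroup p G) (n : ℕ) (hq : q = 2)
    (hV : Nat.card V = 2 ^ n) (hp : p + 1 = 2 ^ n) (g : G) (v : V) (hv : v ≠ 0) (hg : ρ g v = v) : g = 1 := by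
  subst hq
  let W : Submodule (ZMod 2) V := LinearMap.eqLocus (ρ g : V →ₗ[ZMod 2] V) LinearMap.id
  have hW : ∀ x, x ∈ W ↔ ρ g x = x := fun x => Iff.rfl
  letI : MulAction (Subgroup.zpowers g) V := MulAction.compHom V (ρ.comp (Subgroup.zpowers g).subtype)
  have hmod := (hG.to_subgroup (Subgroup.zpowers g)).card_modEq_card_fixedPoints V
  have hfix : Nat.card (MulAction.fixedPoints (Subgroup.zpowers g) V) = Nat.card W := by
    refine Nat.card_congr (Equiv.subtypeEquivRight fun x => ⟨fun h => h ⟨g, Subgroup.mem_zpowers g⟩, fun h a => ?_⟩)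
    obtain ⟨a, k, rfl⟩ := a
    have hcl : g ^ k ∈ (MulAction.stabilizer (V ≃ₗ[ZMod 2] V) x).comap ρ :=
      zpow_mem (Subgroup.mem_comap.2 (show ρ g • x = x from h)) k
    exact hcl
  obtain ⟨i, hi⟩ : ∃ i, Nat.card W = 2 ^ i := ⟨Module.finrank (ZMod 2) W, by
    rw [Module.natCard_eq_pow_finrank (K := ZMod 2), Nat.card_zmod]⟩
  rw [hfix, hi, hV] at hmod
  have hle : Nat.card W ≤ Nat.card V := Nat.card_le_card_of_injective _ Subtype.val_injective
  rw [hi, hV] at hle
  have hin : i ≤ n := (Nat.pow_le_pow_iff_right (by norm_num)).1 hle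
  have h2 : 2 ≤ Nat.card W := by
    haveI : Nontrivial W := ⟨⟨v, hg⟩, 0, fun e => hv (congrArg Subtype.val e)⟩
    exact Finite.one_lt_card
  rw [hi] at h2
  have hd : p ∣ 2 ^ i * (2 ^ (n - i) - 1) := by
    rw [Nat.mul_sub, ← pow_add, Nat.add_sub_cancel' hin, mul_one]
    exact (Nat.modEq_iff_dvd' hle).1 hmod.symm
  have hpodd : p ≠ 2 := by
    intro e
    subst e
    rcases n with _ | _ | n <;> simp [pow_succ] at hp
    omega
  rcases (Nat.Prime.dvd_mul (Fact.out : p.Prime)).1 hd with h | h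
  · exact absurd ((Nat.prime_dvd_prime_iff_eq (Fact.out : p.Prime) Nat.prime_two).1 ((Fact.out : p.Prime).dvd_of_dvd_pow h)) hpodd
  have hni : n - i = 0 := by
    by_contra hne
    have h1 : 0 < 2 ^ (n - i) - 1 := by
      have := Nat.pow_le_pow_right two_pos (show 1 ≤ n - i by omega); omega
    have h3 : i ≠ 0 := fun e => by rw [e] at h2; simp at h2
    have := Nat.le_of_dvd h1 h
    have := Nat.pow_lt_pow_right (a := 2) one_lt_two (show n - i < n by omega)
    omega
  have htop : ∀ x, x ∈ W := fun x => by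
    have hb : Function.Bijective (Subtype.val : W → V) := (Nat.bijective_iff_injective_and_card _).2
      ⟨Subtype.val_injective, by rw [hi, hV, show n = i by omega]⟩
    obtain ⟨w, rfl⟩ := hb.2 x
    exact w.2
  refine hρ (LinearEquiv.ext fun x => ?_)
  rw [map_one]
  exact htop x

end

theorem exists_semidihedral_pair : ∃ X Y : GL (Fin 2) (ZMod 3),
    orderOf X = 2 ^ 3 ∧ orderOf Y = 2 ∧ Y * X * Y⁻¹ = X ^ 3 := by
  haveI : Fact (Nat.Prime 2) := ⟨Nat.prime_two⟩
  refine ⟨⟨!![1, 1; 1, 0], !![0, 1; 1, 2], by decide, by decide⟩,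
    ⟨!![1, 0; 2, 2], !![1, 0; 2, 2], by decide, by decide⟩, ?_, ?_, ?_⟩
  · exact orderOf_eq_prime_pow (fun h => absurd (congrArg Units.val h) (by decide)) (Units.ext (by decide))
  · exact orderOf_eq_prime (Units.ext (by decide)) (fun h => absurd (congrArg Units.val h) (by decide))
  · rw [mul_inv_eq_iff_eq_mul]
    exact Units.ext (by decide)

open scoped Pointwise in
/-- Transitive `2`-groups on the eight nonzero vectors of a plane over the field with three elements. -/
theorem nine {V : Type*} [AddCommGroup V] [Module (ZMod 3) V] [Finite V] {G : Type*} [Group G] [Finite G]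
    (hG : IsPGroup 2 G) (ρ : G →* (V ≃ₗ[ZMod 3] V)) (hρ : Function.Injective ρ) (hV : Nat.card V = 9)
    (htrans : ∀ v w : V, v ≠ 0 → w ≠ 0 → ∃ g : G, ρ g v = w) :
    (IsCyclic G ∧ Nat.card G = 8) ∨ Nonempty (G ≃* QuaternionGroup 2) ∨ (Cfsg.IsQuasiDihedral G ∧ Nat.card G = 16) := by
  classical
  haveI : Fact (Nat.Prime 3) := ⟨Nat.prime_three⟩
  haveI : Fact (Nat.Prime 2) := ⟨Nat.prime_two⟩
  haveI : Nontrivial V := Finite.one_lt_card_iff_nontrivial.1 (by omega)
  have hfr : Module.finrank (ZMod 3) V = 2 := by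
    have := Module.natCard_eq_pow_finrank (K := ZMod 3) (V := V)
    rw [hV, Nat.card_zmod] at this
    exact Nat.pow_right_injective (show 2 ≤ 3 by norm_num) (this.symm.trans (show (9 : ℕ) = 3 ^ 2 from rfl))
  haveI : Module.Finite (ZMod 3) V := Module.Finite.of_finite
  let φ : V ≃ₗ[ZMod 3] (Fin 2 → ZMod 3) := (Module.finBasisOfFinrankEq _ _ hfr).equivFun
  let e : (V ≃ₗ[ZMod 3] V) →* GL (Fin 2) (ZMod 3) :=
    Matrix.GeneralLinearGroup.toLin.symm.toMonoidHom.comp (MonoidHom.mk'
      (fun f => LinearMap.GeneralLinearGroup.ofLinearEquiv (φ.symm.trans (f.trans φ)))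
      (fun f g => Units.ext (LinearMap.ext fun x => by
        show φ ((f * g) (φ.symm x)) = φ (f (φ.symm (φ (g (φ.symm x)))))
        rw [LinearEquiv.symm_apply_apply, LinearEquiv.mul_apply])))
  have he : Function.Injective e := by
    refine Matrix.GeneralLinearGroup.toLin.symm.injective.comp fun f g h => LinearEquiv.ext fun x => ?_
    have := LinearMap.congr_fun (congrArg Units.val h) (φ x)
    change φ (f (φ.symm (φ x))) = φ (g (φ.symm (φ x))) at this
    simpa using this
  let ε : G →* GL (Fin 2) (ZMod 3) := e.comp ρ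
  have hε : Function.Injective ε := he.comp hρ
  have h48 : Nat.card (GL (Fin 2) (ZMod 3)) = 48 := by
    rw [Matrix.card_GL_field]; simp [Fin.prod_univ_two, ZMod.card]
  obtain ⟨k, hk⟩ := IsPGroup.iff_card.1 hG
  have hd48 : 2 ^ k ∣ 48 := by
    rw [← hk, ← h48, Nat.card_congr (MonoidHom.ofInjective hε).toEquiv]
    exact Subgroup.card_subgroup_dvd_card _
  have hd8 : 8 ∣ 2 ^ k := by rw [← hk, show (8 : ℕ) = Nat.card V - 1 by omega]; exact card_dvd ρ htrans
  have hk3 : 3 ≤ k := by
    rw [show (8 : ℕ) = 2 ^ 3 from rfl] at hd8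
    exact (Nat.pow_dvd_pow_iff_le_right (by norm_num)).1 hd8
  have hk4 : k ≤ 4 := by
    by_contra h
    have h32 : 2 ^ 5 ∣ 48 := (pow_dvd_pow 2 (show 5 ≤ k by omega)).trans hd48
    norm_num at h32
  rcases Nat.lt_or_ge k 4 with hk' | hk'
  · -- order eight: regular, hence a unique involution
    have hc8 : Nat.card G = 8 := by rw [hk, show k = 3 by omega]; norm_num
    have hfree : ∀ g : G, ∀ v : V, v ≠ 0 → ρ g v = v → g = 1 := by
      intro g v hv hg
      let f : G → {w : V // w ≠ 0} := fun a => ⟨ρ a v, fun h => hv ((ρ a).map_eq_zero_iff.1 h)⟩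
      have hsurj : Function.Surjective f := fun w =>
        (htrans v w.1 hv w.2).imp fun a ha => Subtype.ext ha
      haveI := Fintype.ofFinite V
      have hcard : Nat.card {w : V // w ≠ 0} = 8 := by
        rw [Nat.card_eq_fintype_card, Fintype.card_subtype_compl, Fintype.card_subtype_eq, ← Nat.card_eq_fintype_card,
          hV]
      have hbij := (Nat.bijective_iff_surjective_and_card f).2 ⟨hsurj, hc8.trans hcard.symm⟩
      refine hbij.1 (Subtype.ext ?_)
      show ρ g v = ρ 1 v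
      rw [map_one, hg]; rfl
    have hinv : ∀ g : G, g * g = 1 → g ≠ 1 → ∀ v, ρ g v = -v := by
      intro g hg hg1 v
      have : ρ g (v + ρ g v) = v + ρ g v := by
        rw [map_add, ← LinearEquiv.mul_apply, ← map_mul, hg, map_one, add_comm]; rfl
      by_cases h0 : v + ρ g v = 0
      · exact eq_neg_of_add_eq_zero_right h0
      · exact absurd (hfree g _ h0 this) hg1
    have huniq : ∀ g h : G, g * g = 1 → g ≠ 1 → h * h = 1 → h ≠ 1 → g = h := fun g h a b c d =>
      hρ (LinearEquiv.ext fun v => (hinv g a b v).trans (hinv h c d v).symm)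
    by_cases hcyc : IsCyclic G
    · exact .inl ⟨hcyc, hc8⟩
    refine .inr (.inl ?_)
    have ho : ∀ g : G, g * g * (g * g) = 1 := by
      intro g
      have hd : orderOf g ∣ 8 := hc8 ▸ orderOf_dvd_natCard g
      have hne : orderOf g ≠ 8 := fun h => hcyc (isCyclic_of_orderOf_eq_card g (by rw [hc8, h]))
      have h4 : orderOf g ∣ 4 := by
        obtain ⟨i, hi, e⟩ := (Nat.dvd_prime_pow Nat.prime_two).1 ((show (8 : ℕ) = 2 ^ 3 from rfl) ▸ hd)
        rw [e] at hne ⊢
        rw [show (4 : ℕ) = 2 ^ 2 from rfl]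
        refine pow_dvd_pow 2 ?_
        by_contra h
        exact hne (by rw [show i = 3 by omega]; norm_num)
      rw [show g * g * (g * g) = g ^ 4 by rw [show (4 : ℕ) = 2 + 2 from rfl, pow_add, pow_two]]
      exact orderOf_dvd_iff_pow_eq_one.1 h4
    obtain ⟨a, ha⟩ : ∃ a : G, a * a ≠ 1 := by
      by_contra h
      push Not at h
      haveI : Nontrivial G := Finite.one_lt_card_iff_nontrivial.1 (by omega)
      obtain ⟨g, hg⟩ := exists_ne (1 : G)
      have : ∀ x : G, x = 1 ∨ x = g := fun x => or_iff_not_imp_left.2 fun hx => huniq x g (h x) hx (h g) hg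
      have hle : Nat.card G ≤ 2 := by
        have hs : (Set.univ : Set G) ⊆ (({1, g} : Finset G) : Set G) := fun x _ => by
          rcases this x with rfl | rfl <;> simp
        have := Set.ncard_le_ncard hs (Finset.finite_toSet _)
        rw [Set.ncard_coe_finset, Set.ncard_univ] at this
        exact this.trans Finset.card_le_two
      omega
    have ha4 : orderOf a = 2 * 2 := by
      refine orderOf_eq_prime_pow (p := 2) (n := 1) (by rw [pow_one, pow_two]; exact ha) ?_
      rw [pow_succ, pow_one, pow_mul, pow_two a, pow_two]; exact ho a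
    obtain ⟨b, hb⟩ : ∃ b, b ∉ Subgroup.zpowers a := by
      by_contra h
      push Not at h
      exact hcyc ⟨⟨a, fun x => h x⟩⟩
    have hb2 : b * b ≠ 1 := by
      intro h
      by_cases hb1 : b = 1
      · exact hb (hb1 ▸ one_mem _)
      · exact hb (huniq b (a * a) h hb1 (ho a) ha ▸ mul_mem (Subgroup.mem_zpowers a) (Subgroup.mem_zpowers a))
    have hsq : b * b = a * a := huniq _ _ (ho b) hb2 (ho a) ha
    refine CfsgLib.TwoGroups.nonempty_mulEquiv_quaternionGroup (n := 2) (a := a) (b := b) ha4 ?_ hb ?_ (by rw [hc8])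
    · rw [pow_two]; exact hsq
    · haveI : (Subgroup.zpowers a).Normal := by
        refine Subgroup.normal_of_index_eq_two ?_
        have := (Subgroup.zpowers a).card_mul_index
        rw [Nat.card_zpowers, ha4, hc8] at this
        omega
      have hmem : b * a * b⁻¹ ∈ Subgroup.zpowers a :=
        Subgroup.Normal.conj_mem inferInstance a (Subgroup.mem_zpowers a) b
      have h4 : (b * a * b⁻¹) * (b * a * b⁻¹) ≠ 1 := fun h => ha (by
        have : a * a = b⁻¹ * ((b * a * b⁻¹) * (b * a * b⁻¹)) * b := by group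
        rw [this, h]; group)
      have hne : b * a * b⁻¹ ≠ a := by
        intro h
        have hab : b * a = a * b := mul_inv_eq_iff_eq_mul.1 h
        have e : (b * a) * (b * a) = 1 := by
          calc (b * a) * (b * a) = b * (a * b) * a := by group
            _ = (b * b) * (a * a) := by rw [← hab]; group
            _ = 1 := by rw [hsq]; exact ho a
        by_cases h1 : b * a = 1
        · exact hb (by rw [eq_inv_of_mul_eq_one_left h1]; exact inv_mem (Subgroup.mem_zpowers a))
        · have h2 := huniq _ _ e h1 (ho a) ha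
          exact hb (mul_right_cancel h2 ▸ Subgroup.mem_zpowers a)
      obtain ⟨m, hm⟩ := Subgroup.mem_zpowers_iff.1 hmem
      have ha4' : a ^ (4 : ℤ) = 1 := by
        rw [show (4 : ℤ) = ((4 : ℕ) : ℤ) from rfl, zpow_natCast, show (4 : ℕ) = 2 * 2 from rfl, ← ha4, pow_orderOf_eq_one]
      have hr : a ^ m = a ^ (m % 4) := by
        conv_lhs => rw [show m = m % 4 + 4 * (m / 4) by omega, zpow_add, zpow_mul, ha4', one_zpow, mul_one]
      have hcases : m % 4 = 0 ∨ m % 4 = 1 ∨ m % 4 = 2 ∨ m % 4 = 3 := by omega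
      rcases hcases with c | c | c | c <;> rw [hr, c] at hm
      · exact absurd (by rw [← hm]; simp) h4
      · exact absurd (by rw [← hm]; simp) hne
      · exfalso
        refine h4 ?_
        rw [← hm, ← zpow_add, show (2 : ℤ) + 2 = 4 from rfl, ha4']
      · rw [← hm]
        refine eq_inv_of_mul_eq_one_left ?_
        rw [← zpow_add_one, show (3 : ℤ) + 1 = 4 from rfl, ha4']
  · -- order sixteen: a Sylow subgroup
    have hc16 : Nat.card G = 16 := by rw [hk, show k = 4 by omega]; norm_num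
    refine .inr (.inr ⟨?_, hc16⟩)
    obtain ⟨X, Y, hX8, hY2, hYX⟩ := exists_semidihedral_pair
    set Q := ε.range
    have hQ : Nat.card Q = 16 := by rw [← hc16]; exact (Nat.card_congr (MonoidHom.ofInjective hε).toEquiv).symm
    have hfac : (Nat.card (GL (Fin 2) (ZMod 3))).factorization 2 = 4 := by
      rw [h48, Nat.factorization_def _ Nat.prime_two]
      rw [show (48 : ℕ) = 2 ^ 4 * 3 from rfl, padicValNat.mul (by norm_num) (by norm_num), padicValNat.prime_pow,
        padicValNat.eq_zero_of_not_dvd (by norm_num)]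
    let S : Sylow 2 (GL (Fin 2) (ZMod 3)) := Sylow.ofCard Q (by rw [hQ, hfac]; norm_num)
    have hnorm : Subgroup.zpowers Y ≤ Subgroup.normalizer (Subgroup.zpowers X : Set (GL (Fin 2) (ZMod 3))) := by
      have hY1 : Y⁻¹ = Y := inv_eq_of_mul_eq_one_left (by
        have h := pow_orderOf_eq_one Y
        rwa [hY2, pow_two] at h)
      rw [Subgroup.zpowers_le]
      refine Subgroup.mem_normalizer_iff.2 fun z => ⟨fun hz => ?_, fun hz => ?_⟩
      · obtain ⟨i, rfl⟩ := Subgroup.mem_zpowers_iff.1 hz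
        rw [← conj_zpow, hYX]
        exact zpow_mem (pow_mem (Subgroup.mem_zpowers X) 3) i
      · obtain ⟨i, hi⟩ := Subgroup.mem_zpowers_iff.1 hz
        have : z = (Y * X * Y⁻¹) ^ i := by
          rw [show z = Y⁻¹ * (Y * z * Y⁻¹) * Y by group, ← hi, conj_zpow, hY1]
        rw [this, hYX]
        exact zpow_mem (pow_mem (Subgroup.mem_zpowers X) 3) i
    have hP : IsPGroup 2 (Subgroup.zpowers X ⊔ Subgroup.zpowers Y : Subgroup (GL (Fin 2) (ZMod 3))) :=
      IsPGroup.to_sup_of_normal_left' (IsPGroup.of_card (by rw [Nat.card_zpowers, hX8]))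
        (IsPGroup.of_card (n := 1) (by rw [Nat.card_zpowers, hY2, pow_one])) hnorm
    obtain ⟨T, hT⟩ := hP.exists_le_sylow
    obtain ⟨g, hg⟩ := MulAction.exists_smul_eq (GL (Fin 2) (ZMod 3)) T S
    have hmemQ : ∀ z ∈ (T : Subgroup (GL (Fin 2) (ZMod 3))), g * z * g⁻¹ ∈ Q := by
      intro z hz
      have h2 : ((g • T : Sylow 2 (GL (Fin 2) (ZMod 3))) : Subgroup (GL (Fin 2) (ZMod 3))) = Q := by rw [hg]; rfl
      rw [Sylow.coe_subgroup_smul] at h2
      rw [← h2]
      exact Subgroup.smul_mem_pointwise_smul z (MulAut.conj g) _ hz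
    obtain ⟨x, hx⟩ := hmemQ X (hT (Subgroup.mem_sup_left (Subgroup.mem_zpowers X)))
    obtain ⟨y, hy⟩ := hmemQ Y (hT (Subgroup.mem_sup_right (Subgroup.mem_zpowers Y)))
    have hconj : ∀ z : GL (Fin 2) (ZMod 3), orderOf (g * z * g⁻¹) = orderOf z := fun z => by
      rw [← MulAut.conj_apply]; exact orderOf_injective (MulAut.conj g).toMonoidHom (MulAut.conj g).injective z
    refine ⟨3, le_rfl, by rw [hc16]; norm_num, x, y, ?_, ?_, hε ?_⟩
    · rw [← orderOf_injective ε hε x, hx, hconj, hX8]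
    · rw [← orderOf_injective ε hε y, hy, hconj, hY2]
    · rw [map_mul, map_mul, map_inv, map_pow, hx, hy, show (2 : ℕ) ^ (3 - 1) - 1 = 3 from rfl, conj_pow, ← hYX]
      group

/-- The classification. -/
theorem classification (q : ℕ) [Fact q.Prime] {V : Type*} [AddCommGroup V] [Module (ZMod q) V] [Finite V]
    [Nontrivial V] {G : Type*} [Group G] [Finite G] [Nontrivial G] (p : ℕ) [Fact p.Prime] (hG : IsPGroup p G)
    (ρ : G →* (V ≃ₗ[ZMod q] V)) (hρ : Function.Injective ρ)
    (htrans : ∀ v w : V, v ≠ 0 → w ≠ 0 → ∃ g : G, ρ g v = w) :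
    (q = 2 ∧ p = Nat.card V - 1 ∧ Nat.card G = p) ∨
    (p = 2 ∧ Nat.card V = q ∧ (∃ m : ℕ, q = 2 ^ m + 1 ∧ Nat.card G = 2 ^ m) ∧ IsCyclic G) ∨
    (p = 2 ∧ q = 3 ∧ Nat.card V = 9 ∧
      ((IsCyclic G ∧ Nat.card G = 8) ∨ Nonempty (G ≃* QuaternionGroup 2) ∨ (Cfsg.IsQuasiDihedral G ∧ Nat.card G = 16))) := by
  classical
  haveI : Module.Finite (ZMod q) V := Module.Finite.of_finite
  have hq : q.Prime := Fact.out
  have hp : p.Prime := Fact.out
  set n := Module.finrank (ZMod q) V with hn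
  have hV : Nat.card V = q ^ n := by rw [Module.natCard_eq_pow_finrank (K := ZMod q), Nat.card_zmod]
  have hn1 : 1 ≤ n := Module.finrank_pos
  obtain ⟨N, hN⟩ := IsPGroup.iff_card.1 hG
  obtain ⟨k, -, hk⟩ := (Nat.dvd_prime_pow hp).1 (hN ▸ card_dvd ρ htrans)
  have hpos : 2 ≤ Nat.card V := Finite.one_lt_card
  have one : n = 1 → (∀ g : G, ∀ v : V, v ≠ 0 → ρ g v = v → g = 1) := by
    intro h1 g v hv hg
    refine hρ (LinearEquiv.ext fun x => ?_)
    obtain ⟨c, rfl⟩ := exists_smul_eq_of_finrank_eq_one (hn ▸ h1) hv x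
    rw [map_one, map_smul, hg]; rfl
  by_cases hq2 : q = 2
  · refine .inl ⟨hq2, ?_⟩
    have hn2 : 2 ≤ n := by
      by_contra h
      obtain ⟨g, hg⟩ := exists_ne (1 : G)
      obtain ⟨v, hv⟩ := exists_ne (0 : V)
      have hw : ρ g v = v := by
        by_contra hne
        have hz : ρ g v ≠ 0 := fun e => hv ((ρ g).map_eq_zero_iff.1 e)
        have hs : (({0, v, ρ g v} : Finset V)).card = 3 := by
          simp [Ne.symm hv, Ne.symm hz, Ne.symm hne]
        haveI := Fintype.ofFinite V
        have := Finset.card_le_univ ({0, v, ρ g v} : Finset V)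
        rw [hs, ← Nat.card_eq_fintype_card, hV, hq2, show n = 1 by omega] at this
        omega
      exact hg (one (by omega) g v hv hw)
    rw [hV, hq2] at hk
    have h2n : 2 ^ n = p ^ k + 1 := by have := Nat.one_le_two_pow (n := n); omega
    obtain rfl := two_pow_eq_prime_pow hp hn2 h2n
    rw [pow_one] at h2n
    refine ⟨by rw [hV, hq2]; omega, ?_⟩
    rw [card_eq_of_semiregular ρ htrans (free_of_mersenne ρ hρ hG n hq2 (by rw [hV, hq2]) h2n.symm), hV, hq2]
    omega
  · have hqo : Odd (q ^ n) := (hq.odd_of_ne_two hq2).pow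
    have hk0 : k ≠ 0 := fun e => by
      subst e
      rw [pow_zero, hV] at hk
      obtain ⟨c, hc⟩ := hqo
      omega
    obtain rfl : p = 2 := by
      by_contra hp2
      have hodd : Odd (p ^ k) := (hp.odd_of_ne_two hp2).pow
      rw [← hk, hV] at hodd
      obtain ⟨c, hc⟩ := hqo
      obtain ⟨d, hd⟩ := hodd
      omega
    rw [hV] at hk
    have hqn : q ^ n = 2 ^ k + 1 := by have := hq.one_lt; have := Nat.one_le_pow n q hq.pos; omega
    rcases Nat.lt_or_ge n 2 with hn2 | hn2
    · have h1 : n = 1 := by omega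
      refine .inr (.inl ⟨rfl, by rw [hV, h1, pow_one], ?_, ?_⟩)
      · rw [h1, pow_one] at hqn
        refine ⟨k, hqn, ?_⟩
        rw [card_eq_of_semiregular ρ htrans (one h1), hV, h1, pow_one, hqn]; omega
      · obtain ⟨v, hv⟩ := exists_ne (0 : V)
        have hc : ∀ g : G, ∃ c : ZMod q, c • v = ρ g v := fun g => exists_smul_eq_of_finrank_eq_one (hn ▸ h1) hv _
        choose c hc using hc
        have inj : ∀ a b : ZMod q, a • v = b • v → a = b := fun a b h => smul_left_injective _ hv h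
        let f : G →* ZMod q :=
          { toFun := c
            map_one' := inj _ _ (by rw [hc, map_one, one_smul]; rfl)
            map_mul' := fun a b => inj _ _ (by
              rw [hc, map_mul, LinearEquiv.mul_apply, ← hc b, map_smul, ← hc a, smul_smul, mul_comm]) }
        refine isCyclic_of_subgroup_isDomain f fun a b h => ?_
        have h' : c a = c b := h
        have e : ρ a v = ρ b v := by rw [← hc a, ← hc b, h']
        refine (inv_mul_eq_one.1 (one h1 (b⁻¹ * a) v hv ?_)).symm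
        rw [map_mul, LinearEquiv.mul_apply, e, ← LinearEquiv.mul_apply, ← map_mul, inv_mul_cancel, map_one]
        rfl
    · obtain ⟨rfl, h2⟩ := odd_prime_pow_eq hq hq2 hn2 hqn
      have h9 : Nat.card V = 9 := by rw [hV, h2]; norm_num
      exact .inr (.inr ⟨rfl, rfl, h9, nine hG ρ hρ h9 htrans⟩)

end CfsgLib.Recog.PGroupTransitive
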