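import Cfsg.Agent.Lib.Recog.PGroupImprimitive
import Cfsg.Agent.Lib.Recog.PGroupTransitive
import Cfsg.Agent.Lib.ZStar.QuatSylow

/-!
Half-transitive linear `p`-groups: stabilisers, semiregularity, irreducibility.
-/

set_option autoImplicit false
set_option linter.all false

namespace CfsgLib.Recog.HalfTransitive

open Subgroup CfsgLib.Recog.PGroupImprimitive

variable {q : ℕ} [Fact q.Prime] {V : Type*} [AddCommGroup V] [Module (ZMod q) V] [Finite V]
  {G : Type*} [Group G] [Finite G] {p : ℕ} [Fact p.Prime] (ρ : G →* (V ≃ₗ[ZMod q] V))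

/-- The stabiliser of a vector. -/
def St (v : V) : Subgroup G where
  carrier := {g | ρ g v = v}
  one_mem' := one_act ρ v
  mul_mem' := fun {a b} ha hb => by
    show ρ (a * b) v = v
    rw [mul_act, hb, ha]
  inv_mem' := fun {a} ha => by
    show ρ a⁻¹ v = v
    conv_lhs => rw [← show ρ a v = v from ha]
    rw [← mul_act, inv_mul_cancel, one_act]

theorem mem_St {ρ : G →* (V ≃ₗ[ZMod q] V)} {v : V} {g : G} : g ∈ St ρ v ↔ ρ g v = v := Iff.rfl

theorem card_orbit_mul_card_St (v : V) :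
    Nat.card {u : V | ∃ g : G, ρ g v = u} * Nat.card (St ρ v) = Nat.card G := by
  rw [Subgroup.card_eq_card_quotient_mul_card_subgroup (St ρ v)]
  congr 1
  refine (Nat.card_congr (Equiv.ofBijective (fun c : G ⧸ St ρ v =>
    (⟨ρ c.out v, c.out, rfl⟩ : {u : V | ∃ g : G, ρ g v = u})) ⟨?_, ?_⟩)).symm
  · intro a b h
    rw [← QuotientGroup.out_eq' a, ← QuotientGroup.out_eq' b, QuotientGroup.eq, mem_St]
    have h' : ρ a.out v = ρ b.out v := congrArg Subtype.val h
    rw [mul_act, ← h', ← mul_act, inv_mul_cancel, one_act]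
  · rintro ⟨u, g, rfl⟩
    refine ⟨(g : G ⧸ St ρ v), Subtype.ext ?_⟩
    obtain ⟨s, hs⟩ := QuotientGroup.mk_out_eq_mul (St ρ v) g
    show ρ (g : G ⧸ St ρ v).out v = ρ g v
    rw [hs, mul_act, mem_St.1 s.2]

variable {ρ}

theorem card_St_eq (hhalf : ∀ v w : V, v ≠ 0 → w ≠ 0 →
      Nat.card {u : V | ∃ g : G, ρ g v = u} = Nat.card {u : V | ∃ g : G, ρ g w = u})
    {v w : V} (hv : v ≠ 0) (hw : w ≠ 0) : Nat.card (St ρ v) = Nat.card (St ρ w) := by
  have h1 := card_orbit_mul_card_St ρ v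
  rw [hhalf v w hv hw, ← card_orbit_mul_card_St ρ w] at h1
  haveI : Nonempty {u : V | ∃ g : G, ρ g w = u} := ⟨⟨w, 1, one_act ρ w⟩⟩
  exact Nat.eq_of_mul_eq_mul_left Nat.card_pos h1

/-- The fixed-point sum of an element of order dividing `p`. -/
theorem sum_eq_zero {g : G} (hg : g ^ p = 1) (hfree : ∀ x, ρ g x = x → x = 0) (x : V) :
    ∑ j ∈ Finset.range p, ρ (g ^ j) x = 0 := by
  refine hfree _ ?_
  have h1 := Finset.sum_range_succ (fun j => ρ (g ^ j) x) p
  have h2 := Finset.sum_range_succ' (fun j => ρ (g ^ j) x) p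
  rw [hg, ← pow_zero g] at h1
  have h4 := add_right_cancel (h1.symm.trans h2)
  rw [map_sum]
  conv_rhs => rw [h4]
  exact Finset.sum_congr rfl fun j _ => by rw [← mul_act, ← pow_succ']

/-- If no non-trivial element fixes a vector, the group is cyclic or quaternion. -/
theorem semiregular_case [Nontrivial V] (hG : IsPGroup p G) (hρ : Function.Injective ρ)
    (h : ∀ v : V, v ≠ 0 → ∀ g : G, ρ g v = v → g = 1) :
    IsCyclic G ∨ ∃ n : ℕ, Nonempty (G ≃* QuaternionGroup n) := by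
  classical
  have hp := (Fact.out : p.Prime)
  cases subsingleton_or_nontrivial G
  · exact Or.inl inferInstance
  by_cases hqp : q = p
  · exfalso
    subst hqp
    letI : MulAction G V := MulAction.compHom V ρ
    have hqV : q ∣ Nat.card V := by
      haveI : Module.Finite (ZMod q) V := Module.Finite.of_finite
      rw [Module.natCard_eq_pow_finrank (K := ZMod q), Nat.card_zmod]
      exact dvd_pow_self q Module.finrank_pos.ne'
    obtain ⟨v, hv, hv0⟩ := hG.exists_fixed_point_of_prime_dvd_card_of_fixed_point V hqV (a := 0)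
      (fun g => (ρ g).map_zero)
    obtain ⟨g, hg⟩ := exists_ne (1 : G)
    exact hg (h v (Ne.symm hv0) g (hv g))
  haveI := hG.center_nontrivial
  have hd : p ∣ Nat.card (center G) := (hG.to_subgroup _).card_eq_or_dvd.resolve_left fun h1 => by
    have := Finite.one_lt_card (α := center G); omega
  obtain ⟨z, hz⟩ := exists_prime_orderOf_dvd_card' p hd
  have hzo : orderOf (z : G) = p := by rw [Subgroup.orderOf_coe, hz]
  refine (Cfsg.Agent.S0016.result p hG ?_).imp id fun ⟨_, n, hn⟩ => ⟨2 ^ n, hn⟩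
  suffices key : ∀ H : Subgroup G, Nat.card H = p → H = zpowers (z : G) from
    fun H K hH hK => (key H hH).trans (key K hK).symm
  intro H hH
  by_contra hne
  obtain ⟨e, heH, hez⟩ := SetLike.not_le_iff_exists.1 fun hle : H ≤ zpowers (z : G) =>
    hne (eq_of_le_of_card_ge hle (by rw [hH, Nat.card_zpowers, hzo]))
  have hep : e ^ p = 1 := by
    have := pow_card_eq_one' (x := (⟨e, heH⟩ : H))
    rw [hH] at this
    exact congrArg Subtype.val this
  have hcomm : Commute e (z : G) := mem_center_iff.1 z.2 e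
  have hzp : (z : G) ^ p = 1 := hzo ▸ pow_orderOf_eq_one _
  obtain ⟨x, hx⟩ := exists_ne (0 : V)
  refine hx ?_
  have hfree : ∀ g : G, g ≠ 1 → ∀ y, ρ g y = y → y = 0 := fun g hg y hy =>
    by_contra fun hy0 => hg (h y hy0 g hy)
  have hsum : ∑ i ∈ Finset.range p, ∑ j ∈ Finset.range p, ρ ((e * (z : G) ^ i) ^ j) x = p • x := by
    rw [Finset.sum_comm, Finset.sum_eq_single 0]
    · simp [one_act]
    · intro j hj hj0
      rw [Finset.mem_range] at hj
      calc ∑ i ∈ Finset.range p, ρ ((e * (z : G) ^ i) ^ j) x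
          = ∑ i ∈ Finset.range p, ρ (e ^ j) (ρ (((z : G) ^ j) ^ i) x) :=
            Finset.sum_congr rfl fun i _ => by
              rw [(hcomm.pow_right i).mul_pow, mul_act, ← pow_mul, ← pow_mul, mul_comm i j]
        _ = 0 := by
          rw [← map_sum, sum_eq_zero (by rw [← pow_mul, mul_comm, pow_mul, hzp, one_pow])
            (hfree _ fun h1 => absurd (Nat.le_of_dvd (Nat.pos_of_ne_zero hj0)
              (hzo ▸ orderOf_dvd_of_pow_eq_one h1)) (by omega)), map_zero]
    · intro h; exact absurd (Finset.mem_range.2 hp.pos) h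
  rw [Finset.sum_eq_zero fun i _ => sum_eq_zero (g := e * (z : G) ^ i)
    (by rw [(hcomm.pow_right i).mul_pow, hep, ← pow_mul, mul_comm, pow_mul, hzp, one_pow, one_mul])
    (hfree _ fun h1 => hez (by
      rw [eq_inv_of_mul_eq_one_left h1]
      exact inv_mem (pow_mem (mem_zpowers _) i))) x] at hsum
  have h0 : (p : ZMod q) • x = 0 := by rw [Nat.cast_smul_eq_nsmul]; exact hsum.symm
  refine (smul_eq_zero.1 h0).resolve_left fun h0 => hqp ?_
  exact (Nat.prime_dvd_prime_iff_eq (Fact.out : q.Prime) hp).1 ((ZMod.natCast_eq_zero_iff _ _).1 h0)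

/-- Outside the semiregular case the characteristic differs from `p`. -/
theorem char_ne_p [Nontrivial V] (hG : IsPGroup p G) (hρ : Function.Injective ρ)
    (hcard : ∀ v w : V, v ≠ 0 → w ≠ 0 → Nat.card (St ρ v) = Nat.card (St ρ w))
    (hst : ∀ v : V, v ≠ 0 → St ρ v ≠ ⊥) : q ≠ p := by
  rintro rfl
  letI : MulAction G V := MulAction.compHom V ρ
  have hqV : q ∣ Nat.card V := by
    haveI : Module.Finite (ZMod q) V := Module.Finite.of_finite
    rw [Module.natCard_eq_pow_finrank (K := ZMod q), Nat.card_zmod]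
    exact dvd_pow_self q Module.finrank_pos.ne'
  obtain ⟨v, hv, hv0⟩ := hG.exists_fixed_point_of_prime_dvd_card_of_fixed_point V hqV (a := 0)
    (fun g => (ρ g).map_zero)
  have hall : ∀ w : V, w ≠ 0 → St ρ w = ⊤ := fun w hw => Subgroup.eq_top_of_card_eq _ (by
    rw [hcard w v hw (Ne.symm hv0), show St ρ v = ⊤ from eq_top_iff.2 fun g _ => mem_St.2 (hv g),
      Subgroup.card_top])
  refine hst v (Ne.symm hv0) ((Subgroup.eq_bot_iff_forall _).2 fun g hg => hρ (LinearEquiv.ext fun x => ?_))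
  rw [one_act]
  by_cases hx : x = 0
  · rw [hx, map_zero]
  · exact mem_St.1 ((hall x hx).ge (mem_top g))

/-- A non-semiregular half-transitive group of order prime to `q` is irreducible. -/
theorem irreducible [Nontrivial V] (hG : IsPGroup p G) (hρ : Function.Injective ρ)
    (hcard : ∀ v w : V, v ≠ 0 → w ≠ 0 → Nat.card (St ρ v) = Nat.card (St ρ w))
    (hst : ∀ v : V, v ≠ 0 → St ρ v ≠ ⊥) (W : Submodule (ZMod q) V)
    (hW : ∀ g : G, ∀ w ∈ W, ρ g w ∈ W) : W = ⊥ ∨ W = ⊤ := by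
  classical
  by_contra hno
  push Not at hno
  obtain ⟨hW0, hW1⟩ := hno
  haveI := Fintype.ofFinite G
  obtain ⟨N, hN⟩ := IsPGroup.iff_card.1 hG
  have hG0 : (Nat.card G : ZMod q) ≠ 0 := by
    intro h0
    rw [ZMod.natCast_eq_zero_iff, hN] at h0
    exact char_ne_p hG hρ hcard hst
      ((Nat.prime_dvd_prime_iff_eq (Fact.out : q.Prime) (Fact.out : p.Prime)).1
        ((Fact.out : q.Prime).dvd_of_dvd_pow h0))
  obtain ⟨W', hW'⟩ := W.exists_isCompl
  let π : V →ₗ[ZMod q] V := W.subtype.comp (W.projectionOnto W' hW')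
  let P : V →ₗ[ZMod q] V := (Nat.card G : ZMod q)⁻¹ •
    ∑ g : G, (ρ g : V →ₗ[ZMod q] V).comp (π.comp (ρ g⁻¹ : V →ₗ[ZMod q] V))
  have hP : ∀ x, P x = (Nat.card G : ZMod q)⁻¹ • ∑ g : G, ρ g (π (ρ g⁻¹ x)) := fun x => by simp [P]
  have hπW : ∀ x, π x ∈ W := fun x => Subtype.property _
  have hPW : ∀ x, P x ∈ W := fun x => by
    rw [hP]; exact W.smul_mem _ (W.sum_mem fun g _ => hW g _ (hπW _))
  have hfix : ∀ w ∈ W, P w = w := by
    intro w hw
    rw [hP, Finset.sum_congr rfl (g := fun _ => w) fun g _ => ?_, Finset.sum_const, Finset.card_univ,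
      ← Nat.card_eq_fintype_card, ← Nat.cast_smul_eq_nsmul (ZMod q), smul_smul, inv_mul_cancel₀ hG0,
      one_smul]
    have hm : ρ g⁻¹ w ∈ W := hW _ w hw
    rw [show π (ρ g⁻¹ w) = ρ g⁻¹ w from congrArg Subtype.val
      (Submodule.projectionOnto_apply_left hW' ⟨_, hm⟩), ← mul_act, mul_inv_cancel, one_act]
  have hequi : ∀ (h : G) x, P (ρ h x) = ρ h (P x) := by
    intro h x
    rw [hP, hP, map_smul, map_sum]
    refine congrArg _ (Fintype.sum_equiv (Equiv.mulLeft h⁻¹) _ _ fun g => ?_)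
    simp only [Equiv.coe_mulLeft]
    rw [← mul_act ρ h (h⁻¹ * g), mul_inv_cancel_left, mul_inv_rev, inv_inv, mul_act ρ g⁻¹ h]
  set U := LinearMap.ker P with hU
  have hUinv : ∀ g : G, ∀ u ∈ U, ρ g u ∈ U := fun g u hu => by
    rw [hU, LinearMap.mem_ker, hequi, LinearMap.mem_ker.1 hu, map_zero]
  obtain ⟨w₀, hw₀, hw₀0⟩ := Submodule.exists_mem_ne_zero_of_ne_bot hW0
  obtain ⟨x, -, hx⟩ := SetLike.exists_of_lt (lt_top_iff_ne_top.2 hW1)
  have hu₀ : x - P x ∈ U := by rw [hU, LinearMap.mem_ker, map_sub, hfix _ (hPW x), sub_self]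
  have hu₀0 : x - P x ≠ 0 := fun h0 => hx (by rw [sub_eq_zero.1 h0]; exact hPW x)
  have key : ∀ w ∈ W, w ≠ 0 → ∀ u ∈ U, u ≠ 0 → St ρ w = St ρ u := by
    intro w hw hw0 u hu hu0
    have hwu : w + u ≠ 0 := fun h0 => by
      have hPu : P u = 0 := LinearMap.mem_ker.1 hu
      have := congrArg P h0
      rw [map_add, hfix w hw, hPu, add_zero, map_zero] at this
      exact hw0 this
    have hle1 : St ρ (w + u) ≤ St ρ w := fun g hg => by
      have := congrArg P (mem_St.1 hg)
      rw [map_add, map_add, map_add, hfix w hw, hfix _ (hW g w hw), LinearMap.mem_ker.1 hu,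
        LinearMap.mem_ker.1 (hUinv g u hu), add_zero, add_zero] at this
      exact this
    have hle2 : St ρ (w + u) ≤ St ρ u := fun g hg => by
      have h := mem_St.1 hg
      rw [map_add, mem_St.1 (hle1 hg)] at h
      exact add_left_cancel h
    exact (eq_of_le_of_card_ge hle1 (hcard _ _ hwu hw0).ge).symm.trans
      (eq_of_le_of_card_ge hle2 (hcard _ _ hwu hu0).ge)
  refine hst w₀ hw₀0 ((Subgroup.eq_bot_iff_forall _).2 fun g hg => hρ (LinearEquiv.ext fun v => ?_))
  rw [one_act]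
  have hgW : ∀ w ∈ W, ρ g w = w := fun w hw => by
    by_cases hw0 : w = 0
    · rw [hw0, map_zero]
    · exact mem_St.1 ((((key w₀ hw₀ hw₀0 _ hu₀ hu₀0)).trans (key w hw hw0 _ hu₀ hu₀0).symm).le hg)
  have hgU : ∀ u ∈ U, ρ g u = u := fun u hu => by
    by_cases hu0 : u = 0
    · rw [hu0, map_zero]
    · exact mem_St.1 ((key w₀ hw₀ hw₀0 u hu hu0).le hg)
  have hvU : v - P v ∈ U := by rw [hU, LinearMap.mem_ker, map_sub, hfix _ (hPW v), sub_self]
  conv_lhs => rw [← add_sub_cancel (P v) v]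
  rw [map_add, hgW _ (hPW v), hgU _ hvU, add_sub_cancel]

/-- In an irreducible group a non-trivial central element is fixed-point-free. -/
theorem central_free (hρ : Function.Injective ρ)
    (hirr : ∀ W : Submodule (ZMod q) V, (∀ g : G, ∀ w ∈ W, ρ g w ∈ W) → W = ⊥ ∨ W = ⊤)
    {z : G} (hz : z ∈ center G) (hz1 : z ≠ 1) {x : V} (hx : ρ z x = x) : x = 0 := by
  rcases hirr (fixed ρ z) (fun g w hw => by
    rw [mem_fixed, ← mul_act, ← mem_center_iff.1 hz g, mul_act, mem_fixed.1 hw]) with h | h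
  · have : x ∈ fixed ρ z := hx
    rwa [h, Submodule.mem_bot] at this
  · exact absurd (hρ (LinearEquiv.ext fun y => by
      rw [one_act]; exact mem_fixed.1 (h ▸ Submodule.mem_top : y ∈ fixed ρ z))) hz1

/-- Cyclic and quaternion groups do not occur outside the semiregular case. -/
theorem not_cyclic_quaternion [Nontrivial V] (hG : IsPGroup p G) (hρ : Function.Injective ρ)
    (hcard : ∀ v w : V, v ≠ 0 → w ≠ 0 → Nat.card (St ρ v) = Nat.card (St ρ w))
    (hst : ∀ v : V, v ≠ 0 → St ρ v ≠ ⊥) :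
    (¬ ∀ a b : G, a * b = b * a) ∧ ∀ n : ℕ, ¬ Nonempty (G ≃* QuaternionGroup n) := by
  obtain ⟨v, hv⟩ := exists_ne (0 : V)
  obtain ⟨⟨g, hg⟩, hg1⟩ := Subgroup.ne_bot_iff_exists_ne_one.1 (hst v hv)
  have hg1' : g ≠ 1 := fun h => hg1 (Subtype.ext h)
  have hirr := irreducible hG hρ hcard hst
  refine ⟨fun hab => hv (central_free hρ hirr (mem_center_iff.2 fun a => hab a g) hg1' (mem_St.1 hg)), ?_⟩
  rintro n ⟨e⟩
  rcases eq_or_ne n 0 with rfl | hn
  · haveI : Finite (QuaternionGroup 0) := Finite.of_equiv G e.toEquiv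
    haveI : Finite (ZMod (2 * 0)) := Finite.of_injective (QuaternionGroup.a (n := 0)) fun a b h => by
      simpa using h
    exact absurd ‹Finite (ZMod (2 * 0))› (not_finite_iff_infinite.2 (inferInstanceAs (Infinite ℤ)))
  haveI : NeZero n := ⟨hn⟩
  have hp2 : p = 2 := by
    obtain ⟨N, hN⟩ := IsPGroup.iff_card.1 hG
    rw [Nat.card_congr e.toEquiv, Nat.card_eq_fintype_card, QuaternionGroup.card] at hN
    have h2 : 2 ∣ p ^ N := ⟨2 * n, by omega⟩
    exact ((Nat.prime_dvd_prime_iff_eq Nat.prime_two Fact.out).1 (Nat.prime_two.dvd_of_dvd_pow h2)).symm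
  subst hp2
  have hd : 2 ∣ Nat.card (St ρ v) := (hG.to_subgroup _).card_eq_or_dvd.resolve_left fun h1 =>
    hst v hv (Subgroup.card_eq_one.1 h1)
  obtain ⟨⟨t, ht⟩, hto⟩ := exists_prime_orderOf_dvd_card' 2 hd
  rw [Subgroup.orderOf_mk] at hto
  refine hv (central_free hρ hirr (mem_center_iff.2 fun a => ?_) (fun h => ?_) (mem_St.1 ht))
  · have hat : orderOf (a * t * a⁻¹) = 2 := by
      rw [← MulAut.conj_apply, MulEquiv.orderOf_eq, hto]
    have := CfsgLib.ZStar.quaternion_unique_involution (x := e (a * t * a⁻¹)) (y := e t)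
      (by rw [MulEquiv.orderOf_eq, hat]) (by rw [MulEquiv.orderOf_eq, hto])
    exact mul_inv_eq_iff_eq_mul.1 (e.injective this)
  · rw [h, orderOf_one] at hto; omega

end CfsgLib.Recog.HalfTransitive
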