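import Cfsg.Agent.Lib.Recog.HalfTransitiveBasic

/-!
Half-transitive imprimitive linear `p`-groups.
-/

set_option autoImplicit false
set_option linter.all false

namespace CfsgLib.Recog.HalfTransitive

open Subgroup CfsgLib.Recog.PGroupImprimitive

variable {q : ℕ} [Fact q.Prime] {V : Type*} [AddCommGroup V] [Module (ZMod q) V] [Finite V]
  {G : Type*} [Group G] [Finite G] {p : ℕ} [Fact p.Prime] {ρ : G →* (V ≃ₗ[ZMod q] V)}

theorem fin2_ne : ∀ x i : Fin 2, x ≠ i → x = i + 1 := by decide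

theorem fin2_cases : ∀ i : Fin 2, i = 0 ∨ i = 1 := by decide

theorem pair_index {ι : Type*} [DecidableEq ι] {W : ι → Submodule (ZMod q) V} (hind : iSupIndep W)
    {i j k l : ι} (hij : i ≠ j) {a b c d : V} (ha : a ∈ W i) (hb : b ∈ W j) (hc : c ∈ W k) (hd : d ∈ W l)
    (ha0 : a ≠ 0) (h : a + b = c + d) : k = i ∨ l = i := by
  by_contra hno
  push Not at hno
  have hle : ∀ m, m ≠ i → W m ≤ ⨆ (m : ι) (_ : m ≠ i), W m := fun m hm => le_iSup₂ (f := fun m _ => W m) m hm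
  refine ha0 (Submodule.disjoint_def.1 (hind i) a ha ?_)
  rw [show a = c + d - b by rw [← h, add_sub_cancel_right]]
  exact Submodule.sub_mem _ (Submodule.add_mem _ (hle k hno.1 hc) (hle l hno.2 hd)) (hle j hij.symm hb)

theorem eq_of_pair {ι : Type*} [DecidableEq ι] {W : ι → Submodule (ZMod q) V} (hind : iSupIndep W)
    {i j : ι} (hij : i ≠ j) {a b c d : V} (ha : a ∈ W i) (hb : b ∈ W j) (hc : c ∈ W i) (hd : d ∈ W j)
    (h : a + b = c + d) : a = c ∧ b = d := by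
  have h1 : a = c := by
    refine sub_eq_zero.1 (Submodule.disjoint_def.1 (hind i) _ (Submodule.sub_mem _ ha hc) ?_)
    rw [show a - c = d - b by rw [sub_eq_sub_iff_add_eq_add, h, add_comm]]
    exact le_iSup₂ (f := fun m _ => W m) j hij.symm (Submodule.sub_mem _ hd hb)
  exact ⟨h1, by rw [h1] at h; exact add_left_cancel h⟩

theorem imprimitive [Nontrivial V] (hG : IsPGroup p G) (hρ : Function.Injective ρ)
    (hcard : ∀ v w : V, v ≠ 0 → w ≠ 0 → Nat.card (St ρ v) = Nat.card (St ρ w))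
    (hst : ∀ v : V, v ≠ 0 → St ρ v ≠ ⊥) (H : Subgroup G) (W : Fin p → Submodule (ZMod q) V)
    (hidx : H.index = p) (hsup : iSup W = ⊤) (hind : iSupIndep W)
    (hH : ∀ h ∈ H, ∀ i, ∀ w ∈ W i, ρ h w ∈ W i)
    (hout : ∀ g : G, g ∉ H → ∃ σ : Equiv.Perm (Fin p), orderOf σ = p ∧
      ∀ i, (W i).map (ρ g : V →ₗ[ZMod q] V) = W (σ i)) :
    (Nat.card V = q ^ 2 ∧ (∃ m : ℕ, q = 2 ^ m + 1) ∧
      ∃ e : V ≃ₗ[ZMod q] (Fin 2 → ZMod q), ∀ f : (Fin 2 → ZMod q) ≃ₗ[ZMod q] (Fin 2 → ZMod q),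
        (∃ g : G, f = e.symm.trans ((ρ g).trans e)) ↔
        ∃ a s : ZMod q, a ≠ 0 ∧ (s = 1 ∨ s = -1) ∧
          ((∀ v, f v = ![a * v 0, s * a⁻¹ * v 1]) ∨ (∀ v, f v = ![s * a⁻¹ * v 1, a * v 0]))) ∨
    (Nat.card V = 81 ∧ q = 3 ∧ p = 2) := by
  classical
  have hp := (Fact.out : p.Prime)
  haveI : NeZero p := ⟨hp.ne_zero⟩
  haveI : Fact (1 < p) := ⟨hp.one_lt⟩
  have hqp := char_ne_p hG hρ hcard hst
  obtain ⟨g₀, hg₀⟩ : ∃ g₀, g₀ ∉ H := by
    by_contra h
    push Not at h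
    rw [show H = ⊤ from eq_top_iff.2 fun g _ => h g, Subgroup.index_top] at hidx
    exact hp.ne_one hidx.symm
  have hmap : ∀ (g : G), g ∉ H → ∃ σ : Equiv.Perm (Fin p), orderOf σ = p ∧ ∀ i, ∀ w ∈ W i, ρ g w ∈ W (σ i) := by
    intro g hg
    obtain ⟨σ, hσ, h⟩ := hout g hg
    exact ⟨σ, hσ, fun i w hw => (h i).le ⟨w, hw, rfl⟩⟩
  -- a permutation of order `p` on `p` points has no fixed point
  have hnofix : ∀ σ : Equiv.Perm (Fin p), orderOf σ = p → ∀ i, σ i ≠ i := by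
    intro σ hσ i hi
    have hP : IsPGroup p (zpowers σ) := IsPGroup.of_card (n := 1) (by rw [Nat.card_zpowers, hσ, pow_one])
    have hfx : i ∈ MulAction.fixedPoints (zpowers σ) (Fin p) := by
      intro x
      have hle : zpowers σ ≤ MulAction.stabilizer (Equiv.Perm (Fin p)) i := zpowers_le.2 hi
      exact hle x.2
    have hmod := hP.card_modEq_card_fixedPoints (α := Fin p)
    rw [Nat.card_fin] at hmod
    have hd : p ∣ Nat.card (MulAction.fixedPoints (zpowers σ) (Fin p)) :=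
      Nat.modEq_zero_iff_dvd.1 (hmod.symm.trans (Nat.modEq_zero_iff_dvd.2 dvd_rfl))
    haveI : Nonempty (MulAction.fixedPoints (zpowers σ) (Fin p)) := ⟨⟨i, hfx⟩⟩
    have hle := Nat.le_of_dvd Nat.card_pos hd
    have hall : ∀ j, σ j = j := by
      have htop : MulAction.fixedPoints (zpowers σ) (Fin p) = Set.univ := by
        refine Set.eq_of_subset_of_ncard_le (Set.subset_univ _) ?_ (Set.toFinite _)
        rw [Set.ncard_univ, Nat.card_fin, ← Nat.card_coe_set_eq]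
        exact hle
      intro j
      exact (htop.ge (Set.mem_univ j)) (⟨σ, mem_zpowers σ⟩ : zpowers σ)
    rw [show σ = 1 from Equiv.ext hall, orderOf_one] at hσ
    exact hp.ne_one hσ.symm
  have hadd0 : ∀ {i j : Fin p}, i ≠ j → ∀ {a b : V}, a ∈ W i → b ∈ W j → a ≠ 0 → a + b ≠ 0 := by
    intro i j hij a b ha hb ha0 h
    exact ha0 (eq_of_pair hind hij ha hb (zero_mem _) (zero_mem _) (by rw [h, add_zero])).1
  -- fixing `a + b`
  have hfixpair : ∀ i j : Fin p, i ≠ j → ∀ a ∈ W i, ∀ b ∈ W j, a ≠ 0 → b ≠ 0 → ∀ g ∈ St ρ (a + b),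
      (g ∈ H ∧ g ∈ St ρ a ∧ g ∈ St ρ b) ∨ (g ∉ H ∧ p = 2 ∧ ρ g a = b ∧ ρ g b = a) := by
    intro i j hij a ha b hb ha0 hb0 g hg
    have hfix : ρ g a + ρ g b = a + b := by rw [← map_add]; exact mem_St.1 hg
    by_cases hgH : g ∈ H
    · obtain ⟨h1, h2⟩ := eq_of_pair hind hij (hH g hgH i a ha) (hH g hgH j b hb) ha hb hfix
      exact Or.inl ⟨hgH, h1, h2⟩
    obtain ⟨σ, hσ, hm⟩ := hmap g hgH
    have hga : ρ g a ≠ 0 := (ρ g).map_eq_zero_iff.not.2 ha0
    have hgb : ρ g b ≠ 0 := (ρ g).map_eq_zero_iff.not.2 hb0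
    have hsij : σ i ≠ σ j := σ.injective.ne hij
    have hi' : σ i = j := by
      rcases pair_index hind hsij (hm i a ha) (hm j b hb) ha hb hga hfix with h | h
      · exact absurd h.symm (hnofix σ hσ i)
      · exact h.symm
    have hj' : σ j = i := by
      rcases pair_index hind hsij.symm (hm j b hb) (hm i a ha) ha hb hgb (by rw [← hfix, add_comm]) with h | h
      · exact h.symm
      · exact absurd h.symm (hnofix σ hσ j)
    have hp2 : p = 2 := by
      by_contra hp2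
      refine hnofix (σ ^ 2) ?_ i (by rw [pow_two, Equiv.Perm.mul_apply, hi', hj'])
      rw [Nat.Coprime.orderOf_pow (by rw [hσ]; exact (Nat.coprime_primes hp Nat.prime_two).2 hp2), hσ]
    obtain ⟨h1, h2⟩ := eq_of_pair hind hij (hj' ▸ hm j b hb) (hi' ▸ hm i a ha) ha hb (by rw [← hfix, add_comm])
    exact Or.inr ⟨hgH, hp2, h2, h1⟩
  -- either the stabilisers agree or the vectors are swapped
  have hswap : ∀ i j : Fin p, i ≠ j → ∀ a ∈ W i, ∀ b ∈ W j, a ≠ 0 → b ≠ 0 →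
      St ρ a = St ρ b ∨ ∃ g, g ∉ H ∧ ρ g a = b ∧ ρ g b = a := by
    intro i j hij a ha b hb ha0 hb0
    by_cases h : ∀ g ∈ St ρ (a + b), g ∈ H
    · left
      have hk : ∀ g ∈ St ρ (a + b), g ∈ St ρ a ∧ g ∈ St ρ b := fun g hg =>
        (hfixpair i j hij a ha b hb ha0 hb0 g hg).elim (fun h' => h'.2) fun h' => absurd (h g hg) h'.1
      have h0 := hadd0 hij ha hb ha0
      exact (eq_of_le_of_card_ge (fun g hg => (hk g hg).1) (hcard _ _ h0 ha0).ge).symm.trans
        (eq_of_le_of_card_ge (fun g hg => (hk g hg).2) (hcard _ _ h0 hb0).ge)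
    · push Not at h
      obtain ⟨g, hg, hgH⟩ := h
      rcases hfixpair i j hij a ha b hb ha0 hb0 g hg with h' | h'
      · exact absurd h'.1 hgH
      · exact Or.inr ⟨g, hgH, h'.2.2⟩
  have hne : ∀ i, ∃ w ∈ W i, w ≠ 0 := by
    intro i
    refine Submodule.exists_mem_ne_zero_of_ne_bot fun hb => ?_
    obtain ⟨j, hj⟩ : ∃ j, W j ≠ ⊥ := by
      by_contra h
      push Not at h
      rw [show iSup W = ⊥ from iSup_eq_bot.2 h] at hsup
      exact bot_ne_top hsup
    obtain ⟨σ, hσ, hWσ⟩ := hout g₀ hg₀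
    -- the orbit of the permutation covers all blocks
    have hall : ∀ n : ℕ, W ((σ ^ n) i) = ⊥ := by
      intro n
      induction n with
      | zero => exact hb
      | succ n ih => rw [pow_succ', Equiv.Perm.mul_apply, ← hWσ, ih, Submodule.map_bot]
    have hinj : Function.Injective (fun n : Fin p => (σ ^ (n : ℕ)) i) := by
      intro m n hmn
      by_contra hne
      wlog hlt : (m : ℕ) < n generalizing m n
      · exact this hmn.symm (Ne.symm hne) (by have := Fin.val_ne_of_ne hne; omega)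
      have h1 : (σ ^ ((n : ℕ) - m)) i = i := by
        apply (σ ^ (m : ℕ)).injective
        show (σ ^ (m : ℕ) * σ ^ ((n : ℕ) - m)) i = (σ ^ (m : ℕ)) i
        rw [← pow_add, Nat.add_sub_cancel' hlt.le]
        exact hmn.symm
      refine hnofix (σ ^ ((n : ℕ) - m)) ?_ i h1
      rw [Nat.Coprime.orderOf_pow, hσ]
      rw [hσ]
      refine (hp.coprime_iff_not_dvd).2 fun hd => ?_
      have := Nat.le_of_dvd (by omega) hd
      have := n.isLt
      omega
    obtain ⟨n, hn⟩ := (Finite.injective_iff_surjective.1 hinj) j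
    exact hj (hn ▸ hall n)
  -- stabilisers of vectors in a block lie in `H`
  have hStH : ∀ i, ∀ a ∈ W i, a ≠ 0 → St ρ a ≤ H := by
    intro i a ha ha0 g hg
    by_contra hgH
    obtain ⟨σ, hσ, hm⟩ := hmap g hgH
    refine ha0 (Submodule.disjoint_def.1 (hind i) a ha ?_)
    have := hm i a ha
    rw [mem_St.1 hg] at this
    exact le_iSup₂ (f := fun m _ => W m) (σ i) (hnofix σ hσ i) this
  -- not all stabilisers agree
  have hnotall : ∀ K : Subgroup G, (∀ i, ∀ a ∈ W i, a ≠ 0 → K ≤ St ρ a) → K = ⊥ := by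
    intro K hK
    refine (Subgroup.eq_bot_iff_forall _).2 fun g hg => hρ (LinearEquiv.ext fun v => ?_)
    rw [one_act]
    have hle : iSup W ≤ fixed ρ g := iSup_le fun i a ha => by
      rcases eq_or_ne a 0 with rfl | ha0
      · exact zero_mem _
      · exact mem_fixed.2 (mem_St.1 (hK i a ha ha0 hg))
    rw [hsup] at hle
    exact mem_fixed.1 (hle Submodule.mem_top)
  have h01 : (0 : Fin p) ≠ 1 := fun h => by
    have h' := congrArg Fin.val h
    rw [Fin.val_zero, Fin.val_one', Nat.mod_eq_of_lt hp.one_lt] at h'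
    omega
  obtain ⟨a₀, ha₀, ha₀0⟩ := hne 0
  obtain ⟨b₁, hb₁, hb₁0⟩ := hne 1
  by_cases hp2 : p ≠ 2
  · exfalso
    have heq : ∀ i j : Fin p, i ≠ j → ∀ a ∈ W i, ∀ b ∈ W j, a ≠ 0 → b ≠ 0 → St ρ a = St ρ b := by
      intro i j hij a ha b hb ha0 hb0
      rcases hswap i j hij a ha b hb ha0 hb0 with h | ⟨g, hgH, hga, hgb⟩
      · exact h
      · exfalso
        rcases hfixpair i j hij a ha b hb ha0 hb0 g (by rw [mem_St, map_add, hga, hgb, add_comm]) with h' | h'
        · exact hgH h'.1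
        · exact hp2 h'.2.1
    refine hst a₀ ha₀0 (hnotall _ fun i a ha ha0 => ?_)
    by_cases hi : i = 0
    · subst hi
      exact ((heq 0 1 h01 a₀ ha₀ b₁ hb₁ ha₀0 hb₁0).trans (heq 0 1 h01 a ha b₁ hb₁ ha0 hb₁0).symm).le
    · exact (heq 0 i (Ne.symm hi) a₀ ha₀ a ha ha₀0 ha0).le
  push Not at hp2
  subst hp2
  have hfin2 : ∀ i : Fin 2, i = 0 ∨ i = 1 := fin2_cases
  have hg₀W : ∀ i, ∀ w ∈ W i, ρ g₀ w ∈ W (i + 1) := by
    obtain ⟨σ, hσ, hm⟩ := hmap g₀ hg₀
    intro i w hw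
    have hi : σ i = i + 1 := fin2_ne _ _ (hnofix σ hσ i)
    exact hi ▸ hm i w hw
  have hg₀W' : ∀ i, ∀ w ∈ W i, ρ g₀⁻¹ w ∈ W (i + 1) := by
    obtain ⟨σ, hσ, hm⟩ := hmap g₀⁻¹ (fun h => hg₀ (inv_mem_iff.1 h))
    intro i w hw
    have hi : σ i = i + 1 := fin2_ne _ _ (hnofix σ hσ i)
    exact hi ▸ hm i w hw
  set A := W 0
  set B := W 1
  set K := St ρ a₀
  -- the vectors of `B` with the same stabiliser form a proper subspace
  let F : Submodule (ZMod q) V :=
    { carrier := {b | b ∈ B ∧ ∀ g ∈ K, ρ g b = b}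
      add_mem' := fun {x y} hx hy => ⟨add_mem hx.1 hy.1, fun g hg => by rw [map_add, hx.2 g hg, hy.2 g hg]⟩
      zero_mem' := ⟨zero_mem _, fun g _ => map_zero _⟩
      smul_mem' := fun c x hx => ⟨B.smul_mem c hx.1, fun g hg => by rw [map_smul, hx.2 g hg]⟩ }
  have hFlt : F < B := by
    refine lt_of_le_of_ne (fun b hb => hb.1) fun he => ?_
    refine hst a₀ ha₀0 (hnotall _ fun i a ha ha0 => ?_)
    have hB : ∀ b ∈ B, b ≠ 0 → K = St ρ b := fun b hb hb0 =>
      eq_of_le_of_card_ge (fun g hg => mem_St.2 ((he.ge hb).2 g hg)) (hcard _ _ hb0 ha₀0).le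
    rcases hfin2 i with rfl | rfl
    swap
    · exact (hB a ha ha0).le
    -- a vector of `A`
    rcases hswap 0 1 h01 a ha b₁ hb₁ ha0 hb₁0 with h | ⟨g, hgH, hga, hgb⟩
    · exact ((hB b₁ hb₁ hb₁0).trans h.symm).le
    · -- then the stabiliser is normalised
      obtain ⟨σ, hσ, hm⟩ := hmap g hgH
      have hσ0 : σ 0 = 1 := (fin2_ne _ _ (hnofix σ hσ 0)).trans (zero_add 1)
      have key : ∀ a' ∈ A, a' ≠ 0 → ∀ k ∈ K, g⁻¹ * k * g ∈ St ρ a' := by
        intro a' ha' ha'0 k hk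
        have hb' : ρ g a' ∈ B := by
          have h := hm 0 a' ha'
          rwa [hσ0] at h
        rw [mem_St, mul_act, mul_act, (he.ge hb').2 k hk, ← mul_act, inv_mul_cancel, one_act]
      have hconj : ∀ a' ∈ A, a' ≠ 0 → St ρ a' = K.map (MulAut.conj g⁻¹).toMonoidHom := fun a' ha' ha'0 =>
        (eq_of_le_of_card_ge (by
          rintro _ ⟨k, hk, rfl⟩
          show g⁻¹ * k * g⁻¹⁻¹ ∈ _
          rw [inv_inv]
          exact key a' ha' ha'0 k hk)
          (by rw [Subgroup.card_map_of_injective (MulAut.conj g⁻¹).injective]; exact (hcard _ _ ha'0 ha₀0).le)).symm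
      exact ((hconj a₀ ha₀ ha₀0).trans (hconj a ha ha0).symm).le
  -- `H` is transitive on the non-zero vectors of `A`
  have hHsmul : ∀ g ∉ H, g₀⁻¹ * g ∈ H := fun g hg =>
    (Subgroup.mul_mem_iff_of_index_two hidx).2 (iff_of_false (fun h => hg₀ (inv_mem_iff.1 h)) hg)
  have hbig : ∀ b ∈ B, b ∉ F → ∃ h ∈ H, ρ h a₀ = ρ g₀⁻¹ b := by
    intro b hb hbF
    have hb0 : b ≠ 0 := fun h => hbF (h ▸ zero_mem F)
    rcases hswap 0 1 h01 a₀ ha₀ b hb ha₀0 hb0 with h | ⟨g, hgH, hga, -⟩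
    · exact absurd ⟨hb, fun k hk => mem_St.1 (h.le hk)⟩ hbF
    · exact ⟨g₀⁻¹ * g, hHsmul g hgH, by rw [mul_act, hga]⟩
  have horb : ∀ a ∈ A, a ≠ 0 → Nat.card {u : V | ∃ h ∈ H, ρ h a = u} * Nat.card K = Nat.card H := by
    intro a ha ha0
    have h1 := card_orbit_mul_card_St (ρ.comp H.subtype) a
    have e1 : {u : V | ∃ g : H, (ρ.comp H.subtype) g a = u} = {u : V | ∃ h ∈ H, ρ h a = u} := by
      ext u; exact ⟨fun ⟨g, hg⟩ => ⟨g, g.2, hg⟩, fun ⟨h, hh, hu⟩ => ⟨⟨h, hh⟩, hu⟩⟩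
    rw [e1] at h1
    rw [← h1, ← hcard a a₀ ha0 ha₀0]
    congr 1
    exact (Nat.card_congr (subgroupOfEquivOfLe (hStH 0 a ha ha0)).toEquiv).symm
  have hsubA : ∀ a ∈ A, {u : V | ∃ h ∈ H, ρ h a = u} ⊆ (A : Set V) \ {0} ∨ a = 0 := by
    intro a ha
    by_cases ha0 : a = 0
    · exact Or.inr ha0
    left
    rintro u ⟨h, hh, rfl⟩
    exact ⟨hH h hh 0 a ha, (ρ h).map_eq_zero_iff.not.2 ha0⟩
  have hcAB : (B : Set V).ncard = (A : Set V).ncard := by
    refine le_antisymm ?_ ?_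
    · exact Set.ncard_le_ncard_of_injOn (ρ g₀⁻¹) (fun b hb => (hg₀W' 1 b hb : ρ g₀⁻¹ b ∈ W (1 + 1)))
        (ρ g₀⁻¹).injective.injOn (Set.toFinite _)
    · exact Set.ncard_le_ncard_of_injOn (ρ g₀) (fun a ha => (hg₀W 0 a ha : ρ g₀ a ∈ W (0 + 1)))
        (ρ g₀).injective.injOn (Set.toFinite _)
  haveI : Module.Finite (ZMod q) V := Module.Finite.of_finite
  have hcsub : ∀ S : Submodule (ZMod q) V, (S : Set V).ncard = q ^ Module.finrank (ZMod q) S := fun S => by
    rw [← Nat.card_coe_set_eq]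
    exact (Module.natCard_eq_pow_finrank (K := ZMod q) (V := S)).trans (by rw [Nat.card_zmod])
  have hFB : q * (F : Set V).ncard ≤ (B : Set V).ncard := by
    rw [hcsub, hcsub, ← pow_succ']
    exact Nat.pow_le_pow_right (Fact.out : q.Prime).pos (Submodule.finrank_lt_finrank_of_lt hFlt)
  have htrans : ∀ a ∈ A, a ≠ 0 → ∃ h ∈ H, ρ h a₀ = a := by
    intro a ha ha0
    by_contra hno
    push Not at hno
    set O₀ := {u : V | ∃ h ∈ H, ρ h a₀ = u}
    set O := {u : V | ∃ h ∈ H, ρ h a = u}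
    have hdis : Disjoint O₀ O := Set.disjoint_left.2 fun u ⟨h, hh, hu⟩ ⟨h', hh', hu'⟩ =>
      hno (h'⁻¹ * h) (mul_mem (inv_mem hh') hh) (by rw [mul_act, hu, ← hu', ← mul_act, inv_mul_cancel, one_act])
    have hsz : O.ncard = O₀.ncard := by
      rw [← Nat.card_coe_set_eq, ← Nat.card_coe_set_eq]
      exact Nat.eq_of_mul_eq_mul_right Nat.card_pos ((horb a ha ha0).trans (horb a₀ ha₀ ha₀0).symm)
    have h1 : (O₀ ∪ O).ncard ≤ ((A : Set V) \ {0}).ncard := Set.ncard_le_ncard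
      (Set.union_subset ((hsubA a₀ ha₀).resolve_right ha₀0) ((hsubA a ha).resolve_right ha0)) (Set.toFinite _)
    rw [Set.ncard_union_eq hdis, hsz, Set.ncard_diff_singleton_of_mem (zero_mem A)] at h1
    have h2 : ((B : Set V) \ (F : Set V)).ncard ≤ O₀.ncard := by
      refine Set.ncard_le_ncard_of_injOn (ρ g₀⁻¹) (fun b hb => ?_) (ρ g₀⁻¹).injective.injOn (Set.toFinite _)
      obtain ⟨h, hh, e⟩ := hbig b hb.1 hb.2
      exact ⟨h, hh, e⟩
    rw [Set.ncard_diff (fun b hb => hb.1) (Set.toFinite _)] at h2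
    have hq := (Fact.out : q.Prime).two_le
    have h3 : 2 * (F : Set V).ncard ≤ (B : Set V).ncard := le_trans (Nat.mul_le_mul_right _ hq) hFB
    have h4 : 0 < (A : Set V).ncard := (Set.ncard_pos (Set.toFinite _)).2 ⟨0, zero_mem A⟩
    omega
  -- the restriction to `A`
  have hq2 : q ≠ 2 := hqp
  have hVcard : Nat.card V = Nat.card A * Nat.card A := by
    have hAB : IsCompl A B := by
      refine ⟨Submodule.disjoint_def.2 fun x hx hx' => ?_, codisjoint_iff.2 (eq_top_iff.2 ?_)⟩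
      · exact Submodule.disjoint_def.1 (hind 0) x hx (le_iSup₂ (f := fun m _ => W m) (1 : Fin 2) h01.symm hx')
      · rw [← hsup]
        refine iSup_le fun i => ?_
        rcases hfin2 i with rfl | rfl
        exacts [le_sup_left, le_sup_right]
    rw [← Nat.card_congr (Submodule.prodEquivOfIsCompl A B hAB).toEquiv, Nat.card_prod]
    congr 1
  let r : H →* (A ≃ₗ[ZMod q] A) :=
    { toFun := fun h => LinearEquiv.ofLinear
        ((ρ (h : G) : V →ₗ[ZMod q] V).restrict fun x hx => hH h h.2 0 x hx)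
        ((ρ (h : G)⁻¹ : V →ₗ[ZMod q] V).restrict fun x hx => hH _ (inv_mem h.2) 0 x hx)
        (LinearMap.ext fun x => Subtype.ext (by
          show ρ (h : G) (ρ (h : G)⁻¹ x) = x
          rw [← mul_act, mul_inv_cancel, one_act]))
        (LinearMap.ext fun x => Subtype.ext (by
          show ρ (h : G)⁻¹ (ρ (h : G) x) = x
          rw [← mul_act, inv_mul_cancel, one_act]))
      map_one' := LinearEquiv.ext fun x => Subtype.ext (one_act ρ x)
      map_mul' := fun g h => LinearEquiv.ext fun x => Subtype.ext (mul_act ρ g h x) }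
  haveI : Finite (A ≃ₗ[ZMod q] A) := Finite.of_injective _ LinearEquiv.toEquiv_injective
  haveI : Nontrivial A := ⟨⟨⟨a₀, ha₀⟩, 0, fun h => ha₀0 (congrArg Subtype.val h)⟩⟩
  have hRnt : Nontrivial r.range := by
    by_contra hnt
    rw [not_nontrivial_iff_subsingleton] at hnt
    -- then `A` has two vectors
    have h2 : ∀ x : A, x = 0 ∨ x = ⟨a₀, ha₀⟩ := by
      intro x
      by_cases hx : (x : V) = 0
      · exact Or.inl (Subtype.ext hx)
      · obtain ⟨h, hh, e⟩ := htrans x x.2 hx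
        right
        refine Subtype.ext ?_
        have h1 : (⟨r ⟨h, hh⟩, ⟨_, rfl⟩⟩ : r.range) = ⟨1, one_mem _⟩ := Subsingleton.elim _ _
        have h3 := congrArg (fun f : r.range => (((f : A ≃ₗ[ZMod q] A) ⟨a₀, ha₀⟩ : A) : V)) h1
        rw [← e]
        exact h3
    have hc : Nat.card A ≤ 2 := by
      have : Function.Surjective (fun b : Bool => if b then (⟨a₀, ha₀⟩ : A) else 0) := fun x => by
        rcases h2 x with h | h
        exacts [⟨false, h.symm⟩, ⟨true, h.symm⟩]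
      simpa using Nat.card_le_card_of_surjective _ this
    have h1 := hcsub A
    rw [← Nat.card_coe_set_eq] at h1
    change Nat.card A = _ at h1
    have h3 : 1 ≤ Module.finrank (ZMod q) A := Module.finrank_pos
    have := Nat.pow_le_pow_right (Fact.out : q.Prime).pos h3
    have := (Fact.out : q.Prime).two_le
    rw [pow_one] at *
    omega
  have hRtrans : ∀ v w : A, v ≠ 0 → w ≠ 0 → ∃ g : r.range, r.range.subtype g v = w := by
    intro v w hv hw
    obtain ⟨h₁, hh₁, e₁⟩ := htrans v v.2 (fun h => hv (Subtype.ext h))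
    obtain ⟨h₂, hh₂, e₂⟩ := htrans w w.2 (fun h => hw (Subtype.ext h))
    refine ⟨⟨r ⟨h₂ * h₁⁻¹, mul_mem hh₂ (inv_mem hh₁)⟩, _, rfl⟩, Subtype.ext ?_⟩
    show ρ (h₂ * h₁⁻¹) (v : V) = w
    rw [mul_act, ← e₁, ← mul_act ρ h₁⁻¹, inv_mul_cancel, one_act, e₂]
  have hRp : IsPGroup 2 r.range :=
    (hG.to_subgroup H).of_surjective r.rangeRestrict r.rangeRestrict_surjective
  rcases CfsgLib.Recog.PGroupTransitive.classification q 2 hRp r.range.subtype (Subgroup.subtype_injective _)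
      hRtrans with ⟨h, -⟩ | ⟨-, hAq, ⟨m, hqm, -⟩, -⟩ | ⟨-, hq3, hA9, -⟩
  · exact absurd h hq2
  swap
  · right
    exact ⟨by rw [hVcard, hA9], hq3, rfl⟩
  left
  refine ⟨by rw [hVcard, hAq, pow_two], ⟨m, hqm⟩, ?_⟩
  -- both blocks are lines
  have hfA : Module.finrank (ZMod q) A = 1 := by
    have h := Module.natCard_eq_pow_finrank (K := ZMod q) (V := A)
    rw [hAq, Nat.card_zmod] at h
    exact (Nat.pow_right_injective (Fact.out : q.Prime).two_le (h.symm.trans (pow_one q).symm))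
  have hfB : Module.finrank (ZMod q) B = 1 := by
    have h : q ^ Module.finrank (ZMod q) B = q ^ 1 := by rw [← hcsub B, hcAB, hcsub A, hfA]
    exact Nat.pow_right_injective (Fact.out : q.Prime).two_le h
  have hlineA : ∀ x ∈ A, ∃ c : ZMod q, c • a₀ = x := fun x hx => by
    obtain ⟨c, hc⟩ := exists_smul_eq_of_finrank_eq_one hfA
      (x := (⟨a₀, ha₀⟩ : A)) (fun h => ha₀0 (congrArg Subtype.val h)) ⟨x, hx⟩
    exact ⟨c, congrArg Subtype.val hc⟩
  have hlineB : ∀ x ∈ B, ∃ c : ZMod q, c • b₁ = x := fun x hx => by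
    obtain ⟨c, hc⟩ := exists_smul_eq_of_finrank_eq_one hfB
      (x := (⟨b₁, hb₁⟩ : B)) (fun h => hb₁0 (congrArg Subtype.val h)) ⟨x, hx⟩
    exact ⟨c, congrArg Subtype.val hc⟩
  have hFbot : ∀ b ∈ B, b ≠ 0 → b ∉ F := by
    intro b hb hb0 hbF
    refine hFlt.ne (le_antisymm (fun x hx => hx.1) fun x hx => ?_)
    obtain ⟨c, rfl⟩ := hlineB b hb
    obtain ⟨d, rfl⟩ := hlineB x hx
    have hc : c ≠ 0 := fun h => hb0 (by rw [h, zero_smul])
    have := F.smul_mem (d * c⁻¹) hbF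
    rwa [smul_smul, inv_mul_cancel_right₀ hc] at this
  have hswapB : ∀ b ∈ B, b ≠ 0 → ∃ g, g ∉ H ∧ ρ g a₀ = b ∧ ρ g b = a₀ := fun b hb hb0 =>
    (hswap 0 1 h01 a₀ ha₀ b hb ha₀0 hb0).resolve_left fun h =>
      hFbot b hb hb0 ⟨hb, fun k hk => mem_St.1 (h.le hk)⟩
  -- the basis
  let e' : (Fin 2 → ZMod q) →ₗ[ZMod q] V :=
    { toFun := fun v => v 0 • a₀ + v 1 • b₁
      map_add' := fun v w => by simp only [Pi.add_apply, add_smul]; abel
      map_smul' := fun c v => by simp [smul_add, smul_smul] }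
  have he' : Function.Bijective e' := by
    refine (Nat.bijective_iff_injective_and_card _).2 ⟨(injective_iff_map_eq_zero _).2 fun v hv => ?_, ?_⟩
    · have h := eq_of_pair hind h01 (A.smul_mem (v 0) ha₀) (B.smul_mem (v 1) hb₁) (zero_mem (W 0)) (zero_mem (W 1))
        (by rw [add_zero]; exact hv)
      funext i
      rcases hfin2 i with rfl | rfl
      · exact (smul_eq_zero.1 h.1).resolve_right ha₀0
      · exact (smul_eq_zero.1 h.2).resolve_right hb₁0
    · rw [Nat.card_fun, Nat.card_fin, Nat.card_zmod, hVcard, hAq, pow_two]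
  let e : V ≃ₗ[ZMod q] (Fin 2 → ZMod q) := (LinearEquiv.ofBijective e' he').symm
  refine ⟨e, ?_⟩
  have hesymm : ∀ v, e.symm v = v 0 • a₀ + v 1 • b₁ := fun v => rfl
  -- the shape of the elements
  have hshapeH : ∀ h ∈ H, ∃ α β : ZMod q, α ≠ 0 ∧ ρ h a₀ = α • a₀ ∧ ρ h b₁ = β • b₁ := by
    intro h hh
    obtain ⟨α, hα⟩ := hlineA _ (hH h hh 0 a₀ ha₀)
    obtain ⟨β, hβ⟩ := hlineB _ (hH h hh 1 b₁ hb₁)
    exact ⟨α, β, fun h0 => ha₀0 ((ρ h).map_eq_zero_iff.1 (by rw [← hα, h0, zero_smul])), hα.symm, hβ.symm⟩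
  obtain ⟨t, htH, hta, htb⟩ := hswapB b₁ hb₁ hb₁0
  have hdiag : ∀ c : ZMod q, c ≠ 0 → ∃ h ∈ H, ρ h a₀ = c • a₀ ∧ ρ h b₁ = c⁻¹ • b₁ := by
    intro c hc
    obtain ⟨g, hgH, hga, hgb⟩ := hswapB (c • b₁) (B.smul_mem c hb₁) (smul_ne_zero hc hb₁0)
    refine ⟨t * g, (Subgroup.mul_mem_iff_of_index_two hidx).2 (iff_of_false htH hgH), ?_, ?_⟩
    · rw [mul_act, hga, map_smul, htb]
    · rw [map_smul] at hgb
      rw [mul_act, show ρ g b₁ = c⁻¹ • a₀ by rw [← hgb, smul_smul, inv_mul_cancel₀ hc, one_smul], map_smul, hta]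
  -- the stabiliser of `a₀` is `{1, diag(1,-1)}`
  have hv0 : a₀ + b₁ ≠ 0 := hadd0 h01 ha₀ hb₁ ha₀0
  have hk2 : Nat.card K ≤ 2 := by
    rw [hcard _ _ ha₀0 hv0]
    have hsub : ∀ g ∈ St ρ (a₀ + b₁), g ∈ H → g = 1 := by
      intro g hg hgH
      rcases hfixpair 0 1 h01 a₀ ha₀ b₁ hb₁ ha₀0 hb₁0 g hg with ⟨-, h1, h2⟩ | h
      · refine hρ (LinearEquiv.ext fun x => ?_)
        rw [one_act, ← e.symm_apply_apply x, hesymm, map_add, map_smul, map_smul, mem_St.1 h1, mem_St.1 h2]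
      · exact absurd hgH h.1
    have hinj : Function.Injective (fun g : St ρ (a₀ + b₁) => decide ((g : G) ∈ H)) := by
      intro g g' h
      simp only [decide_eq_decide] at h
      exact Subtype.ext (inv_mul_eq_one.1 (hsub _ (mul_mem (inv_mem g.2) g'.2)
        ((Subgroup.mul_mem_iff_of_index_two hidx).2 (by rw [inv_mem_iff]; exact h))))
    simpa using Nat.card_le_card_of_injective _ hinj
  obtain ⟨⟨κ, hκ⟩, hκ1⟩ := Subgroup.ne_bot_iff_exists_ne_one.1 (hst a₀ ha₀0)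
  have hκ1' : κ ≠ 1 := fun h => hκ1 (Subtype.ext h)
  have hKall : ∀ g ∈ K, g = 1 ∨ g = κ := by
    intro g hg
    by_contra hno
    push Not at hno
    haveI := Fintype.ofFinite K
    have h3 : ({1, ⟨κ, hκ⟩, ⟨g, hg⟩} : Finset K).card = 3 := by
      rw [Finset.card_insert_of_notMem, Finset.card_insert_of_notMem, Finset.card_singleton]
      · simpa [Subtype.ext_iff] using Ne.symm hno.2
      · simp [Subtype.ext_iff, Ne.symm hκ1', Ne.symm hno.1]
    have := Finset.card_le_univ ({1, ⟨κ, hκ⟩, ⟨g, hg⟩} : Finset K)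
    rw [h3, ← Nat.card_eq_fintype_card] at this
    omega
  have hκH : κ ∈ H := hStH 0 a₀ ha₀ ha₀0 hκ
  have hκb : ρ κ b₁ = (-1 : ZMod q) • b₁ := by
    obtain ⟨α, β, -, -, hβ⟩ := hshapeH κ hκH
    have hκκ : κ * κ = 1 := (hKall _ (mul_mem hκ hκ)).resolve_right fun h => hκ1' (mul_eq_left.1 h)
    have h2 : (β * β) • b₁ = (1 : ZMod q) • b₁ := by
      rw [one_smul, ← smul_smul, ← hβ, ← map_smul, ← hβ, ← mul_act, hκκ, one_act]
    rcases mul_self_eq_one_iff.1 (smul_left_injective _ hb₁0 h2) with h | h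
    · exfalso
      refine hκ1' (hρ (LinearEquiv.ext fun x => ?_))
      rw [one_act, ← e.symm_apply_apply x, hesymm, map_add, map_smul, map_smul, mem_St.1 hκ, hβ, h, one_smul]
    · rw [hβ, h]
  have hprod : ∀ h ∈ H, ∀ α β : ZMod q, α ≠ 0 → ρ h a₀ = α • a₀ → ρ h b₁ = β • b₁ →
      β = α⁻¹ ∨ β = -α⁻¹ := by
    intro h hh α β hα h1 h2
    obtain ⟨d, hd, hd1, hd2⟩ := hdiag α hα
    have hmem : d⁻¹ * h ∈ K := by
      rw [mem_St, mul_act, h1, ← hd1, ← mul_act, inv_mul_cancel, one_act]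
    have hmul : ρ h b₁ = ρ d (ρ (d⁻¹ * h) b₁) := by rw [← mul_act, mul_inv_cancel_left]
    rcases hKall _ hmem with h' | h'
    · left
      rw [h', one_act, hd2, h2] at hmul
      exact smul_left_injective _ hb₁0 hmul
    · right
      rw [h', hκb, map_smul, hd2, h2, smul_smul, neg_one_mul] at hmul
      exact smul_left_injective _ hb₁0 hmul
  intro f
  have hf : ∀ g : G, ∀ v, (e.symm.trans ((ρ g).trans e)) v = e (ρ g (v 0 • a₀ + v 1 • b₁)) := fun g v => rfl
  have hco : ∀ x y : ZMod q, e (x • a₀ + y • b₁) = ![x, y] := fun x y => by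
    apply e.symm.injective
    rw [e.symm_apply_apply, hesymm]
    simp
  constructor
  · rintro ⟨g, rfl⟩
    by_cases hgH : g ∈ H
    · obtain ⟨α, β, hα, h1, h2⟩ := hshapeH g hgH
      rcases hprod g hgH α β hα h1 h2 with h | h
      · refine ⟨α, 1, hα, Or.inl rfl, Or.inl fun v => ?_⟩
        rw [hf, map_add, map_smul, map_smul, h1, h2, smul_smul, smul_smul, hco, h, mul_comm (v 0),
          mul_comm (v 1), one_mul]
      · refine ⟨α, -1, hα, Or.inr rfl, Or.inl fun v => ?_⟩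
        rw [hf, map_add, map_smul, map_smul, h1, h2, smul_smul, smul_smul, hco, h, mul_comm (v 0),
          mul_comm (v 1), neg_one_mul]
    · have htt : t * g ∈ H := (Subgroup.mul_mem_iff_of_index_two hidx).2 (iff_of_false htH hgH)
      obtain ⟨α, β, hα, h1, h2⟩ := hshapeH _ htt
      have ht2 : ∀ x, ρ t (ρ t x) = x := by
        intro x
        rw [← e.symm_apply_apply x, hesymm, map_add, map_smul, map_smul, hta, htb, map_add, map_smul, map_smul, htb, hta]
      have g1 : ρ g a₀ = α • b₁ := by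
        rw [← ht2 (ρ g a₀), ← mul_act ρ t g, h1, map_smul, hta]
      have g2 : ρ g b₁ = β • a₀ := by
        rw [← ht2 (ρ g b₁), ← mul_act ρ t g, h2, map_smul, htb]
      rcases hprod _ htt α β hα h1 h2 with h | h
      · refine ⟨α, 1, hα, Or.inl rfl, Or.inr fun v => ?_⟩
        rw [hf, map_add, map_smul, map_smul, g1, g2, smul_smul, smul_smul, add_comm, hco, h, mul_comm (v 0),
          mul_comm (v 1), one_mul]
      · refine ⟨α, -1, hα, Or.inr rfl, Or.inr fun v => ?_⟩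
        rw [hf, map_add, map_smul, map_smul, g1, g2, smul_smul, smul_smul, add_comm, hco, h, mul_comm (v 0),
          mul_comm (v 1), neg_one_mul]
  · rintro ⟨α, s, hα, hs, hcase⟩
    obtain ⟨d, hdH, hd1, hd2⟩ := hdiag α hα
    obtain ⟨k, hk1, hk2⟩ : ∃ k : G, ρ k a₀ = a₀ ∧ ρ k b₁ = s • b₁ := by
      rcases hs with rfl | rfl
      · exact ⟨1, one_act ρ _, by rw [one_act, one_smul]⟩
      · exact ⟨κ, mem_St.1 hκ, hκb⟩
    rcases hcase with h | h
    · refine ⟨d * k, LinearEquiv.ext fun v => ?_⟩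
      rw [hf, h, map_add, map_smul, map_smul, mul_act, mul_act, hk1, hk2, map_smul, hd1, hd2, smul_smul, smul_smul,
        smul_smul, hco]
      ext i
      rcases hfin2 i with rfl | rfl
      · simp [mul_comm]
      · simp only [Matrix.cons_val_one, Matrix.cons_val_fin_one]; ring
    · refine ⟨t * (d * k), LinearEquiv.ext fun v => ?_⟩
      rw [hf, h, map_add, map_smul, map_smul, mul_act, mul_act, mul_act, mul_act, hk1, hk2, map_smul, hd1, hd2,
        smul_smul, map_smul, map_smul, hta, htb, smul_smul, smul_smul, add_comm, hco]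
      ext i
      rcases hfin2 i with rfl | rfl
      · simp only [Matrix.cons_val_zero]; ring
      · simp [mul_comm]

end CfsgLib.Recog.HalfTransitive
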