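import Cfsg.Prelude.Def_Spor_Conway
import Cfsg.Agent.Lib.Sporadic.HsGraphAut
import Cfsg.Agent.Lib.Sporadic.MathieuTwoTwoAut

/-!
# The rank 3 group on 100 points with point stabiliser M22

A transitive action of M22 on 22 points is the natural one, so the stabiliser of two adjacent
points is transitive on the other neighbours of the first; hence the orbital graph has no
triangles, counting makes it strongly regular with parameters (100, 22, 0, 6), and the group is
the simple subgroup of index 2 in the automorphism group of the Higman–Sims graph.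
-/

set_option autoImplicit false
set_option linter.unusedSectionVars false

namespace CfsgLib.Recog.HigmanSimsRankThree

open Cfsg MulAction CfsgLib.Sporadic CfsgLib.Sporadic.MathieuAut CfsgLib.Sporadic.M22Aut
open scoped Pointwise

/-- M22 inside M24. -/
def toM24 : ↥Spor.M22 →* ↥M24 := Subgroup.inclusion (inf_le_left.trans inf_le_left)

/-- Every transitive action of M22 on 22 points is doubly transitive. -/
theorem m22_trans_rest {X : Type*} [MulAction ↥Spor.M22 X] [IsPretransitive ↥Spor.M22 X]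
    (hX : Nat.card X = 22) {b x y : X} (hx : x ≠ b) (hy : y ≠ b) :
    ∃ h : ↥Spor.M22, h • b = b ∧ h • x = y := by
  classical
  have hι : Function.Injective toM24 := Subgroup.inclusion_injective _
  have hcard : Nat.card ↥(stabilizer ↥Spor.M22 b) = 20160 := by
    have h := (stabilizer ↥Spor.M22 b).card_mul_index
    rw [index_stabilizer_of_transitive, card_sporM22, hX] at h
    omega
  obtain ⟨a, han, ha0, ha⟩ := eq_stabilizer_of_card_M22 ((stabilizer ↥Spor.M22 b).map toM24)
    (by
      rintro _ ⟨h, -, rfl⟩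
      exact ⟨(mem_M22.1 h.2).2.1, (mem_M22.1 h.2).2.2⟩)
    (by rw [Subgroup.card_map_of_injective hι, hcard])
  have hfix : ∀ h : ↥Spor.M22, h • b = b → (h : Equiv.Perm GolayPt) a = a := fun h hh =>
    ha ⟨h, hh, rfl⟩
  have hmove : ∀ z : X, ∃ g : ↥Spor.M22, g • b = z := fun z => exists_smul_eq _ b z
  choose t ht using hmove
  let F : X → {z : GolayPt // z ≠ none ∧ z ≠ some 0} := fun z => ⟨(t z : Equiv.Perm GolayPt) a,
    fun e => han ((t z : Equiv.Perm GolayPt).injective (e.trans (mem_M22.1 (t z).2).2.1.symm)),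
    fun e => ha0 ((t z : Equiv.Perm GolayPt).injective (e.trans (mem_M22.1 (t z).2).2.2.symm))⟩
  have hF : ∀ (g : ↥Spor.M22) (z : X), g • b = z → (g : Equiv.Perm GolayPt) a = (F z).1 := by
    intro g z hz
    have := hfix ((t z)⁻¹ * g) (by rw [mul_smul, hz]; exact inv_smul_eq_iff.2 (ht z).symm)
    rw [Subgroup.coe_mul, Equiv.Perm.mul_apply, Subgroup.coe_inv, Equiv.Perm.inv_eq_iff_eq] at this
    exact this
  have hequiv : ∀ (g : ↥Spor.M22) (z : X), (F (g • z)).1 = (g : Equiv.Perm GolayPt) (F z).1 := by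
    intro g z
    rw [← hF (g * t z) (g • z) (by rw [mul_smul, ht]), Subgroup.coe_mul, Equiv.Perm.mul_apply]
  have hsurj : Function.Surjective F := by
    intro c
    obtain ⟨g, hg⟩ := exists_map_list (xs := [none, some 0, a]) (ys := [none, some 0, c.1])
      (by simp [han.symm, ha0.symm]) (by simp [c.2.1.symm, c.2.2.symm]) rfl (by simp)
    simp only [List.map_cons, List.map_nil, List.cons.injEq, and_true] at hg
    exact ⟨(⟨g.1, mem_M22.2 ⟨g.2, hg.1, hg.2.1⟩⟩ : ↥Spor.M22) • b,
      Subtype.ext ((hF _ _ rfl).symm.trans hg.2.2)⟩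
  haveI : Finite X := Nat.finite_of_card_ne_zero (by omega)
  have hinj : Function.Injective F := (Nat.bijective_iff_surjective_and_card F |>.2 ⟨hsurj, by
    rw [hX, Nat.card_eq_fintype_card]; decide⟩).1
  have hb : (F b).1 = a := (hF 1 b (one_smul _ _)).symm
  obtain ⟨g, hg⟩ := exists_map_list (xs := [none, some 0, a, (F x).1]) (ys := [none, some 0, a, (F y).1])
    (by simp [han.symm, ha0.symm, (F x).2.1.symm, (F x).2.2.symm,
      show a ≠ (F x).1 from fun e => hx (hinj (Subtype.ext (e.symm.trans hb.symm)))])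
    (by simp [han.symm, ha0.symm, (F y).2.1.symm, (F y).2.2.symm,
      show a ≠ (F y).1 from fun e => hy (hinj (Subtype.ext (e.symm.trans hb.symm)))])
    rfl (by simp)
  simp only [List.map_cons, List.map_nil, List.cons.injEq, and_true] at hg
  refine ⟨⟨g.1, mem_M22.2 ⟨g.2, hg.1, hg.2.1⟩⟩, hinj (Subtype.ext ?_), hinj (Subtype.ext ?_)⟩
  · rw [hequiv, hb]; exact hg.2.2.1
  · rw [hequiv]; exact hg.2.2.2

section Graph

variable {Ω : Type*} [Fintype Ω] [DecidableEq Ω] (G : Subgroup (Equiv.Perm Ω))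

/-- The orbital graph relation of a suborbit. -/
def Rel (a b : Ω) (x y : Ω) : Prop :=
  ∃ g : ↥G, g • a = x ∧ g⁻¹ • y ∈ orbit ↥(stabilizer ↥G a) b

variable {G}

theorem rel_iff {a b x y : Ω} {g : ↥G} (hg : g • a = x) :
    Rel G a b x y ↔ g⁻¹ • y ∈ orbit ↥(stabilizer ↥G a) b := by
  refine ⟨fun ⟨g', hg', h⟩ => ?_, fun h => ⟨g, hg, h⟩⟩
  have hs : g⁻¹ * g' ∈ stabilizer ↥G a := by
    rw [mem_stabilizer_iff, mul_smul, hg', ← hg, inv_smul_smul]
  have := mem_orbit_of_mem_orbit (⟨g⁻¹ * g', hs⟩ : ↥(stabilizer ↥G a)) h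
  rwa [Subgroup.mk_smul, mul_smul, smul_inv_smul] at this

theorem rel_smul {a b x y : Ω} (h : ↥G) [IsPretransitive ↥G Ω] :
    Rel G a b (h • x) (h • y) ↔ Rel G a b x y := by
  obtain ⟨g, hg⟩ := exists_smul_eq (↥G) a x
  rw [rel_iff hg, rel_iff (g := h * g) (by rw [mul_smul, hg])]
  rw [mul_inv_rev, mul_smul, inv_smul_smul]

variable [IsPretransitive ↥G Ω]

/-- The group of the orbital graph is the Higman–Sims group. -/
theorem main (hΩ : Fintype.card Ω = 100) (a : Ω) (e : ↥(stabilizer ↥G a) ≃* ↥Spor.M22) (b c : Ω)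
    (hb : (orbit ↥(stabilizer ↥G a) b).ncard = 22) (hc : (orbit ↥(stabilizer ↥G a) c).ncard = 77) :
    ∃ (Γ : SimpleGraph Ω) (_ : DecidableRel Γ.Adj),
      Γ.IsSRGWith 100 22 0 6 ∧ ∃ f : ↥G →* (Γ ≃g Γ), Function.Injective f := by
  classical
  set S := stabilizer ↥G a with hSdef
  have hS : Nat.card ↥S = 443520 := by rw [Nat.card_congr e.toEquiv, card_sporM22]
  have horb_a : orbit ↥S a = {a} := by
    ext z
    refine ⟨?_, fun h => ?_⟩
    · rintro ⟨s, rfl⟩; exact s.2
    · rw [Set.mem_singleton_iff.1 h]; exact mem_orbit_self a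
  have hne : ∀ {u v : Ω}, (orbit ↥S u).ncard ≠ (orbit ↥S v).ncard → Disjoint (orbit ↥S u) (orbit ↥S v) := by
    intro u v h
    rw [Set.disjoint_left]
    intro z hu hv
    exact h (congrArg Set.ncard ((orbit_eq_iff.2 hu).symm.trans (orbit_eq_iff.2 hv)))
  have hab : a ∉ orbit ↥S b := fun h => by
    rw [← orbit_eq_iff.2 h, horb_a, Set.ncard_singleton] at hb; omega
  have hac : a ∉ orbit ↥S c := fun h => by
    rw [← orbit_eq_iff.2 h, horb_a, Set.ncard_singleton] at hc; omega
  have hbc : Disjoint (orbit ↥S b) (orbit ↥S c) := hne (by omega)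
  have hcover : ∀ z, z = a ∨ z ∈ orbit ↥S b ∨ z ∈ orbit ↥S c := by
    have h : insert a (orbit ↥S b ∪ orbit ↥S c) = Set.univ := by
      refine Set.eq_of_subset_of_ncard_le (Set.subset_univ _) ?_
      rw [Set.ncard_univ, Nat.card_eq_fintype_card, hΩ,
        Set.ncard_insert_of_notMem (by simp [hab, hac]), Set.ncard_union_eq hbc, hb, hc]
    intro z
    have hz : z ∈ insert a (orbit ↥S b ∪ orbit ↥S c) := h ▸ Set.mem_univ z
    simpa using hz
  -- the suborbit is self-paired
  have hpair : ∀ g : ↥G, g • a = b → g⁻¹ • a ∈ orbit ↥S b := by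
    intro g hg
    have hst : Nat.card ↥(stabilizer ↥S (g⁻¹ • a)) = Nat.card ↥(stabilizer ↥S b) := by
      refine Nat.card_congr
        { toFun := fun s => ⟨⟨g * s.1.1 * g⁻¹, ?_⟩, ?_⟩
          invFun := fun s => ⟨⟨g⁻¹ * s.1.1 * g, ?_⟩, ?_⟩
          left_inv := fun s => Subtype.ext (Subtype.ext (by group))
          right_inv := fun s => Subtype.ext (Subtype.ext (by group)) }
      · have h2 : s.1.1 • (g⁻¹ • a) = g⁻¹ • a := s.2
        show (g * s.1.1 * g⁻¹) • a = a
        rw [mul_smul, mul_smul, h2, smul_inv_smul]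
      · show (g * s.1.1 * g⁻¹) • b = b
        rw [← hg, mul_smul, mul_smul, inv_smul_smul, show s.1.1 • a = a from s.1.2]
      · have h2 : s.1.1 • b = b := s.2
        show (g⁻¹ * s.1.1 * g) • a = a
        rw [mul_smul, mul_smul, hg, h2, ← hg, inv_smul_smul]
      · show (g⁻¹ * s.1.1 * g) • (g⁻¹ • a) = g⁻¹ • a
        rw [mul_smul, mul_smul, smul_inv_smul, show s.1.1 • a = a from s.1.2]
    have h1 := (stabilizer ↥S (g⁻¹ • a)).card_mul_index
    rw [index_stabilizer, hst] at h1
    have h2 := (stabilizer ↥S b).card_mul_index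
    rw [index_stabilizer] at h2
    have hcd : (orbit ↥S (g⁻¹ • a)).ncard = 22 := by
      rw [← hb]
      exact Nat.eq_of_mul_eq_mul_left Nat.card_pos (h1.trans h2.symm)
    rcases hcover (g⁻¹ • a) with h | h | h
    · rw [h, horb_a, Set.ncard_singleton] at hcd; omega
    · exact h
    · rw [orbit_eq_iff.2 h, hc] at hcd; omega
  let Γ : SimpleGraph Ω :=
    { Adj := Rel G a b
      symm := ⟨fun x y h => by
        obtain ⟨g, hg, s, hs⟩ := h
        obtain ⟨g₀, hg₀⟩ := exists_smul_eq (↥G) a b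
        have hy : (g * s.1 * g₀) • a = y := by
          have hs' : s.1 • b = g⁻¹ • y := hs
          rw [mul_smul, mul_smul, hg₀, hs', smul_inv_smul]
        refine (rel_iff hy).2 ?_
        rw [← hg, mul_inv_rev, mul_inv_rev, mul_smul, mul_smul, inv_smul_smul,
          show s.1⁻¹ • a = a from inv_smul_eq_iff.2 (show s.1 • a = a from s.2).symm]
        exact hpair g₀ hg₀⟩
      loopless := ⟨fun x h => by
        obtain ⟨g, hg, h'⟩ := h
        rw [← hg, inv_smul_smul] at h'
        exact hab h'⟩ }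
  have hinv : ∀ (g : ↥G) (x y : Ω), Γ.Adj (g • x) (g • y) ↔ Γ.Adj x y := fun g x y => rel_smul g
  have hadj_a : ∀ y, Γ.Adj a y ↔ y ∈ orbit ↥S b := fun y => by
    show Rel G a b a y ↔ _
    rw [rel_iff (one_smul _ a), inv_one, one_smul]
  have hcount : ∀ (g : ↥G) (p : Ω → Prop),
      {z | p z}.ncard = {z | p (g • z)}.ncard := fun g p =>
    (Set.ncard_congr' (Equiv.subtypeEquiv (MulAction.toPerm g) fun z => Iff.rfl)).symm
  have hdeg : ∀ x, {z | Γ.Adj x z}.ncard = 22 := by
    intro x
    obtain ⟨g, hg⟩ := exists_smul_eq (↥G) a x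
    rw [hcount g]
    simp only [← hg, hinv, hadj_a]
    exact hb
  -- the stabiliser of an adjacent pair is transitive on the other neighbours
  have htwo : ∀ x y, x ∈ orbit ↥S b → y ∈ orbit ↥S b → x ≠ b → y ≠ b →
      ∃ s : ↥S, s • b = b ∧ s • x = y := by
    intro x y hx hy hxb hyb
    letI : MulAction ↥Spor.M22 (orbit ↥S b) := MulAction.compHom _ e.symm.toMonoidHom
    haveI : IsPretransitive ↥Spor.M22 (orbit ↥S b) := ⟨fun u v => by
      obtain ⟨s, hs⟩ := exists_smul_eq (↥S) u v
      refine ⟨e s, ?_⟩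
      show e.symm (e s) • u = v
      rw [e.symm_apply_apply, hs]⟩
    obtain ⟨h, h1, h2⟩ := m22_trans_rest (X := orbit ↥S b) (b := ⟨b, mem_orbit_self b⟩)
      (x := ⟨x, hx⟩) (y := ⟨y, hy⟩) (by rw [Nat.card_coe_set_eq, hb])
      (fun h => hxb (congrArg Subtype.val h)) (fun h => hyb (congrArg Subtype.val h))
    exact ⟨e.symm h, congrArg Subtype.val h1, congrArg Subtype.val h2⟩
  have hsinv : ∀ (s : ↥S) (z : Ω), Γ.Adj a (s • z) ↔ Γ.Adj a z := fun s z => by
    conv_lhs => rw [← (show s.1 • a = a from s.2), show s • z = s.1 • z from rfl, hinv]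
  have hadjab : Γ.Adj a b := (hadj_a b).2 (mem_orbit_self b)
  have htri : ∀ z, ¬ (Γ.Adj a z ∧ Γ.Adj b z) := by
    rintro w ⟨hw1, hw2⟩
    have hwb : w ≠ b := fun h => Γ.loopless.irrefl b (h ▸ hw2)
    have hall : ∀ y, Γ.Adj a y → y ≠ b → Γ.Adj b y := by
      intro y hy hyb
      obtain ⟨s, hs1, hs2⟩ := htwo w y ((hadj_a _).1 hw1) ((hadj_a _).1 hy) hwb hyb
      rw [← hs1, ← hs2]
      exact (hinv s.1 b w).2 hw2
    have hsub : {z | Γ.Adj b z} = insert a ({z | Γ.Adj a z} \ {b}) := by
      symm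
      refine Set.eq_of_subset_of_ncard_le ?_ ?_
      · rintro z (rfl | ⟨hz, hzb⟩)
        · exact hadjab.symm
        · exact hall z hz hzb
      · rw [hdeg, Set.ncard_insert_of_notMem (show a ∉ {z | Γ.Adj a z} \ {b} from fun h => Γ.loopless.irrefl a h.1),
          Set.ncard_sdiff_singleton_of_mem (show b ∈ {z | Γ.Adj a z} from hadjab), hdeg]
    -- a clique of 23 points which contains all its neighbours
    let K : Set Ω := insert a {z | Γ.Adj a z}
    have hKb : insert b {z | Γ.Adj b z} = K := by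
      rw [hsub]; ext z; by_cases hzb : z = b
      · subst hzb; simp [K, hadjab]
      · simp [K, hzb]
    have hclosed : ∀ x ∈ K, insert x {z | Γ.Adj x z} = K := by
      rintro x (rfl | hx)
      · rfl
      obtain ⟨s, rfl⟩ := (hadj_a x).1 hx
      ext z
      have h1 := Set.ext_iff.1 hKb (s.1⁻¹ • z)
      simp only [K, Set.mem_insert_iff, Set.mem_ofPred_eq] at h1 ⊢
      rw [show s • b = s.1 • b from rfl]
      rw [← hinv s.1, smul_inv_smul, inv_smul_eq_iff, inv_smul_eq_iff, show s.1 • a = a from s.2,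
        ← hinv s.1 a, smul_inv_smul, show s.1 • a = a from s.2] at h1
      exact h1
    have hKcard : K.ncard = 23 := by
      rw [Set.ncard_insert_of_notMem (show a ∉ {z | Γ.Adj a z} from fun h => Γ.loopless.irrefl a h), hdeg]
    have himg : ∀ (g : ↥G) (x : Ω), g • (insert x {z | Γ.Adj x z} : Set Ω) = insert (g • x) {z | Γ.Adj (g • x) z} := by
      intro g x
      ext z
      rw [Set.mem_smul_set_iff_inv_smul_mem]
      simp only [Set.mem_insert_iff, Set.mem_ofPred_eq, inv_smul_eq_iff]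
      rw [← hinv g, smul_inv_smul]
    let H := stabilizer ↥G K
    have hmem : ∀ g : ↥G, g ∈ H ↔ g • a ∈ K := by
      intro g
      rw [mem_stabilizer_iff]
      refine ⟨fun h => h ▸ Set.smul_mem_smul_set (Set.mem_insert _ _), fun h => ?_⟩
      show g • (insert a {z | Γ.Adj a z} : Set Ω) = K
      rw [himg, hclosed _ h]
    have horbH : orbit ↥H a = K := by
      ext x
      refine ⟨?_, fun hx => ?_⟩
      · rintro ⟨g, rfl⟩; exact (hmem g.1).1 g.2
      · obtain ⟨g, hg⟩ := exists_smul_eq (↥G) a x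
        exact ⟨⟨g, (hmem g).2 (hg ▸ hx)⟩, hg⟩
    have hstH : Nat.card ↥(stabilizer ↥H a) = Nat.card ↥S :=
      Nat.card_congr
        { toFun := fun s => ⟨s.1.1, s.2⟩
          invFun := fun s => ⟨⟨s.1, (hmem s.1).2 (by rw [show s.1 • a = a from s.2]; exact Set.mem_insert _ _)⟩, s.2⟩
          left_inv := fun s => rfl
          right_inv := fun s => rfl }
    have hH := (stabilizer ↥H a).card_mul_index
    rw [index_stabilizer, horbH, hKcard, hstH, hS] at hH
    have hG := S.card_mul_index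
    rw [index_stabilizer_of_transitive, hS, Nat.card_eq_fintype_card (α := Ω), hΩ] at hG
    have hdvd := Subgroup.card_subgroup_dvd_card H
    rw [← hH, ← hG] at hdvd
    exact absurd (Nat.dvd_of_mul_dvd_mul_left (by norm_num) hdvd) (by norm_num)
  have htri' : ∀ x y, Γ.Adj x y → {z | Γ.Adj x z ∧ Γ.Adj y z}.ncard = 0 := by
    intro x y h
    rw [Set.ncard_eq_zero]
    obtain ⟨g, hg⟩ := exists_smul_eq (↥G) a x
    subst hg
    obtain ⟨s, hs⟩ := (hadj_a (g⁻¹ • y)).1 (by rwa [← hinv g, smul_inv_smul])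
    have hs' : s.1 • b = g⁻¹ • y := hs
    ext z
    simp only [Set.mem_ofPred_eq, Set.mem_empty_iff_false, iff_false]
    rintro ⟨h1, h2⟩
    refine htri ((g * s.1)⁻¹ • z) ⟨?_, ?_⟩
    · rw [← hinv (g * s.1), smul_inv_smul, mul_smul, show s.1 • a = a from s.2]; exact h1
    · rw [← hinv (g * s.1), smul_inv_smul, mul_smul, hs', smul_inv_smul]; exact h2
  -- two points at distance two have six common neighbours
  have hmu : {z | Γ.Adj a z ∧ Γ.Adj c z}.ncard = 6 := by
    let A : Finset Ω := (orbit ↥S b).toFinset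
    let C : Finset Ω := (orbit ↥S c).toFinset
    have h := Finset.sum_card_bipartiteAbove_eq_sum_card_bipartiteBelow (fun x y => Γ.Adj x y) (s := A) (t := C)
    have hL : ∀ z ∈ A, (Finset.bipartiteAbove (fun x y => Γ.Adj x y) C z).card = 21 := by
      intro z hz
      have hz' : Γ.Adj a z := (hadj_a z).2 (Set.mem_toFinset.1 hz)
      rw [← Set.ncard_coe_finset]
      have hset : (↑(Finset.bipartiteAbove (fun x y => Γ.Adj x y) C z) : Set Ω) = {y | Γ.Adj z y} \ {a} := by
        ext y
        simp only [Finset.coe_bipartiteAbove, Set.mem_ofPred_eq, Set.mem_diff, Set.mem_singleton_iff, C,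
          Set.mem_toFinset]
        refine ⟨fun ⟨hy, h'⟩ => ⟨h', fun e => hac (e ▸ hy)⟩, fun ⟨h', hya⟩ => ⟨?_, h'⟩⟩
        rcases hcover y with h'' | h'' | h''
        · exact absurd h'' hya
        · have := htri' a z hz'
          rw [Set.ncard_eq_zero] at this
          exact absurd (show y ∈ {w | Γ.Adj a w ∧ Γ.Adj z w} from ⟨(hadj_a y).2 h'', h'⟩) (by simp [this])
        · exact h''
      rw [hset, Set.ncard_sdiff_singleton_of_mem (show a ∈ {y | Γ.Adj z y} from hz'.symm), hdeg]
    have hR : ∀ y ∈ C, (Finset.bipartiteBelow (fun x y => Γ.Adj x y) A y).card =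
        {z | Γ.Adj a z ∧ Γ.Adj c z}.ncard := by
      intro y hy
      obtain ⟨s, rfl⟩ := Set.mem_toFinset.1 hy
      rw [← Set.ncard_coe_finset, hcount s.1⁻¹ (fun z => Γ.Adj a z ∧ Γ.Adj c z)]
      congr 1
      ext z
      simp only [Finset.coe_bipartiteBelow, Set.mem_ofPred_eq, A, Set.mem_toFinset, ← hadj_a]
      rw [← hinv s.1 a (s.1⁻¹ • z), ← hinv s.1 c (s.1⁻¹ • z), smul_inv_smul, show s.1 • a = a from s.2,
        Γ.adj_comm z]
      rfl
    rw [Finset.sum_congr rfl hL, Finset.sum_congr rfl hR, Finset.sum_const, Finset.sum_const,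
      ← Set.ncard_eq_toFinset_card', ← Set.ncard_eq_toFinset_card', hb, hc, smul_eq_mul, smul_eq_mul] at h
    omega
  have hmu' : ∀ x y, x ≠ y → ¬ Γ.Adj x y → {z | Γ.Adj x z ∧ Γ.Adj y z}.ncard = 6 := by
    intro x y hxy h
    obtain ⟨g, hg⟩ := exists_smul_eq (↥G) a x
    subst hg
    rcases hcover (g⁻¹ • y) with h' | h' | h'
    · exact absurd (inv_smul_eq_iff.1 h').symm hxy
    · exact absurd ((hadj_a _).2 h') (by rwa [← hinv g, smul_inv_smul])
    obtain ⟨s, hs⟩ := h'
    have hs' : s.1 • c = g⁻¹ • y := hs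
    rw [hcount (g * s.1)]
    rw [show y = (g * s.1) • c by rw [mul_smul, hs', smul_inv_smul],
      show g • a = (g * s.1) • a by rw [mul_smul, show s.1 • a = a from s.2]]
    simp only [hinv]
    exact hmu
  have hcommon : ∀ x y, Fintype.card (Γ.commonNeighbors x y) = {z | Γ.Adj x z ∧ Γ.Adj y z}.ncard :=
    fun x y => by rw [← Nat.card_eq_fintype_card, Nat.card_coe_set_eq]; rfl
  refine ⟨Γ, fun _ _ => Classical.propDecidable _,
    ⟨hΩ, fun x => ?_, fun x y h => ?_, fun x y hne h => ?_⟩,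
    MonoidHom.mk' (fun g => ⟨MulAction.toPerm g, fun {x y} => hinv g x y⟩)
      (fun g h => RelIso.ext fun x => mul_smul g h x), fun g h hgh => ?_⟩
  · rw [← SimpleGraph.card_neighborSet_eq_degree, ← Nat.card_eq_fintype_card, Nat.card_coe_set_eq]
    exact hdeg x
  · rw [hcommon]; exact htri' x y h
  · show Fintype.card (Γ.commonNeighbors x y) = 6
    rw [hcommon]; exact hmu' x y hne h
  · exact Subtype.ext (Equiv.ext fun x => congrArg (fun φ : Γ ≃g Γ => φ x) hgh)

end Graph

open CfsgLib.Sporadic.Conway CfsgLib.Sporadic.HsGraph CfsgLib.ThreeTrans.Leech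

/-- The group of the prelude is the stabiliser of the standard pair. -/
theorem hs_equiv : Nonempty (↥Spor.HS ≃* ↥(fixGroup [fiveElt, hsElt])) := by
  let v : ↥leechLattice := Spor.leechV
  let w : ↥leechLattice := -(Spor.leechV + Spor.leechU')
  have hv : sqNorm (v : Vec) = 48 := by decide +kernel
  have hw : sqNorm (w : Vec) = 48 := by decide +kernel
  have hvw : dotInt (v : Vec) (w : Vec) = -32 := by decide +kernel
  obtain ⟨g, hg1, hg2⟩ := to_hs hv hw hvw
  have hm : [v, w].map (g • ·) = [fiveElt, hsElt] := by simp [hg1, hg2]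
  have hlin : ∀ f : ↥Co0, f • Spor.leechV = Spor.leechV → (f • w = w ↔ f • Spor.leechU' = Spor.leechU') := by
    intro f hf
    have hl : f • w = -(Spor.leechV + f • Spor.leechU') := by
      show (f : Equiv.Perm leechLattice) (-(Spor.leechV + Spor.leechU')) = _
      let F : ↥leechLattice →+ ↥leechLattice := AddMonoidHom.mk' (f : Equiv.Perm leechLattice) f.2.1
      show F _ = _
      rw [map_neg, map_add]
      exact congrArg (fun z => -(z + F Spor.leechU')) hf
    rw [hl, neg_inj, add_right_inj]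
  have e : ↥Spor.HS ≃* ↥(fixGroup [v, w]) :=
    { toFun := fun f => ⟨⟨f.1, f.2.1.1⟩, mem_fixGroup.2 fun z hz => by
        simp only [List.mem_cons, List.not_mem_nil, or_false] at hz
        rcases hz with rfl | rfl
        · exact f.2.1.2
        · exact (hlin ⟨f.1, f.2.1.1⟩ f.2.1.2).2 f.2.2⟩
      invFun := fun f => ⟨f.1.1, ⟨⟨f.1.2, mem_fixGroup.1 f.2 v List.mem_cons_self⟩,
        (hlin f.1 (mem_fixGroup.1 f.2 v List.mem_cons_self)).1 (mem_fixGroup.1 f.2 w (by simp))⟩⟩
      left_inv := fun f => rfl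
      right_inv := fun f => rfl
      map_mul' := fun f h => rfl }
  exact ⟨e.trans ((fixConj [v, w] g).trans (MulEquiv.subgroupCongr (congrArg fixGroup hm)))⟩

/-- Two subgroups of index 2 coincide if one of them is simple of order more than 2. -/
theorem eq_of_index_two {A : Type*} [Group A] [Finite A] (P Q : Subgroup A) [IsSimpleGroup ↥P]
    (hP : 2 < Nat.card ↥P) (hQ : Q.index = 2) (hcard : Nat.card ↥Q = Nat.card ↥P) : P = Q := by
  haveI := Subgroup.normal_of_index_eq_two hQ
  refine Subgroup.eq_of_le_of_card_ge ?_ hcard.le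
  rcases (inferInstance : (Q.subgroupOf P).Normal).eq_bot_or_eq_top with h | h
  · exfalso
    have h' := Subgroup.relIndex_dvd_index_of_normal Q P
    rw [Subgroup.relIndex, h, Subgroup.index_bot, hQ] at h'
    have := Nat.le_of_dvd (by norm_num) h'
    omega
  · exact Subgroup.subgroupOf_eq_top.1 h

/-- A transitive group on 100 points with point stabiliser M22 and suborbits 22, 77 is HS. -/
theorem recognise {Ω : Type*} [Fintype Ω] [DecidableEq Ω] (hΩ : Fintype.card Ω = 100)
    (G : Subgroup (Equiv.Perm Ω)) [IsPretransitive ↥G Ω] (a : Ω) (e : ↥(stabilizer ↥G a) ≃* ↥Spor.M22)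
    (b c : Ω) (hb : (orbit ↥(stabilizer ↥G a) b).ncard = 22) (hc : (orbit ↥(stabilizer ↥G a) c).ncard = 77) :
    Spor.IsoHS ↥G := by
  classical
  have hG : Nat.card ↥G = 44352000 := by
    rw [← (stabilizer ↥G a).card_mul_index, index_stabilizer_of_transitive, Nat.card_congr e.toEquiv,
      card_sporM22, Nat.card_eq_fintype_card, hΩ]
  obtain ⟨Γ, _, hΓ, f, hf⟩ := main hΩ a e b c hb hc
  haveI : Finite Pts := (DS_finite (ks := [(fiveElt, (24 : ℤ)), (hsElt, -24)]) List.mem_cons_self).to_subtype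
  haveI : Fintype Pts := Fintype.ofFinite _
  obtain ⟨x⟩ : Nonempty Ω := Fintype.card_pos_iff.1 (by rw [hΓ.card]; norm_num)
  obtain ⟨ψ, -⟩ := iso_at hΓ x
  obtain ⟨χ⟩ := srg100_unique pts_srg hΓ
  let conj : (ptsGraph ≃g ptsGraph) →* (Γ ≃g Γ) :=
    MonoidHom.mk' (fun φ => (χ.symm.trans φ).trans χ) fun p q => RelIso.ext fun v => by
      show χ (p (q (χ.symm v))) = χ (p (χ.symm (χ (q (χ.symm v)))))
      rw [χ.symm_apply_apply]
  have hinj : Function.Injective (conj.comp ptsHom) := fun p q h => ptsHom_injective (RelIso.ext fun z => by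
    have := congrArg (fun φ : Γ ≃g Γ => φ (χ z)) h
    simpa [conj] using this)
  haveI : Finite (Γ ≃g Γ) := Finite.of_injective (fun φ : Γ ≃g Γ => φ.toEquiv) fun p q h =>
    RelIso.ext fun z => by simpa using congrArg (fun σ : Ω ≃ Ω => σ z) h
  have hA : Nat.card (Γ ≃g Γ) = 88704000 := by
    rw [← graph_aut_card (card_points hΓ x) (steiner_at hΓ x)]
    exact (Nat.card_congr
      { toFun := fun φ => (ψ.trans φ).trans ψ.symm
        invFun := fun φ => (ψ.symm.trans φ).trans ψ
        left_inv := fun φ => RelIso.ext fun z => by simp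
        right_inv := fun φ => RelIso.ext fun z => by simp }).symm.symm
  let E := MonoidHom.ofInjective hinj
  haveI : IsSimpleGroup ↥(conj.comp ptsHom).range := isSimple_congr E simple_hs
  have hP : Nat.card ↥(conj.comp ptsHom).range = 44352000 := by rw [← Nat.card_congr E.toEquiv, card_fix_hs]
  have hQ : Nat.card ↥f.range = 44352000 := by
    rw [← Nat.card_congr (MonoidHom.ofInjective hf).toEquiv, hG]
  have hidx : f.range.index = 2 := by
    have := f.range.card_mul_index
    rw [hQ, hA] at this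
    omega
  have hPQ := eq_of_index_two (conj.comp ptsHom).range f.range (by omega) hidx (hQ.trans hP.symm)
  obtain ⟨k⟩ := hs_equiv
  exact ⟨((MonoidHom.ofInjective hf).trans ((MulEquiv.subgroupCongr hPQ.symm).trans E.symm)).trans k.symm⟩

end CfsgLib.Recog.HigmanSimsRankThree
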