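import Mathlib
import Cfsg.Prelude.Def_KGroupFacts
import Cfsg.Agent.Lib.Known.SL2Multiplier
import Cfsg.Agent.Lib.Recog.JankoOneInvolutions

/-!
# The first Janko group has trivial Schur multiplier
-/

set_option autoImplicit false
set_option maxRecDepth 20000

namespace CfsgLib.Recog.JankoOne

open scoped commutatorElement

theorem e_shift (m k : ℕ) : elN ^ m * e k * (elN ^ m)⁻¹ = e (k + m) := by
  unfold e
  rw [add_comm, pow_add]
  group

theorem lifts_commute {Γ : Type*} [Group Γ] (σ : Γ →* G) (hs : Function.Surjective σ)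
    (hc : σ.ker ≤ Subgroup.center Γ) {u v : Γ} (hu : σ u ∈ eight) (hv : σ v ∈ eight) : Commute u v := by
  classical
  have hinvar : ∀ {u u' v v' : Γ}, σ u = σ u' → σ v = σ v' → ⁅u, v⁆ = ⁅u', v'⁆ := by
    intro u u' v v' h1 h2
    obtain ⟨a, ha, rfl⟩ : ∃ a ∈ σ.ker, u = u' * a := ⟨u'⁻¹ * u, by simp [h1], by group⟩
    obtain ⟨b, hb, rfl⟩ : ∃ b ∈ σ.ker, v = v' * b := ⟨v'⁻¹ * v, by simp [h2], by group⟩
    have ca := fun x => Subgroup.mem_center_iff.mp (hc ha) x
    have cb := fun x => Subgroup.mem_center_iff.mp (hc hb) x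
    simp only [commutatorElement_def, mul_inv_rev]
    calc u' * a * (v' * b) * (a⁻¹ * u'⁻¹) * (b⁻¹ * v'⁻¹)
        = u' * (a * (v' * b)) * a⁻¹ * u'⁻¹ * (b⁻¹ * v'⁻¹) := by group
      _ = u' * v' * (b * u'⁻¹) * b⁻¹ * v'⁻¹ := by rw [← ca (v' * b)]; group
      _ = u' * v' * u'⁻¹ * v'⁻¹ := by rw [← cb u'⁻¹]; group
  let s : G → Γ := fun g => (hs g).choose
  have hσs : ∀ g, σ (s g) = g := fun g => (hs g).choose_spec
  have hcomm : ∀ i j, i < 7 → j < 7 → Commute (e i) (e j) := by
    intro i j hi hj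
    by_cases hij : i = j
    · subst hij; exact Commute.refl _
    obtain ⟨k, hk, hk'⟩ := ((e_spec hi hj).2.2 hij).2
    have h1 := (e_spec hk hk).1
    rw [← hk'] at h1
    calc e i * e j = (e i * e j)⁻¹ := (inv_eq_of_mul_eq_one_right h1).symm
      _ = e j * e i := by
        rw [mul_inv_rev, inv_eq_of_mul_eq_one_right (e_spec hi hi).1, inv_eq_of_mul_eq_one_right (e_spec hj hj).1]
  have hcomm' : ∀ i j, Commute (e i) (e j) := fun i j => by
    rw [← e_mod i, ← e_mod j]
    exact hcomm _ _ (Nat.mod_lt _ (by norm_num)) (Nat.mod_lt _ (by norm_num))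
  let β : ℕ → ℕ → Γ := fun i j => ⁅s (e i), s (e j)⁆
  have hcen : ∀ i j, β i j ∈ Subgroup.center Γ := fun i j => hc (by
    rw [MonoidHom.mem_ker, map_commutatorElement, hσs, hσs, commutatorElement_eq_one_iff_commute]; exact hcomm' i j)
  have hmul : ∀ i j k l, e j * e k = e l → β i l = β i j * β i k := by
    intro i j k l h
    have h1 : β i l = ⁅s (e i), s (e j) * s (e k)⁆ := hinvar rfl (by rw [map_mul, hσs, hσs, hσs, h])
    have h2 : s (e j) * β i k = β i k * s (e j) := Subgroup.mem_center_iff.mp (hcen i k) _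
    calc β i l = β i j * (s (e j) * β i k * (s (e j))⁻¹) := by
          rw [h1]; simp only [β, commutatorElement_def]; group
      _ = β i j * β i k := by rw [h2, mul_inv_cancel_right]
  have hinv : ∀ i j, (β i j)⁻¹ = β j i := fun i j => commutatorElement_inv _ _
  have hsh : ∀ m i j, β (i + m) (j + m) = β i j := by
    intro m i j
    set n := s (elN ^ m)
    have hn : σ n = elN ^ m := hσs _
    have h1 : β (i + m) (j + m) = ⁅n * s (e i) * n⁻¹, n * s (e j) * n⁻¹⁆ :=
      hinvar (by simp only [map_mul, map_inv, hσs, n, e_shift])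
        (by simp only [map_mul, map_inv, hσs, n, e_shift])
    rw [h1, ← conjugate_commutatorElement]
    exact mul_inv_eq_iff_eq_mul.mpr (Subgroup.mem_center_iff.mp (hcen i j) n)
  have hper : ∀ i j, β i (j + 7) = β i j := fun i j => by
    show ⁅s (e i), s (e (j + 7))⁆ = ⁅s (e i), s (e j)⁆
    rw [← e_mod (j + 7), Nat.add_mod_right, e_mod]
  obtain ⟨r5, r3, r4, -⟩ := e_rel
  have z0 : β 0 0 = 1 := commutatorElement_self _
  have c3 : β 0 3 = β 0 2 := by rw [hmul 0 0 2 3 r3, z0, one_mul]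
  have c5 : β 0 5 = β 0 1 := by rw [hmul 0 0 1 5 r5, z0, one_mul]
  have c5' : β 2 0 = β 0 5 := by rw [← hsh 2 0 5, ← hper 2 0]
  have c4 : β 0 4 = 1 := by
    rw [hmul 0 1 3 4 r4, c3, ← c5, ← c5', ← hinv 0 2, inv_mul_cancel]
  have c3' : β 0 3 = 1 := by
    have h : β 3 0 = β 0 4 := by rw [← hsh 3 0 4, ← hper 3 0]
    rw [← inv_eq_one, hinv, h, c4]
  have c2 : β 0 2 = 1 := c3 ▸ c3'
  have c1 : β 0 1 = 1 := by rw [← c5, ← c5', ← hinv, c2, inv_one]
  have c6 : β 0 6 = 1 := by
    have h : β 1 0 = β 0 6 := by rw [← hsh 1 0 6, ← hper 1 0]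
    rw [← h, ← hinv, c1, inv_one]
  have hall : ∀ i j, i < 7 → j < 7 → β i j = 1 := by
    intro i j hi hj
    obtain ⟨d, hd, hd'⟩ : ∃ d < 7, β i j = β (0 + i) (d + i) := by
      by_cases hij : i ≤ j
      · exact ⟨j - i, by omega, by rw [Nat.zero_add, Nat.sub_add_cancel hij]⟩
      · exact ⟨j + 7 - i, by omega, by rw [Nat.zero_add, Nat.sub_add_cancel (by omega), hper]⟩
    rw [hd', hsh]
    interval_cases d
    · exact z0
    · exact c1
    · exact c2
    · exact c3'
    · exact c4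
    · rw [c5, c1]
    · exact c6
  rw [← commutatorElement_eq_one_iff_commute]
  rcases hu with h | ⟨i, hi, h⟩
  · rw [hinvar (u' := 1) (v' := v) (by rw [h, map_one]) rfl, commutatorElement_one_left]
  rcases hv with h' | ⟨j, hj, h'⟩
  · rw [hinvar (u' := u) (v' := 1) rfl (by rw [h', map_one]), commutatorElement_one_right]
  rw [hinvar (u' := s (e i)) (v' := s (e j)) (by rw [hσs, h]) (by rw [hσs, h'])]
  exact hall i j hi hj

theorem not_sq_dvd {r : ℕ} (hr : r.Prime) (h2 : r ≠ 2) : ¬ r ^ 2 ∣ 175560 := by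
  intro h
  have h1 : r ^ 2 ≤ 175560 := Nat.le_of_dvd (by norm_num) h
  have hlt : r < 420 := by nlinarith
  have key : ∀ k < 420, k ^ 2 ∣ 175560 → k = 0 ∨ k = 1 ∨ k = 2 := by decide +kernel
  rcases key r hlt h with h' | h' | h'
  · exact hr.ne_zero h'
  · exact hr.ne_one h'
  · exact h2 h'

theorem multiplier_trivial : Cfsg.HasCyclicSchurMultiplier G 1 := by
  refine CfsgLib.Schur.hasCyclicSchurMultiplier_one_of_forall fun Γ _ _ σ hσ =>
    (Subgroup.eq_bot_iff_forall _).2 fun z hz => ?_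
  rw [← orderOf_eq_one_iff]
  by_contra hne
  obtain ⟨r, hr, hrz⟩ := Nat.exists_prime_and_dvd hne
  have := Fact.mk hr
  have key : ∃ U : Subgroup G, ¬ r ∣ U.index ∧
      ∀ (z : Γ) (h : z ∈ U.comap σ), z ∈ σ.ker → (⟨z, h⟩ : U.comap σ) ∈ commutator (U.comap σ) → z = 1 := by
    by_cases hr2 : r = 2
    · subst hr2
      refine ⟨eight, fun hd => ?_, fun z h _ hcom => ?_⟩
      · have h := Subgroup.card_mul_index eight
        rw [card_eight, card_eq] at h
        have : eight.index = 21945 := by omega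
        rw [this] at hd
        norm_num at hd
      · have hbot : commutator (eight.comap σ) = ⊥ := by
          rw [commutator_def, Subgroup.commutator_eq_bot_iff_le_centralizer]
          intro u _
          rw [Subgroup.mem_centralizer_iff]
          intro v _
          exact Subtype.ext (lifts_commute σ hσ.1 hσ.2.1 v.2 u.2).eq
        rw [hbot, Subgroup.mem_bot] at hcom
        exact congrArg Subtype.val hcom
    · by_cases hd : r ∣ 175560
      · obtain ⟨x, hx⟩ := exists_prime_orderOf_dvd_card' (G := G) r (card_eq ▸ hd)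
        refine ⟨Subgroup.zpowers x, fun h => ?_, fun z h hk hcom => CfsgLib.Known.SL2Mult.trivial_of_mult σ hσ _
          (CfsgLib.Schur.hasCyclicSchurMultiplier_one_of_isCyclic _) z h hk hcom⟩
        have h1 := Subgroup.card_mul_index (Subgroup.zpowers x)
        rw [Nat.card_zpowers, hx, card_eq] at h1
        exact not_sq_dvd hr hr2 (by rw [sq, ← h1]; exact Nat.mul_dvd_mul_left r h)
      · refine ⟨⊥, by rwa [Subgroup.index_bot, card_eq], fun z h hk hcom => CfsgLib.Known.SL2Mult.trivial_of_mult σ hσ _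
          (CfsgLib.Schur.hasCyclicSchurMultiplier_one_of_isCyclic _) z h hk hcom⟩
  obtain ⟨U, hU1, hU2⟩ := key
  exact hU1 (hrz.trans (orderOf_dvd_of_pow_eq_one (CfsgLib.Known.SL2Mult.pow_index_eq_one σ hσ U hU2 hz)))

end CfsgLib.Recog.JankoOne
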