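import Mathlib
import Cfsg.Agent.Lib.Recog.JankoOneOrders

/-!
# Element orders of the fourth direct power of the first Janko group
-/

set_option autoImplicit false
set_option maxRecDepth 20000
set_option synthInstance.maxSize 2000

namespace CfsgLib.Recog.JankoOne

theorem exists_orderOf {n : ℕ} (h : n ∈ [1, 2, 3, 5, 6, 7, 10, 11, 15, 19]) : ∃ g : G, orderOf g = n := by
  rcases List.mem_cons.mp h with rfl | h
  · exact ⟨1, orderOf_one⟩
  · exact exists_witnesses n h

/-- the element orders -/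
def orderList : List ℕ := [1, 2, 3, 5, 6, 7, 10, 11, 15, 19]

theorem lcm_proper : (orderList.all fun a => orderList.all fun b => orderList.all fun c => orderList.all fun d =>
    Nat.lcm a (Nat.lcm b (Nat.lcm c d)) != 43890 && 43890 % Nat.lcm a (Nat.lcm b (Nat.lcm c d)) == 0) = true := by
  decide +kernel

theorem divisor_lcm : ∀ e : Fin 64, e.1 ≠ 63 → (orderList.any fun a => orderList.any fun b => orderList.any fun c =>
    orderList.any fun d => Nat.lcm a (Nat.lcm b (Nat.lcm c d)) ==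
      (bif e.1.testBit 0 then 2 else 1) * (bif e.1.testBit 1 then 3 else 1) * (bif e.1.testBit 2 then 5 else 1) *
        (bif e.1.testBit 3 then 7 else 1) * (bif e.1.testBit 4 then 11 else 1) *
          (bif e.1.testBit 5 then 19 else 1)) = true := by
  decide +kernel

theorem exists_bits {m : ℕ} (h : m ∣ 43890) (hne : m ≠ 43890) : ∃ e : Fin 64, e.1 ≠ 63 ∧ m =
      (bif e.1.testBit 0 then 2 else 1) * (bif e.1.testBit 1 then 3 else 1) * (bif e.1.testBit 2 then 5 else 1) *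
        (bif e.1.testBit 3 then 7 else 1) * (bif e.1.testBit 4 then 11 else 1) *
          (bif e.1.testBit 5 then 19 else 1) := by
  have hm : m = m.gcd 2 * m.gcd 3 * m.gcd 5 * m.gcd 7 * m.gcd 11 * m.gcd 19 := by
    rw [← Nat.Coprime.gcd_mul m (by norm_num : Nat.Coprime 2 3),
      ← Nat.Coprime.gcd_mul m (by norm_num : Nat.Coprime (2 * 3) 5),
      ← Nat.Coprime.gcd_mul m (by norm_num : Nat.Coprime (2 * 3 * 5) 7),
      ← Nat.Coprime.gcd_mul m (by norm_num : Nat.Coprime (2 * 3 * 5 * 7) 11),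
      ← Nat.Coprime.gcd_mul m (by norm_num : Nat.Coprime (2 * 3 * 5 * 7 * 11) 19)]
    exact (Nat.gcd_eq_left (by simpa using h)).symm
  have key : ∀ p : ℕ, p.Prime → ∃ b : Bool, m.gcd p = bif b then p else 1 := fun p hp => by
    rcases (Nat.dvd_prime hp).mp (Nat.gcd_dvd_right m p) with h' | h'
    · exact ⟨false, h'⟩
    · exact ⟨true, h'⟩
  obtain ⟨b0, h0⟩ := key 2 (by norm_num)
  obtain ⟨b1, h1⟩ := key 3 (by norm_num)
  obtain ⟨b2, h2⟩ := key 5 (by norm_num)
  obtain ⟨b3, h3⟩ := key 7 (by norm_num)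
  obtain ⟨b4, h4⟩ := key 11 (by norm_num)
  obtain ⟨b5, h5⟩ := key 19 (by norm_num)
  rw [h0, h1, h2, h3, h4, h5] at hm
  have hall : ∀ b0 b1 b2 b3 b4 b5 : Bool, ∃ e : Fin 64, e.1.testBit 0 = b0 ∧ e.1.testBit 1 = b1 ∧ e.1.testBit 2 = b2 ∧
      e.1.testBit 3 = b3 ∧ e.1.testBit 4 = b4 ∧ e.1.testBit 5 = b5 := by decide +kernel
  obtain ⟨e, e0, e1, e2, e3, e4, e5⟩ := hall b0 b1 b2 b3 b4 b5
  subst e0 e1 e2 e3 e4 e5
  refine ⟨e, fun h63 => hne ?_, hm⟩
  rw [hm, h63]
  decide +kernel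

theorem range_fourth_power :
    Set.range (orderOf : G × G × G × G → ℕ) = {m | m ∣ 6270 * 7 ∧ m ≠ 6270 * 7} := by
  ext m
  constructor
  · rintro ⟨⟨a, b, c, d⟩, rfl⟩
    have h := lcm_proper
    simp only [List.all_eq_true, Bool.and_eq_true, bne_iff_ne, beq_iff_eq] at h
    obtain ⟨h1, h2⟩ := h _ (orderOf_mem a) _ (orderOf_mem b) _ (orderOf_mem c) _ (orderOf_mem d)
    rw [Prod.orderOf, Prod.orderOf, Prod.orderOf]
    exact ⟨Nat.dvd_of_mod_eq_zero h2, h1⟩
  · rintro ⟨hm, hne⟩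
    obtain ⟨e, he, hme⟩ := exists_bits (m := m) (by simpa using hm) (by simpa using hne)
    have h := divisor_lcm e he
    simp only [List.any_eq_true, beq_iff_eq] at h
    obtain ⟨a, ha, b, hb, c, hc, d, hd, h⟩ := h
    obtain ⟨x, hx⟩ := exists_orderOf ha
    obtain ⟨y, hy⟩ := exists_orderOf hb
    obtain ⟨z, hz⟩ := exists_orderOf hc
    obtain ⟨w, hw⟩ := exists_orderOf hd
    refine ⟨(x, y, z, w), ?_⟩
    rw [Prod.orderOf, Prod.orderOf, Prod.orderOf, hx, hy, hz, hw, hme]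
    exact h

end CfsgLib.Recog.JankoOne
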