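import Cfsg.Agent.Lib.PGroups.ExtraspecialOut

/-!
Owner: helper7. Involutory automorphisms of an extraspecial group of order 32 which invert a
nontrivial automorphism of order 5.
-/

set_option autoImplicit false

namespace CfsgLib.Recog.MinusThirtyTwo

open Subgroup Cfsg
open scoped commutatorElement

variable {E : Type*} [Group E]

/-- The elements moved by `α` within their coset of the centre. -/
def modFix (α : MulAut E) : Subgroup E where
  carrier := {x | α x * x⁻¹ ∈ center E}
  one_mem' := by simp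
  mul_mem' := by
    intro a b ha hb
    show α (a * b) * (a * b)⁻¹ ∈ center E
    have h : α (a * b) * (a * b)⁻¹ = α b * b⁻¹ * (α a * a⁻¹) := by
      rw [map_mul, mul_inv_rev,
        show α a * α b * (b⁻¹ * a⁻¹) = α a * ((α b * b⁻¹) * a⁻¹) by group,
        ← mem_center_iff.1 hb a⁻¹, ← mul_assoc, mem_center_iff.1 hb (α a * a⁻¹)]
    rw [h]
    exact mul_mem hb ha
  inv_mem' := by
    intro a ha
    show α a⁻¹ * a⁻¹⁻¹ ∈ center E
    have h : α a⁻¹ * a⁻¹⁻¹ = (α a * a⁻¹)⁻¹ := by
      have h1 : a⁻¹ * (α a * a⁻¹) = α a * a⁻¹ * a⁻¹ := mem_center_iff.1 ha a⁻¹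
      have h2 : α a * a⁻¹ = a⁻¹ * α a := by
        calc α a * a⁻¹ = (α a * a⁻¹ * a⁻¹) * a := by group
          _ = a⁻¹ * (α a * a⁻¹) * a := by rw [h1]
          _ = a⁻¹ * α a := by group
      rw [h2, map_inv]
      group
    rw [h]
    exact inv_mem ha

theorem mem_modFix {α : MulAut E} {x : E} : x ∈ modFix α ↔ α x * x⁻¹ ∈ center E := Iff.rfl

section

variable [Finite E] (hE : IsExtraspecial 2 E) {z : E} (hzc : z ∈ center E) (hz1 : z ≠ 1)
include hE hzc hz1

theorem center_cases {c : E} (hc : c ∈ center E) : c = 1 ∨ c = z := by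
  by_cases h : c = 1
  · exact Or.inl h
  · exact Or.inr (PGroups.ExtraspecialOut.center_two hE hc hzc h hz1)

theorem map_center (α : MulAut E) {c : E} (hc : c ∈ center E) : α c = c := by
  rcases center_cases hE hzc hz1 hc with rfl | rfl
  · exact map_one α
  · refine (center_cases hE hzc hz1 (c := α c) ?_).resolve_left ?_
    · exact (Subgroup.characteristic_iff_map_eq.1 (inferInstance : (center E).Characteristic) α) ▸
        mem_map_of_mem α.toMonoidHom hc
    · intro h
      exact hz1 (α.injective (h.trans (map_one α).symm))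

omit hzc hz1 in
theorem quot_comm (a b : E ⧸ center E) : a * b = b * a := by
  obtain ⟨x, rfl⟩ := QuotientGroup.mk_surjective a
  obtain ⟨y, rfl⟩ := QuotientGroup.mk_surjective b
  rw [← QuotientGroup.mk_mul, ← QuotientGroup.mk_mul, QuotientGroup.eq,
    show (x * y)⁻¹ * (y * x) = ⁅y⁻¹, x⁻¹⁆ by rw [commutatorElement_def]; group]
  exact PGroups.IsExtraspecial.comm_mem hE _ _

theorem fix_of_mem_modFix {β : MulAut E} (h5 : β ^ 5 = 1) {x : E} (hx : x ∈ modFix β) :
    β x = x := by
  have hy : β x = β x * x⁻¹ * x := by group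
  have hyfix : β (β x * x⁻¹) = β x * x⁻¹ := map_center hE hzc hz1 β hx
  set y := β x * x⁻¹ with hydef
  have hpow : ∀ n : ℕ, (β ^ n) x = y ^ n * x := by
    intro n
    induction n with
    | zero => simp
    | succ n ih =>
      rw [pow_succ', MulAut.mul_apply, ih, map_mul, map_pow, hyfix, hy, ← mul_assoc, ← pow_succ]
  have h := hpow 5
  rw [h5, MulAut.one_apply] at h
  have hy5 : y ^ 5 = 1 := (mul_eq_right.1 h.symm)
  have hy2 : y * y = 1 := PGroups.ExtraspecialOut.center_mul_self hE hx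
  have hy1 : y = 1 := by
    have : y ^ 5 = (y * y) * (y * y) * y := by simp [pow_succ, mul_assoc]
    rw [this, hy2, one_mul, one_mul] at hy5
    exact hy5
  rw [hy, hy1, one_mul]

variable (h32 : Nat.card E = 32) {β : MulAut E} (hβ5 : β ^ 5 = 1) (hβ1 : β ≠ 1)
include h32 hβ5 hβ1

theorem zpowers_isPGroup : IsPGroup 5 (zpowers β) := by
  haveI : Fact (Nat.Prime 5) := ⟨by norm_num⟩
  exact IsPGroup.of_card (n := 1)
    (by rw [Nat.card_zpowers, orderOf_eq_prime hβ5 hβ1, pow_one])

theorem mem_center_of_fix {x : E} (hx : β x = x) : x ∈ center E := by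
  haveI : Fact (Nat.Prime 5) := ⟨by norm_num⟩
  have hp := zpowers_isPGroup hE hzc hz1 h32 hβ5 hβ1
  let F : Subgroup E := MonoidHom.eqLocus β.toMonoidHom (MonoidHom.id E)
  have hF : Nat.card (MulAction.fixedPoints (zpowers β) E) = Nat.card F := by
    refine Nat.card_congr (Equiv.subtypeEquivRight fun y => ?_)
    constructor
    · intro h
      exact h ⟨β, mem_zpowers β⟩
    · intro h k
      exact (zpowers_le.2 (show β ∈ MulAction.stabilizer (MulAut E) y from h) :
        zpowers β ≤ MulAction.stabilizer (MulAut E) y) k.2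
  have hmod := hp.card_modEq_card_fixedPoints E
  rw [hF, h32] at hmod
  have hd : Nat.card F ∣ 2 ^ 5 := by
    rw [show (2 : ℕ) ^ 5 = 32 by norm_num, ← h32]; exact card_subgroup_dvd_card F
  obtain ⟨j, hj, hj'⟩ := (Nat.dvd_prime_pow Nat.prime_two).1 hd
  have hZF : center E ≤ F := fun c hc => map_center hE hzc hz1 β hc
  have hne : F ≠ ⊤ := fun h => hβ1 (MulEquiv.ext fun y => (h ▸ mem_top y : y ∈ F))
  have hcard : Nat.card F = 2 := by
    rw [hj'] at hmod ⊢
    interval_cases j <;> simp_all [Nat.ModEq]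
    exact hne (eq_top_of_card_eq F (by rw [hj', h32]))
  have heq : center E = F := eq_of_le_of_card_ge hZF (by rw [hcard, hE.2])
  rw [heq]
  exact hx

theorem card_sq_fix :
    Nat.card {x : E // x * x = 1} ≡ 2 [MOD 5] := by
  haveI : Fact (Nat.Prime 5) := ⟨by norm_num⟩
  have hp := zpowers_isPGroup hE hzc hz1 h32 hβ5 hβ1
  let act : MulAction (zpowers β) {x : E // x * x = 1} :=
    { smul := fun g x => ⟨(g : MulAut E) x.1, by rw [← map_mul, x.2, map_one]⟩
      one_smul := fun x => Subtype.ext rfl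
      mul_smul := fun g h x => Subtype.ext rfl }
  letI := act
  have hmod := hp.card_modEq_card_fixedPoints {x : E // x * x = 1}
  refine hmod.trans ?_
  · show _ % 5 = 2 % 5
    congr 1
    have e : MulAction.fixedPoints (zpowers β) {x : E // x * x = 1} ≃ center E :=
      { toFun := fun x => ⟨x.1.1, mem_center_of_fix hE hzc hz1 h32 hβ5 hβ1
          (congrArg Subtype.val (x.2 ⟨β, mem_zpowers β⟩))⟩
        invFun := fun c => ⟨⟨c.1, PGroups.ExtraspecialOut.center_mul_self hE c.2⟩,
          fun k => Subtype.ext (map_center hE hzc hz1 (k : MulAut E) c.2)⟩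
        left_inv := fun _ => rfl
        right_inv := fun _ => rfl }
    rw [Nat.card_congr e, hE.2]

omit hβ5 hβ1 hzc hz1 h32 in
theorem card_sq_coords {ι : Type} [Fintype ι] [DecidableEq ι] {R : (ι → ZMod 2) → ZMod 2}
    (C : PGroups.ExtraspecialOut.Coords E R) :
    Nat.card {x : E // x * x = 1} = 2 * Nat.card {w : ι → ZMod 2 // R w = 0} := by
  have hiff : ∀ x : E, x * x = 1 ↔ R (C.π x) = 0 := fun x => by
    rw [C.sq, PGroups.ExtraspecialOut.bit_eq_zero]
  have hfib : ∀ w, Nat.card {x : E // C.π x = w} = 2 := by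
    intro w
    obtain ⟨x₀, hx₀⟩ := C.surj w
    have h0 : C.π 1 = 0 := (C.ker 1).2 (one_mem _)
    have hkey : ∀ x : {x : E // C.π x = w}, C.π (x₀⁻¹ * x.1) = 0 := fun x => by
      have h1 : C.π (x₀ * (x₀⁻¹ * x.1)) = w := by rw [mul_inv_cancel_left, x.2]
      rw [C.map_mul, hx₀] at h1
      simpa using h1
    refine (Nat.card_congr (β := center E)
      { toFun := fun x => ⟨x₀⁻¹ * x.1, (C.ker _).1 (hkey x)⟩
        invFun := fun c => ⟨x₀ * c.1, by rw [C.map_mul, hx₀, (C.ker _).2 c.2, add_zero]⟩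
        left_inv := fun x => Subtype.ext (by simp)
        right_inv := fun c => Subtype.ext (by simp) }).trans hE.2
  haveI := Fintype.ofFinite {w : ι → ZMod 2 // R w = 0}
  let e : {x : E // x * x = 1} ≃ Σ w : {w : ι → ZMod 2 // R w = 0}, {x : E // C.π x = w.1} :=
    { toFun := fun x => ⟨⟨C.π x.1, (hiff _).1 x.2⟩, ⟨x.1, rfl⟩⟩
      invFun := fun s => ⟨s.2.1, (hiff _).2 (by rw [s.2.2]; exact s.1.2)⟩
      left_inv := fun x => rfl
      right_inv := by
        rintro ⟨⟨w, hw⟩, ⟨x, hx⟩⟩
        obtain rfl : C.π x = w := hx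
        rfl }
  rw [Nat.card_congr e, Nat.card_sigma]
  simp [hfib, Nat.card_eq_fintype_card, mul_comm]

set_option synthInstance.maxSize 5000 in
set_option synthInstance.maxHeartbeats 200000 in
theorem minus_type : Nat.card {x : E // x * x = 1} = 12 ∧
    ∀ x y : E, x * x = 1 → y * y = 1 → x * y = y * x →
      x ∈ center E ∨ y ∈ center E ∨ x⁻¹ * y ∈ center E := by
  have hmod := card_sq_fix hE hzc hz1 h32 hβ5 hβ1
  rcases PGroups.ExtraspecialOut.exists_coords hE 2 (h32.trans (by norm_num)) with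
    ⟨⟨C⟩⟩ | ⟨-, ⟨C⟩⟩
  · exfalso
    rw [card_sq_coords hE C] at hmod
    have h10 : Nat.card {w : Fin 2 ⊕ Fin 2 → ZMod 2 // quadFormPlus 2 (ZMod 2) w = 0} = 10 := by
      rw [Nat.card_eq_fintype_card]
      simp only [quadFormPlus]
      decide
    rw [h10] at hmod
    exact absurd hmod (by decide)
  · have h6 : Nat.card {w : (Fin 1 ⊕ Fin 1) ⊕ Fin 2 → ZMod 2 //
        quadFormMinus 1 (ZMod 2) 1 1 w = 0} = 6 := by
      rw [Nat.card_eq_fintype_card]
      simp only [quadFormMinus]
      decide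
    refine ⟨(card_sq_coords hE C).trans (by show 2 * _ = _; rw [h6]), fun x y hx hy hxy => ?_⟩
    have key : ∀ v w : (Fin 1 ⊕ Fin 1) ⊕ Fin 2 → ZMod 2, quadFormMinus 1 (ZMod 2) 1 1 v = 0 →
        quadFormMinus 1 (ZMod 2) 1 1 w = 0 → quadFormMinus 1 (ZMod 2) 1 1 (v + w) = 0 →
        v = 0 ∨ w = 0 ∨ v + w = 0 := by
      simp only [quadFormMinus, Fin.sum_univ_one]
      decide +kernel
    have hR : ∀ u : E, u * u = 1 → quadFormMinus 1 (ZMod 2) 1 1 (C.π u) = 0 := fun u hu => by
      rw [← PGroups.ExtraspecialOut.bit_eq_zero.2 hu]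
      exact C.sq u
    have hsum : quadFormMinus 1 (ZMod 2) 1 1 (C.π x + C.π y) = 0 := by
      rw [← C.map_mul]
      refine hR _ ?_
      rw [show x * y * (x * y) = x * (y * x) * y by group, ← hxy,
        show x * (x * y) * y = (x * x) * (y * y) by group, hx, hy, one_mul]
    rcases key _ _ (hR x hx) (hR y hy) hsum with h | h | h
    · exact Or.inl ((C.ker x).1 h)
    · exact Or.inr (Or.inl ((C.ker y).1 h))
    · refine Or.inr (Or.inr ((C.ker _).1 ?_))
      rw [inv_eq_of_mul_eq_one_left hx, C.map_mul]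
      exact h

theorem card_modFix_le {α : MulAut E} (hα2 : α * α = 1) (hinv : α * β * α⁻¹ = β⁻¹) :
    Nat.card (modFix α) ≤ 8 := by
  have hαinv : α⁻¹ = α := inv_eq_of_mul_eq_one_left hα2
  rw [hαinv] at hinv
  have hswap : ∀ γ : MulAut E, α * γ * α = γ⁻¹ → α * γ = γ⁻¹ * α := fun γ h => by
    rw [← h, mul_assoc (α * γ) α α, hα2, mul_one]
  have hβα : β * α = α * β⁻¹ := by
    have h := hswap β hinv
    calc β * α = β * α * (β * β⁻¹) := by rw [mul_inv_cancel, mul_one]
      _ = β * (α * β) * β⁻¹ := by group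
      _ = β * (β⁻¹ * α) * β⁻¹ := by rw [h]
      _ = α * β⁻¹ := by group
  have hconj : β ^ 2 * α = α * β * β ^ 2 := by
    calc β ^ 2 * α = β * (β * α) := by rw [pow_two, mul_assoc]
      _ = (β * α) * β⁻¹ := by rw [hβα]; rw [← mul_assoc, hβα]
      _ = α * (β⁻¹ * β⁻¹) := by rw [hβα, mul_assoc]
      _ = α * β * β ^ 2 * (β ^ 5)⁻¹ := by group
      _ = α * β * β ^ 2 := by rw [hβ5, inv_one, mul_one]
  set M := modFix α with hM
  set M' := modFix (α * β) with hM'
  have hmap : M.map (β ^ 2 : MulAut E).toMonoidHom ≤ M' := by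
    rintro _ ⟨x, hx, rfl⟩
    have h : (β ^ 2) (α x) = (α * β) ((β ^ 2) x) := by
      rw [← MulAut.mul_apply, hconj]; rfl
    show (α * β) ((β ^ 2) x) * ((β ^ 2) x)⁻¹ ∈ center E
    rw [← h, ← map_inv, ← map_mul, map_center hE hzc hz1 _ hx]
    exact hx
  have hcard : Nat.card M ≤ Nat.card M' := by
    rw [← card_map_of_injective (f := (β ^ 2 : MulAut E).toMonoidHom) (β ^ 2).injective]
    exact card_le_of_le hmap
  have hinf : M ⊓ M' ≤ center E := by
    rintro x ⟨hx, hx'⟩
    refine mem_center_of_fix hE hzc hz1 h32 hβ5 hβ1 (fix_of_mem_modFix hE hzc hz1 hβ5 ?_)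
    show β x * x⁻¹ ∈ center E
    have h1 : α x * x⁻¹ ∈ center E := hx
    have h2 : α (β x) * x⁻¹ ∈ center E := hx'
    have h3 := mul_mem h2 (inv_mem h1)
    rw [show α (β x) * x⁻¹ * (α x * x⁻¹)⁻¹ = α (β x) * (α x)⁻¹ by group, ← map_inv, ← map_mul] at h3
    have h4 := map_center hE hzc hz1 α⁻¹ h3
    rw [← MulAut.mul_apply, inv_mul_cancel, MulAut.one_apply] at h4
    rw [h4]; exact h3
  have h1 := (M.subgroupOf M').index_mul_card
  have h2 : Nat.card (M.subgroupOf M') ≤ 2 := by
    rw [← hE.2, ← inf_subgroupOf_right,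
      Nat.card_congr (subgroupOfEquivOfLe (inf_le_right : M ⊓ M' ≤ M')).toEquiv]
    exact card_le_of_le hinf
  have h3 : M.relIndex M' ≤ M.index := by
    rw [← relIndex_top_right]
    exact relIndex_le_of_le_right le_top (by rw [relIndex_top_right]; exact index_ne_zero_of_finite)
  have h4 := M.index_mul_card
  rw [h32] at h4
  by_contra h8
  push Not at h8
  have h5 : Nat.card M' ≤ 2 * M.index := by
    rw [← h1, mul_comm 2]
    exact Nat.mul_le_mul h3 h2
  nlinarith

end

section

variable [Finite E] (hE : IsExtraspecial 2 E) {z : E} (hzc : z ∈ center E) (hz1 : z ≠ 1)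
  (h32 : Nat.card E = 32) {α : MulAut E} (hα2 : ∀ x, α (α x) = x)
  (hle : Nat.card (modFix α) ≤ 8)
include hE hzc hz1 h32 hα2 hle

theorem inverts_and_card : (∀ x ∈ modFix α, α x = x⁻¹) ∧ Nat.card (modFix α) = 8 := by
  have hcomm := quot_comm hE
  let π := QuotientGroup.mk' (center E)
  have hsq : ∀ y : E, π y * π y = 1 := fun y => by
    rw [← map_mul]
    exact (QuotientGroup.eq_one_iff _).2 (PGroups.ExtraspecialOut.mul_self_mem hE y)
  let D : E →* E ⧸ center E := MonoidHom.mk' (fun y => π y * π (α y)) (fun a b => by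
    rw [map_mul, map_mul, map_mul, mul_assoc, ← mul_assoc (π b), hcomm (π b), mul_assoc,
      ← mul_assoc])
  have hmem : ∀ y : E, y ∈ modFix α ↔ π (α y) = π y := by
    intro y
    rw [mem_modFix, ← QuotientGroup.eq_one_iff (N := center E)]
    show π (α y * y⁻¹) = 1 ↔ _
    rw [map_mul, map_inv, mul_inv_eq_one]
  have hker : D.ker = modFix α := by
    ext y
    rw [MonoidHom.mem_ker, hmem]
    show π y * π (α y) = 1 ↔ _
    constructor
    · intro h
      exact mul_left_cancel (h.trans (hsq y).symm)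
    · intro h
      rw [h, hsq]
  have hrange : D.range ≤ (modFix α).map π := by
    rintro _ ⟨y, rfl⟩
    refine ⟨y * α y, (hmem _).2 ?_, map_mul π _ _⟩
    rw [map_mul, hα2, map_mul, map_mul, hcomm]
  have hZM : center E ≤ modFix α := fun c hc => by
    rw [mem_modFix, map_center hE hzc hz1 α hc, mul_inv_cancel]
    exact one_mem _
  have hcardmap : Nat.card (modFix α) = 2 * Nat.card ((modFix α).map π) := by
    have h := (π.comp (modFix α).subtype).ker.index_mul_card
    rw [index_ker, MonoidHom.range_comp, range_subtype] at h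
    rw [← h, mul_comm]
    congr 1
    rw [← hE.2]
    refine (Nat.card_congr ?_)
    exact
      { toFun := fun x => ⟨x.1.1, (QuotientGroup.eq_one_iff _).1 x.2⟩
        invFun := fun c => ⟨⟨c.1, hZM c.2⟩, (QuotientGroup.eq_one_iff _).2 c.2⟩
        left_inv := fun _ => rfl
        right_inv := fun _ => rfl }
  have hprod := D.ker.index_mul_card
  rw [index_ker, h32, hker] at hprod
  have hr := card_le_of_le hrange
  have hM8 : Nat.card (modFix α) = 8 := by nlinarith
  have heq : D.range = (modFix α).map π :=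
    eq_of_le_of_card_ge hrange (by rw [hM8] at hcardmap hprod; omega)
  refine ⟨fun x hx => ?_, hM8⟩
  obtain ⟨y, hy⟩ := heq.ge (mem_map_of_mem π hx)
  have hy' : π (y * α y) = π x := (map_mul π _ _).trans hy
  have hc : (y * α y)⁻¹ * x ∈ center E := QuotientGroup.eq.1 hy'
  set c := (y * α y)⁻¹ * x with hcdef
  have hx' : x = y * α y * c := by rw [hcdef]; group
  have hsqy := PGroups.ExtraspecialOut.mul_self_mem hE y
  refine eq_inv_of_mul_eq_one_right ?_
  have hαc : α c = c := map_center hE hzc hz1 α hc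
  calc x * α x = y * α y * c * (α y * y * c) := by rw [hx', map_mul, map_mul, hα2, hαc]
    _ = y * α y * (c * (α y * y)) * c := by group
    _ = y * α y * ((α y * y) * c) * c := by rw [mem_center_iff.1 hc (α y * y)]
    _ = y * (α y * α y) * y * (c * c) := by group
    _ = y * α (y * y) * y := by
        rw [PGroups.ExtraspecialOut.center_mul_self hE hc, mul_one, map_mul]
    _ = (y * y) * (y * y) := by rw [map_center hE hzc hz1 α hsqy]; group
    _ = 1 := PGroups.ExtraspecialOut.center_mul_self hE hsqy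

theorem card_inverted : Nat.card {x : E // α x = x⁻¹} = 8 := by
  obtain ⟨hinv, h8⟩ := inverts_and_card hE hzc hz1 h32 hα2 hle
  refine (Nat.card_congr (Equiv.subtypeEquivRight fun x => ?_)).trans h8
  refine ⟨fun h => ?_, hinv x⟩
  rw [mem_modFix, h, ← mul_inv_rev]
  exact inv_mem (PGroups.ExtraspecialOut.mul_self_mem hE x)

theorem card_moved (hminus : Nat.card {x : E // x * x = 1} = 12 ∧
    ∀ x y : E, x * x = 1 → y * y = 1 → x * y = y * x →
      x ∈ center E ∨ y ∈ center E ∨ x⁻¹ * y ∈ center E) :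
    Nat.card {u : E // u * u = 1 ∧ α u ≠ u} = 8 := by
  classical
  obtain ⟨hinv, h8⟩ := inverts_and_card hE hzc hz1 h32 hα2 hle
  have hcommM : ∀ a ∈ modFix α, ∀ b ∈ modFix α, a * b = b * a := by
    intro a ha b hb
    have h := hinv _ (mul_mem ha hb)
    rw [map_mul, hinv a ha, hinv b hb, ← mul_inv_rev] at h
    exact (inv_injective h).symm
  have hzz : z * z = 1 := PGroups.ExtraspecialOut.center_mul_self hE hzc
  obtain ⟨u₀, hu₀M, hu₀2, hu₀c⟩ : ∃ u ∈ modFix α, u * u = 1 ∧ u ∉ center E := by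
    obtain ⟨a, haM, hac⟩ : ∃ a ∈ modFix α, a ∉ center E := by
      by_contra h
      push Not at h
      have := card_le_of_le (fun a ha => h a ha : modFix α ≤ center E)
      rw [h8, hE.2] at this
      omega
    obtain ⟨b, hbM, hb⟩ : ∃ b ∈ modFix α, b ∉ ({1, z, a⁻¹, a⁻¹ * z} : Finset E) := by
      by_contra h
      push Not at h
      have hsub : Set.ncard (modFix α : Set E) ≤ Set.ncard (({1, z, a⁻¹, a⁻¹ * z} : Finset E) : Set E) :=
        Set.ncard_le_ncard (fun b hb => h b hb) (Finset.finite_toSet _)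
      rw [← Nat.card_coe_set_eq, Set.ncard_coe_finset] at hsub
      have h4 := Finset.card_le_four (a := (1 : E)) (b := z) (c := a⁻¹) (d := a⁻¹ * z)
      rw [SetLike.coe_sort_coe, h8] at hsub
      omega
    simp only [Finset.mem_insert, Finset.mem_singleton, not_or] at hb
    have hnot : ∀ c : E, c ∈ center E → ∀ w, w ≠ 1 → w ≠ z → w ≠ c := fun c hc w h1 h2 e => by
      rcases center_cases hE hzc hz1 hc with rfl | rfl
      · exact h1 e
      · exact h2 e
    by_cases ha2 : a * a = 1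
    · exact ⟨a, haM, ha2, hac⟩
    by_cases hb2 : b * b = 1
    · exact ⟨b, hbM, hb2, fun h => hnot b h b hb.1 hb.2.1 rfl⟩
    refine ⟨a * b, mul_mem haM hbM, ?_, fun h => ?_⟩
    · have ha' := (center_cases hE hzc hz1 (PGroups.ExtraspecialOut.mul_self_mem hE a)).resolve_left ha2
      have hb' := (center_cases hE hzc hz1 (PGroups.ExtraspecialOut.mul_self_mem hE b)).resolve_left hb2
      calc a * b * (a * b) = a * (b * a) * b := by group
        _ = (a * a) * (b * b) := by rw [hcommM b hbM a haM]; group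
        _ = 1 := by rw [ha', hb', hzz]
    · rcases center_cases hE hzc hz1 h with e | e
      · exact hb.2.2.1 (eq_inv_of_mul_eq_one_right e)
      · exact hb.2.2.2 (by rw [← e]; group)
  have hu₀z : u₀ * z * (u₀ * z) = 1 := by
    rw [show u₀ * z * (u₀ * z) = u₀ * (z * u₀) * z by group, ← mem_center_iff.1 hzc u₀,
      show u₀ * (u₀ * z) * z = u₀ * u₀ * (z * z) by group, hu₀2, hzz, one_mul]
  have hfixed : {u : E | u * u = 1 ∧ α u = u} = {1, z, u₀, u₀ * z} := by
    ext u
    simp only [Set.mem_setOf_eq, Set.mem_insert_iff, Set.mem_singleton_iff]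
    constructor
    · rintro ⟨h2, hf⟩
      have huM : u ∈ modFix α := by rw [mem_modFix, hf, mul_inv_cancel]; exact one_mem _
      rcases hminus.2 u₀ u hu₀2 h2 (hcommM _ hu₀M _ huM) with h | h | h
      · exact absurd h hu₀c
      · rcases center_cases hE hzc hz1 h with e | e
        · exact Or.inl e
        · exact Or.inr (Or.inl e)
      · rcases center_cases hE hzc hz1 h with e | e
        · exact Or.inr (Or.inr (Or.inl (inv_mul_eq_one.1 e).symm))
        · exact Or.inr (Or.inr (Or.inr (inv_mul_eq_iff_eq_mul.1 e)))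
    · have hu₀f : α u₀ = u₀ := (hinv u₀ hu₀M).trans (inv_eq_of_mul_eq_one_left hu₀2)
      have hzf : α z = z := map_center hE hzc hz1 α hzc
      rintro (rfl | rfl | rfl | rfl)
      · exact ⟨one_mul 1, map_one α⟩
      · exact ⟨hzz, hzf⟩
      · exact ⟨hu₀2, hu₀f⟩
      · exact ⟨hu₀z, by rw [map_mul, hu₀f, hzf]⟩
  have h4 : Set.ncard {u : E | u * u = 1 ∧ α u = u} = 4 := by
    rw [hfixed]
    have hu1 : u₀ ≠ 1 := fun e => hu₀c (e ▸ one_mem _)
    have huz : u₀ ≠ z := fun e => hu₀c (e ▸ hzc)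
    have n1 : u₀ * z ≠ 1 := fun e => hu₀c (eq_inv_of_mul_eq_one_left e ▸ inv_mem hzc)
    have n2 : u₀ * z ≠ z := fun e => hu1 (mul_eq_right.1 e)
    have n3 : u₀ * z ≠ u₀ := fun e => hz1 (mul_eq_left.1 e)
    rw [Set.ncard_insert_of_notMem (by simp [hz1.symm, hu1.symm, n1.symm]),
      Set.ncard_insert_of_notMem (by simp [huz.symm, n2.symm]),
      Set.ncard_insert_of_notMem (by simp [n3.symm]), Set.ncard_singleton]
  have h12 : Set.ncard {u : E | u * u = 1} = 12 := hminus.1
  have hdiff : {u : E | u * u = 1 ∧ α u ≠ u} =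
      {u : E | u * u = 1} \ {u : E | u * u = 1 ∧ α u = u} := by
    ext u; simp only [Set.mem_setOf_eq, Set.mem_sdiff]; tauto
  show Set.ncard {u : E | u * u = 1 ∧ α u ≠ u} = 8
  rw [hdiff, Set.ncard_sdiff (fun u hu => hu.1), h4, h12]

end

end CfsgLib.Recog.MinusThirtyTwo
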