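import Mathlib
import Cfsg.Agent.Lib.Recog.PrimeGraph

/-!
# Element orders of `PSL(2,7)` and `SL(2,8)`
-/

namespace CfsgLib.Recog.PSLSeven

/-- primes of the order and absence of elements of two-prime order -/
theorem prime_data {G : Type*} [Group G] [Finite G] {a b c : ℕ}
    (h : ∀ g : G, g ^ a = 1 ∨ g ^ b = 1 ∨ g ^ c = 1)
    (ha : IsPrimePow a) (hb : IsPrimePow b) (hc : IsPrimePow c)
    {x y z : G} {p q r : ℕ} (hp : p.Prime) (hq : q.Prime) (hr : r.Prime)
    (hpa : p ∣ a) (hqb : q ∣ b) (hrc : r ∣ c) (hx : orderOf x = p) (hy : orderOf y = q) (hz : orderOf z = r) :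
    (∀ s : ℕ, s.Prime → (s ∣ Nat.card G ↔ s = p ∨ s = q ∨ s = r)) ∧
      ∀ s t : ℕ, s.Prime → t.Prime → s ≠ t → ¬ ∃ g : G, orderOf g = s * t := by
  have key : ∀ n : ℕ, IsPrimePow n → ∀ p : ℕ, p.Prime → p ∣ n → ∀ s : ℕ, s.Prime → s ∣ n → s = p := by
    intro n hn p hp hpn s hs hsn
    obtain ⟨l, k, hl, hk, rfl⟩ := hn
    have hl' := hl.nat_prime
    rw [(Nat.prime_dvd_prime_iff_eq hp hl').mp (hp.dvd_of_dvd_pow hpn),
      (Nat.prime_dvd_prime_iff_eq hs hl').mp (hs.dvd_of_dvd_pow hsn)]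
  refine ⟨fun s hs => ⟨fun hd => ?_, ?_⟩, ?_⟩
  · haveI := Fact.mk hs
    obtain ⟨g, hg⟩ := exists_prime_orderOf_dvd_card' s hd
    rcases h g with e | e | e <;> have e' := hg ▸ orderOf_dvd_of_pow_eq_one e
    · exact Or.inl (key a ha p hp hpa s hs e')
    · exact Or.inr (Or.inl (key b hb q hq hqb s hs e'))
    · exact Or.inr (Or.inr (key c hc r hr hrc s hs e'))
  · rintro (rfl | rfl | rfl)
    exacts [hx ▸ orderOf_dvd_natCard x, hy ▸ orderOf_dvd_natCard y, hz ▸ orderOf_dvd_natCard z]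
  · rintro s t hs ht hne ⟨g, hg⟩
    rcases h g with e | e | e <;> have e' := hg ▸ orderOf_dvd_of_pow_eq_one e <;>
      apply hne
    · rw [key a ha p hp hpa s hs ((dvd_mul_right s t).trans e'), key a ha p hp hpa t ht ((dvd_mul_left t s).trans e')]
    · rw [key b hb q hq hqb s hs ((dvd_mul_right s t).trans e'), key b hb q hq hqb t ht ((dvd_mul_left t s).trans e')]
    · rw [key c hc r hr hrc s hs ((dvd_mul_right s t).trans e'), key c hc r hr hrc t ht ((dvd_mul_left t s).trans e')]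

/-- coefficient sequence of powers in `SL(2)` -/
def seq {R : Type*} [CommRing R] (t : R) : ℕ → R
  | 0 => 0
  | 1 => 1
  | n + 2 => t * seq t (n + 1) - seq t n

theorem seq_map {R S : Type*} [CommRing R] [CommRing S] (f : R →+* S) (t : R) :
    ∀ n, seq (f t) n = f (seq t n)
  | 0 => by simp [seq]
  | 1 => by simp [seq]
  | n + 2 => by simp [seq, seq_map f t (n + 1), seq_map f t n]

theorem pow_succ_eq {F : Type*} [CommRing F] (A : Matrix.SpecialLinearGroup (Fin 2) F) (n : ℕ) :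
    (A : Matrix (Fin 2) (Fin 2) F) ^ (n + 1) =
      seq ((A : Matrix (Fin 2) (Fin 2) F) 0 0 + (A : Matrix (Fin 2) (Fin 2) F) 1 1) (n + 1) • (A : Matrix (Fin 2) (Fin 2) F)
        - seq ((A : Matrix (Fin 2) (Fin 2) F) 0 0 + (A : Matrix (Fin 2) (Fin 2) F) 1 1) n • 1 := by
  set t := (A : Matrix (Fin 2) (Fin 2) F) 0 0 + (A : Matrix (Fin 2) (Fin 2) F) 1 1 with ht
  have hsq : (A : Matrix (Fin 2) (Fin 2) F) * A = t • (A : Matrix (Fin 2) (Fin 2) F) - 1 := by
    have h := A.det_coe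
    rw [Matrix.det_fin_two] at h
    ext i j
    fin_cases i <;> fin_cases j <;> simp [ht, Matrix.mul_apply, Fin.sum_univ_two]
    · linear_combination -h
    · ring
    · ring
    · linear_combination -h
  induction n with
  | zero => simp [seq]
  | succ n ih =>
    rw [pow_succ, ih, sub_mul, smul_mul_assoc, smul_mul_assoc, one_mul, hsq]
    simp only [seq, smul_sub, smul_smul]
    module

variable {F : Type*} [Field F] [Fintype F]

theorem zmod_seven_cases : ∀ t : ZMod 7,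
    (seq t 4 = 0 ∧ seq t 3 * seq t 3 = 1) ∨ (seq t 3 = 0 ∧ seq t 2 * seq t 2 = 1) ∨
      (seq t 7 = 0 ∧ seq t 6 * seq t 6 = 1) := by
  decide +kernel

theorem psl_seven_orders (hF : Fintype.card F = 7) (g : Matrix.ProjectiveSpecialLinearGroup (Fin 2) F) :
    g ^ 4 = 1 ∨ g ^ 3 = 1 ∨ g ^ 7 = 1 := by
  obtain ⟨A, rfl⟩ := QuotientGroup.mk_surjective g
  haveI : Fact (Nat.Prime 7) := ⟨by norm_num⟩
  let e : ZMod 7 ≃+* F := ZMod.ringEquivOfPrime F (by norm_num) hF
  set t := (A : Matrix (Fin 2) (Fin 2) F) 0 0 + (A : Matrix (Fin 2) (Fin 2) F) 1 1 with ht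
  obtain ⟨u, hu⟩ : ∃ u, e u = t := ⟨e.symm t, e.apply_symm_apply t⟩
  have key : ∀ k, seq u (k + 1) = 0 → seq u k * seq u k = 1 → A ^ (k + 1) ∈ Subgroup.center _ := by
    intro k h0 h1
    rw [Matrix.SpecialLinearGroup.mem_center_iff]
    refine ⟨-e (seq u k), ?_, ?_⟩
    · rw [Fintype.card_fin, neg_sq, pow_two, ← map_mul, h1, map_one]
    · rw [Matrix.SpecialLinearGroup.coe_pow, pow_succ_eq, ← ht, ← hu,
        show (e u : F) = e.toRingHom u from rfl, seq_map, seq_map, h0, map_zero, zero_smul, zero_sub]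
      ext i j
      by_cases hij : i = j
      · subst hij; simp [Matrix.scalar_apply]
      · simp [Matrix.scalar_apply, hij]
  rcases zmod_seven_cases u with h | h | h
  · exact Or.inl ((QuotientGroup.eq_one_iff _).mpr (key 3 h.1 h.2))
  · exact Or.inr (Or.inl ((QuotientGroup.eq_one_iff _).mpr (key 2 h.1 h.2)))
  · exact Or.inr (Or.inr ((QuotientGroup.eq_one_iff _).mpr (key 6 h.1 h.2)))

theorem mk_ne_one {A : Matrix.SpecialLinearGroup (Fin 2) F}
    (h : (A : Matrix (Fin 2) (Fin 2) F) 0 1 ≠ 0) :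
    (QuotientGroup.mk A : Matrix.ProjectiveSpecialLinearGroup (Fin 2) F) ≠ 1 := by
  intro h1
  obtain ⟨r, -, hr⟩ := Matrix.SpecialLinearGroup.mem_center_iff.mp ((QuotientGroup.eq_one_iff _).mp h1)
  apply h
  rw [← hr]
  simp [Matrix.scalar_apply]

theorem psl_seven_data (hF : Fintype.card F = 7) :
    (∀ s : ℕ, s.Prime → (s ∣ Nat.card (Matrix.ProjectiveSpecialLinearGroup (Fin 2) F) ↔ s = 2 ∨ s = 3 ∨ s = 7)) ∧
      ∀ s t : ℕ, s.Prime → t.Prime → s ≠ t →
        ¬ ∃ g : Matrix.ProjectiveSpecialLinearGroup (Fin 2) F, orderOf g = s * t := by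
  haveI := Fact.mk Nat.prime_two
  haveI := Fact.mk Nat.prime_three
  haveI : Fact (Nat.Prime 7) := ⟨by norm_num⟩
  haveI : CharP F 7 := charP_of_card_eq_prime hF
  let S : Matrix.SpecialLinearGroup (Fin 2) F := ⟨!![0, 1; -1, 0], by rw [Matrix.det_fin_two_of]; ring⟩
  let T : Matrix.SpecialLinearGroup (Fin 2) F := ⟨!![0, 1; -1, -1], by rw [Matrix.det_fin_two_of]; ring⟩
  let U : Matrix.SpecialLinearGroup (Fin 2) F := ⟨!![1, 1; 0, 1], by rw [Matrix.det_fin_two_of]; ring⟩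
  have h7 : (7 : F) = 0 := by exact_mod_cast CharP.cast_eq_zero F 7
  have pw : ∀ (A : Matrix.SpecialLinearGroup (Fin 2) F) (k : ℕ) (r : F), r * r = 1 →
      seq ((A : Matrix (Fin 2) (Fin 2) F) 0 0 + (A : Matrix (Fin 2) (Fin 2) F) 1 1) (k + 1) = 0 →
      seq ((A : Matrix (Fin 2) (Fin 2) F) 0 0 + (A : Matrix (Fin 2) (Fin 2) F) 1 1) k = r →
      (QuotientGroup.mk A : Matrix.ProjectiveSpecialLinearGroup (Fin 2) F) ^ (k + 1) = 1 := by
    intro A k r hr h0 h1
    refine (QuotientGroup.eq_one_iff _).mpr ?_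
    rw [Matrix.SpecialLinearGroup.mem_center_iff]
    refine ⟨-r, by rw [Fintype.card_fin, neg_sq, pow_two, hr], ?_⟩
    rw [Matrix.SpecialLinearGroup.coe_pow, pow_succ_eq, h0, h1, zero_smul, zero_sub]
    ext i j
    by_cases hij : i = j
    · subst hij; simp [Matrix.scalar_apply]
    · simp [Matrix.scalar_apply, hij]
  refine prime_data (psl_seven_orders hF) ⟨2, 2, Nat.prime_two.prime, by norm_num, rfl⟩
    (Nat.prime_three.prime.isPrimePow) ((Fact.out : Nat.Prime 7).prime.isPrimePow)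
    Nat.prime_two Nat.prime_three Fact.out (by norm_num) dvd_rfl dvd_rfl
    (x := QuotientGroup.mk S) (y := QuotientGroup.mk T) (z := QuotientGroup.mk U) ?_ ?_ ?_
  · exact orderOf_eq_prime (pw S 1 1 (one_mul 1) (by simp [S, seq]) (by simp [seq])) (mk_ne_one (by simp [S]))
  · exact orderOf_eq_prime (pw T 2 (-1) (by ring) (by simp [T, seq]) (by simp [T, seq])) (mk_ne_one (by simp [T]))
  · refine orderOf_eq_prime (pw U 6 (-1) (by ring) ?_ ?_) (mk_ne_one (by simp [U]))
    · simp [U, seq]; linear_combination h7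
    · simp [U, seq]; linear_combination h7

theorem sl_eight_data (hF : Fintype.card F = 8) [CharP F 2] :
    (∀ s : ℕ, s.Prime → (s ∣ Nat.card (AffineTwo.SL2 F) ↔ s = 2 ∨ s = 7 ∨ s = 3)) ∧
      ∀ s t : ℕ, s.Prime → t.Prime → s ≠ t → ¬ ∃ g : AffineTwo.SL2 F, orderOf g = s * t := by
  haveI := Fact.mk Nat.prime_two
  haveI := Fact.mk Nat.prime_three
  haveI : Fact (Nat.Prime 7) := ⟨by norm_num⟩
  have h2 : (2 : F) = 0 := CharTwo.two_eq_zero
  obtain ⟨a, ha0, ha1⟩ : ∃ a : F, a ≠ 0 ∧ a ≠ 1 := by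
    classical
    by_contra hne
    push Not at hne
    have hle : (Finset.univ : Finset F) ⊆ {0, 1} := fun x _ => by
      by_cases h : x = 0
      · simp [h]
      · simp [hne x h]
    have := Finset.card_le_card hle
    rw [Finset.card_univ, hF] at this
    have h2' : ({0, 1} : Finset F).card ≤ 2 := Finset.card_le_two
    omega
  have ha7 : a ^ 7 = 1 := by simpa [hF] using FiniteField.pow_card_sub_one_eq_one a ha0
  let S : AffineTwo.SL2 F := ⟨!![1, 1; 0, 1], by rw [Matrix.det_fin_two_of]; ring⟩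
  let T : AffineTwo.SL2 F := ⟨!![0, 1; 1, 1], by rw [Matrix.det_fin_two_of]; linear_combination (-1 : F) * h2⟩
  let U : AffineTwo.SL2 F := ⟨Matrix.diagonal ![a, a⁻¹], by simp [Matrix.det_diagonal, Fin.prod_univ_two, ha0]⟩
  refine prime_data (AffineTwo.orders_card_eight hF) (Nat.prime_two.prime.isPrimePow)
    ((Fact.out : Nat.Prime 7).prime.isPrimePow) ⟨3, 2, Nat.prime_three.prime, by norm_num, rfl⟩
    Nat.prime_two Fact.out Nat.prime_three dvd_rfl dvd_rfl (by norm_num)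
    (x := S) (y := U) (z := T) ?_ ?_ ?_
  · refine orderOf_eq_prime (AffineTwo.sq_eq_one_of_tr _ ?_) ?_
    · show (1 : F) + 1 = 0
      exact CharTwo.add_self_eq_zero 1
    · intro h
      have := congrArg (fun A : AffineTwo.SL2 F => (A : Matrix (Fin 2) (Fin 2) F) 0 1) h
      simp [S] at this
  · refine orderOf_eq_prime ?_ ?_
    · apply Subtype.ext
      rw [Matrix.SpecialLinearGroup.coe_pow]
      show (Matrix.diagonal ![a, a⁻¹]) ^ 7 = 1
      rw [Matrix.diagonal_pow, ← Matrix.diagonal_one]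
      congr 1
      funext i
      fin_cases i <;> simp [ha7]
    · intro h
      have := congrArg (fun A : AffineTwo.SL2 F => (A : Matrix (Fin 2) (Fin 2) F) 0 0) h
      simp [U] at this
      exact ha1 this
  · refine orderOf_eq_prime (AffineTwo.pow_eq_one_of_coef T 2 ?_ ?_) ?_
    · simp [AffineTwo.coef, AffineTwo.tr, T]; linear_combination h2
    · simp [AffineTwo.coef, AffineTwo.tr, T]
    · intro h
      have := congrArg (fun A : AffineTwo.SL2 F => (A : Matrix (Fin 2) (Fin 2) F) 0 0) h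
      simp [T] at this

end CfsgLib.Recog.PSLSeven
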