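import Mathlib

/-!
# Matrices for `PSp₆(3)`
-/

set_option autoImplicit false

namespace CfsgLib.Recog.PSpSixThree

/-- a symplectic matrix with power 13 equal to minus one -/
def gen13 : List (List (ZMod 3)) :=
  [[1, 0, 0, 2, 0, 0],
  [1, 0, 1, 2, 0, 2],
  [0, 0, 0, 0, 1, 0],
  [1, 0, 0, 0, 0, 2],
  [1, 0, 1, 2, 0, 0],
  [0, 2, 0, 0, 0, 0]]

/-- inverse of the matrix of the first six vectors of the orbit -/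
def binv13 : List (List (ZMod 3)) :=
  [[1, 0, 0, 2, 0, 2],
  [0, 2, 2, 1, 1, 2],
  [0, 1, 2, 2, 0, 1],
  [0, 0, 2, 2, 0, 1],
  [0, 2, 2, 2, 1, 1],
  [0, 1, 2, 1, 0, 0]]

/-- the orbit of the first basis vector under an element of order 13 -/
def orb13 : List (List (ZMod 3)) :=
  [[1, 0, 0, 0, 0, 0],
  [0, 0, 1, 1, 0, 2],
  [1, 1, 0, 2, 1, 2],
  [0, 2, 2, 0, 1, 0],
  [0, 0, 2, 2, 1, 1],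
  [2, 0, 0, 1, 0, 1],
  [0, 0, 1, 1, 0, 0],
  [2, 2, 0, 2, 2, 0],
  [1, 2, 0, 2, 0, 0],
  [1, 0, 2, 1, 1, 1],
  [0, 1, 2, 0, 1, 2],
  [2, 1, 2, 1, 0, 0],
  [2, 0, 0, 2, 2, 0]]

/-- the orbit of the first basis vector under the generator -/
def tgt13 : List (List (ZMod 3)) :=
  [[1, 0, 0, 0, 0, 0],
  [1, 1, 0, 1, 1, 0],
  [0, 0, 1, 1, 0, 2],
  [2, 1, 0, 1, 0, 0],
  [1, 1, 0, 2, 1, 2],
  [2, 0, 1, 2, 2, 2],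
  [0, 2, 2, 0, 1, 0],
  [0, 2, 1, 0, 2, 1],
  [0, 0, 2, 2, 1, 1],
  [1, 2, 1, 2, 0, 0],
  [2, 0, 0, 1, 0, 1],
  [1, 0, 0, 1, 1, 0],
  [0, 0, 1, 1, 0, 0],
  [2, 0, 0, 0, 0, 0],
  [2, 2, 0, 2, 2, 0],
  [0, 0, 2, 2, 0, 1],
  [1, 2, 0, 2, 0, 0],
  [2, 2, 0, 1, 2, 1],
  [1, 0, 2, 1, 1, 1],
  [0, 1, 1, 0, 2, 0],
  [0, 1, 2, 0, 1, 2],
  [0, 0, 1, 1, 2, 2],
  [2, 1, 2, 1, 0, 0],
  [1, 0, 0, 2, 0, 2],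
  [2, 0, 0, 2, 2, 0],
  [0, 0, 2, 2, 0, 0]]

/-- a symplectic matrix with power 14 equal to minus one -/
def gen7 : List (List (ZMod 3)) :=
  [[0, 1, 2, 0, 0, 0],
  [0, 0, 0, 1, 0, 0],
  [0, 2, 0, 0, 2, 2],
  [0, 0, 0, 0, 0, 2],
  [2, 0, 0, 0, 0, 0],
  [0, 0, 0, 0, 2, 2]]

/-- inverse of the matrix of the first six vectors of the orbit -/
def binv7 : List (List (ZMod 3)) :=
  [[1, 0, 0, 0, 2, 0],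
  [0, 2, 1, 1, 2, 2],
  [0, 0, 0, 2, 1, 0],
  [0, 1, 1, 1, 0, 2],
  [0, 2, 1, 0, 0, 1],
  [0, 1, 2, 2, 2, 1]]

/-- the orbit of the first basis vector under an element of order 7 -/
def orb7 : List (List (ZMod 3)) :=
  [[1, 0, 0, 0, 0, 0],
  [1, 2, 1, 1, 1, 1],
  [0, 0, 2, 2, 0, 1],
  [0, 2, 2, 0, 0, 0],
  [0, 0, 2, 0, 0, 2],
  [1, 1, 1, 1, 1, 0],
  [0, 1, 1, 2, 1, 2]]

/-- the orbit of the first basis vector under the generator -/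
def tgt7 : List (List (ZMod 3)) :=
  [[1, 0, 0, 0, 0, 0],
  [0, 0, 0, 0, 2, 0],
  [0, 0, 1, 0, 0, 1],
  [2, 0, 2, 2, 0, 2],
  [1, 2, 1, 1, 1, 1],
  [1, 1, 2, 2, 2, 1],
  [2, 2, 2, 2, 2, 0],
  [0, 2, 2, 0, 1, 1],
  [0, 0, 2, 2, 0, 1],
  [1, 2, 2, 2, 0, 2],
  [0, 2, 2, 1, 2, 1],
  [0, 1, 1, 2, 0, 0],
  [0, 2, 2, 0, 0, 0],
  [0, 0, 1, 0, 0, 0],
  [2, 0, 0, 0, 0, 0],
  [0, 0, 0, 0, 1, 0],
  [0, 0, 2, 0, 0, 2],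
  [1, 0, 1, 1, 0, 1],
  [2, 1, 2, 2, 2, 2],
  [2, 2, 1, 1, 1, 2],
  [1, 1, 1, 1, 1, 0],
  [0, 1, 1, 0, 2, 2],
  [0, 0, 1, 1, 0, 2],
  [2, 1, 1, 1, 0, 1],
  [0, 1, 1, 2, 1, 2],
  [0, 2, 2, 1, 0, 0],
  [0, 1, 1, 0, 0, 0],
  [0, 0, 2, 0, 0, 0]]

/-- an element of projective order 6 -/
def wit6 : List (List (ZMod 3)) :=
  [[1, 0, 2, 0, 0, 1],
  [0, 1, 0, 0, 2, 0],
  [0, 0, 2, 1, 0, 2],
  [0, 0, 0, 1, 0, 0],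
  [0, 1, 0, 0, 0, 0],
  [0, 0, 1, 1, 0, 0]]

/-- an element of projective order 10 -/
def wit10 : List (List (ZMod 3)) :=
  [[0, 0, 0, 2, 0, 1],
  [0, 0, 0, 2, 1, 1],
  [2, 0, 2, 2, 0, 1],
  [1, 1, 0, 1, 2, 0],
  [0, 2, 0, 0, 1, 0],
  [0, 0, 0, 0, 0, 2]]

/-- an element of projective order 15 -/
def wit15 : List (List (ZMod 3)) :=
  [[0, 0, 0, 1, 0, 2],
  [0, 0, 0, 1, 2, 0],
  [1, 1, 1, 0, 1, 1],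
  [0, 0, 1, 1, 0, 0],
  [0, 1, 0, 2, 2, 0],
  [0, 0, 0, 1, 0, 0]]

end CfsgLib.Recog.PSpSixThree
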