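import Mathlib
import Cfsg.Agent.Lib.Recog.PSpSixThreeData
import Cfsg.Agent.Lib.Classical.Symplectic.MatrixStructure

/-!
# Orders of elements of `PSp₆(3)`: the parts used for its prime graph
-/

set_option autoImplicit false
set_option maxRecDepth 20000

namespace CfsgLib.Recog.PSpSixThree

open Matrix

/-- the index type -/
abbrev Idx := Fin 3 ⊕ Fin 3

/-- the position of an index -/
def ix : Idx → ℕ := Sum.elim (fun i => i.1) (fun i => i.1 + 3)

theorem ix_lt : ∀ r : Idx, ix r < 6 := by decide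

/-- a matrix from rows -/
def mat (l : List (List (ZMod 3))) : Matrix Idx Idx (ZMod 3) :=
  Matrix.of fun i j => (l.getD (ix i) []).getD (ix j) 0

/-- a row of a table as a vector -/
def vec (l : List (List (ZMod 3))) (k : ℕ) : Idx → ZMod 3 := fun r => (l.getD k []).getD (ix r) 0

/-- the first basis vector -/
def e0 : Idx → ZMod 3 := fun r => bif ix r == 0 then 1 else 0

/-- all six-tuples -/
def digits (k : Fin (3 ^ 6)) : Idx → ZMod 3 :=
  fun r => ((k.1 / 3 ^ ix r % 3 : ℕ) : ZMod 3)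

theorem exists_digits (c : Idx → ZMod 3) : ∃ k, digits k = c := by
  refine ⟨finFunctionFinEquiv fun i : Fin 6 => (⟨(c (finSumFinEquiv.symm i)).val, ZMod.val_lt _⟩ : Fin 3), ?_⟩
  funext r
  have h := finFunctionFinEquiv.symm_apply_apply
    (fun i : Fin 6 => (⟨(c (finSumFinEquiv.symm i)).val, ZMod.val_lt _⟩ : Fin 3))
  have h2 := congrArg Fin.val (congrFun h (finSumFinEquiv r))
  rw [finFunctionFinEquiv_symm_apply_val, Equiv.symm_apply_apply] at h2
  have hix : ((finSumFinEquiv r : Fin 6) : ℕ) = ix r := by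
    rcases r with i | i <;> simp [ix, finSumFinEquiv, Nat.add_comm]
  rw [hix] at h2
  simp only [digits]
  rw [h2, ZMod.natCast_zmod_val]

/-- the data for one torus -/
structure Torus where
  n : ℕ
  p : ℕ
  m : ℕ
  gen : List (List (ZMod 3))
  binv : List (List (ZMod 3))
  orb : List (List (ZMod 3))
  tgt : List (List (ZMod 3))

namespace Torus

variable (τ : Torus)

/-- the element of prime order -/
def Y : Matrix Idx Idx (ZMod 3) := mat τ.gen ^ τ.m

/-- the quadratic condition -/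
def quad (c : Idx → ZMod 3) (r : Idx) : ZMod 3 :=
  ∑ i, c i * ∑ j, c j * vec τ.orb ((ix i + (τ.p - ix j)) % τ.p) r

/-- the linear combination -/
def lin (c : Idx → ZMod 3) (r : Idx) : ZMod 3 := ∑ i, c i * vec τ.orb (ix i) r

/-- all the checks -/
structure Valid : Prop where
  symp : mat τ.gen * Matrix.J (Fin 3) (ZMod 3) * (mat τ.gen)ᵀ = Matrix.J (Fin 3) (ZMod 3)
  pown : mat τ.gen ^ τ.n = -1
  powp : τ.Y ^ τ.p = 1
  six : 6 ≤ τ.p
  orb0 : vec τ.orb 0 = e0
  orbS : ∀ k : Fin τ.p, τ.Y *ᵥ vec τ.orb k.1 = vec τ.orb ((k.1 + 1) % τ.p)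
  tgt0 : vec τ.tgt 0 = e0
  tgtS : ∀ k : Fin (2 * τ.n), k.1 + 1 < 2 * τ.n → mat τ.gen *ᵥ vec τ.tgt k.1 = vec τ.tgt (k.1 + 1)
  base : mat τ.binv * Matrix.of (fun r i => vec τ.orb (ix i) r) = 1
  search : ((List.finRange (3 ^ 6)).all fun k =>
    !([Sum.inl 0, Sum.inl 1, Sum.inl 2, Sum.inr 0, Sum.inr 1, Sum.inr 2].all fun r =>
        τ.quad (digits k) r == e0 r) ||
      (List.range (2 * τ.n)).any fun q =>
        [Sum.inl 0, Sum.inl 1, Sum.inl 2, Sum.inr 0, Sum.inr 1, Sum.inr 2].all fun r =>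
          τ.lin (digits k) r == vec τ.tgt q r) = true

variable {τ}

theorem Valid.orb_eq (h : τ.Valid) (k : ℕ) : vec τ.orb (k % τ.p) = τ.Y ^ k *ᵥ e0 := by
  have hp : 0 < τ.p := by have := h.six; omega
  induction k with
  | zero => simp [h.orb0]
  | succ k ih =>
    rw [pow_succ', ← Matrix.mulVec_mulVec, ← ih, h.orbS ⟨k % τ.p, Nat.mod_lt _ hp⟩]
    simp [Nat.add_mod]

theorem Valid.tgt_eq (h : τ.Valid) (k : ℕ) (hk : k < 2 * τ.n) : vec τ.tgt k = mat τ.gen ^ k *ᵥ e0 := by
  induction k with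
  | zero => simp [h.tgt0]
  | succ k ih => rw [pow_succ', ← Matrix.mulVec_mulVec, ← ih (by omega), h.tgtS ⟨k, by omega⟩ hk]

/-- a matrix commuting with `Y` is determined by its value at one vector -/
theorem Valid.ext (h : τ.Valid) {A B : Matrix Idx Idx (ZMod 3)} (hA : Commute A τ.Y) (hB : Commute B τ.Y)
    (he : A *ᵥ e0 = B *ᵥ e0) : A = B := by
  let U : Matrix Idx Idx (ZMod 3) := Matrix.of fun r i => vec τ.orb (ix i) r
  have hU : U * mat τ.binv = 1 := _root_.mul_eq_one_comm.mp h.base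
  have hAB : A * U = B * U := by
    refine Matrix.ext fun r i => ?_
    have hi : ix i % τ.p = ix i := Nat.mod_eq_of_lt (by have := h.six; have := ix_lt i; omega)
    have hcol : A *ᵥ vec τ.orb (ix i) = B *ᵥ vec τ.orb (ix i) := by
      rw [← hi, h.orb_eq, Matrix.mulVec_mulVec, Matrix.mulVec_mulVec, (hA.pow_right _).eq, (hB.pow_right _).eq,
        ← Matrix.mulVec_mulVec, ← Matrix.mulVec_mulVec, he]
    exact congrFun hcol r
  calc A = A * (U * mat τ.binv) := by rw [hU, mul_one]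
    _ = B * (U * mat τ.binv) := by rw [← mul_assoc, hAB, mul_assoc]
    _ = B := by rw [hU, mul_one]

/-- the symplectic centralizer of `Y` -/
theorem Valid.commutant (h : τ.Valid) {M : Matrix Idx Idx (ZMod 3)}
    (hM : M * Matrix.J (Fin 3) (ZMod 3) * Mᵀ = Matrix.J (Fin 3) (ZMod 3)) (hc : Commute M τ.Y) :
    M ^ τ.n = 1 ∨ M ^ τ.n = -1 := by
  classical
  set c : Idx → ZMod 3 := mat τ.binv *ᵥ (M *ᵥ e0) with hcdef
  set P : Matrix Idx Idx (ZMod 3) := ∑ i, c i • τ.Y ^ ix i with hP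
  have hi : ∀ i, ix i % τ.p = ix i := fun i => Nat.mod_eq_of_lt (by have := h.six; have := ix_lt i; omega)
  have hlin : ∀ d : Idx → ZMod 3, τ.lin d = (∑ i, d i • τ.Y ^ ix i) *ᵥ e0 := fun d => by
    funext r
    rw [Matrix.sum_mulVec, Finset.sum_apply, Torus.lin]
    refine Finset.sum_congr rfl fun i _ => ?_
    rw [Matrix.smul_mulVec, Pi.smul_apply, smul_eq_mul, ← h.orb_eq, hi]
  have hPc : Commute P τ.Y := Commute.sum_left _ _ _ fun i _ => (Commute.pow_self _ _).smul_left _
  have hlinc : τ.lin c = M *ᵥ e0 := by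
    have hU : Matrix.of (fun r i => vec τ.orb (ix i) r) *ᵥ c = M *ᵥ e0 := by
      rw [hcdef, Matrix.mulVec_mulVec, _root_.mul_eq_one_comm.mp h.base, Matrix.one_mulVec]
    rw [← hU]
    funext r
    simp [Torus.lin, Matrix.mulVec, dotProduct, mul_comm]
  have hMP : M = P := h.ext hc hPc (by rw [← hlinc, hlin])
  have hY : τ.Y * Matrix.J (Fin 3) (ZMod 3) * τ.Yᵀ = Matrix.J (Fin 3) (ZMod 3) :=
    SymplecticGroup.mem_iff.mp ((Matrix.symplecticGroup (Fin 3) (ZMod 3)).pow_mem
      (SymplecticGroup.mem_iff.mpr h.symp) τ.m)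
  have hJ : ∀ j, ix j ≤ τ.p → Matrix.J (Fin 3) (ZMod 3) * (τ.Y ^ ix j)ᵀ =
      τ.Y ^ (τ.p - ix j) * Matrix.J (Fin 3) (ZMod 3) := fun j hj => by
    have hs := SymplecticGroup.mem_iff.mp ((Matrix.symplecticGroup (Fin 3) (ZMod 3)).pow_mem
      (SymplecticGroup.mem_iff.mpr hY) (ix j))
    calc Matrix.J (Fin 3) (ZMod 3) * (τ.Y ^ ix j)ᵀ
        = τ.Y ^ (τ.p - ix j) * τ.Y ^ ix j * Matrix.J (Fin 3) (ZMod 3) * (τ.Y ^ ix j)ᵀ := by
          rw [← pow_add, Nat.sub_add_cancel hj, h.powp, one_mul]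
      _ = _ := by simp only [mul_assoc] at hs ⊢; rw [hs]
  set Q : Matrix Idx Idx (ZMod 3) := ∑ i, c i • ∑ j, c j • τ.Y ^ ((ix i + (τ.p - ix j)) % τ.p)
  have hQ : P * Matrix.J (Fin 3) (ZMod 3) * Pᵀ = Q * Matrix.J (Fin 3) (ZMod 3) := by
    rw [hP, Matrix.transpose_sum, Finset.sum_mul, Finset.sum_mul, Finset.sum_mul]
    refine Finset.sum_congr rfl fun i _ => ?_
    rw [Finset.mul_sum, Matrix.smul_mul, Matrix.smul_mul]
    simp only [Finset.sum_mul, Finset.smul_sum, Matrix.smul_mul, Matrix.mul_smul, Matrix.transpose_smul]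
    refine Finset.sum_congr rfl fun j _ => ?_
    rw [mul_assoc, hJ j (by have := h.six; have := ix_lt j; omega), ← mul_assoc, ← pow_add,
      pow_mod_of_pow_eq h.powp, smul_comm]
  have hQ1 : Q = 1 := by
    rw [← hMP, hM] at hQ
    have := congrArg (· * -Matrix.J (Fin 3) (ZMod 3)) hQ.symm
    simpa [mul_assoc, Matrix.J_squared] using this
  have hquad : τ.quad c = e0 := by
    conv_rhs => rw [← Matrix.one_mulVec e0, ← hQ1]
    funext r
    simp only [Q, Matrix.sum_mulVec, Matrix.smul_mulVec, Finset.sum_apply, Pi.smul_apply, smul_eq_mul,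
      Torus.quad]
    refine Finset.sum_congr rfl fun i _ => ?_
    congr 1
    refine Finset.sum_congr rfl fun j _ => ?_
    rw [← h.orb_eq, Nat.mod_mod]
  obtain ⟨k, hk⟩ := exists_digits c
  have hs := List.all_eq_true.mp h.search k (List.mem_finRange k)
  rw [hk, hquad] at hs
  simp only [beq_self_eq_true, Bool.not_eq_true', List.all_eq_true, Bool.or_eq_true, List.any_eq_true,
    List.mem_range, beq_iff_eq] at hs
  obtain ⟨q, hq, hqe⟩ := hs.resolve_left (by simp)
  have hfun : τ.lin c = vec τ.tgt q := funext fun r => hqe r (by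
    rcases r with a | a <;> fin_cases a <;> simp)
  have hMq : M = mat τ.gen ^ q := h.ext hc
    ((Commute.pow_self _ _).pow_right _) (by rw [← hlinc, hfun, h.tgt_eq q hq])
  rw [hMq, ← pow_mul, mul_comm, pow_mul, h.pown]
  exact neg_one_pow_eq_or _ _
where
  pow_mod_of_pow_eq {A : Matrix Idx Idx (ZMod 3)} {p k : ℕ} (hA : A ^ p = 1) : A ^ (k % p) = A ^ k := by
    conv_rhs => rw [← Nat.mod_add_div k p, pow_add, pow_mul, hA, one_pow, mul_one]

end Torus

/-- the torus of order thirteen -/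
def t13 : Torus := ⟨13, 13, 2, gen13, binv13, orb13, tgt13⟩

/-- the torus of order fourteen -/
def t7 : Torus := ⟨14, 7, 4, gen7, binv7, orb7, tgt7⟩

theorem t13_valid : t13.Valid where
  symp := by decide +kernel
  pown := by decide +kernel
  powp := by decide +kernel
  six := by decide
  orb0 := by decide +kernel
  orbS := by decide +kernel
  tgt0 := by decide +kernel
  tgtS := by decide +kernel
  base := by decide +kernel
  search := by decide +kernel

theorem t7_valid : t7.Valid where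
  symp := by decide +kernel
  pown := by decide +kernel
  powp := by decide +kernel
  six := by decide
  orb0 := by decide +kernel
  orbS := by decide +kernel
  tgt0 := by decide +kernel
  tgtS := by decide +kernel
  base := by decide +kernel
  search := by decide +kernel

end CfsgLib.Recog.PSpSixThree
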