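import Mathlib
import Cfsg.Prelude.Def_Classical
import Cfsg.Agent.Lib.Recog.PSpSixThree
import Cfsg.Agent.Lib.Classical.Symplectic.MatrixStructure

/-!
# The prime graph of `PSp₆(3)`
-/

set_option autoImplicit false
set_option maxRecDepth 20000

namespace CfsgLib.Recog.PSpSixThree

open Matrix

/-- the symplectic group -/
abbrev Sp6 := Matrix.symplecticGroup (Fin 3) (ZMod 3)

/-- the simple group -/
abbrev PSp6 := Cfsg.PSp 3 (ZMod 3)

theorem card_psp : Nat.card PSp6 = 4585351680 := by
  haveI : Fact (Nat.Prime 3) := ⟨Nat.prime_three⟩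
  have h := CfsgLib.Classical.Symp.gcd_mul_card_psp (F := ZMod 3) (m := 3) (by norm_num)
  rw [ZMod.card, show Nat.gcd 2 (3 - 1) = 2 from rfl] at h
  simp only [Finset.prod_range_succ, Finset.prod_range_zero, one_mul] at h
  change 2 * Nat.card (Cfsg.PSp 3 (ZMod 3)) = _ at h
  have h' : 2 * Nat.card PSp6 = 9170703360 := h.trans (by norm_num)
  omega

theorem neg_one_mem : (-1 : Matrix Idx Idx (ZMod 3)) ∈ Sp6 := SymplecticGroup.neg_mem (one_mem _)

/-- minus the identity -/
def negOne : Sp6 := ⟨-1, neg_one_mem⟩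

theorem negOne_mem_center : negOne ∈ Subgroup.center Sp6 := by
  rw [Subgroup.mem_center_iff]
  exact fun g => Subtype.ext (show g.1 * (-1) = (-1) * g.1 by rw [mul_neg, mul_one, neg_mul, one_mul])

theorem center_eq (g : Sp6) : g ∈ Subgroup.center Sp6 ↔ g.1 = 1 ∨ g.1 = -1 := by
  haveI : Fact (Nat.Prime 3) := ⟨Nat.prime_three⟩
  constructor
  · intro hg
    have h2 : Nat.card (Subgroup.center Sp6) = 2 := by
      rw [CfsgLib.Classical.Symp.card_center_symplecticGroup (F := ZMod 3) (m := 3) (by norm_num), ZMod.card]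
      rfl
    obtain ⟨a, -, hu⟩ := (Nat.card_eq_two_iff' (1 : Subgroup.center Sp6)).1 h2
    have hne : (⟨negOne, negOne_mem_center⟩ : Subgroup.center Sp6) ≠ 1 := fun h => by
      have h' := congrArg (fun x : Subgroup.center Sp6 => x.1.1 (Sum.inl 0) (Sum.inl 0)) h
      simp [negOne] at h'
      exact absurd h' (by decide)
    by_cases hg1 : (⟨g, hg⟩ : Subgroup.center Sp6) = 1
    · exact Or.inl (congrArg (fun x : Subgroup.center Sp6 => x.1.1) hg1)
    · refine Or.inr ?_
      have := (hu _ hg1).trans (hu _ hne).symm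
      exact congrArg (fun x : Subgroup.center Sp6 => x.1.1) this
  · rintro (h | h)
    · rw [show g = 1 from Subtype.ext h]; exact one_mem _
    · rw [show g = negOne from Subtype.ext h]; exact negOne_mem_center

theorem mk_eq_one (g : Sp6) : (QuotientGroup.mk g : PSp6) = 1 ↔ g.1 = 1 ∨ g.1 = -1 := by
  rw [QuotientGroup.eq_one_iff, center_eq]

/-- an element from a checked matrix -/
def elemOf (l : List (List (ZMod 3)))
    (h : mat l * Matrix.J (Fin 3) (ZMod 3) * (mat l)ᵀ = Matrix.J (Fin 3) (ZMod 3)) : Sp6 :=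
  ⟨mat l, SymplecticGroup.mem_iff.mpr h⟩

theorem exists_orderOf (l : List (List (ZMod 3))) (n : ℕ)
    (hs : mat l * Matrix.J (Fin 3) (ZMod 3) * (mat l)ᵀ = Matrix.J (Fin 3) (ZMod 3))
    (h1 : mat l ^ (n + 1) = 1 ∨ mat l ^ (n + 1) = -1)
    (h2 : ∀ k : Fin n, mat l ^ (k.1 + 1) ≠ 1 ∧ mat l ^ (k.1 + 1) ≠ -1) :
    ∃ x : PSp6, orderOf x = n + 1 := by
  refine ⟨QuotientGroup.mk (elemOf l hs), ?_⟩
  rw [orderOf_eq_iff (Nat.succ_pos n)]
  refine ⟨?_, fun m hm hm0 => ?_⟩
  · rw [← QuotientGroup.mk_pow, mk_eq_one]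
    exact h1
  · obtain ⟨i, rfl⟩ := Nat.exists_eq_add_one.mpr hm0
    rw [← QuotientGroup.mk_pow, Ne, mk_eq_one, not_or]
    exact h2 ⟨i, by omega⟩

theorem exists_six : ∃ x : PSp6, orderOf x = 6 :=
  exists_orderOf wit6 5 (by decide +kernel) (by decide +kernel) (by decide +kernel)

theorem exists_ten : ∃ x : PSp6, orderOf x = 10 :=
  exists_orderOf wit10 9 (by decide +kernel) (by decide +kernel) (by decide +kernel)

theorem exists_fifteen : ∃ x : PSp6, orderOf x = 15 :=
  exists_orderOf wit15 14 (by decide +kernel) (by decide +kernel) (by decide +kernel)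

theorem exists_fourteen : ∃ x : PSp6, orderOf x = 14 :=
  exists_orderOf gen7 13 (by decide +kernel) (by decide +kernel) (by decide +kernel)

/-- the centralizer of an element of order seven or thirteen -/
theorem commuting_pow {τ : Torus} (h : τ.Valid) (hp : τ.p.Prime) (hodd : Odd τ.p)
    (hY1 : τ.Y ≠ 1) (hY2 : τ.Y ≠ -1) (hfac : (Nat.card PSp6).factorization τ.p = 1)
    (x y : PSp6) (hy : orderOf y = τ.p) (hxy : Commute x y) : x ^ τ.n = 1 := by
  haveI := Fact.mk hp
  let Y : Sp6 := ⟨τ.Y, (Matrix.symplecticGroup (Fin 3) (ZMod 3)).pow_mem (SymplecticGroup.mem_iff.mpr h.symp) τ.m⟩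
  have hY : orderOf (QuotientGroup.mk Y : PSp6) = τ.p := by
    refine orderOf_eq_prime ?_ fun hh => ?_
    · rw [← QuotientGroup.mk_pow, mk_eq_one]; exact Or.inl h.powp
    · rcases (mk_eq_one Y).mp hh with h' | h'
      · exact hY1 h'
      · exact hY2 h'
  let P : Sylow τ.p PSp6 := Sylow.ofCard (Subgroup.zpowers y) (by rw [Nat.card_zpowers, hy, hfac, pow_one])
  let Q : Sylow τ.p PSp6 := Sylow.ofCard (Subgroup.zpowers (QuotientGroup.mk Y : PSp6))
    (by rw [Nat.card_zpowers, hY, hfac, pow_one])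
  obtain ⟨g, hg⟩ := MulAction.exists_smul_eq PSp6 P Q
  have hmem : (QuotientGroup.mk Y : PSp6) ∈ ((g • P : Sylow τ.p PSp6) : Subgroup PSp6) := by
    rw [hg]; exact Subgroup.mem_zpowers _
  rw [Sylow.coe_subgroup_smul, Subgroup.mem_pointwise_smul_iff_inv_smul_mem] at hmem
  have hmem' : g⁻¹ * (QuotientGroup.mk Y : PSp6) * g ∈ Subgroup.zpowers y := by
    simpa [P, Sylow.coe_ofCard, MulAut.conj_apply] using hmem
  obtain ⟨j, hj⟩ := Subgroup.mem_zpowers_iff.mp hmem'
  have hcx : Commute (g * x * g⁻¹) (QuotientGroup.mk Y : PSp6) := by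
    have h1 : Commute x (y ^ j) := hxy.zpow_right j
    rw [hj] at h1
    have h2 := h1.map (MulAut.conj g).toMonoidHom
    simp only [MulEquiv.coe_toMonoidHom, MulAut.conj_apply] at h2
    rwa [show g * (g⁻¹ * (QuotientGroup.mk Y : PSp6) * g) * g⁻¹ = QuotientGroup.mk Y by group] at h2
  obtain ⟨M, hM⟩ := QuotientGroup.mk_surjective (g * x * g⁻¹)
  rw [← hM, Commute, SemiconjBy, ← QuotientGroup.mk_mul, ← QuotientGroup.mk_mul, QuotientGroup.eq, center_eq] at hcx
  have hcom : Commute M.1 τ.Y := by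
    have key : ∀ a b : Sp6, (a⁻¹ * b).1 = -1 → a.1 = -b.1 := fun a b hab => by
      have : a.1 * (a⁻¹ * b).1 = b.1 := congrArg Subtype.val (mul_inv_cancel_left a b)
      rw [hab, mul_neg, mul_one] at this
      rw [← this, neg_neg]
    rcases hcx with h' | h'
    · have : M * Y = Y * M := inv_mul_eq_one.mp (Subtype.ext h')
      exact congrArg Subtype.val this
    · exfalso
      have h1 : M.1 * τ.Y = -(τ.Y * M.1) := key _ _ h'
      have hk : ∀ k : ℕ, M.1 * τ.Y ^ k = (-τ.Y) ^ k * M.1 := fun k => by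
        induction k with
        | zero => simp
        | succ k ih => rw [pow_succ, ← mul_assoc, ih, mul_assoc, h1, ← neg_mul, ← mul_assoc, ← pow_succ]
      have h2 := hk τ.p
      rw [h.powp, mul_one, Odd.neg_pow hodd, h.powp] at h2
      have hu : M.1 * (M⁻¹).1 = 1 := congrArg Subtype.val (mul_inv_cancel M)
      have h3 := congrArg (· * (M⁻¹).1) h2
      simp only [neg_mul, one_mul, hu] at h3
      have h4 := congrFun (congrFun h3 (Sum.inl 0)) (Sum.inl 0)
      simp at h4
      exact absurd h4 (by decide)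
  have hMn : (QuotientGroup.mk M : PSp6) ^ τ.n = 1 := by
    rw [← QuotientGroup.mk_pow, mk_eq_one]
    exact h.commutant (SymplecticGroup.mem_iff.mp M.2) hcom
  rw [hM, conj_pow] at hMn
  exact conj_eq_one_iff.mp hMn

theorem seven_commuting (x y : PSp6) (hy : orderOf y = 7) (hxy : Commute x y) : x ^ 14 = 1 :=
  commuting_pow t7_valid (by norm_num [t7]) (by decide) (by decide +kernel) (by decide +kernel) (by
    rw [card_psp, show (4585351680 : ℕ) = 7 * 655050240 by norm_num, Nat.factorization_mul (by norm_num)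
      (by norm_num)]
    have h7 : Nat.Prime 7 := by norm_num
    simp [t7, h7.factorization_self, Nat.factorization_eq_zero_of_not_dvd]) x y hy hxy

theorem thirteen_commuting (x y : PSp6) (hy : orderOf y = 13) (hxy : Commute x y) : x ^ 13 = 1 :=
  commuting_pow t13_valid (by norm_num [t13]) (by decide) (by decide +kernel) (by decide +kernel) (by
    rw [card_psp, show (4585351680 : ℕ) = 13 * 352719360 by norm_num, Nat.factorization_mul (by norm_num)
      (by norm_num)]
    have h7 : Nat.Prime 13 := by norm_num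
    simp [t13, h7.factorization_self, Nat.factorization_eq_zero_of_not_dvd]) x y hy hxy

end CfsgLib.Recog.PSpSixThree
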