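import Mathlib

/-!
# `SL(2,5)` inside `Sp(4,3)`

* `fixed_space`: an element of order three fixes a totally isotropic line of the polar space.
-/

set_option autoImplicit false
set_option linter.all false

namespace CfsgLib.Recog.SLTwoFiveInSpFour

open Matrix Module

theorem data5 : ∀ a b c d : ZMod 5, a * d - b * c = 1 →
    (a * a * a + 2 * (a * b * c) + b * c * d = 1 ∧ d * d * d + 2 * (d * b * c) + a * b * c = 1 ∧
      b * (a * a + a * d + d * d + b * c) = 0 ∧ c * (a * a + a * d + d * d + b * c) = 0) →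
    (a = 1 ∧ b = 0 ∧ c = 0 ∧ d = 1) ∨
      (a + d = 4 ∧ ∃ p q : ZMod 5, p * (c * p + d * q) - q * (a * p + b * q) = 1) := by
  decide +kernel

theorem model5 : (∀ g x y : Matrix (Fin 2) (Fin 2) (ZMod 5), g = !![2, 0; 0, 3] → x = !![0, 4; 1, 4] →
    y = !![0, 1; 4, 4] → g * x = y * g ∧ (x * y) ^ 10 = 1 ∧ (x * y) ^ 2 ≠ 1) := by
  rintro g x y rfl rfl rfl
  decide +kernel

theorem partner (x : SpecialLinearGroup (Fin 2) (ZMod 5)) (hx : x ^ 3 = 1) (hx1 : x ≠ 1) :
    ∃ h : SpecialLinearGroup (Fin 2) (ZMod 5),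
      (x * (h * x * h⁻¹)) ^ 10 = 1 ∧ (x * (h * x * h⁻¹)) ^ 2 ≠ 1 := by
  obtain ⟨X, hX⟩ := x
  have h3 : X * X * X = 1 := by
    have : X ^ 3 = 1 := congrArg Subtype.val hx
    rwa [pow_succ, pow_two] at this
  have hdet : X 0 0 * X 1 1 - X 0 1 * X 1 0 = 1 := by rwa [det_fin_two] at hX
  have e00 := congrFun (congrFun h3 0) 0
  have e11 := congrFun (congrFun h3 1) 1
  have e01 := congrFun (congrFun h3 0) 1
  have e10 := congrFun (congrFun h3 1) 0
  simp [Matrix.mul_apply, Fin.sum_univ_two] at e00 e11 e01 e10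
  rcases data5 (X 0 0) (X 0 1) (X 1 0) (X 1 1) hdet
    ⟨by linear_combination e00, by linear_combination e11, by linear_combination e01, by linear_combination e10⟩ with ⟨r1, r2, r3, r4⟩ | ⟨htr, p, q, hpq⟩
  · refine absurd (Subtype.ext ?_) hx1
    ext i j
    fin_cases i <;> fin_cases j <;> simp [r1, r2, r3, r4]
  obtain ⟨P, hP⟩ : ∃ P : SpecialLinearGroup (Fin 2) (ZMod 5),
      (P : Matrix (Fin 2) (Fin 2) (ZMod 5)) = !![p, X 0 0 * p + X 0 1 * q; q, X 1 0 * p + X 1 1 * q] :=
    ⟨⟨_, by rw [det_fin_two_of]; linear_combination hpq⟩, rfl⟩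
  obtain ⟨g, hg⟩ : ∃ g : SpecialLinearGroup (Fin 2) (ZMod 5),
      (g : Matrix (Fin 2) (Fin 2) (ZMod 5)) = !![2, 0; 0, 3] :=
    ⟨⟨_, by rw [det_fin_two_of]; decide⟩, rfl⟩
  obtain ⟨x₁, hx₁⟩ : ∃ g : SpecialLinearGroup (Fin 2) (ZMod 5),
      (g : Matrix (Fin 2) (Fin 2) (ZMod 5)) = !![0, 4; 1, 4] :=
    ⟨⟨_, by rw [det_fin_two_of]; decide⟩, rfl⟩
  obtain ⟨x₂, hx₂⟩ : ∃ g : SpecialLinearGroup (Fin 2) (ZMod 5),
      (g : Matrix (Fin 2) (Fin 2) (ZMod 5)) = !![0, 1; 4, 4] :=
    ⟨⟨_, by rw [det_fin_two_of]; decide⟩, rfl⟩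
  obtain ⟨m1, m2, m3⟩ := model5 _ _ _ hg hx₁ hx₂
  have h41 : (4 : ZMod 5) = -1 := by decide
  set x₀ : SpecialLinearGroup (Fin 2) (ZMod 5) := ⟨X, hX⟩ with hx₀
  have hXP : x₀ * P = P * x₁ := by
    apply Subtype.ext
    show X * (P : Matrix (Fin 2) (Fin 2) (ZMod 5)) = (P : Matrix (Fin 2) (Fin 2) (ZMod 5)) * x₁
    rw [hP, hx₁, ← Matrix.ext_iff]
    intro i j
    fin_cases i <;> fin_cases j <;> simp [Matrix.mul_apply, Fin.sum_univ_two, h41]
    · linear_combination (X 0 0 * p + X 0 1 * q) * (htr.trans h41) - p * hdet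
    · linear_combination (X 1 0 * p + X 1 1 * q) * (htr.trans h41) - q * hdet
  have hg' : g * x₁ * g⁻¹ = x₂ := by
    rw [mul_inv_eq_iff_eq_mul]
    exact Subtype.ext m1
  have hX' : x₀ = P * x₁ * P⁻¹ := by
    rw [← hXP, mul_inv_cancel_right]
  have hz : P * x₁ * P⁻¹ * (P * g * P⁻¹ * (P * x₁ * P⁻¹) * (P * g * P⁻¹)⁻¹) =
      P * (x₁ * (g * x₁ * g⁻¹)) * P⁻¹ := by group
  refine ⟨P * g * P⁻¹, ?_, ?_⟩
  · rw [hX', hz, hg', conj_pow,
      show (x₁ * x₂) ^ 10 = 1 from Subtype.ext (by simpa using m2), mul_one, mul_inv_cancel]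
  · rw [hX', hz, hg', conj_pow]
    intro e
    rw [conj_eq_one_iff] at e
    exact m3 (by simpa using congrArg Subtype.val e)

/-- The alternating form. -/
def om {F : Type*} [Field F] (v w : Fin 2 ⊕ Fin 2 → F) : F := dotProduct v ((Matrix.J (Fin 2) F).mulVec w)

section Sp

variable {F : Type*} [Field F] [Fintype F]

theorem om_invariant (M : symplecticGroup (Fin 2) F) (v w : Fin 2 ⊕ Fin 2 → F) :
    om ((M : Matrix _ _ F).mulVec v) ((M : Matrix _ _ F).mulVec w) = om v w := by
  rw [om, om, mulVec_mulVec, ← vecMul_transpose, ← dotProduct_mulVec, mulVec_mulVec,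
    ← Matrix.mul_assoc, SymplecticGroup.mem_iff'.1 M.2]

theorem om_self (v : Fin 2 ⊕ Fin 2 → F) : om v v = 0 := by
  simp [om, J, fromBlocks, Matrix.mulVec, dotProduct, Fintype.sum_sum_type, Fin.sum_univ_two,
    Matrix.one_apply]
  ring

theorem om_nondeg {v : Fin 2 ⊕ Fin 2 → F} (h : ∀ w, om v w = 0) : v = 0 := by
  funext i
  have e0 := h (Pi.single (Sum.inl 0) 1)
  have e1 := h (Pi.single (Sum.inl 1) 1)
  have e2 := h (Pi.single (Sum.inr 0) 1)
  have e3 := h (Pi.single (Sum.inr 1) 1)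
  simp [om, J, fromBlocks, Matrix.mulVec_single, dotProduct, Fintype.sum_sum_type, Fin.sum_univ_two,
    Matrix.one_apply] at e0 e1 e2 e3
  rcases i with i | i <;> fin_cases i <;> simp_all

/-- An element of order five of `GL(4,3)` fixing a non-zero vector is trivial. -/
theorem eq_one_of_fixed (hF : Fintype.card F = 3) {y : symplecticGroup (Fin 2) F} (hy : y ^ 5 = 1)
    {v : Fin 2 ⊕ Fin 2 → F} (hv : v ≠ 0) (hyv : (y : Matrix _ _ F).mulVec v = v) : y = 1 := by
  classical
  let T : (Fin 2 ⊕ Fin 2 → F) →ₗ[F] (Fin 2 ⊕ Fin 2 → F) :=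
    Matrix.toLin' (y : Matrix _ _ F) - LinearMap.id
  haveI := Fact.mk (show Nat.Prime 5 by norm_num)
  letI : MulAction (Subgroup.zpowers y) (Fin 2 ⊕ Fin 2 → F) :=
    { smul := fun g w => ((g : symplecticGroup (Fin 2) F) : Matrix _ _ F).mulVec w
      one_smul := fun w => Matrix.one_mulVec w
      mul_smul := fun g h w => (mulVec_mulVec _ _ _).symm }
  have hP : IsPGroup 5 (Subgroup.zpowers y) := by
    rintro ⟨g, k, rfl⟩
    refine ⟨1, Subtype.ext ?_⟩
    show (y ^ k) ^ (5 ^ 1) = 1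
    rw [pow_one, ← zpow_natCast, ← _root_.zpow_mul, mul_comm, _root_.zpow_mul, zpow_natCast, hy, _root_.one_zpow]
  have hmod := hP.card_modEq_card_fixedPoints (Fin 2 ⊕ Fin 2 → F)
  have hfix : MulAction.fixedPoints (Subgroup.zpowers y) (Fin 2 ⊕ Fin 2 → F) =
      (LinearMap.ker T : Set _) := by
    ext w
    simp only [MulAction.mem_fixedPoints, SetLike.mem_coe, LinearMap.mem_ker, T, LinearMap.sub_apply,
      Matrix.toLin'_apply, LinearMap.id_apply, sub_eq_zero]
    refine ⟨fun h => h ⟨y, Subgroup.mem_zpowers y⟩, fun h g => ?_⟩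
    have hs : Subgroup.zpowers (⟨y, Subgroup.mem_zpowers y⟩ : Subgroup.zpowers y) ≤
        MulAction.stabilizer (Subgroup.zpowers y) w := Subgroup.zpowers_le.2 h
    obtain ⟨g, k, rfl⟩ := g
    exact hs ⟨k, Subtype.ext (by simp)⟩
  rw [hfix, Nat.card_coe_set_eq, ← Nat.card_coe_set_eq] at hmod
  change Nat.card _ ≡ Nat.card (LinearMap.ker T) [MOD 5] at hmod
  rw [Module.natCard_eq_pow_finrank (K := F) (V := LinearMap.ker T),
    Module.natCard_eq_pow_finrank (K := F) (V := Fin 2 ⊕ Fin 2 → F), Nat.card_eq_fintype_card, hF,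
    Module.finrank_pi, Fintype.card_sum, Fintype.card_fin] at hmod
  have hle : finrank F (LinearMap.ker T) ≤ 4 :=
    (Submodule.finrank_le _).trans (by rw [Module.finrank_pi, Fintype.card_sum, Fintype.card_fin])
  have hpos : 0 < finrank F (LinearMap.ker T) := by
    refine Module.finrank_pos_iff_exists_ne_zero.2 ⟨⟨v, ?_⟩, fun h => hv (congrArg Subtype.val h)⟩
    simp [T, hyv]
  have htop : LinearMap.ker T = ⊤ := by
    apply Submodule.eq_top_of_finrank_eq
    rw [Module.finrank_pi, Fintype.card_sum, Fintype.card_fin]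
    generalize finrank F (LinearMap.ker T) = d at hmod hle hpos
    interval_cases d <;> first | rfl | (norm_num [Nat.ModEq] at hmod)
  apply Subtype.ext
  refine Matrix.toLin'.injective ?_
  rw [Submonoid.coe_one, Matrix.toLin'_one]
  exact sub_eq_zero.1 (LinearMap.ker_eq_top.1 htop)

theorem fixed_space (hF : Fintype.card F = 3) {K : Type*} [Field K] [Fintype K]
    (hK : Fintype.card K = 5) (φ : SpecialLinearGroup (Fin 2) K →* ↥(symplecticGroup (Fin 2) F))
    (hφ : Function.Injective φ) (x : SpecialLinearGroup (Fin 2) K) (hx : orderOf x = 3) :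
    finrank F ↥(LinearMap.ker (Matrix.toLin' ((φ x : Matrix (Fin 2 ⊕ Fin 2) (Fin 2 ⊕ Fin 2) F)) -
        LinearMap.id)) = 2 ∧
      ∀ v w : Fin 2 ⊕ Fin 2 → F, ((φ x : ↥(symplecticGroup (Fin 2) F)) : Matrix (Fin 2 ⊕ Fin 2) (Fin 2 ⊕ Fin 2) F).mulVec v = v →
        ((φ x : ↥(symplecticGroup (Fin 2) F)) : Matrix (Fin 2 ⊕ Fin 2) (Fin 2 ⊕ Fin 2) F).mulVec w = w → om v w = 0 := by
  classical
  haveI := Fact.mk (show Nat.Prime 5 by norm_num)
  have hdim : finrank F (Fin 2 ⊕ Fin 2 → F) = 4 := by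
    rw [Module.finrank_pi, Fintype.card_sum, Fintype.card_fin]
  haveI : CharP F 3 := charP_of_card_eq_prime hF (hp := Fact.mk Nat.prime_three)
  have h3 : (3 : F) = 0 := CharP.cast_eq_zero F 3
  -- a partner of `x`
  let e : ZMod 5 ≃+* K := ZMod.ringEquivOfPrime K (by norm_num) (by rw [← hK])
  let E : SpecialLinearGroup (Fin 2) (ZMod 5) →* SpecialLinearGroup (Fin 2) K :=
    SpecialLinearGroup.map e.toRingHom
  let E' : SpecialLinearGroup (Fin 2) K →* SpecialLinearGroup (Fin 2) (ZMod 5) :=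
    SpecialLinearGroup.map e.symm.toRingHom
  have hEE : ∀ u, E (E' u) = u := fun u => by
    ext i j
    simp [E, E', SpecialLinearGroup.map_apply_coe]
  have hEi : Function.Injective E := Function.LeftInverse.injective (g := E') fun u => by
    ext i j
    simp [E, E', SpecialLinearGroup.map_apply_coe]
  have hx3 : x ^ 3 = 1 := hx ▸ pow_orderOf_eq_one x
  have hx1 : x ≠ 1 := fun h => by simp [h] at hx
  obtain ⟨h', hh1, hh2⟩ := partner (E' x) (by rw [← map_pow, hx3, map_one])
    fun h => hx1 (by rw [← hEE x, h, map_one])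
  have hz : E (E' x * (h' * E' x * h'⁻¹)) = x * (E h' * x * (E h')⁻¹) := by
    rw [map_mul, map_mul, map_mul, map_inv, hEE]
  set h := E h' with hh
  set z := x * (h * x * h⁻¹) with hzdef
  have hz10 : z ^ 10 = 1 := by rw [← hz, ← map_pow, hh1, map_one]
  have hz2 : z ^ 2 ≠ 1 := by
    rw [← hz, ← map_pow]
    exact fun e => hh2 (hEi (e.trans (map_one E).symm))
  -- the linear algebra
  set M : Matrix (Fin 2 ⊕ Fin 2) (Fin 2 ⊕ Fin 2) F := ((φ x : ↥(symplecticGroup (Fin 2) F)) : Matrix (Fin 2 ⊕ Fin 2) (Fin 2 ⊕ Fin 2) F) with hM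
  set N : (Fin 2 ⊕ Fin 2 → F) →ₗ[F] (Fin 2 ⊕ Fin 2 → F) := Matrix.toLin' M - LinearMap.id with hN
  have hNv : ∀ v, M.mulVec v = v + N v := fun v => by simp [hN]
  have hker : ∀ v, M.mulVec v = v ↔ N v = 0 := fun v => by simp [hN, sub_eq_zero]
  have hM3 : ∀ v, M.mulVec (M.mulVec (M.mulVec v)) = v := fun v => by
    have := congrArg (fun g => ((φ g : ↥(symplecticGroup (Fin 2) F)) : Matrix (Fin 2 ⊕ Fin 2) (Fin 2 ⊕ Fin 2) F).mulVec v) hx3
    simpa [pow_succ, mulVec_mulVec, Matrix.mul_assoc] using this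
  have hN3 : ∀ v, N (N (N v)) = 0 := fun v => by
    have := hM3 v
    simp only [hNv, map_add] at this
    have hc : (3 : F) • (N v + N (N v)) = 0 := by rw [h3, zero_smul]
    linear_combination (norm := module) this - hc
  have hrel : ∀ u w, om (N u) w + om u (N w) + om (N u) (N w) = 0 := fun u w => by
    have := om_invariant (φ x) u w
    rw [← hM, hNv, hNv] at this
    simp only [om, mulVec_add, dotProduct_add, add_dotProduct] at this ⊢
    linear_combination this
  have hrank := LinearMap.finrank_range_add_finrank_ker N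
  rw [hdim] at hrank
  -- the fixed space is not the whole space
  have hk4 : finrank F (LinearMap.ker N) ≠ 4 := fun h4 => by
    refine hx1 (hφ (Subtype.ext ?_))
    have htop : LinearMap.ker N = ⊤ := Submodule.eq_top_of_finrank_eq (h4.trans hdim.symm)
    rw [map_one, Submonoid.coe_one]
    apply Matrix.toLin'.injective
    rw [Matrix.toLin'_one]
    exact sub_eq_zero.1 (LinearMap.ker_eq_top.1 htop)
  -- it is not a hyperplane
  have hk3 : finrank F (LinearMap.ker N) ≠ 3 := fun hk => by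
    let L : (Fin 2 ⊕ Fin 2 → F) →ₗ[F] (Fin 2 ⊕ Fin 2 → F) := Matrix.toLin' ((φ h : ↥(symplecticGroup (Fin 2) F)) : Matrix (Fin 2 ⊕ Fin 2) (Fin 2 ⊕ Fin 2) F)
    let L' : (Fin 2 ⊕ Fin 2 → F) →ₗ[F] (Fin 2 ⊕ Fin 2 → F) := Matrix.toLin' ((φ h⁻¹ : ↥(symplecticGroup (Fin 2) F)) : Matrix (Fin 2 ⊕ Fin 2) (Fin 2 ⊕ Fin 2) F)
    have hLL : ∀ v, L' (L v) = v := fun v => by
      simp only [L, L', Matrix.toLin'_apply, mulVec_mulVec, ← Submonoid.coe_mul, ← map_mul,
        inv_mul_cancel, map_one, Submonoid.coe_one, one_mulVec]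
    have hW : finrank F ((LinearMap.ker N).map L) = 3 := by
      rw [← hk]
      exact (Submodule.equivMapOfInjective L (Function.LeftInverse.injective hLL)
        (LinearMap.ker N)).finrank_eq.symm
    have hinf : 0 < finrank F (LinearMap.ker N ⊓ (LinearMap.ker N).map L : Submodule F _) := by
      have := Submodule.finrank_sup_add_finrank_inf_eq (LinearMap.ker N) ((LinearMap.ker N).map L)
      have := Submodule.finrank_le (LinearMap.ker N ⊔ (LinearMap.ker N).map L)
      omega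
    obtain ⟨⟨v, hvk, hvW⟩, hv0⟩ := Module.finrank_pos_iff_exists_ne_zero.1 hinf
    obtain ⟨v', hv', hvv⟩ := Submodule.mem_map.1 hvW
    have hfixv : ((φ z : ↥(symplecticGroup (Fin 2) F)) : Matrix (Fin 2 ⊕ Fin 2) (Fin 2 ⊕ Fin 2) F).mulVec v = v := by
      rw [hzdef, map_mul, map_mul, map_mul, Submonoid.coe_mul, Submonoid.coe_mul, Submonoid.coe_mul,
        ← mulVec_mulVec, ← mulVec_mulVec, ← mulVec_mulVec]
      have e1 : ((φ h⁻¹ : ↥(symplecticGroup (Fin 2) F)) : Matrix (Fin 2 ⊕ Fin 2) (Fin 2 ⊕ Fin 2) F).mulVec v = v' := by rw [← hvv]; exact hLL v'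
      rw [e1, ← hM, (hker v').2 (LinearMap.mem_ker.1 hv'), show ((φ h : ↥(symplecticGroup (Fin 2) F)) : Matrix (Fin 2 ⊕ Fin 2) (Fin 2 ⊕ Fin 2) F).mulVec v' = v
        from hvv]
      exact (hker v).2 (LinearMap.mem_ker.1 hvk)
    have hy : φ (z ^ 2) = 1 := by
      refine eq_one_of_fixed hF (by rw [← map_pow, ← pow_mul, hz10, map_one])
        (fun e => hv0 (Subtype.ext e)) ?_
      rw [sq, map_mul, Submonoid.coe_mul, ← mulVec_mulVec, hfixv, hfixv]
    exact hz2 (hφ (hy.trans (map_one φ).symm))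
  -- the square of `N` vanishes
  have hN2 : ∀ u, N (N u) = 0 := by
    intro u
    by_contra hu
    have hk1 : finrank F (LinearMap.ker N) ≠ 1 := fun hk => by
      -- a single Jordan block has length four
      have h1 : finrank F (LinearMap.range N) = 3 := by omega
      have h2 : LinearMap.range (N.comp N) ≤ LinearMap.ker N := by
        rintro _ ⟨w, rfl⟩
        exact LinearMap.mem_ker.2 (hN3 w)
      have h4 := LinearMap.finrank_range_add_finrank_ker (N.domRestrict (LinearMap.range N))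
      have h5 : LinearMap.range (N.domRestrict (LinearMap.range N)) ≤ LinearMap.ker N := by
        rintro _ ⟨⟨_, w, rfl⟩, rfl⟩
        exact LinearMap.mem_ker.2 (hN3 w)
      have h6 : finrank F (LinearMap.ker (N.domRestrict (LinearMap.range N))) ≤ 1 := by
        rw [← hk]
        refine LinearMap.finrank_le_finrank_of_injective
          (f := LinearMap.codRestrict (LinearMap.ker N)
            ((LinearMap.range N).subtype.comp (LinearMap.ker (N.domRestrict (LinearMap.range N))).subtype)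
            fun w => LinearMap.mem_ker.2 w.2) fun a b e => ?_
        exact Subtype.ext (Subtype.ext (congrArg Subtype.val e :))
      have := Submodule.finrank_mono h5
      omega
    have hkle := Submodule.finrank_le (LinearMap.ker N)
    have hk0 : 0 < finrank F (LinearMap.ker N) := Module.finrank_pos_iff_exists_ne_zero.2
      ⟨⟨N (N u), LinearMap.mem_ker.2 (hN3 u)⟩, fun e => hu (congrArg Subtype.val e)⟩
    have hk2 : finrank F (LinearMap.ker N) = 2 := by omega
    refine hu (om_nondeg fun t => ?_)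
    set S : Submodule F (Fin 2 ⊕ Fin 2 → F) := LinearMap.range N ⊔ LinearMap.ker N
    have hNu : N u ∈ S := Submodule.mem_sup_left ⟨u, rfl⟩
    have huS : u ∉ S := by
      intro hmem
      obtain ⟨_, ⟨a, rfl⟩, k, hk, rfl⟩ := Submodule.mem_sup.1 hmem
      refine hu ?_
      rw [map_add, LinearMap.mem_ker.1 hk, add_zero, hN3]
    have hlt : LinearMap.ker N < S := by
      refine lt_of_le_of_ne le_sup_right fun e => hu ?_
      exact LinearMap.mem_ker.1 (e ▸ hNu)
    have htop : S ⊔ Submodule.span F {u} = ⊤ := by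
      apply Submodule.eq_top_of_finrank_eq
      have h1 := Submodule.finrank_lt_finrank_of_lt hlt
      have h2 : S < S ⊔ Submodule.span F {u} := by
        refine lt_of_le_of_ne le_sup_left fun e => huS ?_
        rw [e]
        exact Submodule.mem_sup_right (Submodule.mem_span_singleton_self u)
      have h3 := Submodule.finrank_lt_finrank_of_lt h2
      have := Submodule.finrank_le (S ⊔ Submodule.span F {u})
      omega
    have f1 : om (N (N u)) (N u) = 0 := by
      have := hrel (N (N u)) u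
      rw [hN3] at this
      simpa [om] using this
    have f2 : om (N (N u)) u = 0 := by
      have := hrel (N u) u
      rw [f1, om_self] at this
      simpa using this
    have f3 : ∀ k, N k = 0 → om (N (N u)) k = 0 := by
      intro k hk
      have := hrel (N u) k
      rw [hk] at this
      simpa [om] using this
    have f4 : ∀ a, om (N (N u)) (N a) = 0 := by
      intro a
      have := hrel (N (N u)) a
      rw [hN3] at this
      simpa [om] using this
    obtain ⟨s, hs, c, hc, rfl⟩ := Submodule.mem_sup.1 (htop ▸ Submodule.mem_top : t ∈ S ⊔ _)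
    obtain ⟨_, ⟨a, rfl⟩, k, hk, rfl⟩ := Submodule.mem_sup.1 hs
    obtain ⟨r, rfl⟩ := Submodule.mem_span_singleton.1 hc
    have g2 := f3 k (LinearMap.mem_ker.1 hk)
    have g4 := f4 a
    simp only [om, mulVec_add, mulVec_smul, dotProduct_add, dotProduct_smul, smul_eq_mul] at g2 g4 f2 ⊢
    rw [g2, g4, f2]
    ring
  have hle : LinearMap.range N ≤ LinearMap.ker N := by
    rintro _ ⟨u, rfl⟩
    exact LinearMap.mem_ker.2 (hN2 u)
  have hkle := Submodule.finrank_le (LinearMap.ker N)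
  rw [hdim] at hkle
  have hrk := Submodule.finrank_mono hle
  have hk2 : finrank F (LinearMap.ker N) = 2 := by omega
  refine ⟨hk2, fun v w hv hw => ?_⟩
  have heq : LinearMap.range N = LinearMap.ker N := Submodule.eq_of_le_of_finrank_eq hle (by omega)
  obtain ⟨u, rfl⟩ : v ∈ LinearMap.range N := heq ▸ LinearMap.mem_ker.2 ((hker v).1 hv)
  have := hrel u w
  rw [(hker w).1 hw] at this
  simpa [om] using this

end Sp

end CfsgLib.Recog.SLTwoFiveInSpFour
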