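import Mathlib
import Cfsg.Agent.Lib.Recog.SuzukiFix
import Cfsg.Agent.Lib.Recog.EightCodes

/-!
# The Suzuki group over eight elements with its field automorphism, acting on sixteen dimensions
-/

set_option autoImplicit false

namespace CfsgLib.Recog.SuzukiEight

open Matrix Cfsg.Lie CfsgLib.Recog.SuzukiFix CfsgLib.Recog.EightCodes

variable (F : Type*) [Field F] [Fintype F] [CharP F 2]

/-- the Frobenius automorphism -/
noncomputable def fr : F ≃+* F := frobeniusEquiv F 2

/-- the Suzuki group -/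
abbrev S : Subgroup (GL (Fin 4) F) := Cfsg.Lie.Sz F 4

/-- the field automorphisms -/
noncomputable abbrev C : Subgroup (RingAut F) := Subgroup.zpowers (fr F)

variable {F}

theorem fr_apply (x : F) : fr F x = x ^ 2 := by
  simp [fr, frobeniusEquiv_apply, frobenius_def]

/-- entrywise image -/
def mapGL (e : F ≃+* F) : GL (Fin 4) F →* GL (Fin 4) F := Units.map (e : F →+* F).mapMatrix.toMonoidHom

theorem mapGL_val (e : F ≃+* F) (g : GL (Fin 4) F) :
    (mapGL e g : Matrix (Fin 4) (Fin 4) F) = (g : Matrix (Fin 4) (Fin 4) F).map e := rfl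

theorem mapGL_mem (e : F ≃+* F) {g : GL (Fin 4) F} (hg : g ∈ S F) : mapGL e g ∈ S F := by
  have hle : S F ≤ (S F).comap (mapGL e) := by
    refine (Subgroup.closure_le _).mpr ?_
    rintro x ⟨hx1, hx2⟩
    refine Subgroup.subset_closure ⟨fun u v => ?_, ?_⟩
    · have h := congrArg e (hx1 (e.symm ∘ u) (e.symm ∘ v))
      simp only [altForm4, map_add, map_mul, Function.comp_apply, Matrix.mulVec, dotProduct, map_sum,
        e.apply_symm_apply] at h
      simp only [mapGL_val, altForm4, Matrix.mulVec, dotProduct, Matrix.map_apply]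
      exact h
    · ext p r
      have h := congrArg e (congrFun (congrFun hx2 p) r)
      simpa [mapGL_val, star4, Matrix.map_apply, map_pow] using h
  exact hle hg

/-- the action of field automorphisms on the Suzuki group -/
noncomputable def autS : C F →* MulAut (S F) where
  toFun e :=
    { toFun := fun g => ⟨mapGL e.1 g.1, mapGL_mem _ g.2⟩
      invFun := fun g => ⟨mapGL e.1⁻¹ g.1, mapGL_mem _ g.2⟩
      left_inv := fun g => Subtype.ext (Units.ext (Matrix.ext fun i j => e.1.symm_apply_apply _))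
      right_inv := fun g => Subtype.ext (Units.ext (Matrix.ext fun i j => e.1.apply_symm_apply _))
      map_mul' := fun g h => Subtype.ext (map_mul _ _ _) }
  map_one' := MulEquiv.ext fun g => Subtype.ext (Units.ext (Matrix.ext fun i j => rfl))
  map_mul' e e' := MulEquiv.ext fun g => Subtype.ext (Units.ext (Matrix.ext fun i j => rfl))

variable (F)

/-- the semilinear group -/
noncomputable abbrev K := S F ⋊[autS] C F

variable {F}

/-- the matrix of the linear part -/
noncomputable def lp (z : K F) : Matrix (Fin 4) (Fin 4) F := (z.left.1 : Matrix (Fin 4) (Fin 4) F)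

theorem lp_mul (y z : K F) : lp (y * z) = lp y * (lp z).map y.right.1 := rfl

theorem comm_fr (e : C F) (x : F) : e.1 (fr F x) = fr F (e.1 x) := by
  rw [fr_apply, fr_apply, map_pow]

/-- the action on matrices -/
noncomputable def actW (z : K F) (W : Matrix (Fin 4) (Fin 4) F) : Matrix (Fin 4) (Fin 4) F :=
  lp z * W.map z.right.1 * ((lp z).map (fr F))ᵀ

theorem actW_one (W : Matrix (Fin 4) (Fin 4) F) : actW 1 W = W := by
  have h1 : lp (1 : K F) = 1 := rfl
  rw [actW, h1, Matrix.map_one _ (map_zero _) (map_one _), Matrix.transpose_one, one_mul, mul_one]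
  rfl

theorem actW_mul (y z : K F) (W : Matrix (Fin 4) (Fin 4) F) : actW (y * z) W = actW y (actW z W) := by
  have h : ∀ A : Matrix (Fin 4) (Fin 4) F, (A.map y.right.1).map (fr F) = (A.map (fr F)).map y.right.1 :=
    fun A => Matrix.ext fun i j => (comm_fr y.right _).symm
  simp only [actW, lp_mul, Matrix.map_mul, Matrix.transpose_mul, Matrix.transpose_map, h, mul_assoc]
  rfl

/-- the action on tuples of matrices -/
noncomputable def act (ι : Type) : K F →* MulAut (Multiplicative (ι → Matrix (Fin 4) (Fin 4) F)) where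
  toFun z :=
    { toFun := fun w => Multiplicative.ofAdd fun i => actW z (Multiplicative.toAdd w i)
      invFun := fun w => Multiplicative.ofAdd fun i => actW z⁻¹ (Multiplicative.toAdd w i)
      left_inv := fun w => by
        simp only [toAdd_ofAdd, ← actW_mul, inv_mul_cancel, actW_one]
        rfl
      right_inv := fun w => by
        simp only [toAdd_ofAdd, ← actW_mul, mul_inv_cancel, actW_one]
        rfl
      map_mul' := fun w w' => by
        simp only [toAdd_mul, Pi.add_apply, actW, Matrix.map_add _ (map_add _), mul_add, add_mul]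
        rfl }
  map_one' := MulEquiv.ext fun w => by simp [actW_one]
  map_mul' y z := MulEquiv.ext fun w => by simp [actW_mul]

theorem frob_pow_three (hF : Fintype.card F = 8) : fr F ^ 3 = 1 := by
  refine RingEquiv.ext fun x => ?_
  show fr F (fr F (fr F x)) = x
  rw [fr_apply, fr_apply, fr_apply, ← pow_mul, ← pow_mul, show 2 * 2 * 2 = Fintype.card F by rw [hF]]
  exact FiniteField.pow_card x

theorem C_pow_three (hF : Fintype.card F = 8) (e : C F) : e ^ 3 = 1 := by
  obtain ⟨k, hk⟩ := Subgroup.mem_zpowers_iff.mp e.2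
  refine Subtype.ext ?_
  rw [Subgroup.coe_pow, ← hk, ← zpow_natCast, ← _root_.zpow_mul, mul_comm, _root_.zpow_mul, zpow_natCast,
    frob_pow_three hF, _root_.one_zpow]
  rfl

theorem exists_root (hF : Fintype.card F = 8) : ∃ τ : F, τ ^ 3 = τ + 1 := by
  classical
  haveI : Fact (Nat.Prime 7) := ⟨by norm_num⟩
  obtain ⟨u, hu⟩ := exists_prime_orderOf_dvd_card' (G := Fˣ) 7 (by
    rw [Nat.card_eq_fintype_card, Fintype.card_units, hF])
  have h7 : (u : F) ^ 7 = 1 := by
    rw [← Units.val_pow_eq_pow_val, ← hu, pow_orderOf_eq_one, Units.val_one]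
  have h1 : (u : F) - 1 ≠ 0 := sub_ne_zero.mpr fun h => by
    rw [Units.val_eq_one.mp h, orderOf_one] at hu; norm_num at hu
  have h2 : (2 : F) = 0 := CharTwo.two_eq_zero
  have hprod : ((u : F) ^ 3 + u + 1) * ((u : F) ^ 3 + (u : F) ^ 2 + 1) = 0 := by
    refine (mul_eq_zero.mp (?_ : ((u : F) - 1) * _ = 0)).resolve_left h1
    linear_combination h7 + ((u : F) ^ 4 - (u : F) ^ 3) * h2
  rcases mul_eq_zero.mp hprod with h | h
  · exact ⟨u, by linear_combination h - ((u : F) + 1) * h2⟩
  · refine ⟨(u : F) ^ 6, ?_⟩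
    linear_combination ((u : F) ^ 11 + (u : F) ^ 4 - 1) * h7 +
      ((u : F) ^ 4) * h + (-(u:F)^6 - 1) * h2

variable {τ : F}

theorem val_surjective (hF : Fintype.card F = 8) (hτ : τ ^ 3 = τ + 1) : Function.Surjective (val (F := F) τ) := by
  refine ((val_injective hτ).bijective_of_nat_card_le ?_).2
  rw [Nat.card_eq_fintype_card, hF, Nat.card_prod, Nat.card_prod, Nat.card_zmod]

/-- Cayley–Hamilton in the Suzuki group -/
theorem exists_code (hF : Fintype.card F = 8) (hτ : τ ^ 3 = τ + 1) {g : GL (Fin 4) F} (hg : g ∈ S F) :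
    ∃ t : C8, val τ t = (g : Matrix (Fin 4) (Fin 4) F).trace ∧ Root τ t (g : Matrix (Fin 4) (Fin 4) F) := by
  set M : Matrix (Fin 4) (Fin 4) F := (g : Matrix (Fin 4) (Fin 4) F) with hMdef
  obtain ⟨t, ht⟩ := val_surjective hF hτ M.trace
  refine ⟨t, ht, ?_⟩
  obtain ⟨hs, hstar⟩ := sz_star4 (iterateFrobenius F 2 2) (fun x => iterateFrobenius_def 2 2 x) hg
  have he2 : e2 M = M.trace ^ 4 := by
    rw [hs.e2_eq, hstar, RingHom.mapMatrix_apply]
    have h := map_sum (iterateFrobenius F 2 2) (fun i => M i i) Finset.univ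
    simp only [iterateFrobenius_def, show (2 : ℕ) ^ 2 = 4 from rfl] at h
    simp [Matrix.trace, iterateFrobenius_def, ← hMdef]
    exact h.symm
  have hadj : M.adjugate.trace = M.trace := by rw [hs.adjugate_eq, trace_flipT]
  have hchar : M.charpoly = Polynomial.X ^ 4 + Polynomial.C M.trace * Polynomial.X ^ 3 +
      Polynomial.C (M.trace ^ 4) * Polynomial.X ^ 2 + Polynomial.C M.trace * Polynomial.X + 1 := by
    have hc : Matrix.charmatrix M = (Polynomial.X : Polynomial F) • (1 : Matrix (Fin 4) (Fin 4) (Polynomial F)) +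
        M.map Polynomial.C := by
      refine Matrix.ext fun i j => ?_
      have hneg : ∀ a : F, (Polynomial.C a : Polynomial F) = -Polynomial.C a := fun a => by
        rw [← map_neg, CharTwo.neg_eq]
      rw [Matrix.charmatrix_apply, Matrix.add_apply, Matrix.smul_apply, Matrix.map_apply,
        Matrix.one_apply, Matrix.diagonal_apply, sub_eq_add_neg, ← hneg]
      split_ifs <;> simp
    rw [Matrix.charpoly, hc, det_smul_add]
    have e1 : (M.map Polynomial.C).trace = Polynomial.C M.trace := by simp [Matrix.trace]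
    have e3 : (M.map Polynomial.C).adjugate.trace = Polynomial.C M.adjugate.trace := by
      rw [← RingHom.mapMatrix_apply, ← RingHom.map_adjugate, RingHom.mapMatrix_apply]
      simp [Matrix.trace]
    have e4 : (M.map Polynomial.C).det = Polynomial.C M.det := by
      rw [← RingHom.mapMatrix_apply, ← RingHom.map_det]
    have e5 : e2 (M.map Polynomial.C) = Polynomial.C (e2 M) := by simp [e2]
    rw [e1, e3, e4, e5, hadj, he2, hs.det_eq_one, Polynomial.C_1]
  have hcH := Matrix.aeval_self_charpoly M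
  rw [hchar] at hcH
  simp only [map_add, map_mul, map_pow, Polynomial.aeval_X, Polynomial.aeval_C, map_one,
    ← Algebra.smul_def] at hcH
  rw [Root, val_qc hτ, ht]
  have h2 : ∀ x : Matrix (Fin 4) (Fin 4) F, -x = x := fun x => Matrix.ext fun i j => CharTwo.neg_eq (x i j)
  have h3 := eq_neg_of_add_eq_zero_left (show M ^ 4 + (M.trace • M ^ 3 + (M.trace ^ 4) • M ^ 2 +
    M.trace • M + 1) = 0 by rw [← hcH]; simp only [Algebra.smul_def, map_pow]; abel)
  rw [h2] at h3
  exact h3

/-- the orders in the Suzuki group; the orders of the elements centralized by a field automorphism -/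
theorem spectrum (hF : Fintype.card F = 8) (g : S F) : g ^ 4 = 1 ∨ g ^ 5 = 1 ∨ g ^ 7 = 1 ∨ g ^ 13 = 1 := by
  obtain ⟨τ, hτ⟩ := exists_root hF
  obtain ⟨t, -, ht⟩ := exists_code hF hτ g.2
  have h : ∀ n, pw t n = one4 → g ^ n = 1 := fun n hn =>
    Subtype.ext (Units.ext (by simpa using pow_eq_one hτ ht hn))
  rcases classify t with ⟨-, h' | h'⟩ | h' | ⟨h', -⟩
  · exact Or.inl (h _ h')
  · exact Or.inr (Or.inl (h _ h'))
  · exact Or.inr (Or.inr (Or.inl (h _ h')))
  · exact Or.inr (Or.inr (Or.inr (h _ h')))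

theorem outer_centralized (hF : Fintype.card F = 8) (g : S F) (z : K F)
    (hz : Commute z (SemidirectProduct.inl g)) (hr : z.right ≠ 1) : g ^ 4 = 1 ∨ g ^ 5 = 1 := by
  obtain ⟨τ, hτ⟩ := exists_root hF
  obtain ⟨t, htr, ht⟩ := exists_code hF hτ g.2
  have h1 : lp z * ((g.1 : Matrix (Fin 4) (Fin 4) F).map z.right.1) = (g.1 : Matrix (Fin 4) (Fin 4) F) * lp z := by
    have h := congrArg lp hz.eq
    rw [lp_mul, lp_mul] at h
    exact h.trans (congrArg _ (Matrix.ext fun i j => rfl))
  have htrace : z.right.1 ((g.1 : Matrix (Fin 4) (Fin 4) F).trace) = (g.1 : Matrix (Fin 4) (Fin 4) F).trace := by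
    rw [show z.right.1 ((g.1 : Matrix (Fin 4) (Fin 4) F).trace) =
      ((g.1 : Matrix (Fin 4) (Fin 4) F).map z.right.1).trace by simp [Matrix.trace]]
    have hu : z.left.1⁻¹.1 * lp z = 1 := z.left.1.inv_mul
    calc _ = (z.left.1⁻¹.1 * (lp z * (g.1 : Matrix (Fin 4) (Fin 4) F).map z.right.1)).trace := by
          rw [← mul_assoc, hu, one_mul]
      _ = _ := by rw [h1, ← mul_assoc, Matrix.trace_mul_cycle, show lp z * _ = 1 from z.left.1.mul_inv, one_mul]
  have hfix : fr F (val τ t) = val τ t := by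
    rw [htr]
    obtain ⟨k, hk⟩ := Subgroup.mem_zpowers_iff.mp z.right.2
    have h3 := frob_pow_three (F := F) hF
    have hk3 : fr F ^ (k % 3) = z.right.1 := by
      rw [← hk]
      conv_rhs => rw [← Int.emod_add_mul_ediv k 3, _root_.zpow_add, _root_.zpow_mul,
        show fr F ^ (3 : ℤ) = 1 from (zpow_natCast _ 3).trans h3, _root_.one_zpow, mul_one]
    have hlt := Int.emod_lt_of_pos k (by norm_num : (0 : ℤ) < 3)
    have hge := Int.emod_nonneg k (by norm_num : (3 : ℤ) ≠ 0)
    rcases (by omega : k % 3 = 0 ∨ k % 3 = 1 ∨ k % 3 = 2) with h | h | h <;> rw [h] at hk3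
    · exact absurd (Subtype.ext (hk3.symm.trans (zpow_zero _))) hr
    · rw [zpow_one] at hk3; rw [hk3]; exact htrace
    · have e : fr F (fr F ((g.1 : Matrix (Fin 4) (Fin 4) F).trace)) = (g.1 : Matrix (Fin 4) (Fin 4) F).trace := by
        rw [show (fr F ^ (2 : ℤ)) = fr F * fr F from (zpow_two _)] at hk3
        rw [← hk3] at htrace; exact htrace
      have e3 : ∀ x, fr F (fr F (fr F x)) = x := fun x => RingEquiv.congr_fun h3 x
      have := congrArg (fr F) e
      rwa [e3, eq_comm] at this
  have hc : t = 0 ∨ t = one8 := by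
    rw [fr_apply, ← val_sqc hτ] at hfix
    have : ∀ s : C8, sqc s = s → s = 0 ∨ s = one8 := by decide
    exact this t (val_injective hτ hfix)
  have h : ∀ n, pw t n = one4 → g ^ n = 1 := fun n hn =>
    Subtype.ext (Units.ext (by simpa using pow_eq_one hτ ht hn))
  have hd : ∀ s : C8, s = 0 ∨ s = one8 → pw s 4 = one4 ∨ pw s 5 = one4 := by decide
  exact (hd t hc).imp (h 4) (h 5)

/-- elements of order thirteen fix no matrix -/
theorem thirteen_fixed (hF : Fintype.card F = 8) (g : S F) (h13 : g ^ 13 = 1) (hg : g ≠ 1)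
    (W : Matrix (Fin 4) (Fin 4) F)
    (hW : (g.1 : Matrix (Fin 4) (Fin 4) F) * W * ((g.1 : Matrix (Fin 4) (Fin 4) F).map (fr F))ᵀ = W) : W = 0 := by
  obtain ⟨τ, hτ⟩ := exists_root hF
  obtain ⟨t, htr, ht⟩ := exists_code hF hτ g.2
  set A : Matrix (Fin 4) (Fin 4) F := (g.1 : Matrix (Fin 4) (Fin 4) F) with hA
  have hpow : ∀ n, pw t n = one4 → g ^ n = 1 := fun n hn =>
    Subtype.ext (Units.ext (by simpa using pow_eq_one hτ ht hn))
  have hbad : ∀ n, n.Coprime 13 → g ^ n ≠ 1 := fun n hn h => hg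
    (orderOf_eq_one_iff.mp (Nat.dvd_one.mp (hn ▸ Nat.dvd_gcd (orderOf_dvd_of_pow_eq_one h)
      (orderOf_dvd_of_pow_eq_one h13))))
  obtain ⟨q, hq⟩ : ∃ q, mulP (sqc t) q (diff t (sqc t)) = one4 := by
    rcases classify t with ⟨-, h' | h'⟩ | h' | ⟨-, h'⟩
    · exact absurd (hpow _ h') (hbad 4 (by norm_num))
    · exact absurd (hpow _ h') (hbad 5 (by norm_num))
    · exact absurd (hpow _ h') (hbad 7 (by norm_num))
    · obtain ⟨q, -, hq⟩ := List.any_eq_true.mp h'
      exact ⟨q, of_decide_eq_true hq⟩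
  let h : S F := ⟨mapGL (fr F) g.1, mapGL_mem _ g.2⟩⁻¹
  obtain ⟨s, hstr, hs⟩ := exists_code hF hτ h.2
  set B : Matrix (Fin 4) (Fin 4) F := (h.1 : Matrix (Fin 4) (Fin 4) F) with hB
  have hst : s = sqc t := by
    refine val_injective hτ ?_
    rw [hstr, val_sqc hτ, htr, ← fr_apply]
    obtain ⟨hsy, -⟩ := sz_star4 (iterateFrobenius F 2 2) (fun x => iterateFrobenius_def 2 2 x)
      (mapGL_mem (fr F) g.2)
    have hinv : B = flipT (A.map (fr F)) := by
      rw [hB]
      exact Units.inv_eq_of_mul_eq_one_left hsy.flip_mul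
    rw [hinv, trace_flipT]
    simp [Matrix.trace]
  subst hst
  have hcomm : A * W = W * Bᵀ := by
    have hone : (A.map (fr F))ᵀ * Bᵀ = 1 := by
      rw [← Matrix.transpose_mul, ← mapGL_val, hB, ← Units.val_mul]
      simp [h]
    conv_rhs => rw [← hW]
    rw [mul_assoc, hone, mul_one]
  have hk : ∀ k : ℕ, A ^ k * W = W * Bᵀ ^ k := fun k => by
    induction k with
    | zero => simp
    | succ k ih => rw [pow_succ', mul_assoc, ih, ← mul_assoc, hcomm, mul_assoc, ← pow_succ']
  have hsT : Root τ (sqc t) Bᵀ := by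
    have := congrArg Matrix.transpose hs
    simpa [Root, Matrix.transpose_pow] using this
  have hzero : A ^ 4 + val τ t • A ^ 3 + val τ (qc t) • A ^ 2 + val τ t • A + 1 = 0 := by
    rw [ht]
    exact Matrix.ext fun i j => by
      simp only [Matrix.add_apply, Matrix.smul_apply, Matrix.zero_apply]
      linear_combination (val τ t • (A ^ 3) i j + val τ (qc t) • (A ^ 2) i j + val τ t • A i j +
        (1 : Matrix (Fin 4) (Fin 4) F) i j) * (CharTwo.two_eq_zero (R := F))
  have hWp : W * ev τ Bᵀ (diff t (sqc t)) = 0 := by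
    rw [ev_diff hsT]
    have h' := congrArg (· * W) hzero
    simp only [add_mul, smul_mul_assoc, one_mul, zero_mul, hk] at h'
    rw [hcomm] at h'
    simp only [mul_add, mul_smul_comm, mul_one]
    exact h'
  have hunit : ev τ Bᵀ (diff t (sqc t)) * ev τ Bᵀ q = 1 := by
    apply _root_.mul_eq_one_comm.mp
    rw [← ev_mulP hτ hsT, hq, ev_one4]
  calc W = W * (ev τ Bᵀ (diff t (sqc t)) * ev τ Bᵀ q) := by rw [hunit, mul_one]
    _ = 0 := by rw [← mul_assoc, hWp, zero_mul]

end CfsgLib.Recog.SuzukiEight
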