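import Mathlib
import Cfsg.Agent.Lib.Recog.SuzukiEight

/-!
# Elements of the semilinear Suzuki group over eight elements
-/

set_option autoImplicit false

namespace CfsgLib.Recog.SuzukiEight

open Matrix Cfsg.Lie CfsgLib.Recog.SuzukiFix CfsgLib.Recog.EightCodes

variable {F : Type*} [Field F] [Fintype F] [CharP F 2]

/-- the inclusion of the prime field -/
noncomputable def cst : ZMod 2 →+* F := ZMod.castHom dvd_rfl F

/-- an involution -/
def mJ : Matrix (Fin 4) (Fin 4) (ZMod 2) := !![0, 0, 0, 1; 0, 0, 1, 0; 0, 1, 0, 0; 1, 0, 0, 0]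

/-- an element of order five -/
def mP : Matrix (Fin 4) (Fin 4) (ZMod 2) := !![1, 1, 0, 1; 1, 0, 1, 0; 0, 1, 0, 0; 1, 0, 0, 0]

/-- another element of order five -/
def mQ : Matrix (Fin 4) (Fin 4) (ZMod 2) := !![0, 0, 0, 1; 0, 0, 1, 0; 0, 1, 0, 1; 1, 0, 1, 1]

/-- a non-degenerate matrix -/
def mW : Matrix (Fin 4) (Fin 4) (ZMod 2) := mJ

theorem fr_cst (a : ZMod 2) : fr F (cst a) = cst (F := F) a := by
  rw [fr_apply, ← map_pow]
  exact congrArg _ (ZMod.pow_card a)

theorem map_fr_cst (A : Matrix (Fin 4) (Fin 4) (ZMod 2)) :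
    ((cst (F := F)).mapMatrix A).map (fr F) = (cst (F := F)).mapMatrix A :=
  Matrix.ext fun i j => fr_cst (A i j)

/-- the unit coming from a matrix over the prime field -/
noncomputable def unitOf (A B : Matrix (Fin 4) (Fin 4) (ZMod 2)) (h : A * B = 1) : GL (Fin 4) F :=
  ⟨(cst (F := F)).mapMatrix A, (cst (F := F)).mapMatrix B, by rw [← map_mul, h, map_one],
    by rw [← map_mul, _root_.mul_eq_one_comm.mp h, map_one]⟩

theorem z2_pow : ∀ a : ZMod 2, a ^ 4 = a := by decide

theorem cst_star (A : Matrix (Fin 4) (Fin 4) (ZMod 2)) (h : star4 A = A) :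
    star4 ((cst (F := F)).mapMatrix A) = ((cst (F := F)).mapMatrix A).map (fun x => x ^ 4) := by
  ext p r
  have h' := congrArg (cst (F := F)) (congrFun (congrFun h p) r)
  simp only [star4, Matrix.of_apply, map_sub, map_mul] at h'
  simp only [star4, Matrix.of_apply, RingHom.mapMatrix_apply, Matrix.map_apply, ← map_pow]
  rw [h', z2_pow]

theorem mJ_symp : IsSymp ((cst (F := F)).mapMatrix mJ) := fun u v => by
  simp [mJ, altForm4, Matrix.mulVec, dotProduct, Fin.sum_univ_four]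
  ring

theorem mP_symp : IsSymp ((cst (F := F)).mapMatrix mP) := fun u v => by
  have h2 : (2 : F) = 0 := CharTwo.two_eq_zero
  simp [mP, altForm4, Matrix.mulVec, dotProduct, Fin.sum_univ_four]
  ring_nf
  simp [h2]

theorem mQ_symp : IsSymp ((cst (F := F)).mapMatrix mQ) := fun u v => by
  have h2 : (2 : F) = 0 := CharTwo.two_eq_zero
  simp [mQ, altForm4, Matrix.mulVec, dotProduct, Fin.sum_univ_four]
  ring_nf
  simp [h2]

theorem star_checks : star4 mJ = mJ ∧ star4 mP = mP ∧ star4 mQ = mQ := by decide +kernel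

theorem unitOf_mem {A B : Matrix (Fin 4) (Fin 4) (ZMod 2)} (h : A * B = 1)
    (hs : IsSymp ((cst (F := F)).mapMatrix A)) (hst : star4 A = A) : unitOf (F := F) A B h ∈ S F :=
  Subgroup.subset_closure ⟨hs, cst_star A hst⟩

variable {τ : F}

theorem exists_diag (hτ : τ ^ 3 = τ + 1) : ∃ d : S F, (d.1 : Matrix (Fin 4) (Fin 4) F) =
    Matrix.diagonal ![τ, τ ^ 3, τ ^ 4, τ ^ 6] := by
  have h2 : (2 : F) = 0 := CharTwo.two_eq_zero
  have h7 : τ ^ 7 = 1 := by linear_combination (τ ^ 4 + τ ^ 2 + τ + 1) * hτ + (τ ^ 2 + τ) * h2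
  have hd : Matrix.diagonal ![τ, τ ^ 3, τ ^ 4, τ ^ 6] * Matrix.diagonal ![τ ^ 6, τ ^ 4, τ ^ 3, τ] = 1 := by
    rw [Matrix.diagonal_mul_diagonal, ← Matrix.diagonal_one]
    congr 1
    funext i
    fin_cases i <;> simp <;> linear_combination h7
  refine ⟨⟨⟨_, _, hd, _root_.mul_eq_one_comm.mp hd⟩, Subgroup.subset_closure ⟨fun u v => ?_, ?_⟩⟩, rfl⟩
  · simp [altForm4, Matrix.mulVec_diagonal]
    linear_combination (u 0 * v 3 + u 1 * v 2 + u 2 * v 1 + u 3 * v 0) * h7
  · ext p r
    fin_cases p <;> fin_cases r <;> simp [star4, pairOf, Matrix.diagonal, CharTwo.neg_eq] <;>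
      first
        | ring1
        | linear_combination (-(τ ^ 5)) * h7
        | linear_combination (-(τ ^ 9)) * h7
        | linear_combination (τ ^ 2) * h7
        | linear_combination (-(τ ^ 10 + τ ^ 3)) * h7
        | linear_combination (-(τ ^ 17 + τ ^ 10)) * h7

end CfsgLib.Recog.SuzukiEight
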