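import Mathlib

/-!
# Element orders of the symmetric group of degree 8
-/

set_option autoImplicit false
set_option maxRecDepth 20000

namespace CfsgLib.Recog.SymEight

/-- the pairs (sum, least common multiple) of cycle types of total length at most 8 -/
def states : List (ℕ × ℕ) :=
  let step := fun l : List (ℕ × ℕ) =>
    (l ++ (l.flatMap fun x => ((List.range' 2 7).filter fun a => x.1 + a ≤ 8).map fun a => (x.1 + a, Nat.lcm a x.2))).dedup
  step (step (step (step [(0, 1)])))

theorem states_closed : (0, 1) ∈ states ∧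
    (∀ x ∈ states, ∀ a ∈ List.range' 2 7, x.1 + a ≤ 8 → (x.1 + a, Nat.lcm a x.2) ∈ states) ∧
    (∀ x ∈ states, x.2 ∈ [1, 2, 3, 4, 5, 6, 7, 8, 10, 12, 15]) := by
  decide +kernel

theorem mem_states (m : Multiset ℕ) : (∀ a ∈ m, 2 ≤ a) → m.sum ≤ 8 → (m.sum, m.lcm) ∈ states := by
  induction m using Multiset.induction_on with
  | empty => intro _ _; simpa using states_closed.1
  | cons a m ih =>
    intro h hs
    rw [Multiset.sum_cons] at hs
    have ha := h a (Multiset.mem_cons_self a m)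
    have h1 := states_closed.2.1 _ (ih (fun b hb => h b (Multiset.mem_cons_of_mem hb)) (by omega)) a
      (by rw [List.mem_range']; exact ⟨a - 2, by omega, by omega⟩) (by omega)
    rw [Multiset.sum_cons, Multiset.lcm_cons, add_comm a]
    exact h1

theorem orderOf_mem (σ : Equiv.Perm (Fin 8)) : orderOf σ ∈ [1, 2, 3, 4, 5, 6, 7, 8, 10, 12, 15] := by
  have hsum := Equiv.Perm.sum_cycleType_le σ
  rw [Fintype.card_fin] at hsum
  have := states_closed.2.2 _ (mem_states σ.cycleType (fun a ha => Equiv.Perm.two_le_of_mem_cycleType ha) hsum)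
  rwa [Equiv.Perm.lcm_cycleType] at this

theorem exists_orderOf : ∀ n ∈ [1, 2, 3, 4, 5, 6, 7, 8, 10, 12, 15], ∃ σ : Equiv.Perm (Fin 8), orderOf σ = n := by
  intro n hn
  obtain ⟨m, hm, hl⟩ : ∃ m : Multiset ℕ, (m.sum ≤ 8 ∧ ∀ a ∈ m, 2 ≤ a) ∧ m.lcm = n := by
    simp only [List.mem_cons, List.not_mem_nil, or_false] at hn
    rcases hn with rfl | rfl | rfl | rfl | rfl | rfl | rfl | rfl | rfl | rfl | rfl
    · exact ⟨0, by simp, by simp⟩
    · exact ⟨{2}, by decide, by decide +kernel⟩
    · exact ⟨{3}, by decide, by decide +kernel⟩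
    · exact ⟨{4}, by decide, by decide +kernel⟩
    · exact ⟨{5}, by decide, by decide +kernel⟩
    · exact ⟨{6}, by decide, by decide +kernel⟩
    · exact ⟨{7}, by decide, by decide +kernel⟩
    · exact ⟨{8}, by decide, by decide +kernel⟩
    · exact ⟨{5, 2}, by decide, by decide +kernel⟩
    · exact ⟨{4, 3}, by decide, by decide +kernel⟩
    · exact ⟨{5, 3}, by decide, by decide +kernel⟩
  obtain ⟨σ, hσ⟩ := (Equiv.Perm.exists_with_cycleType_iff (Fin 8) (m := m)).2 ⟨by simpa using hm.1, hm.2⟩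
  exact ⟨σ, by rw [← Equiv.Perm.lcm_cycleType, hσ, hl]⟩

theorem range_orderOf :
    Set.range (orderOf : Equiv.Perm (Fin 8) → ℕ) = {n | n ∈ [1, 2, 3, 4, 5, 6, 7, 8, 10, 12, 15]} := by
  ext n
  exact ⟨fun ⟨σ, h⟩ => h ▸ orderOf_mem σ, fun h => exists_orderOf n h⟩

end CfsgLib.Recog.SymEight
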