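import Mathlib
import Cfsg.Agent.Lib.Recog.SemidirectFix
import Cfsg.Agent.Lib.Recog.SymEight

/-!
# Groups of unbounded order with the element orders of the symmetric group of degree 8

Powers of the six-dimensional module of the alternating group of degree 8 over the field with two
elements, extended by that group.
-/

set_option autoImplicit false
set_option maxRecDepth 20000
set_option synthInstance.maxSize 2000

namespace CfsgLib.Recog.SymEightCover

/-- functions of sum zero vanishing at `0` -/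
def heart : AddSubgroup (Fin 8 → ZMod 2) where
  carrier := {f | ∑ x, f x = 0 ∧ f 0 = 0}
  zero_mem' := by simp
  add_mem' := fun {f g} hf hg => by simp [Finset.sum_add_distrib, hf.1, hg.1, hf.2, hg.2]
  neg_mem' := fun {f} hf => by simp [hf.1, hf.2]

theorem double (a : ZMod 2) : a + a = 0 := CharTwo.add_self_eq_zero a

/-- the action on functions -/
def actFun (g : Equiv.Perm (Fin 8)) (f : Fin 8 → ZMod 2) : Fin 8 → ZMod 2 := fun x => f (g.symm x) + f (g.symm 0)

theorem actFun_mem (g : Equiv.Perm (Fin 8)) {f : Fin 8 → ZMod 2} (hf : f ∈ heart) : actFun g f ∈ heart := by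
  refine ⟨?_, double _⟩
  show ∑ x, (f (g.symm x) + f (g.symm 0)) = 0
  rw [Finset.sum_add_distrib, Equiv.sum_comp g.symm f, hf.1, zero_add, Finset.sum_const, Finset.card_univ,
    Fintype.card_fin]
  generalize f (g.symm 0) = a
  revert a; decide

theorem actFun_mul (g h : Equiv.Perm (Fin 8)) {f : Fin 8 → ZMod 2} :
    actFun (g * h) f = actFun g (actFun h f) := by
  funext x
  show f (h.symm (g.symm x)) + f (h.symm (g.symm 0)) =
    (f (h.symm (g.symm x)) + f (h.symm 0)) + (f (h.symm (g.symm 0)) + f (h.symm 0))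
  rw [add_add_add_comm, double, add_zero]

theorem actFun_one {f : Fin 8 → ZMod 2} (hf : f ∈ heart) : actFun 1 f = f := by
  funext x
  show f x + f 0 = f x
  rw [hf.2, add_zero]

theorem actFun_add (g : Equiv.Perm (Fin 8)) (f f' : Fin 8 → ZMod 2) : actFun g (f + f') = actFun g f + actFun g f' := by
  funext x
  simp only [actFun, Pi.add_apply]
  rw [add_add_add_comm]

variable (N : ℕ)

/-- the module -/
abbrev M : Type := Fin (N + 1) → heart

/-- an even permutation as an automorphism of the module -/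
def actAut (g : alternatingGroup (Fin 8)) : MulAut (Multiplicative (M N)) where
  toFun v := Multiplicative.ofAdd fun i => ⟨actFun g.1 (v.toAdd i).1, actFun_mem g.1 (v.toAdd i).2⟩
  invFun v := Multiplicative.ofAdd fun i => ⟨actFun (g.1)⁻¹ (v.toAdd i).1, actFun_mem _ (v.toAdd i).2⟩
  left_inv v := Multiplicative.toAdd.injective (funext fun i => Subtype.ext (by
    show actFun (g.1)⁻¹ (actFun g.1 (v.toAdd i).1) = _
    rw [← actFun_mul, inv_mul_cancel, actFun_one (v.toAdd i).2]))
  right_inv v := Multiplicative.toAdd.injective (funext fun i => Subtype.ext (by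
    show actFun g.1 (actFun (g.1)⁻¹ (v.toAdd i).1) = _
    rw [← actFun_mul, mul_inv_cancel, actFun_one (v.toAdd i).2]))
  map_mul' u v := Multiplicative.toAdd.injective (funext fun i => Subtype.ext (actFun_add g.1 _ _))

/-- the action -/
def act : alternatingGroup (Fin 8) →* MulAut (Multiplicative (M N)) where
  toFun := actAut N
  map_one' := MulEquiv.ext fun v => Multiplicative.toAdd.injective (funext fun i => Subtype.ext (actFun_one (v.toAdd i).2))
  map_mul' g h := MulEquiv.ext fun v => Multiplicative.toAdd.injective (funext fun i => Subtype.ext (actFun_mul g.1 h.1))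

theorem act_apply (g : alternatingGroup (Fin 8)) (v : Multiplicative (M N)) (i : Fin (N + 1)) :
    ((act N g v).toAdd i).1 = actFun g.1 (v.toAdd i).1 := rfl

/-- pairs (sum, least common multiple, parity) of cycle types -/
def states : List (ℕ × ℕ × ℕ) :=
  let step := fun l : List (ℕ × ℕ × ℕ) =>
    (l ++ (l.flatMap fun x => ((List.range' 2 7).filter fun a => x.1 + a ≤ 8).map fun a =>
      (x.1 + a, Nat.lcm a x.2.1, (x.2.2 + a + 1) % 2))).dedup
  step (step (step (step [(0, 1, 0)])))

theorem states_closed : (0, 1, 0) ∈ states ∧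
    (∀ x ∈ states, ∀ a ∈ List.range' 2 7, x.1 + a ≤ 8 → (x.1 + a, Nat.lcm a x.2.1, (x.2.2 + a + 1) % 2) ∈ states) ∧
    (∀ x ∈ states, x.2.2 = 0 → x.2.1 ∈ [1, 2, 3, 4, 5, 6, 7, 15]) := by
  decide +kernel

theorem mem_states (m : Multiset ℕ) :
    (∀ a ∈ m, 2 ≤ a) → m.sum ≤ 8 → (m.sum, m.lcm, (m.sum + Multiset.card m) % 2) ∈ states := by
  induction m using Multiset.induction_on with
  | empty => intro _ _; simpa using states_closed.1
  | cons a m ih =>
    intro h hs
    rw [Multiset.sum_cons] at hs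
    have ha := h a (Multiset.mem_cons_self a m)
    have h1 := states_closed.2.1 _ (ih (fun b hb => h b (Multiset.mem_cons_of_mem hb)) (by omega)) a
      (by rw [List.mem_range']; exact ⟨a - 2, by omega, by omega⟩) (by omega)
    rw [Multiset.sum_cons, Multiset.lcm_cons, Multiset.card_cons]
    have he : (a + m.sum + (Multiset.card m + 1)) % 2 = ((m.sum + Multiset.card m) % 2 + a + 1) % 2 := by omega
    rw [he, add_comm a m.sum]
    exact h1

theorem orderOf_even (g : alternatingGroup (Fin 8)) : orderOf g ∈ [1, 2, 3, 4, 5, 6, 7, 15] := by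
  have hsum := Equiv.Perm.sum_cycleType_le g.1
  rw [Fintype.card_fin] at hsum
  have hsgn : Equiv.Perm.sign g.1 = 1 := Equiv.Perm.mem_alternatingGroup.1 g.2
  rw [Equiv.Perm.sign_of_cycleType, neg_one_pow_eq_one_iff_even (by decide), Nat.even_iff] at hsgn
  have h1 := states_closed.2.2 _ (mem_states g.1.cycleType (fun a ha => Equiv.Perm.two_le_of_mem_cycleType ha) hsum) hsgn
  simp only at h1
  rw [Equiv.Perm.lcm_cycleType] at h1
  rwa [← Subgroup.orderOf_coe]

/-- a seven-cycle -/
def c7 : Equiv.Perm (Fin 8) :=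
  ⟨![1, 2, 3, 4, 5, 6, 0, 7], ![6, 0, 1, 2, 3, 4, 5, 7], by decide, by decide⟩

/-- a three-cycle and a five-cycle -/
def c15 : Equiv.Perm (Fin 8) :=
  ⟨![1, 2, 0, 4, 5, 6, 7, 3], ![2, 0, 1, 7, 3, 4, 5, 6], by decide, by decide⟩

theorem fixed_rep : ∀ g ∈ [c7, c15], ∀ f : Fin 8 → ZMod 2, ∑ x, f x = 0 → f 0 = 0 → actFun g f = f → f = 0 := by
  intro g hg f hsum h0 hfix
  rw [Fin.sum_univ_eight] at hsum
  have h : ∀ x, f (g.symm x) + f (g.symm 0) = f x := fun x => congrFun hfix x
  have key : ∀ a b c d e u v : ZMod 2, a + b + c + d + e + u + v = 0 →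
      ((a = 0 ∧ b = a ∧ c = b ∧ d = c ∧ e = d ∧ u = e) ∨ (a = b ∧ a = 0 ∧ d = c ∧ e = d ∧ u = e ∧ v = u)) →
      a = 0 ∧ b = 0 ∧ c = 0 ∧ d = 0 ∧ e = 0 ∧ u = 0 ∧ v = 0 := by decide
  have hall := key (f 1) (f 2) (f 3) (f 4) (f 5) (f 6) (f 7) (by simpa [h0, add_assoc] using hsum) (by
    rcases List.mem_cons.1 hg with rfl | hg
    · left
      have e0 := h 0; have e1 := h 1; have e2 := h 2; have e3 := h 3; have e4 := h 4; have e5 := h 5; have e6 := h 6
      change f 6 + f 6 = f 0 at e0
      change f 0 + f 6 = f 1 at e1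
      change f 1 + f 6 = f 2 at e2
      change f 2 + f 6 = f 3 at e3
      change f 3 + f 6 = f 4 at e4
      change f 4 + f 6 = f 5 at e5
      change f 5 + f 6 = f 6 at e6
      revert e0 e1 e2 e3 e4 e5 e6
      rw [h0]
      generalize f 1 = a; generalize f 2 = b; generalize f 3 = c; generalize f 4 = d; generalize f 5 = e
      generalize f 6 = u
      revert a b c d e u
      decide
    · rw [List.mem_singleton.1 hg] at h
      right
      have e1 := h 1; have e2 := h 2; have e4 := h 4; have e5 := h 5; have e6 := h 6; have e7 := h 7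
      change f 0 + f 2 = f 1 at e1
      change f 1 + f 2 = f 2 at e2
      change f 3 + f 2 = f 4 at e4
      change f 4 + f 2 = f 5 at e5
      change f 5 + f 2 = f 6 at e6
      change f 6 + f 2 = f 7 at e7
      revert e1 e2 e4 e5 e6 e7
      rw [h0]
      generalize f 1 = a; generalize f 2 = b; generalize f 3 = c; generalize f 4 = d; generalize f 5 = e
      generalize f 6 = u; generalize f 7 = v
      revert a b c d e u v
      decide)
  obtain ⟨a1, a2, a3, a4, a5, a6, a7⟩ := hall
  funext x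
  fin_cases x <;> assumption

theorem states_big : ∀ m : Multiset ℕ, (∀ a ∈ m, 2 ≤ a) → m.sum ≤ 8 →
    (m.lcm = 7 → m = {7}) ∧ (m.lcm = 15 → m = {5, 3}) := by
  intro m h2 hsum
  have hdvd : ∀ a ∈ m, a ∣ m.lcm := fun a ha => Multiset.dvd_lcm ha
  constructor
  · intro hl
    have hall : ∀ a ∈ m, a = 7 := fun a ha => by
      rcases (Nat.dvd_prime (by norm_num)).mp (hl ▸ hdvd a ha) with rfl | rfl
      · exact absurd (h2 1 ha) (by norm_num)
      · rfl
    have := Multiset.eq_replicate_card.mpr hall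
    rw [this] at hsum hl ⊢
    rw [Multiset.sum_replicate, smul_eq_mul] at hsum
    rcases hc : Multiset.card m with _ | _ | k
    · rw [hc] at hl; simp at hl
    · rfl
    · omega
  · intro hl
    have hall : ∀ a ∈ m, a = 3 ∨ a = 5 := fun a ha => by
      have h15 : a ∣ 15 := hl ▸ hdvd a ha
      have hle := Multiset.le_sum_of_mem ha
      have := h2 a ha
      have : ∀ b : Fin 9, b.1 ∣ 15 → 2 ≤ b.1 → b.1 = 3 ∨ b.1 = 5 := by decide
      exact this ⟨a, by omega⟩ h15 (h2 a ha)
    have key : ∀ d : ℕ, (∀ a ∈ m, a ∣ d) → 15 ∣ d := fun d hd => hl ▸ Multiset.lcm_dvd.mpr hd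
    have h5 : 5 ∈ m := by
      by_contra h5
      have := key 3 fun a ha => by
        rcases hall a ha with rfl | rfl
        · exact dvd_rfl
        · exact absurd ha h5
      norm_num at this
    have h3 : 3 ∈ m := by
      by_contra h3
      have := key 5 fun a ha => by
        rcases hall a ha with rfl | rfl
        · exact absurd ha h3
        · exact dvd_rfl
      norm_num at this
    obtain ⟨t, rfl⟩ := Multiset.exists_cons_of_mem h5
    obtain ⟨u, rfl⟩ := Multiset.exists_cons_of_mem ((Multiset.mem_cons.mp h3).resolve_left (by norm_num))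
    have hu : u = 0 := by
      rw [Multiset.eq_zero_iff_forall_notMem]
      intro a ha
      have h2a := h2 a (Multiset.mem_cons_of_mem (Multiset.mem_cons_of_mem ha))
      have := Multiset.le_sum_of_mem ha
      simp only [Multiset.sum_cons] at hsum
      omega
    subst hu
    rfl

theorem fixed_trivial {g : Equiv.Perm (Fin 8)} (hg : orderOf g = 7 ∨ orderOf g = 15) {f : Fin 8 → ZMod 2}
    (hf : f ∈ heart) (hfix : actFun g f = f) : f = 0 := by
  have hsum := Equiv.Perm.sum_cycleType_le g
  rw [Fintype.card_fin] at hsum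
  have hs := states_big g.cycleType (fun a ha => Equiv.Perm.two_le_of_mem_cycleType ha) hsum
  rw [Equiv.Perm.lcm_cycleType] at hs
  obtain ⟨c, hc, hcyc⟩ : ∃ c ∈ [c7, c15], g.cycleType = c.cycleType := by
    rcases hg with h | h
    · refine ⟨c7, by simp, (hs.1 h).trans ?_⟩
      decide +kernel
    · refine ⟨c15, by simp, (hs.2 h).trans ?_⟩
      decide +kernel
  obtain ⟨σ, hσ⟩ := isConj_iff.mp (Equiv.Perm.isConj_iff_cycleType_eq.mpr hcyc)
  have hmem := actFun_mem σ hf
  have h : actFun c (actFun σ f) = actFun σ f := by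
    rw [← actFun_mul, ← hσ, show σ * g * σ⁻¹ * σ = σ * g by group, actFun_mul, hfix]
  have h0 := fixed_rep c hc _ hmem.1 hmem.2 h
  have h1 := congrArg (actFun σ⁻¹) h0
  rw [← actFun_mul, inv_mul_cancel, actFun_one hf] at h1
  rw [h1]
  funext x
  simp [actFun]

/-- the group -/
abbrev Cover : Type := Multiplicative (M N) ⋊[act N] alternatingGroup (Fin 8)

theorem pow_two_module (v : Multiplicative (M N)) : v ^ 2 = 1 :=
  Multiplicative.toAdd.injective (funext fun i => Subtype.ext (funext fun x => by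
    show (2 • v.toAdd i : heart).1 x = 0
    rw [two_nsmul]; exact double _))

theorem orderOf_mem_cover (x : Cover N) : orderOf x ∈ [1, 2, 3, 4, 5, 6, 7, 8, 10, 12, 15] := by
  have hr := orderOf_even x.right
  by_cases hbig : orderOf x.right = 7 ∨ orderOf x.right = 15
  · rw [SemidirectFix.orderOf_eq_of_fixed x fun v hv => ?_]
    · rcases hbig with h | h <;> simp [h]
    refine Multiplicative.toAdd.injective (funext fun i => Subtype.ext ?_)
    refine fixed_trivial (g := x.right.1) (by rwa [Subgroup.orderOf_coe]) (v.toAdd i).2 ?_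
    rw [← act_apply, hv]
  · have h1 := orderOf_dvd_of_pow_eq_one
      (SemidirectFix.pow_mul_eq_one x (pow_two_module N) (pow_orderOf_eq_one x.right))
    have h2 : orderOf x.right ∣ orderOf x := orderOf_map_dvd SemidirectProduct.rightHom x
    have hle := Nat.le_of_dvd (Nat.mul_pos (orderOf_pos _) two_pos) h1
    have key : ∀ d : Fin 16, d.1 ∈ [1, 2, 3, 4, 5, 6, 7, 15] → d.1 ≠ 7 → d.1 ≠ 15 →
        ∀ n : Fin 31, n.1 ∣ d.1 * 2 → d.1 ∣ n.1 → n.1 ∈ [1, 2, 3, 4, 5, 6, 7, 8, 10, 12, 15] := by decide +kernel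
    have hd : orderOf x.right < 16 := by
      simp only [List.mem_cons, List.not_mem_nil, or_false] at hr; omega
    push Not at hbig
    exact key ⟨_, hd⟩ hr hbig.1 hbig.2 ⟨orderOf x, by omega⟩ h1 h2

theorem witnesses : ∀ e ∈ [(8, [1, 2, 3, 0, 5, 4, 6, 7], [false, true, false, false, false, false, true, false]),
      (10, [0, 1, 2, 4, 5, 6, 7, 3], [false, true, false, false, false, false, false, true]),
      (12, [1, 2, 0, 4, 3, 6, 5, 7], [false, false, false, true, false, false, false, true])],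
    ∃ g : alternatingGroup (Fin 8), ∃ f : heart, orderOf g * 2 = (e : ℕ × List (Fin 8) × List Bool).1 ∧
      ∑ j ∈ Finset.range (orderOf g), actFun (g ^ j : alternatingGroup (Fin 8)).1 f.1 ≠ 0 := by
  intro e he
  simp only [List.mem_cons, List.not_mem_nil, or_false] at he
  rcases he with rfl | rfl | rfl
  · refine ⟨⟨⟨![1, 2, 3, 0, 5, 4, 6, 7], ![3, 0, 1, 2, 5, 4, 6, 7], by decide, by decide⟩, Equiv.Perm.mem_alternatingGroup.mpr (by decide +kernel)⟩,
      ⟨![0, 1, 0, 0, 0, 0, 1, 0], show _ ∧ _ from ⟨by decide, by decide⟩⟩, ?_⟩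
    rw [(orderOf_eq_iff (n := 4) (by norm_num)).mpr ⟨by decide +kernel, by decide +kernel⟩]
    exact ⟨rfl, by decide +kernel⟩
  · refine ⟨⟨⟨![0, 1, 2, 4, 5, 6, 7, 3], ![0, 1, 2, 7, 3, 4, 5, 6], by decide, by decide⟩, Equiv.Perm.mem_alternatingGroup.mpr (by decide +kernel)⟩,
      ⟨![0, 1, 0, 0, 0, 0, 0, 1], show _ ∧ _ from ⟨by decide, by decide⟩⟩, ?_⟩
    rw [(orderOf_eq_iff (n := 5) (by norm_num)).mpr ⟨by decide +kernel, by decide +kernel⟩]
    exact ⟨rfl, by decide +kernel⟩
  · refine ⟨⟨⟨![1, 2, 0, 4, 3, 6, 5, 7], ![2, 0, 1, 4, 3, 6, 5, 7], by decide, by decide⟩, Equiv.Perm.mem_alternatingGroup.mpr (by decide +kernel)⟩,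
      ⟨![0, 0, 0, 1, 0, 0, 0, 1], show _ ∧ _ from ⟨by decide, by decide⟩⟩, ?_⟩
    rw [(orderOf_eq_iff (n := 6) (by norm_num)).mpr ⟨by decide +kernel, by decide +kernel⟩]
    exact ⟨rfl, by decide +kernel⟩

theorem exists_orderOf_alt : ∀ n ∈ [1, 2, 3, 4, 5, 6, 7, 15], ∃ g : alternatingGroup (Fin 8), orderOf g = n := by
  intro n hn
  obtain ⟨m, hm, he, hl⟩ : ∃ m : Multiset ℕ, (m.sum ≤ 8 ∧ ∀ a ∈ m, 2 ≤ a) ∧
      (m.sum + Multiset.card m) % 2 = 0 ∧ m.lcm = n := by
    simp only [List.mem_cons, List.not_mem_nil, or_false] at hn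
    rcases hn with rfl | rfl | rfl | rfl | rfl | rfl | rfl | rfl
    · exact ⟨0, by simp, by simp, by simp⟩
    · exact ⟨{2, 2}, by decide, by decide +kernel, by decide +kernel⟩
    · exact ⟨{3}, by decide, by decide +kernel, by decide +kernel⟩
    · exact ⟨{4, 2}, by decide, by decide +kernel, by decide +kernel⟩
    · exact ⟨{5}, by decide, by decide +kernel, by decide +kernel⟩
    · exact ⟨{3, 2, 2}, by decide, by decide +kernel, by decide +kernel⟩
    · exact ⟨{7}, by decide, by decide +kernel, by decide +kernel⟩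
    · exact ⟨{5, 3}, by decide, by decide +kernel, by decide +kernel⟩
  obtain ⟨σ, hσ⟩ := (Equiv.Perm.exists_with_cycleType_iff (Fin 8) (m := m)).2 ⟨by simpa using hm.1, hm.2⟩
  have hsgn : Equiv.Perm.sign σ = 1 := by
    rw [Equiv.Perm.sign_of_cycleType, hσ]
    exact Even.neg_one_pow (Nat.even_iff.2 he)
  exact ⟨⟨σ, Equiv.Perm.mem_alternatingGroup.2 hsgn⟩, by
    rw [← Subgroup.orderOf_coe, ← hl, ← hσ, Equiv.Perm.lcm_cycleType]⟩

theorem left_sum (x : Cover N) (n : ℕ) (i : Fin (N + 1)) :
    ((x ^ n).left.toAdd i).1 = ∑ j ∈ Finset.range n, actFun (x.right ^ j : alternatingGroup (Fin 8)).1 (x.left.toAdd i).1 := by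
  rw [SemidirectFix.left_pow, toAdd_prod, Finset.sum_apply, AddSubmonoidClass.coe_finsetSum]
  rfl

theorem exists_orderOf_cover : ∀ n ∈ [1, 2, 3, 4, 5, 6, 7, 8, 10, 12, 15], ∃ x : Cover N, orderOf x = n := by
  intro n hn
  by_cases hsmall : n ∈ [1, 2, 3, 4, 5, 6, 7, 15]
  · obtain ⟨g, hg⟩ := exists_orderOf_alt n hsmall
    exact ⟨SemidirectProduct.inr g, by
      rw [orderOf_injective SemidirectProduct.inr SemidirectProduct.inr_injective, hg]⟩
  · have h : n = 8 ∨ n = 10 ∨ n = 12 := by
      simp only [List.mem_cons, List.not_mem_nil, or_false] at hn hsmall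
      omega
    obtain ⟨g, f, hg, hne⟩ : ∃ g : alternatingGroup (Fin 8), ∃ f : heart, orderOf g * 2 = n ∧
        ∑ j ∈ Finset.range (orderOf g), actFun (g ^ j : alternatingGroup (Fin 8)).1 f.1 ≠ 0 := by
      rcases h with rfl | rfl | rfl
      exacts [witnesses _ (List.mem_cons_self), witnesses _ (List.mem_cons_of_mem _ List.mem_cons_self),
        witnesses _ (List.mem_cons_of_mem _ (List.mem_cons_of_mem _ List.mem_cons_self))]
    refine ⟨⟨Multiplicative.ofAdd fun _ => f, g⟩, ?_⟩
    rw [SemidirectFix.orderOf_eq_mul _ Nat.prime_two (pow_two_module N) fun h1 => hne ?_]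
    · exact hg
    · have := left_sum N (⟨Multiplicative.ofAdd fun _ => f, g⟩ : Cover N) (orderOf g) 0
      rw [h1] at this
      exact this.symm

theorem range_orderOf :
    Set.range (orderOf : Cover N → ℕ) = {n | n ∈ [1, 2, 3, 4, 5, 6, 7, 8, 10, 12, 15]} := by
  ext n
  exact ⟨fun ⟨x, h⟩ => h ▸ orderOf_mem_cover N x, fun h => exists_orderOf_cover N n h⟩

theorem exists_large_group :
    ∃ (H : Type) (_ : Group H) (_ : Fintype H), N < Fintype.card H ∧
      Set.range (orderOf : H → ℕ) = {n | n ∈ [1, 2, 3, 4, 5, 6, 7, 8, 10, 12, 15]} := by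
  classical
  have : Finite (Cover N) := Finite.of_equiv _ SemidirectProduct.equivProd.symm
  refine ⟨Cover N, inferInstance, Fintype.ofFinite _, ?_, range_orderOf N⟩
  rw [Fintype.card_eq_nat_card]
  let w : heart := ⟨![0, 1, 1, 0, 0, 0, 0, 0], show _ ∧ _ from ⟨by decide, by decide⟩⟩
  have hinj : Function.Injective fun i : Fin (N + 1) =>
      (SemidirectProduct.inl (Multiplicative.ofAdd (Pi.single i w)) : Cover N) := fun i j h => by
    have h2 := Multiplicative.ofAdd.injective (SemidirectProduct.inl_injective h)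
    by_contra hne
    have h3 := congrFun h2 i
    rw [Pi.single_eq_same, Pi.single_eq_of_ne hne] at h3
    have h4 : (1 : ZMod 2) = 0 := congrFun (congrArg Subtype.val h3) 1
    exact absurd h4 (by decide)
  have := Nat.card_le_card_of_injective _ hinj
  rw [Nat.card_eq_fintype_card (α := Fin (N + 1)), Fintype.card_fin] at this
  exact Nat.lt_of_succ_le this

end CfsgLib.Recog.SymEightCover
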