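import Cfsg.Agent.Lib.Known.PSLTori

/-!
A group `V ⋊ (2 × PSL(2, q))`, `q` an odd power of `3`, `V` the twisted tensor square of the
natural module: the maximal element orders are `6`, `9`, `q - 1` and `(q + 1) / 2`.
-/

set_option autoImplicit false

namespace CfsgLib.Recog.TruncatedRee

open Matrix

variable {F : Type*} [Field F]

theorem sq_eq (A : SpecialLinearGroup (Fin 2) F) :
    (A : Matrix (Fin 2) (Fin 2) F) * (A : Matrix (Fin 2) (Fin 2) F) =
      (A : Matrix (Fin 2) (Fin 2) F).trace • (A : Matrix (Fin 2) (Fin 2) F) - 1 := by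
  have hd := Matrix.det_fin_two (A : Matrix (Fin 2) (Fin 2) F)
  rw [A.det_coe] at hd
  ext i j
  fin_cases i <;> fin_cases j <;>
    simp [Matrix.mul_apply, Fin.sum_univ_two, Matrix.trace_fin_two] <;>
    first | ring1 | linear_combination hd | linear_combination -hd

theorem eq_one_or_neg_one (h2 : (2 : F) ≠ 0) (A : SpecialLinearGroup (Fin 2) F)
    (h : (A : Matrix (Fin 2) (Fin 2) F) * (A : Matrix (Fin 2) (Fin 2) F) = 1) :
    (A : Matrix (Fin 2) (Fin 2) F) = 1 ∨ (A : Matrix (Fin 2) (Fin 2) F) = -1 := by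
  set M := (A : Matrix (Fin 2) (Fin 2) F)
  have hs := sq_eq A
  rw [h] at hs
  have h4 : M.trace • M = (2 : F) • (1 : Matrix (Fin 2) (Fin 2) F) := by
    linear_combination (norm := module) -hs
  have ht : M.trace ≠ 0 := by
    intro h0
    rw [h0, zero_smul] at h4
    exact h2 ((smul_eq_zero.1 h4.symm).resolve_right one_ne_zero)
  have h5 : M = (2 / M.trace) • (1 : Matrix (Fin 2) (Fin 2) F) := by
    rw [div_eq_inv_mul, ← smul_smul, ← h4, inv_smul_smul₀ ht]
  have h6 : (2 / M.trace) * (2 / M.trace) = 1 := by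
    have h7 := h
    rw [h5, smul_mul_smul_comm, mul_one] at h7
    exact smul_left_injective F (one_ne_zero : (1 : Matrix (Fin 2) (Fin 2) F) ≠ 0)
      (h7.trans (one_smul F _).symm)
  rcases mul_self_eq_one_iff.1 h6 with e | e
  · left; rw [h5, e, one_smul]
  · right; rw [h5, e, neg_one_smul]

variable [CharP F 3]

theorem two_ne_zero' : (2 : F) ≠ 0 := by
  intro h
  have h3 : (3 : F) = 0 := CharP.cast_eq_zero F 3
  exact one_ne_zero (show (1 : F) = 0 by linear_combination h3 - h)

/-- The Frobenius twist. -/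
noncomputable def twist (A : Matrix (Fin 2) (Fin 2) F) : Matrix (Fin 2) (Fin 2) F :=
  haveI := Fact.mk Nat.prime_three
  ((frobenius F 3).mapMatrix A)ᵀ

theorem twist_mul (A B : Matrix (Fin 2) (Fin 2) F) : twist (A * B) = twist B * twist A := by
  simp [twist, map_mul, Matrix.transpose_mul]

theorem twist_one : twist (1 : Matrix (Fin 2) (Fin 2) F) = 1 := by simp [twist]

theorem twist_neg_one : twist (-1 : Matrix (Fin 2) (Fin 2) F) = -1 := by
  simp only [twist, map_neg, map_one, Matrix.transpose_neg, Matrix.transpose_one]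

theorem twist_apply (A : Matrix (Fin 2) (Fin 2) F) (i j : Fin 2) : twist A i j = A j i ^ 3 := by
  simp [twist, frobenius_def]

theorem twist_fin_two (a b c d : F) : twist !![a, b; c, d] = !![a ^ 3, c ^ 3; b ^ 3, d ^ 3] := by
  ext i j
  fin_cases i <;> fin_cases j <;> simp [twist_apply]

/-- The action on the twisted tensor square. -/
noncomputable def act (p : ℤˣ × SpecialLinearGroup (Fin 2) F) :
    Matrix (Fin 2) (Fin 2) F →+ Matrix (Fin 2) (Fin 2) F where
  toFun X := ((p.1 : ℤ) : F) • ((p.2 : Matrix (Fin 2) (Fin 2) F) * X * twist p.2)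
  map_zero' := by simp
  map_add' X Y := by simp [mul_add, add_mul]

theorem act_apply (p : ℤˣ × SpecialLinearGroup (Fin 2) F) (X : Matrix (Fin 2) (Fin 2) F) :
    act p X = ((p.1 : ℤ) : F) • ((p.2 : Matrix (Fin 2) (Fin 2) F) * X * twist p.2) := rfl

theorem act_one (X : Matrix (Fin 2) (Fin 2) F) :
    act (1 : ℤˣ × SpecialLinearGroup (Fin 2) F) X = X := by
  simp [act_apply, twist_one]

theorem act_mul (p r : ℤˣ × SpecialLinearGroup (Fin 2) F) (X : Matrix (Fin 2) (Fin 2) F) :
    act (p * r) X = act p (act r X) := by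
  simp only [act_apply, Prod.fst_mul, Prod.snd_mul, Units.val_mul, Int.cast_mul,
    Matrix.SpecialLinearGroup.coe_mul, twist_mul, mul_smul_comm, smul_mul_assoc, smul_smul, mul_assoc]

/-- The action as a homomorphism. -/
noncomputable def actHom : ℤˣ × SpecialLinearGroup (Fin 2) F →*
    MulAut (Multiplicative (Matrix (Fin 2) (Fin 2) F)) where
  toFun p :=
    { toFun := fun x => Multiplicative.ofAdd (act p x.toAdd)
      invFun := fun x => Multiplicative.ofAdd (act p⁻¹ x.toAdd)
      left_inv := fun x => by simp [← act_mul, act_one]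
      right_inv := fun x => by simp [← act_mul, act_one]
      map_mul' := fun x y => by simp }
  map_one' := MulEquiv.ext fun x => congrArg Multiplicative.ofAdd (act_one _)
  map_mul' p r := MulEquiv.ext fun x => congrArg Multiplicative.ofAdd (act_mul p r _)

theorem actHom_apply (p : ℤˣ × SpecialLinearGroup (Fin 2) F)
    (X : Matrix (Fin 2) (Fin 2) F) :
    actHom p (Multiplicative.ofAdd X) = Multiplicative.ofAdd (act p X) := rfl

theorem actHom_eq_one {p : ℤˣ × SpecialLinearGroup (Fin 2) F} (h1 : p.1 = 1)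
    (h : (p.2 : Matrix (Fin 2) (Fin 2) F) = 1 ∨ (p.2 : Matrix (Fin 2) (Fin 2) F) = -1) :
    actHom p = 1 := by
  refine MulEquiv.ext fun x => congrArg Multiplicative.ofAdd (?_ : act p x.toAdd = x.toAdd)
  rcases h with h | h <;> simp [act_apply, h1, h, twist_one, twist_neg_one]

theorem eq_of_actHom_eq_one {A : SpecialLinearGroup (Fin 2) F} (h : actHom (1, A) = 1) :
    (A : Matrix (Fin 2) (Fin 2) F) = 1 ∨ (A : Matrix (Fin 2) (Fin 2) F) = -1 := by
  set M := (A : Matrix (Fin 2) (Fin 2) F)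
  have key : ∀ X : Matrix (Fin 2) (Fin 2) F, M * X * twist M = X := fun X => by
    have h1 := congrArg (fun f : MulAut _ => (f (Multiplicative.ofAdd X)).toAdd) h
    simpa [actHom_apply, act_apply, M] using h1
  have e00 := fun i j => congrFun (congrFun (key !![1, 0; 0, 0]) i) j
  have e11 := fun i j => congrFun (congrFun (key !![0, 0; 0, 1]) i) j
  have e01 := fun i j => congrFun (congrFun (key !![0, 1; 0, 0]) i) j
  have a00 := e00 0 0
  have a10 := e00 1 0
  have b01 := e11 0 1
  have b11 := e11 1 1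
  have c01 := e01 0 1
  simp [Matrix.mul_apply, Fin.sum_univ_two, twist_apply] at a00 a10 b01 b11 c01
  have hd := Matrix.det_fin_two M
  rw [show M.det = 1 from A.2] at hd
  have h0 : M 0 0 ≠ 0 := fun h0 => by simp [h0] at a00
  have h1 : M 1 1 ≠ 0 := fun h1 => by simp [h1] at b11
  have h10 : M 1 0 = 0 := by
    rcases a10 with e | e
    · exact e
    · exact absurd e h0
  have h01 : M 0 1 = 0 := by
    rcases b01 with e | e
    · exact e
    · exact absurd e h1
  rw [h10, mul_zero, sub_zero] at hd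
  have hsq : M 1 1 * M 1 1 = 1 := by
    linear_combination c01 + (M 1 1 * M 1 1) * hd
  rcases mul_self_eq_one_iff.1 hsq with e | e
  · left
    rw [e, mul_one] at hd
    rw [Matrix.eta_fin_two M, h01, h10, e, ← hd, Matrix.one_fin_two]
  · right
    have h00 : M 0 0 = -1 := by linear_combination hd + M 0 0 * e
    rw [Matrix.eta_fin_two M, h01, h10, e, h00, Matrix.one_fin_two]
    simp

/-- The fixed points are trivial outside two values of the trace. -/
theorem eq_zero_of_fixed (p : ℤˣ × SpecialLinearGroup (Fin 2) F)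
    (hne : (p.2 : Matrix (Fin 2) (Fin 2) F).trace ^ 3 * ((p.1 : ℤ) : F) ≠
      (p.2 : Matrix (Fin 2) (Fin 2) F).trace)
    {X : Matrix (Fin 2) (Fin 2) F} (hX : act p X = X) : X = 0 := by
  haveI := Fact.mk Nat.prime_three
  obtain ⟨ε, A⟩ := p
  rw [act_apply] at hX
  simp only at hne hX
  set M := (A : Matrix (Fin 2) (Fin 2) F)
  set N := twist M
  set τ := M.trace
  set e := ((ε : ℤ) : F)
  have he : e * e = 1 := by
    rw [← Int.cast_mul, ← Units.val_mul, Int.units_mul_self]; simp
  have hM : M * M = τ • M - 1 := sq_eq A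
  have hN : N * N = τ ^ 3 • N - 1 := by
    have h := congrArg twist hM
    rw [twist_mul] at h
    rw [h]
    ext i j
    fin_cases i <;> fin_cases j <;> simp [N, twist_apply, sub_pow_char, mul_pow]
  have h1 : M * X * N = e • X := by
    conv_rhs => rw [← hX, smul_smul, he, one_smul]
  have h2 : τ • (e • X) - X * N = e • (M * X) := by
    rw [← h1, ← mul_smul_comm e M X, ← h1,
      show M * (M * X * N) = (M * M) * X * N by simp only [mul_assoc], hM]
    simp [sub_mul, smul_mul_assoc]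
  have h3 : τ ^ 3 • (e • X) - M * X = e • (X * N) := by
    rw [← h1, ← smul_mul_assoc e X N, ← h1,
      show M * X * N * N = M * X * (N * N) by simp only [mul_assoc], hN]
    simp [mul_sub, mul_smul_comm]
  have h4 : (τ ^ 3 * e - τ) • X = 0 := by
    have h5 := congrArg (fun Y => e • Y) h2
    simp only [smul_sub, smul_smul, he, one_smul] at h5
    simp only [smul_smul] at h3
    rw [show e * (τ * e) = τ by linear_combination τ * he] at h5
    linear_combination (norm := module) h3 - h5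
  exact (smul_eq_zero.1 h4).resolve_left (sub_ne_zero.2 hne)

variable (F) in
/-- The complement. -/
noncomputable abbrev Top : Subgroup (MulAut (Multiplicative (Matrix (Fin 2) (Fin 2) F))) :=
  (actHom (F := F)).range

variable (F) in
/-- The group. -/
abbrev Grp : Type _ := Multiplicative (Matrix (Fin 2) (Fin 2) F) ⋊[(Top F).subtype] (Top F)

theorem three_pow_eq_one (w : Multiplicative (Matrix (Fin 2) (Fin 2) F)) : w ^ 3 = 1 := by
  apply Multiplicative.toAdd.injective
  rw [toAdd_pow, toAdd_one]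
  show 3 • w.toAdd = 0
  rw [← Nat.cast_smul_eq_nsmul F 3, CharP.cast_eq_zero F 3, zero_smul]

theorem pow_mul_three_eq_one {x : Grp F} {m : ℕ} (h : x.right ^ m = 1) : x ^ (m * 3) = 1 := by
  have hr : (x ^ m).right = 1 := by
    rw [← SemidirectProduct.rightHom_eq_right, map_pow]; exact h
  have hx : x ^ m = SemidirectProduct.inl (x ^ m).left := by
    ext1
    · rw [SemidirectProduct.left_inl]
    · rw [SemidirectProduct.right_inl]; exact hr
  rw [pow_mul, hx, ← map_pow, three_pow_eq_one, map_one]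

theorem pow_eq_one_of_fpf {x : Grp F} {m : ℕ} (h : x.right ^ m = 1)
    {p : ℤˣ × SpecialLinearGroup (Fin 2) F}
    (hp : actHom p = (x.right : MulAut (Multiplicative (Matrix (Fin 2) (Fin 2) F))))
    (hfpf : ∀ X, act p X = X → X = 0) : x ^ m = 1 := by
  have hr : (x ^ m).right = 1 := by
    rw [← SemidirectProduct.rightHom_eq_right, map_pow]; exact h
  set w := (x ^ m).left
  have hx : x ^ m = SemidirectProduct.inl w := by
    ext1
    · rw [SemidirectProduct.left_inl]
    · rw [SemidirectProduct.right_inl]; exact hr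
  have hc := congrArg SemidirectProduct.left ((Commute.self_pow x m).eq)
  rw [hx] at hc ⊢
  simp only [SemidirectProduct.mul_left, SemidirectProduct.left_inl, SemidirectProduct.right_inl,
    map_one, MulAut.one_apply] at hc
  rw [mul_comm w] at hc
  have h4 := mul_left_cancel hc
  rw [Subgroup.coe_subtype, ← hp] at h4
  have h5 := hfpf w.toAdd (congrArg Multiplicative.toAdd h4)
  rw [show w = 1 from Multiplicative.toAdd.injective h5, map_one]

variable [Fintype F] {α : ℕ}

theorem card_mod_four (hα : Odd α) (hF : Fintype.card F = 3 ^ α) : Fintype.card F % 4 = 3 := by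
  obtain ⟨k, rfl⟩ := hα
  rw [hF, pow_succ, pow_mul, Nat.mul_mod, Nat.pow_mod]
  norm_num

theorem half_facts (hα : Odd α) (hF : Fintype.card F = 3 ^ α) :
    (Fintype.card F - 1) / 2 * 2 = Fintype.card F - 1 ∧
      (Fintype.card F + 1) / 2 * 2 = Fintype.card F + 1 ∧ Even ((Fintype.card F + 1) / 2) := by
  have := card_mod_four hα hF
  exact ⟨by omega, by omega, Nat.even_iff.2 (by omega)⟩

theorem pow_semisimple (hα : Odd α) (hF : Fintype.card F = 3 ^ α)
    (A : SpecialLinearGroup (Fin 2) F)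
    (hne : (A : Matrix (Fin 2) (Fin 2) F).trace ^ 2 ≠ 1) :
    (((A ^ ((Fintype.card F - 1) / 2) : SpecialLinearGroup (Fin 2) F) : Matrix (Fin 2) (Fin 2) F) = 1
      ∨ ((A ^ ((Fintype.card F - 1) / 2) : SpecialLinearGroup (Fin 2) F) : Matrix (Fin 2) (Fin 2) F) = -1)
    ∨ (((A ^ ((Fintype.card F + 1) / 2) : SpecialLinearGroup (Fin 2) F) : Matrix (Fin 2) (Fin 2) F) = 1
      ∨ ((A ^ ((Fintype.card F + 1) / 2) : SpecialLinearGroup (Fin 2) F) : Matrix (Fin 2) (Fin 2) F) = -1) := by
  haveI := Fact.mk Nat.prime_three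
  obtain ⟨k1, k2, -⟩ := half_facts hα hF
  set q := Fintype.card F
  set M := (A : Matrix (Fin 2) (Fin 2) F)
  set τ := M.trace
  have h3 : (3 : F) = 0 := CharP.cast_eq_zero F 3
  set D := M + τ • (1 : Matrix (Fin 2) (Fin 2) F)
  have hMM : M * M = τ • M - 1 := sq_eq A
  have hD : D * D = (τ ^ 2 - 1) • (1 : Matrix (Fin 2) (Fin 2) F) := by
    simp only [D, mul_add, add_mul, smul_mul_assoc, mul_smul_comm, one_mul, mul_one,
      hMM, sub_smul, pow_two]
    have h0 : (3 : F) • (τ • M) = 0 := by rw [h3, zero_smul]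
    linear_combination (norm := module) h0
  have hring : ringChar F ≠ 2 := by rw [ringChar.eq F 3]; norm_num
  have hδ := FiniteField.pow_dichotomy hring (sub_ne_zero.2 hne)
  have hDq : D ^ q = (τ ^ 2 - 1) ^ (q / 2) • D := by
    have hq : q = 2 * (q / 2) + 1 := by have := card_mod_four hα hF; omega
    conv_lhs => rw [hq, pow_succ, pow_mul, pow_two, hD, smul_pow, one_pow, smul_mul_assoc, one_mul]
  have hDq' : D ^ q = M ^ q + τ • 1 := by
    rw [show q = 3 ^ α from hF, add_pow_char_pow_of_commute _ _ ((Commute.one_right M).smul_right τ),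
      smul_pow, one_pow, ← hF, FiniteField.pow_card]
  rw [hDq] at hDq'
  rcases hδ with e | e
  · left
    rw [e, one_smul] at hDq'
    have hMq : M ^ q = M := (add_right_cancel hDq').symm
    have hA : A ^ (q - 1) = 1 := by
      apply mul_right_cancel (b := A)
      rw [← pow_succ, show q - 1 + 1 = q by omega, one_mul]
      exact Subtype.ext (by simp only [Matrix.SpecialLinearGroup.coe_pow]; exact hMq)
    refine eq_one_or_neg_one two_ne_zero' _ ?_
    rw [← Matrix.SpecialLinearGroup.coe_mul, ← pow_add, show (q - 1) / 2 + (q - 1) / 2 = q - 1 by omega,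
      hA, Matrix.SpecialLinearGroup.coe_one]
  · right
    rw [e, neg_one_smul] at hDq'
    have hMq : M ^ q * M = 1 := by
      have h5 : M ^ q = τ • (1 : Matrix (Fin 2) (Fin 2) F) - M := by
        have h0 : (3 : F) • (τ • (1 : Matrix (Fin 2) (Fin 2) F)) = 0 := by rw [h3, zero_smul]
        linear_combination (norm := module) -hDq' - h0
      rw [h5, sub_mul, smul_mul_assoc, one_mul, sq_eq A, sub_sub_cancel]
    have hA : A ^ (q + 1) = 1 :=
      Subtype.ext (by simp only [Matrix.SpecialLinearGroup.coe_pow, pow_succ]; exact hMq)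
    refine eq_one_or_neg_one two_ne_zero' _ ?_
    rw [← Matrix.SpecialLinearGroup.coe_mul, ← pow_add, show (q + 1) / 2 + (q + 1) / 2 = q + 1 by omega,
      hA, Matrix.SpecialLinearGroup.coe_one]

theorem exponent_cases (hα : Odd α) (hF : Fintype.card F = 3 ^ α) (x : Grp F) :
    orderOf x ∣ 6 ∨ orderOf x ∣ 9 ∨ orderOf x ∣ Fintype.card F - 1 ∨
      orderOf x ∣ (Fintype.card F + 1) / 2 := by
  haveI := Fact.mk Nat.prime_three
  obtain ⟨⟨ε, A⟩, hp⟩ := x.right.2
  set M := (A : Matrix (Fin 2) (Fin 2) F) with hM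
  set τ := M.trace with hτ
  have h3 : (3 : F) = 0 := CharP.cast_eq_zero F 3
  have hpow : ∀ n : ℕ, ε ^ n = 1 →
      (((A ^ n : SpecialLinearGroup (Fin 2) F) : Matrix (Fin 2) (Fin 2) F) = 1 ∨
        ((A ^ n : SpecialLinearGroup (Fin 2) F) : Matrix (Fin 2) (Fin 2) F) = -1) →
      x.right ^ n = 1 := fun n h1 h2 => by
    apply Subtype.ext
    rw [SubgroupClass.coe_pow, OneMemClass.coe_one, ← hp, ← map_pow]
    exact actHom_eq_one h1 h2
  by_cases h0 : τ = 0
  · refine .inl (orderOf_dvd_of_pow_eq_one (show x ^ (2 * 3) = 1 from pow_mul_three_eq_one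
      (hpow 2 (by rw [pow_two]; exact Int.units_mul_self ε) (.inr ?_))))
    rw [pow_two, Matrix.SpecialLinearGroup.coe_mul, sq_eq A, ← hM, ← hτ, h0, zero_smul, zero_sub]
  by_cases h1 : τ ^ 2 = 1
  · have hA3 : ((A ^ 3 : SpecialLinearGroup (Fin 2) F) : Matrix (Fin 2) (Fin 2) F) = 1 ∨
        ((A ^ 3 : SpecialLinearGroup (Fin 2) F) : Matrix (Fin 2) (Fin 2) F) = -1 := by
      have h4 : M * M * M = (-τ) • (1 : Matrix (Fin 2) (Fin 2) F) := by
        rw [sq_eq A, ← hM, ← hτ, sub_mul, smul_mul_assoc, one_mul, sq_eq A, ← hM, ← hτ, smul_sub,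
          smul_smul, ← pow_two, h1, one_smul]
        module
      rw [pow_succ, pow_two, Matrix.SpecialLinearGroup.coe_mul, Matrix.SpecialLinearGroup.coe_mul, ← hM, h4]
      rcases mul_self_eq_one_iff.1 ((pow_two τ).symm.trans h1) with e | e
      · exact .inr (by rw [e, neg_one_smul])
      · exact .inl (by rw [e, neg_neg, one_smul])
    rcases Int.units_eq_one_or ε with rfl | rfl
    · exact .inr (.inl (orderOf_dvd_of_pow_eq_one
        (show x ^ (3 * 3) = 1 from pow_mul_three_eq_one (hpow 3 (one_pow _) hA3))))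
    · refine .inl (orderOf_dvd_of_pow_eq_one (pow_eq_one_of_fpf (hpow 6 (by decide) ?_) hp
        fun X hX => eq_zero_of_fixed _ ?_ hX))
      · left
        rw [show 6 = 3 * 2 by norm_num, pow_mul, pow_two, Matrix.SpecialLinearGroup.coe_mul]
        rcases hA3 with e | e <;> simp [e]
      · simp only [Units.val_neg, Units.val_one, Int.cast_neg, Int.cast_one, ← hM, ← hτ]
        intro he
        apply h0
        linear_combination he + τ * h1 + τ * h3
  have hne : τ ^ 3 * ((ε : ℤ) : F) ≠ τ := by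
    intro he
    have h5 : τ ^ 2 * ((ε : ℤ) : F) = 1 := mul_left_cancel₀ h0 (by linear_combination he)
    rcases Int.units_eq_one_or ε with rfl | rfl
    · exact h1 (by simpa using h5)
    · have hsq : IsSquare (-1 : F) := ⟨τ, by simp at h5; linear_combination h5⟩
      exact (FiniteField.isSquare_neg_one_iff.1 hsq) (card_mod_four hα hF)
  obtain ⟨k1, k2, k3⟩ := half_facts hα hF
  rcases pow_semisimple hα hF A h1 with hs | hs
  · refine .inr (.inr (.inl (orderOf_dvd_of_pow_eq_one (pow_eq_one_of_fpf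
      (hpow _ ?_ (.inl ?_)) hp fun X hX => eq_zero_of_fixed _ hne hX))))
    · rw [← k1, mul_comm, pow_mul, pow_two, Int.units_mul_self, one_pow]
    · rw [← k1, pow_mul, pow_two, Matrix.SpecialLinearGroup.coe_mul]
      rcases hs with e | e <;> simp [e]
  · refine .inr (.inr (.inr (orderOf_dvd_of_pow_eq_one (pow_eq_one_of_fpf
      (hpow _ ?_ hs) hp fun X hX => eq_zero_of_fixed _ hne hX))))
    obtain ⟨r, hr⟩ := k3
    rw [hr, pow_add, Int.units_mul_self]

/-- An element of the complement, inside the group. -/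
noncomputable def lift (p : ℤˣ × SpecialLinearGroup (Fin 2) F) : Grp F :=
  SemidirectProduct.inr ((actHom (F := F)).rangeRestrict p)

theorem orderOf_eq_of_pow_iff {G : Type*} [Monoid G] {x : G} {N : ℕ}
    (h : ∀ m, x ^ m = 1 ↔ N ∣ m) : orderOf x = N :=
  Nat.dvd_antisymm (orderOf_dvd_of_pow_eq_one ((h N).2 dvd_rfl)) ((h _).1 (pow_orderOf_eq_one x))

theorem lift_pow_eq_one_iff (p : ℤˣ × SpecialLinearGroup (Fin 2) F) (m : ℕ) :
    lift p ^ m = 1 ↔ actHom p ^ m = 1 := by
  rw [lift, ← map_pow, map_eq_one_iff _ SemidirectProduct.inr_injective, Subtype.ext_iff]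
  simp

variable (F)

/-- The upper unitriangular element. -/
def unip : SpecialLinearGroup (Fin 2) F := ⟨!![1, 1; 0, 1], by simp [Matrix.det_fin_two]⟩

theorem coe_unip_pow (n : ℕ) :
    ((unip F ^ n : SpecialLinearGroup (Fin 2) F) : Matrix (Fin 2) (Fin 2) F) =
      !![1, (n : F); 0, 1] := by
  induction n with
  | zero => simp [Matrix.one_fin_two]
  | succ n ih =>
    rw [pow_succ, Matrix.SpecialLinearGroup.coe_mul, ih]
    simp [unip, Matrix.mul_fin_two, add_comm]

theorem exists_orderOf_six : ∃ x : Grp F, orderOf x = 6 := by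
  refine ⟨lift (-1, unip F), ?_⟩
  have h3 : (3 : F) = 0 := CharP.cast_eq_zero F 3
  have h2 : lift (-1, unip F) ^ 2 ≠ 1 := by
    rw [Ne, lift_pow_eq_one_iff, ← map_pow]
    intro he
    rcases eq_of_actHom_eq_one (A := unip F ^ 2) (by rw [← he]; congr 1) with e | e
    all_goals
      have e' := congrFun (congrFun e 0) 1
      rw [coe_unip_pow] at e'
      simp [two_ne_zero'] at e'
  have h6 : lift (-1, unip F) ^ 3 ≠ 1 := by
    rw [Ne, lift_pow_eq_one_iff, ← map_pow]
    intro he
    have h7 := congrArg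
      (fun f : MulAut _ => (f (Multiplicative.ofAdd (!![1, 0; 0, 0] : Matrix _ _ F))).toAdd 0 0) he
    simp [actHom_apply, act_apply, twist_fin_two, unip, pow_succ, Matrix.mul_apply,
      Fin.sum_univ_two] at h7
    exact two_ne_zero' (F := F) (by linear_combination -h7)
  have hdvd : orderOf (lift (-1, unip F)) ∣ 6 := by
    apply orderOf_dvd_of_pow_eq_one
    rw [lift_pow_eq_one_iff, ← map_pow]
    refine actHom_eq_one (by simp only [Prod.pow_fst]; decide) (.inl ?_)
    have h60 : ((6 : ℕ) : F) = 0 := by push_cast; linear_combination (2 : F) * h3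
    rw [Prod.pow_snd, coe_unip_pow, h60, Matrix.one_fin_two]
  have h1 : lift (-1, unip F) ≠ 1 := fun h => h2 (by rw [h, one_pow])
  have hle := Nat.le_of_dvd (by norm_num) hdvd
  have key : ∀ n, orderOf (lift (-1, unip F)) ∣ n → lift (-1, unip F) ^ n = 1 := fun n hn =>
    orderOf_dvd_iff_pow_eq_one.1 hn
  interval_cases hh : orderOf (lift (-1, unip F))
  · simp at hdvd
  · exact absurd (orderOf_eq_one_iff.1 hh) h1
  · exact absurd (key 2 dvd_rfl) h2
  · exact absurd (key 3 dvd_rfl) h6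
  · norm_num at hdvd
  · norm_num at hdvd
  · rfl

theorem exists_orderOf_nine : ∃ x : Grp F, orderOf x = 9 := by
  haveI := Fact.mk Nat.prime_three
  set x : Grp F := SemidirectProduct.inl (Multiplicative.ofAdd !![0, 0; 0, 1]) * lift (1, unip F)
  refine ⟨x, ?_⟩
  have hr : x.right ^ 3 = 1 := by
    apply Subtype.ext
    simp only [x, lift, SemidirectProduct.mul_right, SemidirectProduct.right_inl,
      SemidirectProduct.right_inr, one_mul, SubgroupClass.coe_pow, OneMemClass.coe_one,
      MonoidHom.coe_rangeRestrict, ← map_pow]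
    refine actHom_eq_one (by simp) (.inl ?_)
    rw [Prod.pow_snd, coe_unip_pow, CharP.cast_eq_zero, Matrix.one_fin_two]
  rw [show (9 : ℕ) = 3 ^ (1 + 1) by norm_num]
  refine orderOf_eq_prime_pow ?_ (by rw [pow_succ, pow_one]; exact pow_mul_three_eq_one hr)
  rw [pow_one]
  intro h
  have h1 := congrArg (fun y : Grp F => y.left.toAdd 0 0) h
  simp [x, lift, pow_succ, SemidirectProduct.mul_left, actHom_apply, act_apply, twist_fin_two, unip,
    Matrix.mul_apply, Fin.sum_univ_two] at h1
  exact two_ne_zero' (F := F) (by linear_combination h1 - (CharP.cast_eq_zero F 3 : ((3 : ℕ) : F) = 0))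

theorem exists_orderOf_split (hα : Odd α) (hF : Fintype.card F = 3 ^ α) :
    ∃ x : Grp F, orderOf x = Fintype.card F - 1 := by
  classical
  obtain ⟨z, hz⟩ := IsCyclic.exists_ofOrder_eq_natCard (α := Fˣ)
  rw [Nat.card_units, Nat.card_eq_fintype_card] at hz
  obtain ⟨k1, -, -⟩ := half_facts hα hF
  set q := Fintype.card F
  let A : SpecialLinearGroup (Fin 2) F := ⟨!![(z : F), 0; 0, ((z⁻¹ : Fˣ) : F)], by
    simp [Matrix.det_fin_two]⟩
  refine ⟨lift (-1, A), orderOf_eq_of_pow_iff fun m => ?_⟩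
  rw [lift_pow_eq_one_iff, ← map_pow]
  have hAm : ∀ m : ℕ, ((A ^ m : SpecialLinearGroup (Fin 2) F) : Matrix (Fin 2) (Fin 2) F) =
      !![(z : F) ^ m, 0; 0, ((z⁻¹ : Fˣ) : F) ^ m] := by
    intro m
    induction m with
    | zero => simp [Matrix.one_fin_two]
    | succ m ih =>
      rw [pow_succ, Matrix.SpecialLinearGroup.coe_mul, ih]
      ext i j
      fin_cases i <;> fin_cases j <;> simp [A, pow_succ]
  have happ : ∀ i j, act ((-1, A) ^ m) (!![1, 1; 1, 1] : Matrix (Fin 2) (Fin 2) F) i j =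
      (-1) ^ m * (!![(z : F) ^ m, 0; 0, ((z⁻¹ : Fˣ) : F) ^ m] i i *
        (!![(z : F) ^ m, 0; 0, ((z⁻¹ : Fˣ) : F) ^ m] j j) ^ 3) := by
    intro i j
    fin_cases i <;> fin_cases j <;>
      simp [act_apply, twist_fin_two, hAm, Matrix.mul_apply, Fin.sum_univ_two]
  constructor
  · intro he
    have h1 : ∀ i j, act ((-1, A) ^ m) (!![1, 1; 1, 1] : Matrix (Fin 2) (Fin 2) F) i j = 1 := fun i j => by
      have h2 := congrArg (fun f : MulAut _ =>
        (f (Multiplicative.ofAdd (!![1, 1; 1, 1] : Matrix (Fin 2) (Fin 2) F))).toAdd i j) he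
      fin_cases i <;> fin_cases j <;> simpa [actHom_apply] using h2
    have e0 := h1 0 0
    have e2 := h1 1 0
    rw [happ] at e0 e2
    simp at e0 e2
    -- e0 : (-1)^m z^(4m) = 1, e2 : (-1)^m z^(2m) = 1
    have hz0 : (z : F) ≠ 0 := z.ne_zero
    have h2m : (z : F) ^ (m * 2) = 1 := by
      rw [show ((z : F) ^ m)⁻¹ * ((z : F) ^ m) ^ 3 = (z : F) ^ (m * 2) by field_simp; ring] at e2
      apply mul_left_cancel₀ (show (-1 : F) ^ m * (z : F) ^ (m * 2) ≠ 0 by simp [hz0])
      rw [mul_one]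
      linear_combination e0 - e2
    have hev : Even m := by
      by_contra ho
      rw [(Nat.not_even_iff_odd.1 ho).neg_one_pow] at e0
      have : (2 : F) = 0 := by
        linear_combination -e0 - ((z : F) ^ (m * 2) + 1) * h2m
      exact two_ne_zero' this
    have hd : q - 1 ∣ m * 2 := hz ▸ orderOf_dvd_of_pow_eq_one
      (Units.ext (by rw [Units.val_pow_eq_pow_val, h2m, Units.val_one]))
    have hodd : Odd ((q - 1) / 2) := Nat.odd_iff.2 (by have := card_mod_four hα hF; omega)
    rw [← k1] at hd ⊢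
    exact Nat.Coprime.mul_dvd_of_dvd_of_dvd ((Nat.coprime_two_right).2 hodd)
      ((Nat.mul_dvd_mul_iff_right two_pos).1 hd) hev.two_dvd
  · intro hd
    have hev : Even m := even_iff_two_dvd.2 ((k1 ▸ dvd_mul_left 2 _).trans hd)
    have hzm : z ^ m = 1 := orderOf_dvd_iff_pow_eq_one.1 (hz.symm ▸ hd)
    refine actHom_eq_one (by simp [hev.neg_one_pow]) (.inl ?_)
    rw [Prod.pow_snd, hAm, ← Units.val_pow_eq_pow_val, ← Units.val_pow_eq_pow_val, inv_pow, hzm,
      inv_one, Units.val_one, Matrix.one_fin_two]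

theorem exists_orderOf_nonsplit (hα : Odd α) (hF : Fintype.card F = 3 ^ α) :
    ∃ x : Grp F, orderOf x = (Fintype.card F + 1) / 2 := by
  obtain ⟨B, hB⟩ := CfsgLib.Known.PSLTori.exists_norm_one (F := F) 2 (by norm_num)
  obtain ⟨-, k2, -⟩ := half_facts hα hF
  set q := Fintype.card F
  have hE : (q ^ 2 - 1) / (q - 1) = q + 1 := by
    have : 2 ≤ q := Fintype.one_lt_card
    refine Nat.div_eq_of_eq_mul_left (by omega) ?_
    rw [← Nat.sq_sub_sq q 1, one_pow]
  refine ⟨lift (1, B), orderOf_eq_of_pow_iff fun m => ?_⟩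
  rw [lift_pow_eq_one_iff, ← map_pow, show ((1 : ℤˣ), B) ^ m = (1, B ^ m) by simp]
  constructor
  · intro h
    have h2 : B ^ (m * 2) = 1 := by
      apply Subtype.ext
      rw [pow_mul, pow_two, Matrix.SpecialLinearGroup.coe_mul, Matrix.SpecialLinearGroup.coe_one]
      rcases eq_of_actHom_eq_one h with e | e <;> simp [e]
    have h4 := (hB (m * 2)).1.1 h2
    rw [hE, ← k2] at h4
    exact (Nat.mul_dvd_mul_iff_right two_pos).1 h4
  · intro h
    refine actHom_eq_one rfl (eq_one_or_neg_one two_ne_zero' _ ?_)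
    rw [← Matrix.SpecialLinearGroup.coe_mul, ← pow_add, ← mul_two,
      (hB (m * 2)).1.2 (by rw [hE, ← k2]; exact mul_dvd_mul_right h 2), Matrix.SpecialLinearGroup.coe_one]

theorem exists_normal_three : ∃ P : Subgroup (Grp F), P.Normal ∧ P ≠ ⊥ ∧ IsPGroup 3 P := by
  refine ⟨(SemidirectProduct.inl (φ := (Top F).subtype)).range, ?_, ?_, ?_⟩
  · rw [SemidirectProduct.range_inl_eq_ker_rightHom]
    infer_instance
  · intro h
    have h1 : (SemidirectProduct.inl (φ := (Top F).subtype)
        (Multiplicative.ofAdd (1 : Matrix (Fin 2) (Fin 2) F))) = 1 :=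
      Subgroup.mem_bot.1 (h ▸ ⟨_, rfl⟩)
    rw [map_eq_one_iff _ SemidirectProduct.inl_injective] at h1
    exact one_ne_zero (α := Matrix (Fin 2) (Fin 2) F) (Multiplicative.ofAdd.injective h1)
  · rintro ⟨_, w, rfl⟩
    exact ⟨1, Subtype.ext (by rw [SubgroupClass.coe_pow, pow_one, ← map_pow, three_pow_eq_one, map_one]; rfl)⟩

theorem maximal_orders (hα : Odd α) (hα3 : 3 ≤ α) (hF : Fintype.card F = 3 ^ α) :
    {n : ℕ | n ∈ Set.range (orderOf : Grp F → ℕ) ∧
      ∀ m ∈ Set.range (orderOf : Grp F → ℕ), n ∣ m → m = n} =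
      ({6, 9, 3 ^ α - 1, (3 ^ α + 1) / 2} : Set ℕ) := by
  obtain ⟨k1, k2, -⟩ := half_facts hα hF
  have hcases := exponent_cases hα hF
  obtain ⟨x6, h6⟩ := exists_orderOf_six F
  obtain ⟨x9, h9⟩ := exists_orderOf_nine F
  obtain ⟨xs, hs⟩ := exists_orderOf_split F hα hF
  obtain ⟨xn, hn⟩ := exists_orderOf_nonsplit F hα hF
  rw [hF] at hcases k1 k2 hs hn
  have hbig : 27 ≤ 3 ^ α := le_trans (by norm_num) (Nat.pow_le_pow_right (by norm_num) hα3)
  have h30 : 3 ^ α % 3 = 0 := Nat.mod_eq_zero_of_dvd ⟨3 ^ (α - 1), by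
    rw [← pow_succ', Nat.sub_add_cancel (by omega)]⟩
  set Q := 3 ^ α
  have n63 : ∀ {a}, 3 ∣ a → ¬ a ∣ Q - 1 ∧ ¬ a ∣ (Q + 1) / 2 := by
    intro a ha
    refine ⟨fun h => ?_, fun h => ?_⟩
    · have := ha.trans h; omega
    · have := ha.trans h; omega
  have key : ∀ v ∈ ({6, 9, Q - 1, (Q + 1) / 2} : Set ℕ), ∀ w ∈ ({6, 9, Q - 1, (Q + 1) / 2} : Set ℕ),
      v ∣ w → v = w := by
    intro v hv w hw hvw
    simp only [Set.mem_insert_iff, Set.mem_singleton_iff] at hv hw
    obtain ⟨a1, a2⟩ := n63 (a := 6) (by norm_num)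
    obtain ⟨b1, b2⟩ := n63 (a := 9) (by norm_num)
    rcases hv with rfl | rfl | rfl | rfl <;> rcases hw with rfl | rfl | rfl | rfl
    all_goals first
      | rfl
      | contradiction
      | (exfalso; have hle := Nat.le_of_dvd (by omega) hvw; omega)
      | (exfalso; norm_num at hvw; done)
      | skip
    · exfalso
      have hh : (Q + 1) / 2 * 2 ∣ (Q - 1) * 2 := mul_dvd_mul_right hvw 2
      rw [k2] at hh
      have h4 : Q + 1 ∣ (Q + 1) * 2 - (Q - 1) * 2 := Nat.dvd_sub (dvd_mul_right _ _) hh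
      rw [show (Q + 1) * 2 - (Q - 1) * 2 = 4 by omega] at h4
      have := Nat.le_of_dvd (by norm_num) h4
      omega
  have hreal : ∀ v ∈ ({6, 9, Q - 1, (Q + 1) / 2} : Set ℕ), v ∈ Set.range (orderOf : Grp F → ℕ) := by
    intro v hv
    simp only [Set.mem_insert_iff, Set.mem_singleton_iff] at hv
    rcases hv with rfl | rfl | rfl | rfl
    exacts [⟨x6, h6⟩, ⟨x9, h9⟩, ⟨xs, hs⟩, ⟨xn, hn⟩]
  have hbound : ∀ m ∈ Set.range (orderOf : Grp F → ℕ),
      ∃ v ∈ ({6, 9, Q - 1, (Q + 1) / 2} : Set ℕ), m ∣ v := by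
    rintro m ⟨x, rfl⟩
    rcases hcases x with h | h | h | h
    exacts [⟨6, by simp, h⟩, ⟨9, by simp, h⟩, ⟨Q - 1, by simp, h⟩, ⟨(Q + 1) / 2, by simp, h⟩]
  ext n
  constructor
  · rintro ⟨hn1, hmax⟩
    obtain ⟨v, hv, hnv⟩ := hbound n hn1
    rw [← hmax v (hreal v hv) hnv]
    exact hv
  · intro hn1
    refine ⟨hreal n hn1, fun m hm hnm => ?_⟩
    obtain ⟨v, hv, hmv⟩ := hbound m hm
    have := key n hn1 v hv (hnm.trans hmv)
    subst this
    exact Nat.dvd_antisymm hmv hnm

end CfsgLib.Recog.TruncatedRee
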