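import Mathlib

/-!
# A group `2.S₅⁻` of order 240 inside `GL(4,7)` (data and checks)
-/

set_option autoImplicit false

namespace CfsgLib.Recog.TwoSymFive

open Matrix

/-- a matrix over `ℕ` -/
structure T where
  (a00 a01 a02 a03 a10 a11 a12 a13 a20 a21 a22 a23 a30 a31 a32 a33 : ℕ)
deriving DecidableEq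

/-- product modulo seven -/
def mulT (x y : T) : T :=
  ⟨(x.a00 * y.a00 + x.a01 * y.a10 + x.a02 * y.a20 + x.a03 * y.a30) % 7,
    (x.a00 * y.a01 + x.a01 * y.a11 + x.a02 * y.a21 + x.a03 * y.a31) % 7,
    (x.a00 * y.a02 + x.a01 * y.a12 + x.a02 * y.a22 + x.a03 * y.a32) % 7,
    (x.a00 * y.a03 + x.a01 * y.a13 + x.a02 * y.a23 + x.a03 * y.a33) % 7,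
    (x.a10 * y.a00 + x.a11 * y.a10 + x.a12 * y.a20 + x.a13 * y.a30) % 7,
    (x.a10 * y.a01 + x.a11 * y.a11 + x.a12 * y.a21 + x.a13 * y.a31) % 7,
    (x.a10 * y.a02 + x.a11 * y.a12 + x.a12 * y.a22 + x.a13 * y.a32) % 7,
    (x.a10 * y.a03 + x.a11 * y.a13 + x.a12 * y.a23 + x.a13 * y.a33) % 7,
    (x.a20 * y.a00 + x.a21 * y.a10 + x.a22 * y.a20 + x.a23 * y.a30) % 7,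
    (x.a20 * y.a01 + x.a21 * y.a11 + x.a22 * y.a21 + x.a23 * y.a31) % 7,
    (x.a20 * y.a02 + x.a21 * y.a12 + x.a22 * y.a22 + x.a23 * y.a32) % 7,
    (x.a20 * y.a03 + x.a21 * y.a13 + x.a22 * y.a23 + x.a23 * y.a33) % 7,
    (x.a30 * y.a00 + x.a31 * y.a10 + x.a32 * y.a20 + x.a33 * y.a30) % 7,
    (x.a30 * y.a01 + x.a31 * y.a11 + x.a32 * y.a21 + x.a33 * y.a31) % 7,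
    (x.a30 * y.a02 + x.a31 * y.a12 + x.a32 * y.a22 + x.a33 * y.a32) % 7,
    (x.a30 * y.a03 + x.a31 * y.a13 + x.a32 * y.a23 + x.a33 * y.a33) % 7⟩

/-- the matrix over `ZMod 7` -/
def toMat (x : T) : Matrix (Fin 4) (Fin 4) (ZMod 7) :=
  !![(x.a00 : ZMod 7), (x.a01 : ZMod 7), (x.a02 : ZMod 7), (x.a03 : ZMod 7); (x.a10 : ZMod 7), (x.a11 : ZMod 7), (x.a12 : ZMod 7), (x.a13 : ZMod 7); (x.a20 : ZMod 7), (x.a21 : ZMod 7), (x.a22 : ZMod 7), (x.a23 : ZMod 7); (x.a30 : ZMod 7), (x.a31 : ZMod 7), (x.a32 : ZMod 7), (x.a33 : ZMod 7)]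

theorem toMat_mul (x y : T) : toMat (mulT x y) = toMat x * toMat y := by
  ext i j
  fin_cases i <;> fin_cases j <;>
    simp [toMat, mulT, Matrix.mul_apply, Fin.sum_univ_four]

def oneT : T := ⟨1, 0, 0, 0, 0, 1, 0, 0, 0, 0, 1, 0, 0, 0, 0, 1⟩
def negOneT : T := ⟨6, 0, 0, 0, 0, 6, 0, 0, 0, 0, 6, 0, 0, 0, 0, 6⟩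
def genA : T := ⟨1, 6, 0, 4, 6, 6, 4, 0, 2, 6, 2, 3, 6, 5, 3, 5⟩
def genB : T := ⟨2, 2, 5, 1, 5, 2, 6, 5, 0, 6, 1, 0, 1, 0, 0, 1⟩
def el8 : T := ⟨1, 6, 0, 4, 6, 6, 4, 0, 2, 6, 2, 3, 6, 5, 3, 5⟩
def el10 : T := ⟨1, 0, 6, 3, 0, 1, 4, 6, 6, 2, 3, 2, 5, 6, 5, 3⟩
def el12 : T := ⟨0, 2, 1, 2, 2, 0, 2, 6, 1, 0, 1, 6, 0, 6, 6, 6⟩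
def el5 : T := ⟨2, 2, 5, 1, 5, 2, 6, 5, 0, 6, 1, 0, 1, 0, 0, 1⟩
def el3 : T := ⟨1, 5, 5, 3, 2, 1, 4, 5, 5, 1, 5, 2, 6, 5, 5, 5⟩

def chunk0 : List T := [
  ⟨1, 0, 0, 0, 0, 1, 0, 0, 0, 0, 1, 0, 0, 0, 0, 1⟩,
  ⟨1, 6, 0, 4, 6, 6, 4, 0, 2, 6, 2, 3, 6, 5, 3, 5⟩,
  ⟨2, 2, 5, 1, 5, 2, 6, 5, 0, 6, 1, 0, 1, 0, 0, 1⟩,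
  ⟨5, 6, 1, 3, 1, 5, 4, 1, 4, 5, 2, 1, 2, 4, 6, 2⟩,
  ⟨1, 0, 6, 0, 0, 6, 0, 1, 2, 0, 6, 0, 0, 5, 0, 1⟩,
  ⟨2, 3, 0, 0, 3, 5, 0, 0, 3, 0, 5, 3, 0, 4, 3, 2⟩,
  ⟨1, 3, 6, 6, 4, 1, 1, 6, 2, 4, 2, 2, 3, 2, 5, 2⟩,
  ⟨5, 3, 0, 3, 3, 2, 3, 0, 2, 1, 6, 6, 1, 5, 6, 1⟩,
  ⟨1, 0, 6, 3, 0, 1, 4, 6, 6, 2, 3, 2, 5, 6, 5, 3⟩,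
  ⟨6, 0, 5, 1, 0, 6, 6, 5, 0, 6, 5, 5, 1, 0, 2, 5⟩,
  ⟨2, 3, 4, 1, 3, 5, 1, 3, 4, 5, 2, 2, 5, 3, 2, 5⟩,
  ⟨6, 2, 5, 1, 5, 6, 6, 5, 3, 0, 5, 0, 0, 3, 0, 5⟩,
  ⟨4, 6, 0, 3, 6, 3, 3, 0, 0, 2, 5, 3, 2, 0, 3, 2⟩,
  ⟨2, 2, 1, 1, 5, 2, 6, 1, 5, 3, 1, 3, 4, 5, 4, 1⟩,
  ⟨6, 0, 0, 0, 0, 6, 0, 0, 0, 0, 6, 0, 0, 0, 0, 6⟩,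
  ⟨0, 2, 1, 2, 2, 0, 2, 6, 1, 0, 1, 6, 0, 6, 6, 6⟩,
  ⟨3, 1, 0, 2, 1, 4, 2, 0, 1, 6, 6, 1, 6, 6, 1, 1⟩,
  ⟨5, 3, 4, 4, 4, 5, 3, 4, 3, 6, 3, 4, 1, 3, 3, 3⟩,
  ⟨1, 1, 6, 2, 1, 6, 2, 1, 6, 0, 0, 5, 0, 1, 5, 0⟩,
  ⟨6, 3, 2, 4, 4, 6, 3, 2, 1, 6, 2, 4, 1, 1, 3, 2⟩]

def chunk1 : List T := [
  ⟨6, 6, 4, 4, 6, 1, 4, 3, 0, 2, 3, 3, 2, 0, 3, 4⟩,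
  ⟨6, 6, 0, 2, 6, 1, 2, 0, 6, 6, 3, 6, 6, 1, 6, 4⟩,
  ⟨2, 4, 5, 3, 3, 2, 4, 5, 6, 1, 6, 3, 6, 6, 4, 6⟩,
  ⟨2, 5, 5, 3, 2, 2, 4, 5, 5, 1, 6, 2, 6, 5, 5, 6⟩,
  ⟨1, 0, 6, 2, 0, 6, 2, 1, 1, 6, 2, 3, 6, 6, 3, 5⟩,
  ⟨1, 0, 2, 6, 0, 1, 1, 2, 0, 1, 2, 2, 6, 0, 5, 2⟩,
  ⟨6, 1, 0, 3, 1, 1, 3, 0, 5, 1, 5, 4, 1, 2, 4, 2⟩,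
  ⟨5, 5, 2, 6, 2, 5, 1, 2, 0, 1, 6, 0, 6, 0, 0, 6⟩,
  ⟨5, 0, 2, 6, 0, 5, 1, 2, 4, 0, 6, 2, 0, 4, 5, 6⟩,
  ⟨5, 3, 6, 5, 3, 2, 5, 1, 1, 1, 6, 0, 1, 6, 0, 1⟩,
  ⟨0, 6, 3, 1, 1, 0, 6, 3, 6, 6, 4, 6, 1, 6, 1, 4⟩,
  ⟨6, 1, 4, 3, 1, 1, 3, 3, 6, 1, 0, 6, 1, 1, 6, 0⟩,
  ⟨1, 5, 5, 3, 2, 1, 4, 5, 5, 1, 5, 2, 6, 5, 5, 5⟩,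
  ⟨3, 2, 1, 4, 5, 3, 3, 1, 1, 5, 1, 0, 2, 1, 0, 1⟩,
  ⟨2, 5, 3, 1, 5, 5, 1, 4, 3, 5, 2, 4, 5, 4, 4, 5⟩,
  ⟨3, 2, 0, 1, 2, 4, 1, 0, 2, 4, 5, 2, 4, 5, 2, 2⟩,
  ⟨4, 4, 2, 0, 3, 4, 0, 2, 1, 3, 2, 3, 4, 1, 4, 2⟩,
  ⟨4, 6, 0, 5, 6, 3, 5, 0, 6, 1, 1, 6, 1, 1, 6, 6⟩,
  ⟨2, 3, 3, 3, 3, 5, 3, 4, 6, 0, 6, 0, 0, 1, 0, 1⟩,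
  ⟨5, 4, 0, 3, 4, 2, 3, 0, 0, 2, 4, 1, 2, 0, 1, 3⟩]

def chunk2 : List T := [
  ⟨6, 0, 4, 4, 0, 6, 3, 4, 6, 1, 0, 0, 6, 6, 0, 0⟩,
  ⟨4, 3, 4, 3, 3, 3, 3, 3, 0, 5, 1, 6, 5, 0, 6, 6⟩,
  ⟨4, 2, 3, 2, 5, 4, 5, 3, 3, 6, 2, 5, 1, 3, 2, 2⟩,
  ⟨4, 3, 4, 4, 4, 4, 3, 4, 3, 6, 2, 4, 1, 3, 3, 2⟩,
  ⟨6, 6, 1, 5, 6, 1, 5, 6, 1, 0, 0, 2, 0, 6, 2, 0⟩,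
  ⟨2, 1, 6, 4, 6, 2, 3, 6, 3, 2, 5, 6, 5, 3, 1, 5⟩,
  ⟨6, 0, 1, 0, 0, 1, 0, 6, 5, 0, 1, 0, 0, 2, 0, 6⟩,
  ⟨5, 4, 0, 0, 4, 2, 0, 0, 4, 0, 2, 4, 0, 3, 4, 5⟩,
  ⟨6, 4, 1, 1, 3, 6, 6, 1, 5, 3, 5, 5, 4, 5, 2, 5⟩,
  ⟨3, 2, 1, 0, 2, 4, 0, 6, 0, 0, 4, 2, 0, 0, 2, 3⟩,
  ⟨2, 4, 4, 0, 3, 2, 0, 4, 5, 6, 2, 1, 1, 5, 6, 2⟩,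
  ⟨2, 3, 0, 4, 3, 5, 4, 0, 0, 5, 3, 6, 5, 0, 6, 4⟩,
  ⟨6, 3, 5, 0, 3, 1, 0, 2, 2, 0, 1, 3, 0, 5, 3, 6⟩,
  ⟨3, 2, 4, 3, 5, 3, 4, 4, 6, 6, 0, 0, 1, 6, 0, 0⟩,
  ⟨3, 4, 0, 2, 3, 3, 5, 0, 6, 2, 1, 5, 5, 6, 2, 1⟩,
  ⟨3, 4, 4, 6, 4, 4, 6, 3, 5, 6, 6, 3, 6, 2, 3, 1⟩,
  ⟨2, 0, 5, 1, 0, 2, 6, 5, 3, 0, 1, 5, 0, 3, 2, 1⟩,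
  ⟨6, 2, 0, 3, 5, 6, 4, 0, 6, 4, 1, 5, 3, 6, 2, 1⟩,
  ⟨2, 4, 1, 0, 4, 5, 0, 6, 0, 0, 5, 4, 0, 0, 4, 2⟩,
  ⟨0, 0, 4, 3, 0, 0, 4, 4, 6, 6, 4, 5, 1, 6, 2, 4⟩]

def chunk3 : List T := [
  ⟨3, 3, 6, 0, 3, 4, 0, 1, 5, 0, 4, 3, 0, 2, 3, 3⟩,
  ⟨4, 4, 6, 1, 4, 3, 1, 1, 6, 2, 4, 4, 2, 1, 4, 3⟩,
  ⟨0, 1, 4, 6, 6, 0, 1, 4, 1, 1, 3, 1, 6, 1, 6, 3⟩,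
  ⟨2, 0, 6, 4, 0, 2, 3, 6, 4, 2, 5, 0, 5, 4, 0, 5⟩,
  ⟨1, 0, 3, 6, 0, 6, 6, 4, 5, 6, 1, 6, 6, 2, 6, 6⟩,
  ⟨5, 6, 4, 0, 1, 5, 0, 4, 5, 6, 5, 3, 1, 5, 4, 5⟩,
  ⟨2, 1, 6, 3, 6, 2, 4, 6, 3, 0, 1, 4, 0, 3, 3, 1⟩,
  ⟨5, 3, 0, 1, 3, 2, 1, 0, 3, 2, 3, 3, 2, 4, 3, 4⟩,
  ⟨6, 1, 6, 0, 1, 1, 0, 1, 3, 0, 1, 1, 0, 4, 1, 6⟩,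
  ⟨6, 2, 0, 2, 5, 6, 5, 0, 6, 2, 4, 3, 5, 6, 4, 4⟩,
  ⟨5, 2, 4, 6, 2, 2, 6, 3, 4, 2, 5, 3, 2, 3, 3, 2⟩,
  ⟨6, 3, 0, 2, 4, 6, 5, 0, 5, 2, 4, 2, 5, 5, 5, 4⟩,
  ⟨4, 5, 6, 3, 2, 4, 4, 6, 6, 2, 6, 0, 5, 6, 0, 6⟩,
  ⟨2, 4, 0, 4, 4, 5, 4, 0, 5, 6, 1, 1, 6, 2, 1, 6⟩,
  ⟨6, 0, 1, 4, 0, 6, 3, 1, 1, 5, 4, 5, 2, 1, 2, 4⟩,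
  ⟨5, 4, 3, 6, 4, 2, 6, 4, 3, 2, 5, 5, 2, 4, 5, 2⟩,
  ⟨1, 5, 2, 6, 2, 1, 1, 2, 4, 0, 2, 0, 0, 4, 0, 2⟩,
  ⟨3, 1, 0, 4, 1, 4, 4, 0, 0, 5, 2, 4, 5, 0, 4, 5⟩,
  ⟨5, 5, 6, 6, 2, 5, 1, 6, 2, 4, 6, 4, 3, 2, 3, 6⟩,
  ⟨3, 1, 3, 1, 6, 3, 6, 3, 6, 6, 0, 1, 1, 6, 6, 0⟩]

def chunk4 : List T := [
  ⟨2, 2, 0, 6, 2, 5, 6, 0, 2, 3, 4, 2, 3, 5, 2, 3⟩,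
  ⟨6, 4, 3, 6, 4, 1, 6, 4, 2, 6, 3, 3, 6, 5, 3, 4⟩,
  ⟨2, 1, 3, 0, 6, 2, 0, 3, 2, 1, 2, 4, 6, 2, 3, 2⟩,
  ⟨6, 6, 4, 0, 6, 1, 0, 3, 0, 3, 4, 5, 3, 0, 5, 3⟩,
  ⟨5, 6, 3, 2, 1, 5, 5, 3, 0, 3, 3, 1, 4, 0, 6, 3⟩,
  ⟨4, 3, 1, 1, 3, 3, 1, 6, 1, 2, 4, 3, 2, 6, 3, 3⟩,
  ⟨0, 0, 4, 4, 0, 0, 3, 4, 6, 1, 1, 0, 6, 6, 0, 1⟩,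
  ⟨1, 5, 0, 5, 2, 1, 2, 0, 1, 5, 3, 4, 2, 1, 3, 3⟩,
  ⟨4, 5, 6, 0, 5, 3, 0, 1, 0, 0, 3, 5, 0, 0, 5, 4⟩,
  ⟨1, 0, 3, 4, 0, 6, 4, 4, 6, 0, 5, 3, 0, 1, 3, 2⟩,
  ⟨4, 2, 0, 5, 5, 4, 2, 0, 2, 5, 6, 3, 2, 2, 4, 6⟩,
  ⟨3, 4, 0, 1, 4, 4, 1, 0, 4, 2, 5, 4, 2, 3, 4, 2⟩,
  ⟨3, 3, 4, 3, 4, 3, 4, 4, 5, 6, 0, 6, 1, 5, 1, 0⟩,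
  ⟨5, 2, 3, 2, 5, 5, 5, 3, 3, 6, 3, 5, 1, 3, 2, 3⟩,
  ⟨0, 6, 4, 4, 6, 0, 4, 3, 6, 6, 1, 1, 6, 1, 1, 6⟩,
  ⟨4, 5, 3, 4, 2, 4, 3, 3, 1, 1, 0, 0, 6, 1, 0, 0⟩,
  ⟨1, 3, 1, 4, 3, 6, 4, 6, 5, 5, 4, 6, 5, 2, 6, 3⟩,
  ⟨1, 4, 2, 0, 4, 6, 0, 5, 5, 0, 6, 4, 0, 2, 4, 1⟩,
  ⟨3, 5, 3, 4, 5, 4, 4, 4, 5, 3, 4, 3, 3, 2, 3, 3⟩,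
  ⟨1, 5, 3, 1, 2, 1, 6, 3, 2, 4, 2, 4, 3, 2, 3, 2⟩]

def chunk5 : List T := [
  ⟨1, 6, 1, 0, 6, 6, 0, 6, 4, 0, 6, 6, 0, 3, 6, 1⟩,
  ⟨5, 4, 2, 0, 3, 5, 0, 2, 1, 3, 3, 3, 4, 1, 4, 3⟩,
  ⟨3, 6, 4, 6, 6, 4, 6, 3, 1, 2, 0, 0, 2, 6, 0, 0⟩,
  ⟨5, 0, 1, 3, 0, 5, 4, 1, 3, 5, 2, 0, 2, 3, 0, 2⟩,
  ⟨1, 4, 1, 4, 3, 1, 3, 1, 4, 0, 2, 1, 0, 4, 6, 2⟩,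
  ⟨5, 2, 1, 0, 2, 2, 0, 6, 5, 0, 2, 2, 0, 2, 2, 5⟩,
  ⟨3, 1, 2, 0, 6, 3, 0, 2, 4, 1, 5, 6, 6, 4, 1, 5⟩,
  ⟨3, 2, 0, 4, 5, 3, 3, 0, 4, 5, 4, 5, 2, 4, 2, 4⟩,
  ⟨5, 3, 6, 0, 3, 2, 0, 1, 0, 0, 2, 3, 0, 0, 3, 5⟩,
  ⟨1, 1, 4, 6, 1, 6, 6, 3, 2, 6, 1, 0, 6, 5, 0, 6⟩,
  ⟨1, 4, 6, 2, 3, 1, 5, 6, 1, 3, 6, 3, 4, 1, 4, 6⟩,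
  ⟨1, 5, 0, 4, 2, 1, 3, 0, 1, 3, 6, 2, 4, 1, 5, 6⟩,
  ⟨0, 5, 6, 5, 5, 0, 5, 1, 6, 0, 6, 1, 0, 1, 1, 1⟩,
  ⟨2, 4, 3, 3, 3, 2, 4, 3, 4, 1, 4, 3, 6, 4, 4, 4⟩,
  ⟨1, 4, 5, 3, 3, 1, 4, 5, 6, 1, 5, 3, 6, 6, 4, 5⟩,
  ⟨1, 1, 3, 3, 1, 6, 3, 4, 0, 5, 4, 4, 5, 0, 4, 3⟩,
  ⟨1, 1, 0, 5, 1, 6, 5, 0, 1, 1, 4, 1, 1, 6, 1, 3⟩,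
  ⟨5, 3, 2, 4, 4, 5, 3, 2, 1, 6, 1, 4, 1, 1, 3, 1⟩,
  ⟨5, 2, 2, 4, 5, 5, 3, 2, 2, 6, 1, 5, 1, 2, 2, 1⟩,
  ⟨6, 0, 1, 5, 0, 1, 5, 6, 6, 1, 5, 4, 1, 1, 4, 2⟩]

def chunk6 : List T := [
  ⟨5, 5, 3, 2, 2, 5, 5, 3, 1, 3, 3, 2, 4, 1, 5, 3⟩,
  ⟨6, 1, 1, 4, 1, 1, 4, 6, 0, 6, 4, 5, 6, 0, 5, 3⟩,
  ⟨2, 3, 5, 0, 4, 2, 0, 5, 6, 4, 4, 4, 3, 6, 3, 4⟩,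
  ⟨3, 3, 1, 4, 3, 4, 4, 6, 2, 6, 0, 0, 6, 5, 0, 0⟩,
  ⟨0, 1, 3, 3, 1, 0, 3, 4, 1, 1, 6, 6, 1, 6, 6, 1⟩,
  ⟨1, 5, 4, 1, 2, 1, 6, 4, 0, 4, 0, 2, 3, 0, 5, 0⟩,
  ⟨0, 6, 0, 1, 6, 0, 1, 0, 6, 2, 1, 6, 2, 1, 6, 6⟩,
  ⟨0, 5, 1, 2, 2, 0, 5, 1, 2, 3, 0, 2, 4, 2, 5, 0⟩,
  ⟨4, 2, 6, 4, 2, 3, 4, 1, 0, 6, 6, 6, 6, 0, 6, 1⟩,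
  ⟨5, 5, 0, 1, 5, 2, 1, 0, 5, 4, 3, 5, 4, 2, 5, 4⟩,
  ⟨4, 5, 0, 3, 2, 4, 4, 0, 3, 2, 3, 2, 5, 3, 5, 3⟩,
  ⟨4, 6, 4, 6, 1, 4, 1, 4, 1, 1, 0, 6, 6, 1, 1, 0⟩,
  ⟨3, 2, 4, 5, 5, 3, 2, 4, 6, 4, 5, 5, 3, 6, 2, 5⟩,
  ⟨4, 5, 2, 6, 5, 3, 6, 5, 6, 2, 6, 6, 2, 1, 6, 1⟩,
  ⟨2, 5, 4, 5, 2, 2, 2, 4, 4, 1, 4, 2, 6, 4, 5, 4⟩,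
  ⟨5, 5, 5, 3, 2, 5, 4, 5, 1, 2, 2, 2, 5, 1, 5, 2⟩,
  ⟨6, 0, 4, 3, 0, 1, 3, 3, 1, 0, 2, 4, 0, 6, 4, 5⟩,
  ⟨5, 5, 1, 4, 5, 2, 4, 6, 0, 5, 0, 1, 5, 0, 1, 0⟩,
  ⟨0, 0, 6, 4, 0, 0, 4, 1, 5, 6, 3, 4, 6, 2, 4, 4⟩,
  ⟨6, 1, 5, 6, 1, 1, 6, 2, 1, 2, 4, 2, 2, 6, 2, 3⟩]

def chunk7 : List T := [
  ⟨2, 1, 4, 5, 6, 2, 2, 4, 0, 4, 4, 6, 3, 0, 1, 4⟩,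
  ⟨3, 1, 5, 6, 6, 3, 1, 5, 2, 2, 4, 6, 5, 2, 1, 4⟩,
  ⟨0, 0, 3, 6, 0, 0, 6, 4, 6, 2, 3, 1, 2, 1, 1, 4⟩,
  ⟨1, 1, 3, 0, 1, 6, 0, 4, 0, 4, 3, 2, 4, 0, 2, 4⟩,
  ⟨0, 2, 3, 6, 5, 0, 1, 3, 0, 3, 1, 5, 4, 0, 2, 1⟩,
  ⟨0, 6, 6, 4, 6, 0, 4, 1, 0, 5, 5, 2, 5, 0, 2, 2⟩,
  ⟨4, 6, 5, 0, 1, 4, 0, 5, 3, 6, 2, 1, 1, 3, 6, 2⟩,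
  ⟨2, 2, 2, 4, 5, 2, 3, 2, 6, 5, 5, 5, 2, 6, 2, 5⟩,
  ⟨6, 3, 1, 5, 4, 6, 2, 1, 6, 4, 1, 4, 3, 6, 3, 1⟩,
  ⟨4, 2, 4, 3, 2, 3, 3, 3, 2, 4, 3, 4, 4, 5, 4, 4⟩,
  ⟨2, 0, 2, 6, 0, 5, 6, 5, 0, 6, 0, 6, 6, 0, 6, 0⟩,
  ⟨6, 6, 3, 1, 6, 1, 1, 4, 5, 1, 6, 0, 1, 2, 0, 1⟩,
  ⟨4, 6, 2, 1, 1, 4, 6, 2, 5, 5, 3, 1, 2, 5, 6, 3⟩,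
  ⟨4, 1, 6, 4, 1, 3, 4, 1, 2, 5, 1, 4, 5, 5, 4, 6⟩,
  ⟨6, 3, 6, 3, 4, 6, 4, 6, 3, 0, 5, 6, 0, 3, 1, 5⟩,
  ⟨0, 0, 3, 3, 0, 0, 4, 3, 1, 6, 6, 0, 1, 1, 0, 6⟩,
  ⟨4, 3, 0, 6, 3, 3, 6, 0, 3, 5, 2, 3, 5, 4, 3, 5⟩,
  ⟨2, 3, 2, 4, 4, 2, 3, 2, 5, 5, 5, 4, 2, 5, 3, 5⟩,
  ⟨3, 5, 0, 2, 2, 3, 5, 0, 5, 2, 1, 4, 5, 5, 3, 1⟩,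
  ⟨2, 4, 1, 2, 4, 5, 2, 6, 6, 6, 1, 0, 6, 1, 0, 6⟩]

def chunk8 : List T := [
  ⟨1, 6, 3, 4, 6, 6, 4, 4, 1, 6, 0, 1, 6, 6, 1, 0⟩,
  ⟨6, 2, 2, 4, 5, 6, 3, 2, 2, 6, 2, 5, 1, 2, 2, 2⟩,
  ⟨4, 5, 0, 6, 5, 3, 6, 0, 5, 3, 2, 5, 3, 2, 5, 5⟩,
  ⟨3, 3, 5, 0, 4, 3, 0, 5, 6, 4, 5, 4, 3, 6, 3, 5⟩,
  ⟨5, 4, 4, 4, 4, 2, 4, 3, 1, 0, 1, 0, 0, 6, 0, 6⟩,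
  ⟨1, 0, 3, 3, 0, 1, 4, 3, 1, 6, 0, 0, 1, 1, 0, 0⟩,
  ⟨3, 4, 3, 4, 4, 4, 4, 4, 0, 2, 6, 1, 2, 0, 1, 1⟩,
  ⟨3, 5, 4, 5, 2, 3, 2, 4, 4, 1, 5, 2, 6, 4, 5, 5⟩,
  ⟨3, 4, 3, 3, 3, 3, 4, 3, 4, 1, 5, 3, 6, 4, 4, 5⟩,
  ⟨4, 4, 4, 4, 4, 3, 4, 3, 2, 3, 3, 2, 3, 5, 2, 4⟩,
  ⟨0, 6, 2, 1, 6, 0, 1, 5, 0, 1, 5, 0, 1, 0, 0, 2⟩,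
  ⟨5, 6, 5, 0, 1, 5, 0, 5, 3, 6, 3, 1, 1, 3, 6, 3⟩,
  ⟨1, 6, 2, 1, 6, 6, 1, 5, 6, 5, 3, 5, 5, 1, 5, 4⟩,
  ⟨3, 2, 3, 0, 2, 4, 0, 4, 1, 6, 1, 3, 6, 6, 3, 6⟩,
  ⟨0, 6, 6, 5, 1, 0, 2, 6, 0, 0, 0, 1, 0, 0, 6, 0⟩,
  ⟨3, 5, 1, 3, 5, 4, 3, 6, 0, 1, 1, 1, 1, 0, 1, 6⟩,
  ⟨2, 4, 0, 6, 4, 5, 6, 0, 4, 5, 4, 4, 5, 3, 4, 3⟩,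
  ⟨6, 2, 3, 6, 5, 6, 1, 3, 0, 3, 0, 5, 4, 0, 2, 0⟩,
  ⟨3, 1, 4, 5, 6, 3, 2, 4, 0, 4, 5, 6, 3, 0, 1, 5⟩,
  ⟨1, 6, 6, 3, 6, 6, 3, 1, 0, 1, 3, 2, 1, 0, 2, 4⟩]

def chunk9 : List T := [
  ⟨3, 6, 1, 3, 6, 4, 3, 6, 5, 2, 6, 3, 2, 2, 3, 1⟩,
  ⟨2, 2, 4, 5, 5, 2, 2, 4, 6, 4, 4, 5, 3, 6, 2, 4⟩,
  ⟨4, 2, 3, 0, 2, 3, 0, 4, 0, 3, 6, 1, 3, 0, 1, 1⟩,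
  ⟨0, 6, 3, 4, 1, 0, 3, 3, 2, 1, 3, 3, 6, 2, 4, 3⟩,
  ⟨0, 0, 1, 3, 0, 0, 3, 6, 2, 1, 4, 3, 1, 5, 3, 3⟩,
  ⟨0, 0, 4, 1, 0, 0, 1, 3, 1, 5, 4, 6, 5, 6, 6, 3⟩,
  ⟨4, 5, 3, 2, 2, 4, 5, 3, 1, 3, 2, 2, 4, 1, 5, 2⟩,
  ⟨5, 2, 6, 1, 5, 5, 6, 6, 1, 0, 2, 5, 0, 1, 2, 2⟩,
  ⟨2, 4, 4, 6, 3, 2, 1, 4, 5, 3, 1, 5, 4, 5, 2, 1⟩,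
  ⟨2, 2, 6, 3, 2, 5, 3, 1, 0, 2, 0, 6, 2, 0, 6, 0⟩,
  ⟨4, 4, 6, 3, 4, 3, 3, 1, 5, 1, 0, 0, 1, 2, 0, 0⟩,
  ⟨0, 2, 6, 5, 5, 0, 2, 6, 5, 4, 0, 5, 3, 5, 2, 0⟩,
  ⟨6, 0, 4, 1, 0, 1, 1, 3, 2, 1, 6, 1, 1, 5, 1, 1⟩,
  ⟨0, 1, 0, 6, 1, 0, 6, 0, 1, 5, 6, 1, 5, 6, 1, 1⟩,
  ⟨2, 1, 1, 2, 6, 2, 5, 1, 6, 5, 5, 6, 2, 6, 1, 5⟩,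
  ⟨6, 6, 0, 6, 6, 1, 6, 0, 6, 5, 0, 6, 5, 1, 6, 0⟩,
  ⟨4, 6, 3, 2, 1, 4, 5, 3, 0, 3, 2, 1, 4, 0, 6, 2⟩,
  ⟨0, 1, 1, 3, 1, 0, 3, 6, 0, 2, 2, 5, 2, 0, 5, 5⟩,
  ⟨4, 3, 0, 5, 4, 4, 2, 0, 1, 5, 6, 2, 2, 1, 5, 6⟩,
  ⟨0, 5, 4, 1, 2, 0, 6, 4, 0, 4, 6, 2, 3, 0, 5, 6⟩]

def chunk10 : List T := [
  ⟨3, 2, 5, 1, 2, 4, 1, 2, 1, 5, 1, 1, 5, 6, 1, 6⟩,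
  ⟨5, 4, 5, 3, 3, 5, 4, 5, 2, 2, 2, 3, 5, 2, 4, 2⟩,
  ⟨5, 0, 5, 1, 0, 2, 1, 2, 0, 1, 0, 1, 1, 0, 1, 0⟩,
  ⟨2, 1, 2, 0, 6, 2, 0, 2, 4, 1, 4, 6, 6, 4, 1, 4⟩,
  ⟨5, 3, 3, 0, 4, 5, 0, 3, 2, 1, 5, 6, 6, 2, 1, 5⟩,
  ⟨4, 3, 3, 1, 3, 3, 1, 4, 2, 1, 1, 4, 1, 5, 4, 6⟩,
  ⟨0, 0, 3, 4, 0, 0, 3, 3, 1, 1, 3, 2, 6, 1, 5, 3⟩,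
  ⟨4, 4, 1, 0, 4, 3, 0, 6, 2, 0, 3, 4, 0, 5, 4, 4⟩,
  ⟨3, 3, 1, 6, 3, 4, 6, 6, 1, 5, 3, 3, 5, 6, 3, 4⟩,
  ⟨5, 6, 1, 4, 1, 5, 3, 1, 4, 0, 6, 3, 0, 4, 4, 6⟩,
  ⟨1, 4, 0, 5, 3, 1, 2, 0, 2, 5, 3, 5, 2, 2, 2, 3⟩,
  ⟨4, 1, 1, 6, 6, 4, 1, 1, 3, 2, 3, 6, 5, 3, 1, 3⟩,
  ⟨4, 4, 3, 4, 3, 4, 3, 3, 2, 1, 0, 1, 6, 2, 6, 0⟩,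
  ⟨3, 3, 3, 3, 3, 4, 3, 4, 5, 4, 4, 5, 4, 2, 5, 3⟩,
  ⟨2, 5, 6, 0, 5, 5, 0, 1, 2, 0, 5, 5, 0, 5, 5, 2⟩,
  ⟨5, 3, 3, 1, 4, 5, 6, 3, 2, 4, 6, 2, 3, 2, 5, 6⟩,
  ⟨0, 6, 0, 0, 1, 0, 0, 0, 1, 0, 0, 1, 0, 1, 6, 0⟩,
  ⟨4, 5, 4, 0, 5, 3, 0, 3, 6, 1, 6, 4, 1, 1, 4, 1⟩,
  ⟨0, 1, 5, 6, 1, 0, 6, 2, 0, 6, 2, 0, 6, 0, 0, 5⟩,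
  ⟨4, 2, 0, 0, 2, 3, 0, 0, 2, 0, 3, 2, 0, 5, 2, 4⟩]

def chunk11 : List T := [
  ⟨6, 2, 4, 6, 5, 6, 1, 4, 5, 3, 5, 3, 4, 5, 4, 5⟩,
  ⟨0, 1, 4, 3, 6, 0, 4, 4, 5, 6, 4, 4, 1, 5, 3, 4⟩,
  ⟨1, 3, 4, 1, 3, 6, 1, 3, 5, 1, 4, 4, 1, 2, 4, 3⟩,
  ⟨3, 5, 4, 0, 5, 4, 0, 3, 0, 4, 1, 6, 4, 0, 6, 6⟩,
  ⟨0, 1, 1, 2, 6, 0, 5, 1, 0, 0, 0, 6, 0, 0, 1, 0⟩,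
  ⟨2, 5, 1, 6, 2, 2, 1, 1, 6, 0, 5, 2, 0, 6, 5, 5⟩,
  ⟨1, 6, 5, 0, 6, 6, 0, 2, 5, 0, 6, 6, 0, 2, 6, 1⟩,
  ⟨6, 3, 3, 0, 3, 1, 0, 4, 1, 1, 4, 2, 1, 6, 2, 3⟩,
  ⟨1, 1, 0, 1, 1, 6, 1, 0, 1, 2, 0, 1, 2, 6, 1, 0⟩,
  ⟨3, 4, 6, 6, 4, 4, 6, 1, 6, 5, 3, 4, 5, 1, 4, 4⟩,
  ⟨5, 6, 6, 5, 1, 5, 2, 6, 1, 2, 2, 1, 5, 1, 6, 2⟩,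
  ⟨6, 4, 6, 3, 4, 1, 3, 1, 2, 2, 3, 1, 2, 5, 1, 4⟩,
  ⟨4, 1, 3, 1, 1, 3, 1, 4, 6, 5, 0, 0, 5, 1, 0, 0⟩,
  ⟨3, 6, 6, 1, 1, 3, 6, 6, 4, 5, 4, 1, 2, 4, 6, 4⟩,
  ⟨2, 5, 1, 2, 2, 2, 5, 1, 3, 2, 5, 2, 5, 3, 5, 5⟩,
  ⟨0, 1, 0, 0, 6, 0, 0, 0, 6, 0, 0, 6, 0, 6, 1, 0⟩,
  ⟨3, 5, 0, 0, 5, 4, 0, 0, 5, 0, 4, 5, 0, 2, 5, 3⟩,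
  ⟨5, 2, 6, 5, 5, 5, 2, 6, 4, 5, 2, 5, 2, 4, 2, 2⟩,
  ⟨6, 1, 2, 0, 1, 1, 0, 5, 2, 0, 1, 1, 0, 5, 1, 6⟩,
  ⟨1, 4, 4, 0, 4, 6, 0, 3, 6, 6, 3, 5, 6, 1, 5, 4⟩]

/-- the 240 elements -/
def elems : List T := chunk0 ++ chunk1 ++ chunk2 ++ chunk3 ++ chunk4 ++ chunk5 ++ chunk6 ++ chunk7 ++ chunk8 ++ chunk9 ++ chunk10 ++ chunk11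

def invA : T := ⟨2, 4, 0, 4, 4, 5, 4, 0, 5, 6, 1, 1, 6, 2, 1, 6⟩
def invB : T := ⟨1, 0, 2, 6, 0, 1, 1, 2, 0, 1, 2, 2, 6, 0, 5, 2⟩
def zeroT : T := ⟨0, 0, 0, 0, 0, 0, 0, 0, 0, 0, 0, 0, 0, 0, 0, 0⟩

/-- sum modulo seven -/
def addT (x y : T) : T :=
  ⟨(x.a00 + y.a00) % 7,
    (x.a01 + y.a01) % 7,
    (x.a02 + y.a02) % 7,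
    (x.a03 + y.a03) % 7,
    (x.a10 + y.a10) % 7,
    (x.a11 + y.a11) % 7,
    (x.a12 + y.a12) % 7,
    (x.a13 + y.a13) % 7,
    (x.a20 + y.a20) % 7,
    (x.a21 + y.a21) % 7,
    (x.a22 + y.a22) % 7,
    (x.a23 + y.a23) % 7,
    (x.a30 + y.a30) % 7,
    (x.a31 + y.a31) % 7,
    (x.a32 + y.a32) % 7,
    (x.a33 + y.a33) % 7⟩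

theorem toMat_add (x y : T) : toMat (addT x y) = toMat x + toMat y := by
  ext i j
  fin_cases i <;> fin_cases j <;> simp [toMat, addT]

end CfsgLib.Recog.TwoSymFive
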