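import Mathlib
import Cfsg.Agent.Lib.Recog.TwoSymFiveData

/-!
# A group `2.S₅⁻` inside `GL(4,7)` without fixed vectors
-/

set_option autoImplicit false

namespace CfsgLib.Recog.TwoSymFive

open Matrix

theorem toMat_oneT : toMat oneT = 1 := by
  ext i j
  fin_cases i <;> fin_cases j <;> simp [toMat, oneT]

theorem toMat_negOneT : toMat negOneT = -1 := by
  ext i j
  fin_cases i <;> fin_cases j <;> simp [toMat, negOneT] <;> decide

theorem toMat_zeroT : toMat zeroT = 0 := by
  ext i j
  fin_cases i <;> fin_cases j <;> simp [toMat, zeroT]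

/-- powers, reduced -/
def powT (x : T) : ℕ → T
  | 0 => oneT
  | n + 1 => mulT (powT x n) x

theorem toMat_powT (x : T) (n : ℕ) : toMat (powT x n) = toMat x ^ n := by
  induction n with
  | zero => simp [powT, toMat_oneT]
  | succ n ih => rw [powT, toMat_mul, ih, pow_succ]

/-- back from matrices -/
def ofMat (M : Matrix (Fin 4) (Fin 4) (ZMod 7)) : T :=
  ⟨(M 0 0).val, (M 0 1).val, (M 0 2).val, (M 0 3).val, (M 1 0).val, (M 1 1).val, (M 1 2).val, (M 1 3).val,
    (M 2 0).val, (M 2 1).val, (M 2 2).val, (M 2 3).val, (M 3 0).val, (M 3 1).val, (M 3 2).val, (M 3 3).val⟩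

theorem ofMat_toMat_mul (x y : T) : ofMat (toMat (mulT x y)) = mulT x y := by
  unfold ofMat toMat mulT
  simp only [Matrix.of_apply, Matrix.cons_val', Matrix.cons_val_zero, Matrix.cons_val_one, Matrix.cons_val,
    Matrix.empty_val', Matrix.cons_val_fin_one, ZMod.val_natCast, Nat.mod_mod]

theorem toMat_powT_ne_one (x : T) (n : ℕ) (h : powT x (n + 1) ≠ oneT) : toMat x ^ (n + 1) ≠ 1 := by
  intro h1
  apply h
  have h2 : powT x (n + 1) = ofMat (toMat (powT x (n + 1))) := (ofMat_toMat_mul _ _).symm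
  rw [h2, toMat_powT, h1]
  decide +kernel

theorem toMat_pow_eq_one (x : T) (n : ℕ) (h : powT x n = oneT) : toMat x ^ n = 1 := by
  rw [← toMat_powT, h, toMat_oneT]

theorem orderOf_toMat (x : T) (m : ℕ) (h : powT x (m + 1) = oneT)
    (h' : ∀ j : Fin m, powT x (j.1 + 1) ≠ oneT) : orderOf (toMat x) = m + 1 := by
  rw [orderOf_eq_iff (Nat.succ_pos m)]
  refine ⟨toMat_pow_eq_one x _ h, fun j hj hj0 => ?_⟩
  obtain ⟨i, rfl⟩ := Nat.exists_eq_add_one.mpr hj0
  exact toMat_powT_ne_one x i (h' ⟨i, by omega⟩)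

/-- the two generators -/
def gA : GL (Fin 4) (ZMod 7) := ⟨toMat genA, toMat invA,
  by rw [← toMat_mul, show mulT genA invA = oneT by decide +kernel, toMat_oneT],
  by rw [← toMat_mul, show mulT invA genA = oneT by decide +kernel, toMat_oneT]⟩

def gB : GL (Fin 4) (ZMod 7) := ⟨toMat genB, toMat invB,
  by rw [← toMat_mul, show mulT genB invB = oneT by decide +kernel, toMat_oneT],
  by rw [← toMat_mul, show mulT invB genB = oneT by decide +kernel, toMat_oneT]⟩

/-- the group -/
def K : Subgroup (GL (Fin 4) (ZMod 7)) := Subgroup.closure {gA, gB}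

theorem closed_check : (elems.elem oneT &&
    elems.all fun x => elems.elem (mulT x genA) && elems.elem (mulT x genB)) = true := by
  decide +kernel

theorem exists_mem {g : GL (Fin 4) (ZMod 7)} (hg : g ∈ K) :
    ∃ x ∈ elems, toMat x = (g : Matrix (Fin 4) (Fin 4) (ZMod 7)) := by
  have h := closed_check
  rw [Bool.and_eq_true, List.all_eq_true] at h
  have hg' : g ∈ Submonoid.closure ({gA, gB} : Set (GL (Fin 4) (ZMod 7))) := by
    rw [← Subgroup.closure_toSubmonoid_of_finite]; exact hg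
  refine Submonoid.closure_induction_right
    (motive := fun (g : GL (Fin 4) (ZMod 7)) _ => ∃ x ∈ elems, toMat x = (g : Matrix (Fin 4) (Fin 4) (ZMod 7)))
    ?_ ?_ hg'
  · exact ⟨oneT, List.elem_iff.mp h.1, by rw [toMat_oneT]; rfl⟩
  · rintro y _ s hs ⟨x, hx, hxy⟩
    have h2 := h.2 x hx
    rw [Bool.and_eq_true] at h2
    rcases hs with rfl | rfl
    · exact ⟨mulT x genA, List.elem_iff.mp h2.1, by rw [toMat_mul, hxy]; rfl⟩
    · exact ⟨mulT x genB, List.elem_iff.mp h2.2, by rw [toMat_mul, hxy]; rfl⟩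

/-- the properties checked on each element -/
def checkT (x : T) : Bool :=
  let x2 := mulT x x
  let x3 := mulT x2 x
  let x4 := mulT x2 x2
  let x5 := mulT x4 x
  let x6 := mulT x3 x3
  (mulT x4 x4 == oneT || mulT x5 x5 == oneT || mulT x6 x6 == oneT) &&
  (x == oneT || x == negOneT || x2 == negOneT || x3 == negOneT || x4 == negOneT ||
    x5 == negOneT || x6 == negOneT ||
    (x3 == oneT && addT (addT oneT x) x2 == zeroT) ||
    (x5 == oneT && addT (addT (addT (addT oneT x) x2) x3) x4 == zeroT))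

theorem all_check : elems.all checkT = true := by
  decide +kernel

theorem facts {g : GL (Fin 4) (ZMod 7)} (hg : g ∈ K) :
    (g ^ 8 = 1 ∨ g ^ 10 = 1 ∨ g ^ 12 = 1) ∧
    (g = 1 ∨ (∃ k : ℕ, ((g ^ k : GL (Fin 4) (ZMod 7)) : Matrix (Fin 4) (Fin 4) (ZMod 7)) = -1) ∨
      (g ^ 3 = 1 ∧ (1 : Matrix (Fin 4) (Fin 4) (ZMod 7)) + (g : Matrix (Fin 4) (Fin 4) (ZMod 7)) +
          (g : Matrix (Fin 4) (Fin 4) (ZMod 7)) ^ 2 = 0) ∨
      (g ^ 5 = 1 ∧ (1 : Matrix (Fin 4) (Fin 4) (ZMod 7)) + (g : Matrix (Fin 4) (Fin 4) (ZMod 7)) +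
          (g : Matrix (Fin 4) (Fin 4) (ZMod 7)) ^ 2 + (g : Matrix (Fin 4) (Fin 4) (ZMod 7)) ^ 3 +
          (g : Matrix (Fin 4) (Fin 4) (ZMod 7)) ^ 4 = 0)) := by
  obtain ⟨x, hx, hxg⟩ := exists_mem hg
  have h := List.all_eq_true.mp all_check x hx
  simp only [checkT, Bool.and_eq_true, Bool.or_eq_true, beq_iff_eq] at h
  have e1 : ∀ {y : T}, y = oneT → toMat y = 1 := fun h => h ▸ toMat_oneT
  have e2 : ∀ {y : T}, y = negOneT → toMat y = -1 := fun h => h ▸ toMat_negOneT
  have e0 : ∀ {y : T}, y = zeroT → toMat y = 0 := fun h => h ▸ toMat_zeroT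
  have hp : ∀ n : ℕ, ((g ^ n : GL (Fin 4) (ZMod 7)) : Matrix (Fin 4) (Fin 4) (ZMod 7)) = toMat x ^ n :=
    fun n => by rw [Units.val_pow_eq_pow_val, hxg]
  refine ⟨?_, ?_⟩
  · rcases h.1 with (h1 | h1) | h1 <;> [left; (right; left); (right; right)] <;>
    · refine Units.ext ?_
      have := e1 h1
      simp only [toMat_mul] at this
      rw [hp, Units.val_one, ← this]
      simp only [pow_succ, pow_zero, one_mul, mul_assoc]
  · rcases h.2 with (((((((h1 | h1) | h1) | h1) | h1) | h1) | h1) | ⟨h1, h0⟩) | ⟨h1, h0⟩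
    · exact Or.inl (Units.ext (hxg ▸ e1 h1))
    · exact Or.inr (Or.inl ⟨1, by rw [hp, pow_one]; exact e2 h1⟩)
    all_goals first
      | (refine Or.inr (Or.inl ?_)
         have := e2 h1
         simp only [toMat_mul] at this
         first
           | (refine ⟨2, ?_⟩; rw [hp, ← this]; simp only [pow_succ, pow_zero, one_mul, mul_assoc]; done)
           | (refine ⟨3, ?_⟩; rw [hp, ← this]; simp only [pow_succ, pow_zero, one_mul, mul_assoc]; done)
           | (refine ⟨4, ?_⟩; rw [hp, ← this]; simp only [pow_succ, pow_zero, one_mul, mul_assoc]; done)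
           | (refine ⟨5, ?_⟩; rw [hp, ← this]; simp only [pow_succ, pow_zero, one_mul, mul_assoc]; done)
           | (refine ⟨6, ?_⟩; rw [hp, ← this]; simp only [pow_succ, pow_zero, one_mul, mul_assoc]; done))
      | (refine Or.inr (Or.inr (Or.inl ⟨Units.ext ?_, ?_⟩))
         · have := e1 h1
           simp only [toMat_mul] at this
           rw [hp, Units.val_one, ← this]
           simp only [pow_succ, pow_zero, one_mul, mul_assoc]
         · have := e0 h0
           simp only [toMat_add, toMat_mul, toMat_oneT] at this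
           rw [← hxg, ← this]
           simp only [pow_succ, pow_zero, one_mul, mul_assoc]
         done)
      | (refine Or.inr (Or.inr (Or.inr ⟨Units.ext ?_, ?_⟩))
         · have := e1 h1
           simp only [toMat_mul] at this
           rw [hp, Units.val_one, ← this]
           simp only [pow_succ, pow_zero, one_mul, mul_assoc]
         · have := e0 h0
           simp only [toMat_add, toMat_mul, toMat_oneT] at this
           rw [← hxg, ← this]
           simp only [pow_succ, pow_zero, one_mul, mul_assoc])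

end CfsgLib.Recog.TwoSymFive
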