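import Cfsg.Agent.Lib.Recog.TwoSymFourFacts
import Cfsg.Agent.Lib.LocalEvenB.CentralizerDEight
import Cfsg.Agent.Lib.Recog.SelfCentNine.SymSix
import Cfsg.Agent.Lib.Transfer.ThompsonTransfer
import Cfsg.Agent.Lib.Char.Burnside

/-!
# An involution with centraliser `Z₂ × S₄` in the centre of a Sylow 2-subgroup

If the derived subgroup of a Sylow 2-subgroup is centralised only by that subgroup, then the
group is the centraliser of the involution or the symmetric group of degree six.
-/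

set_option autoImplicit false
set_option linter.all false

namespace CfsgLib.Recog.TwoSFour

open Subgroup Equiv
open scoped commutatorElement

theorem g1_mul_z0 : g1 * (1, z0) * (g1 * (1, z0)) = 1 ∧ g1 * (1, z0) ≠ (1 : M) := by decide

theorem g1_mul : ∀ σ : Perm (Fin 4), g1 * (1, σ) = (Multiplicative.ofAdd 1, σ) := by decide +kernel

theorem bit_cases : ∀ x y : Multiplicative (ZMod 2), x ≠ y → x * y⁻¹ = Multiplicative.ofAdd 1 := by decide

theorem bit_ne : ∀ x : Multiplicative (ZMod 2), x ≠ 1 → x = Multiplicative.ofAdd 1 := by decide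

variable {G : Type*} [Group G] [Finite G]

/-- The counting step: the class of `t` cannot have five or seven elements. -/
theorem centralizer_eq_top {t : G} (ht : t * t = 1) (N : Subgroup G) [N.Normal]
    (hN2 : N.index = 2) (htN : t ∉ N) (L : Perm (Fin 4) →* N) (hL : Function.Injective L)
    (hLt : ∀ σ, (L σ : G) * t = t * L σ) {k : ℕ}
    (hk : ∀ d : ℕ, 24 ≤ d * ((centralizer ({t} : Set G)).index - 1) → k ≤ d)
    (hP1 : ∀ q : N, q * q = 1 ∨ ∀ d, k ≤ d → d ∣ 24 → d ∣ Nat.card (centralizer ({q} : Set N)) →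
      Nat.card (centralizer ({q} : Set N)) = d)
    (hP2 : ∀ p : N, (∀ g, p * (g * p * g⁻¹) = (g * p * g⁻¹) * p) → p = 1) :
    centralizer ({t} : Set G) = ⊤ := by
  classical
  have htinv : t⁻¹ = t := inv_eq_of_mul_eq_one_left ht
  have hNn : N.Normal := inferInstance
  have hconjN : ∀ g, g * t * g⁻¹ ∉ N := fun g h => htN (by
    have := hNn.conj_mem _ h g⁻¹
    simpa [mul_assoc] using this)
  have hqN : ∀ g, t * (g * t * g⁻¹) ∈ N := fun g =>
    (mul_mem_iff_of_index_two hN2).2 (iff_of_false htN (hconjN g))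
  have hne : ∀ g, g ∉ centralizer ({t} : Set G) → g * t * g⁻¹ ≠ t := fun g hg h =>
    hg (mem_centralizer_singleton_iff.2 (mul_inv_eq_iff_eq_mul.1 h))
  -- conjugates of `t` commute with `t`
  have hcomm : ∀ g, t * (g * t * g⁻¹) = (g * t * g⁻¹) * t := by
    intro g
    by_cases hg : g ∈ centralizer ({t} : Set G)
    · rw [mul_inv_eq_iff_eq_mul.2 (mem_centralizer_singleton_iff.1 hg)]
    obtain ⟨t', htdef⟩ : ∃ t', t' = g * t * g⁻¹ := ⟨_, rfl⟩
    rw [← htdef]
    have ht' : t' * t' = 1 := by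
      rw [htdef, show g * t * g⁻¹ * (g * t * g⁻¹) = g * (t * t) * g⁻¹ by group, ht, mul_one, mul_inv_cancel]
    obtain ⟨S, hS⟩ : ∃ S : Subgroup (Perm (Fin 4)),
        S = (centralizer ({t'} : Set G)).comap (N.subtype.comp L) := ⟨_, rfl⟩
    have hSmem : ∀ σ, σ ∈ S ↔ (L σ : G) * t' = t' * L σ := fun σ => by
      rw [hS, mem_comap, mem_centralizer_singleton_iff]; rfl
    -- at most one element less than the class
    let F : Option (Perm (Fin 4) ⧸ S) → G ⧸ centralizer ({t} : Set G) := fun o =>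
      o.elim (QuotientGroup.mk 1) fun x => QuotientGroup.mk ((L x.out : G) * g)
    have hF : Function.Injective F := by
      have hnot : ∀ x : Perm (Fin 4) ⧸ S, QuotientGroup.mk (1 : G) ≠
          (QuotientGroup.mk ((L x.out : G) * g) : G ⧸ centralizer ({t} : Set G)) := fun x h => by
        rw [QuotientGroup.eq, inv_one, one_mul] at h
        have hl : (L x.out : G) ∈ centralizer ({t} : Set G) := mem_centralizer_singleton_iff.2 (hLt _)
        exact hg ((Subgroup.mul_mem_cancel_left _ hl).1 h)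
      rintro (_ | x) (_ | y) h
      · rfl
      · exact absurd h (hnot y)
      · exact absurd h.symm (hnot x)
      · refine congrArg some ?_
        have h' : ((L x.out : G) * g)⁻¹ * ((L y.out : G) * g) ∈ centralizer ({t} : Set G) :=
          QuotientGroup.eq.1 h
        rw [← x.out_eq, ← y.out_eq]
        refine QuotientGroup.eq.2 ((hSmem _).2 ?_)
        rw [map_mul, map_inv, Subgroup.coe_mul, InvMemClass.coe_inv]
        have h2 := mem_centralizer_singleton_iff.1 h'
        rw [htdef]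
        calc (L x.out : G)⁻¹ * L y.out * (g * t * g⁻¹)
            = g * ((((L x.out : G) * g)⁻¹ * ((L y.out : G) * g)) * t) * g⁻¹ := by group
          _ = g * (t * (((L x.out : G) * g)⁻¹ * ((L y.out : G) * g))) * g⁻¹ := by rw [h2]
          _ = g * t * g⁻¹ * ((L x.out : G)⁻¹ * L y.out) := by group
    have hcard := Nat.card_le_card_of_injective F hF
    rw [Finite.card_option, ← index_eq_card, ← index_eq_card] at hcard
    have hS24 : Nat.card S * S.index = 24 := by
      rw [card_mul_index, Nat.card_perm, Nat.card_fin]; rfl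
    have hkS : k ≤ Nat.card S := hk _ (by
      rw [← hS24]; exact Nat.mul_le_mul_left _ (by omega))
    obtain ⟨q, hqdef⟩ : ∃ q : N, q = ⟨t * t', htdef ▸ hqN g⟩ := ⟨_, rfl⟩
    have hq : (q : G) = t * t' := by rw [hqdef]
    have hle : S.map L ≤ centralizer ({q} : Set N) := by
      rintro _ ⟨σ, hσ, rfl⟩
      refine mem_centralizer_singleton_iff.2 (Subtype.ext ?_)
      rw [Subgroup.coe_mul, Subgroup.coe_mul, hq, ← mul_assoc, hLt σ, mul_assoc, (hSmem σ).1 hσ, ← mul_assoc]
    have hmap : Nat.card (S.map L) = Nat.card S :=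
      Nat.card_congr (S.equivMapOfInjective L hL).toEquiv.symm
    rcases hP1 q with h | h
    · have h1 : t * t' * (t * t') = 1 := by
        have := congrArg Subtype.val h
        rw [Subgroup.coe_mul, hq] at this
        exact this
      calc t * t' = (t * t')⁻¹ := eq_inv_of_mul_eq_one_left h1
        _ = t' * t := by rw [mul_inv_rev, htinv, inv_eq_of_mul_eq_one_left ht']
    · have hc := h (Nat.card S) hkS (by rw [← hS24]; exact dvd_mul_right _ _)
        (hmap ▸ card_dvd_of_le hle)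
      have heq : S.map L = centralizer ({q} : Set N) := eq_of_le_of_card_ge hle (by rw [hc, hmap])
      obtain ⟨σ, _, hσ⟩ : q ∈ S.map L := heq.symm ▸ mem_centralizer_singleton_iff.2 rfl
      have h2 := hLt σ
      rw [hσ, hq, mul_assoc] at h2
      exact (mul_left_cancel h2).symm
  have hcomm2 : ∀ a b, (a * t * a⁻¹) * (b * t * b⁻¹) = (b * t * b⁻¹) * (a * t * a⁻¹) := by
    intro a b
    have := congrArg (fun w => a * w * a⁻¹) (hcomm (a⁻¹ * b))
    simpa [mul_assoc] using this
  refine eq_top_iff.2 fun g _ => mem_centralizer_singleton_iff.2 ?_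
  have hq1 : (⟨t * (g * t * g⁻¹), hqN g⟩ : N) = 1 := hP2 _ fun x => Subtype.ext (by
    rw [Subgroup.coe_mul, Subgroup.coe_mul, Subgroup.coe_mul, Subgroup.coe_mul, InvMemClass.coe_inv]
    show t * (g * t * g⁻¹) * ((x : G) * (t * (g * t * g⁻¹)) * (x : G)⁻¹) =
      (x : G) * (t * (g * t * g⁻¹)) * (x : G)⁻¹ * (t * (g * t * g⁻¹))
    rw [show (x : G) * (t * (g * t * g⁻¹)) * (x : G)⁻¹ =
      ((x : G) * t * (x : G)⁻¹) * (((x : G) * g) * t * ((x : G) * g)⁻¹) by group]
    have h1 : Commute t ((x : G) * t * (x : G)⁻¹) := hcomm x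
    have h2 : Commute t (((x : G) * g) * t * ((x : G) * g)⁻¹) := hcomm _
    have h3 : Commute (g * t * g⁻¹) ((x : G) * t * (x : G)⁻¹) := hcomm2 g x
    have h4 : Commute (g * t * g⁻¹) (((x : G) * g) * t * ((x : G) * g)⁻¹) := hcomm2 g _
    exact (h1.mul_right h2).mul_left (h3.mul_right h4))
  have h1 : t * (g * t * g⁻¹) = 1 := congrArg Subtype.val hq1
  have h2 : g * t * g⁻¹ = t := (eq_inv_of_mul_eq_one_right h1).trans htinv
  exact mul_inv_eq_iff_eq_mul.1 h2

/-- The case of `A₆`. -/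
theorem symSix_of_altSix {t : G} (N : Subgroup G) [N.Normal] (hN2 : N.index = 2) (htN : t ∉ N)
    (L : Perm (Fin 4) →* N) (hL : Function.Injective L) (hLt : ∀ σ, (L σ : G) * t = t * L σ)
    (ψ : ↥N ≃* ↥(alternatingGroup (Fin 6))) (hC : centralizer (N : Set G) = ⊥) :
    Nonempty (G ≃* Perm (Fin 6)) := by
  classical
  let Φ : G →* MulAut (alternatingGroup (Fin 6)) :=
    (MulAut.congr ψ).toMonoidHom.comp (MulAut.conjNormal : G →* MulAut N)
  have happ : ∀ (g : G) (k : N), Φ g (ψ k) = ψ (MulAut.conjNormal g k) := fun g k => by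
    show ψ (MulAut.conjNormal g (ψ.symm (ψ k))) = _
    rw [MulEquiv.symm_apply_apply]
  have hΦ : Function.Injective Φ := by
    refine (injective_iff_map_eq_one _).2 fun g hg => ?_
    rw [← Subgroup.mem_bot, ← hC, Subgroup.mem_centralizer_iff]
    intro k hk
    have h := happ g ⟨k, hk⟩
    rw [hg, MulAut.one_apply] at h
    have h' := congrArg Subtype.val (ψ.injective h)
    rw [MulAut.conjNormal_apply] at h'
    exact (mul_inv_eq_iff_eq_mul.1 h'.symm).symm
  obtain ⟨R, hR⟩ : ∃ R, R = (MulAut.conjNormal : Perm (Fin 6) →* MulAut (alternatingGroup (Fin 6))).range :=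
    ⟨_, rfl⟩
  obtain ⟨G₀, hG₀⟩ : ∃ G₀, G₀ = R.comap Φ := ⟨_, rfl⟩
  have hKG : N ≤ G₀ := fun k hk => by
    rw [hG₀, mem_comap, hR]
    refine ⟨(ψ ⟨k, hk⟩ : alternatingGroup (Fin 6)), MulEquiv.ext fun a => ?_⟩
    obtain ⟨b, rfl⟩ := ψ.surjective a
    rw [happ]
    refine Subtype.ext ?_
    rw [MulAut.conjNormal_apply]
    have e : MulAut.conjNormal k b = ⟨k, hk⟩ * b * ⟨k, hk⟩⁻¹ := Subtype.ext (by
      rw [MulAut.conjNormal_apply]; rfl)
    rw [e, map_mul, map_mul, map_inv]
    rfl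
  have htG : t ∈ G₀ := by
    rw [hG₀, mem_comap, hR]
    obtain ⟨σ, hσ3, hσ1⟩ := exists_three
    haveI : Fact (Nat.Prime 3) := ⟨Nat.prime_three⟩
    refine CfsgLib.Recog.SelfCentNine.conjNormal_of_fixed_three _ (ψ (L σ)) ?_ ?_
    · rw [MulEquiv.orderOf_eq, orderOf_injective L hL]
      exact orderOf_eq_prime hσ3 hσ1
    · rw [happ]
      congr 1
      refine Subtype.ext ?_
      rw [MulAut.conjNormal_apply, ← hLt σ, mul_inv_cancel_right]
  have htop : G₀ = ⊤ := eq_top_iff.2 fun g _ => by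
    by_cases hg : g ∈ N
    · exact hKG hg
    · exact (Subgroup.mul_mem_cancel_left _ htG).1
        (hKG ((mul_mem_iff_of_index_two hN2).2 (iff_of_false htN hg)))
  have hinj6 := CfsgLib.ClassSizes.AlternatingAut.conjNormal_injective (α := Fin 6)
    (by rw [Fintype.card_fin]; norm_num)
  let e : Perm (Fin 6) ≃* R :=
    (MonoidHom.ofInjective hinj6).trans (MulEquiv.subgroupCongr hR.symm)
  let Ψ : G →* Perm (Fin 6) := e.symm.toMonoidHom.comp (Φ.codRestrict R fun g => by
    have : g ∈ G₀ := by rw [htop]; trivial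
    rwa [hG₀] at this)
  have hΨ : Function.Injective Ψ := fun a b h => hΦ (congrArg Subtype.val (e.symm.injective h))
  refine ⟨MulEquiv.ofBijective Ψ (hΨ.bijective_of_nat_card_le ?_)⟩
  have h := card_mul_index N
  rw [hN2, Nat.card_congr ψ.toEquiv, nat_card_alternatingGroup, Nat.card_fin] at h
  rw [Nat.card_perm, Nat.card_fin, ← h]
  exact le_of_eq rfl

set_option maxHeartbeats 1000000 in
/-- The classification. -/
theorem main (t : G) (ht : orderOf t = 2) (T : Sylow 2 G)
    (htc : ∀ s ∈ (T : Subgroup G), s * t = t * s)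
    (e : ↥(centralizer ({t} : Set G)) ≃* M)
    (h2 : ∀ S : Sylow 2 G, centralizer ((⁅(S : Subgroup G), (S : Subgroup G)⁆ : Subgroup G) : Set G) = (S : Subgroup G)) :
    (centralizer ({t} : Set G) = ⊤ ∧ Group.IsSolvable G) ∨ Nonempty (G ≃* Perm (Fin 6)) := by
  classical
  haveI : Fact (Nat.Prime 2) := ⟨Nat.prime_two⟩
  have ht1 : t ≠ 1 := fun h => by rw [h, orderOf_one] at ht; norm_num at ht
  have htt : t * t = 1 := by rw [← pow_two, ← ht, pow_orderOf_eq_one]
  obtain ⟨f, hfdef⟩ : ∃ f : M →* G, f = (centralizer ({t} : Set G)).subtype.comp e.symm.toMonoidHom :=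
    ⟨_, rfl⟩
  have hfi : Function.Injective f := by
    rw [hfdef]; exact Subtype.val_injective.comp e.symm.injective
  have hft : ∀ m, f m * t = t * f m := fun m => by
    rw [hfdef]; exact mem_centralizer_singleton_iff.1 (e.symm m).2
  have hfs : ∀ x, x * t = t * x → ∃ m, f m = x := fun x hx =>
    ⟨e ⟨x, mem_centralizer_singleton_iff.2 hx⟩, by rw [hfdef]; simp⟩
  have hfg : f g1 = t := by
    have hm : e ⟨t, mem_centralizer_singleton_iff.2 rfl⟩ = g1 := by
      refine (m_center _ fun x => ?_).resolve_left fun h => ht1 (congrArg Subtype.val (e.map_eq_one_iff.1 h))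
      obtain ⟨⟨y, hy⟩, rfl⟩ := e.surjective x
      rw [← map_mul, ← map_mul]
      exact congrArg e (Subtype.ext (mem_centralizer_singleton_iff.1 hy).symm)
    rw [hfdef, ← hm]; simp
  have hcard_C : Nat.card (centralizer ({t} : Set G)) = 48 := by
    rw [Nat.card_congr e.toEquiv, Nat.card_eq_fintype_card]; rfl
  obtain ⟨z, hzdef⟩ : ∃ z, z = f (1, z0) := ⟨_, rfl⟩
  -- the Sylow subgroup
  obtain ⟨SM, hSMdef⟩ : ∃ SM : Subgroup M,
      SM = (centralizer ({z0} : Set (Perm (Fin 4)))).comap (MonoidHom.snd _ _) := ⟨_, rfl⟩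
  have hSM : ∀ m : M, m ∈ SM ↔ m.2 * z0 = z0 * m.2 := fun m => by
    rw [hSMdef, mem_comap, mem_centralizer_singleton_iff]; rfl
  have hSMc : Nat.card SM = 16 := by
    rw [← m_card_centralizer]
    exact Nat.subtype_card _ fun m => by simp [hSM]
  have hmapc : Nat.card (SM.map f) = 16 := by
    rw [← hSMc]; exact Nat.card_congr (SM.equivMapOfInjective f hfi).toEquiv.symm
  obtain ⟨P, hSP⟩ := (IsPGroup.of_card (n := 4) (G := ↥(SM.map f)) (p := 2) (by rw [hmapc]; norm_num)).exists_le_sylow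
  have hP : (P : Subgroup G) = SM.map f := by
    refine (eq_of_le_of_card_ge hSP ?_).symm
    have hTC : (T : Subgroup G) ≤ centralizer ({t} : Set G) := fun s hs =>
      mem_centralizer_singleton_iff.2 (htc s hs)
    have hd := card_dvd_of_le hTC
    rw [hcard_C] at hd
    have hPT : Nat.card (P : Subgroup G) = Nat.card (T : Subgroup G) :=
      P.card_eq_multiplicity.trans T.card_eq_multiplicity.symm
    obtain ⟨k, hk⟩ := IsPGroup.iff_card.1 T.2
    rw [hPT, hmapc, hk]
    rw [hk] at hd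
    have hk4 : k ≤ 4 := by
      by_contra hk5
      have : 2 ^ 5 ∣ 48 := (pow_dvd_pow 2 (by omega)).trans hd
      norm_num at this
    calc 2 ^ k ≤ 2 ^ 4 := Nat.pow_le_pow_right (by norm_num) hk4
      _ = 16 := by norm_num
  have hPm : ∀ x, x ∈ (P : Subgroup G) ↔ ∃ m : M, m.2 * z0 = z0 * m.2 ∧ f m = x := fun x => by
    rw [hP, mem_map]; simp only [hSM]
  have hPf : ∀ m : M, m.2 * z0 = z0 * m.2 → f m ∈ (P : Subgroup G) := fun m hm => (hPm _).2 ⟨m, hm, rfl⟩
  have hcomm : ∀ a ∈ (P : Subgroup G), ∀ b ∈ (P : Subgroup G), ⁅a, b⁆ = 1 ∨ ⁅a, b⁆ = z := by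
    intro a ha b hb
    obtain ⟨m, hm, rfl⟩ := (hPm a).1 ha
    obtain ⟨n, hn, rfl⟩ := (hPm b).1 hb
    have h1 : ∀ u v : Multiplicative (ZMod 2), ⁅u, v⁆ = 1 := fun u v =>
      commutatorElement_eq_one_iff_mul_comm.2 (mul_comm _ _)
    have hmn : ⁅m, n⁆ = (1, m.2 * n.2 * m.2⁻¹ * n.2⁻¹) := Prod.ext (h1 m.1 n.1) rfl
    rw [← map_commutatorElement, hmn]
    rcases comm_cases _ _ hm hn with h | h <;> rw [h]
    · exact Or.inl (map_one f)
    · exact Or.inr hzdef.symm
  have hr0P : f (1, r0) ∈ (P : Subgroup G) := hPf _ comm_eq.2.1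
  have ha0P : f (1, a0) ∈ (P : Subgroup G) := hPf _ comm_eq.2.2.1
  have hzcomm : ⁅f (1, r0), f (1, a0)⁆ = z := by
    rw [← map_commutatorElement, hzdef]
    refine congrArg f (Prod.ext (commutatorElement_eq_one_iff_mul_comm.2 (mul_comm _ _)) ?_)
    exact comm_eq.1
  have hz1 : z ≠ 1 := fun h => comm_eq.2.2.2.1 (congrArg Prod.snd (hfi ((hzdef ▸ h).trans (map_one f).symm)) )
  have hzP : z ∈ (P : Subgroup G) := hzdef ▸ hPf _ rfl
  have hCz : ∀ x, x * z = z * x ↔ x ∈ (P : Subgroup G) := by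
    intro x
    constructor
    · intro hx
      rw [← h2 P]
      have hle : ⁅(P : Subgroup G), (P : Subgroup G)⁆ ≤ zpowers z := commutator_le.2 fun a ha b hb => by
        rcases hcomm a ha b hb with h | h <;> rw [h]
        · exact one_mem _
        · exact mem_zpowers z
      refine mem_centralizer_iff.2 fun y hy => ?_
      obtain ⟨i, rfl⟩ := mem_zpowers_iff.1 (hle hy)
      exact ((show Commute x z from hx).zpow_right i).eq.symm
    · intro hx
      obtain ⟨m, hm, rfl⟩ := (hPm x).1 hx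
      rw [hzdef, ← map_mul, ← map_mul]
      exact congrArg f (Prod.ext (mul_comm _ _) hm)
  -- no fusion in the centre of the Sylow subgroup
  have hnorm : ∀ g ∈ normalizer ((P : Subgroup G) : Set G), g ∈ (P : Subgroup G) := by
    intro g hg
    rw [← hCz]
    have hm : ∀ y ∈ (P : Subgroup G), g * y * g⁻¹ ∈ (P : Subgroup G) := fun y hy =>
      (mem_normalizer_iff.1 hg y).1 hy
    have h := hcomm _ (hm _ hr0P) _ (hm _ ha0P)
    rw [← conjugate_commutatorElement, hzcomm] at h
    exact mul_inv_eq_iff_eq_mul.1 (h.resolve_left fun h' => hz1 (conj_eq_one_iff.1 h'))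
  have hfus : ∀ u v, (∀ y ∈ (P : Subgroup G), y * u = u * y) → (∀ y ∈ (P : Subgroup G), y * v = v * y) →
      IsConj u v → u = v := by
    intro u v hu hv huv
    obtain ⟨c, hc⟩ := isConj_iff.1 huv
    have hu' : u ∈ centralizer ((P : Subgroup G) : Set G) := mem_centralizer_iff.2 hu
    have hv' : c⁻¹⁻¹ * u * c⁻¹ ∈ centralizer ((P : Subgroup G) : Set G) := by
      rw [inv_inv, hc]; exact mem_centralizer_iff.2 hv
    obtain ⟨n, hn, hn'⟩ := Sylow.conj_eq_normalizer_conj_of_mem_centralizer P u c⁻¹ hu' hv'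
    rw [inv_inv, hc] at hn'
    rw [hn', mul_assoc, ← hu n (hnorm n hn), inv_mul_cancel_left]
  have hcenf : ∀ m : M, (∀ n : M, n.2 * z0 = z0 * n.2 → n * m = m * n) →
      ∀ y ∈ (P : Subgroup G), y * f m = f m * y := by
    intro m hm y hy
    obtain ⟨n, hn, rfl⟩ := (hPm y).1 hy
    rw [← map_mul, ← map_mul, hm n hn]
  have hzcen : ∀ y ∈ (P : Subgroup G), y * z = z * y := fun y hy => (hCz y).2 hy
  have htcen : ∀ y ∈ (P : Subgroup G), y * t = t * y := fun y hy => by
    obtain ⟨m, _, rfl⟩ := (hPm y).1 hy; exact hft m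
  have htzcen : ∀ y ∈ (P : Subgroup G), y * (t * z) = t * z * y := fun y hy => by
    rw [← mul_assoc, htcen y hy, mul_assoc, hzcen y hy, mul_assoc]
  have htz : t ≠ z := fun h => by
    have := congrArg Prod.fst (hfi ((hfg.trans h).trans hzdef))
    simp [g1] at this
  have htz' : t ≠ t * z := fun h => hz1 (mul_eq_left.1 h.symm)
  have hztz : t * z ≠ z := fun h => ht1 (mul_eq_right.1 h)
  -- the element to transfer
  obtain ⟨a, hadef⟩ : ∃ a, a = f (1, a0) := ⟨_, rfl⟩
  obtain ⟨u, hu, huord, hunot⟩ : ∃ u, (u = t ∨ u = t * z) ∧ orderOf u = 2 ∧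
      ¬ IsConj u z ∧ ¬ IsConj u a := by
    by_cases hta : IsConj t a
    · refine ⟨t * z, Or.inr rfl, orderOf_eq_prime ?_ ?_, fun h => hztz (hfus _ _ htzcen hzcen h),
        fun h => htz' (hfus _ _ htcen htzcen (hta.trans h.symm))⟩
      · rw [pow_two, ← hfg, hzdef, ← map_mul, ← map_mul]
        exact (congrArg f g1_mul_z0.1).trans (map_one f)
      · rw [← hfg, hzdef, ← map_mul]
        intro h
        exact g1_mul_z0.2 (hfi (h.trans (map_one f).symm))
    · exact ⟨t, Or.inl rfl, ht, fun h => htz (hfus _ _ htcen hzcen h), hta⟩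
  obtain ⟨Q, hQdef⟩ : ∃ Q, Q = (SM ⊓ (MonoidHom.fst _ _).ker).map f := ⟨_, rfl⟩
  have hQi : Q.relIndex (P : Subgroup G) = 2 := by
    rw [hQdef, hP, Subgroup.relIndex_map_map_of_injective _ _ hfi, Subgroup.inf_relIndex_left,
      ← MonoidHom.comap_bot, relIndex_comap, relIndex_bot_left]
    have htop : SM.map (MonoidHom.fst (Multiplicative (ZMod 2)) (Perm (Fin 4))) = ⊤ :=
      eq_top_iff.2 fun x _ => ⟨(x, 1), (hSM _).2 (by simp), rfl⟩
    rw [htop, card_top, Nat.card_eq_fintype_card]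
    rfl
  obtain ⟨N, hNn, hN2, huN⟩ : ∃ N : Subgroup G, N.Normal ∧ N.index = 2 ∧ u ∉ N := by
    rcases CfsgLib.Transfer.thompson_transfer P Q hQi huord with h | ⟨g, hg⟩
    · exact h
    exfalso
    rw [hQdef] at hg
    obtain ⟨⟨ε, d⟩, ⟨hd, hd'⟩, hgd⟩ := hg
    obtain rfl : ε = 1 := hd'
    have hconj : IsConj u (f (1, d)) := isConj_iff.2 ⟨g, hgd.symm⟩
    have ho : orderOf (f (1, d)) = 2 := by
      rw [hgd, ← MulAut.conj_apply, MulEquiv.orderOf_eq]
      exact huord
    rw [orderOf_injective f hfi] at ho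
    have hdd : d * d = 1 := by
      have := pow_orderOf_eq_one ((1, d) : M)
      rw [ho, pow_two] at this
      exact congrArg Prod.snd this
    have hd1 : d ≠ 1 := fun h => by
      rw [h, show ((1, 1) : M) = 1 from rfl, orderOf_one] at ho
      norm_num at ho
    obtain ⟨s, hs⟩ := inv_classes d ((hSM _).1 hd) hdd hd1
    have hc : ∀ d', s * d * s⁻¹ = d' → IsConj u (f (1, d')) := fun d' h => hconj.trans
      (isConj_iff.2 ⟨f (1, s), by
        rw [← map_inv, ← map_mul, ← map_mul]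
        exact congrArg f (Prod.ext (by simp) h)⟩)
    rcases hs with hs | hs
    · exact hunot.1 (hzdef ▸ hc _ hs)
    · exact hunot.2 (hadef ▸ hc _ hs)
  haveI := hNn
  have hsq : ∀ x : G, x * x ∈ N := fun x => mul_self_mem_of_index_two hN2 x
  have hzN : z ∈ N := by
    have := hsq (f (1, r0))
    rw [← map_mul] at this
    rw [hzdef]
    exact this
  have htN : t ∉ N := by
    rcases hu with rfl | rfl
    · exact huN
    · exact fun h => huN (mul_mem h hzN)
  have hout : ∀ x, x ∉ N → t * x ∈ N := fun x hx => (mul_mem_iff_of_index_two hN2).2 (iff_of_false htN hx)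
  -- the centraliser of `t` in `N`
  have hex : ∀ σ, ∃ ε, f (ε, σ) ∈ N := by
    intro σ
    by_cases h : f (1, σ) ∈ N
    · exact ⟨1, h⟩
    · refine ⟨Multiplicative.ofAdd 1, ?_⟩
      have := hout _ h
      rw [← hfg, ← map_mul] at this
      rw [g1_mul] at this
      exact this
  have huniq : ∀ σ ε ε', f (ε, σ) ∈ N → f (ε', σ) ∈ N → ε = ε' := by
    intro σ ε ε' h h'
    by_contra hne
    refine htN ?_
    have := mul_mem h (inv_mem h')
    rw [← map_inv, ← map_mul] at this
    rw [← hfg]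
    convert this using 2
    exact Prod.ext (bit_cases _ _ hne).symm (by simp [g1])
  choose χ hχ using hex
  let L : Perm (Fin 4) →* N := MonoidHom.mk' (fun σ => ⟨f (χ σ, σ), hχ σ⟩) fun σ τ => Subtype.ext (by
    show f (χ (σ * τ), σ * τ) = f (χ σ, σ) * f (χ τ, τ)
    rw [← map_mul, huniq (σ * τ) (χ (σ * τ)) (χ σ * χ τ) (hχ _) (by
      rw [show ((χ σ * χ τ, σ * τ) : M) = (χ σ, σ) * (χ τ, τ) from rfl, map_mul]
      exact mul_mem (hχ _) (hχ _))]
    rfl)
  have hLv : ∀ σ, (L σ : G) = f (χ σ, σ) := fun σ => rfl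
  have hL : Function.Injective L := fun σ τ h => congrArg Prod.snd (hfi (congrArg Subtype.val h))
  have hLt : ∀ σ, (L σ : G) * t = t * L σ := fun σ => hft _
  have hLs : ∀ x ∈ N, x * t = t * x → ∃ σ, (L σ : G) = x := by
    intro x hx hxt
    obtain ⟨⟨ε, σ⟩, rfl⟩ := hfs x hxt
    exact ⟨σ, by rw [hLv, huniq σ _ _ (hχ σ) hx]⟩
  have hLz : (L z0 : G) = z := by
    rw [hLv, huniq z0 _ 1 (hχ z0) (hzdef ▸ hzN), hzdef]
  have hLzord : orderOf (L z0) = 2 := by
    rw [orderOf_injective L hL]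
    exact orderOf_eq_prime (by decide) (by decide)
  -- the centraliser of `z` in `N`
  have hCN : centralizer ({L z0} : Set N) = (L.comp rho).range := by
    ext x
    rw [mem_centralizer_singleton_iff, MonoidHom.mem_range]
    constructor
    · intro hx
      have hxz : (x : G) * z = z * x := by rw [← hLz]; exact congrArg Subtype.val hx
      have hxP := (hCz _).1 hxz
      obtain ⟨σ, hσ⟩ := hLs x x.2 (htcen _ hxP)
      obtain ⟨m, hm, hmx⟩ := (hPm _).1 hxP
      have hmσ : m.2 = σ := (congrArg Prod.snd (hfi (show f (χ σ, σ) = f m by rw [hmx, ← hσ]; rfl))).symm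
      obtain ⟨d, hd⟩ := (rho_range σ).1 (hmσ ▸ hm)
      exact ⟨d, Subtype.ext (by rw [MonoidHom.comp_apply, show rho d = σ from hd, hσ])⟩
    · rintro ⟨d, rfl⟩
      rw [MonoidHom.comp_apply, ← map_mul, ← map_mul, (rho_range (rho d)).2 ⟨d, rfl⟩]
  have eD : ↥(centralizer ({L z0} : Set N)) ≃* DihedralGroup 4 :=
    ((MonoidHom.ofInjective (f := L.comp rho) (hL.comp rho_injective)).trans
      (MulEquiv.subgroupCongr hCN.symm)).symm
  have hpg : IsPGroup 2 (centralizer ({L z0} : Set N)) :=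
    IsPGroup.of_card (n := 3) (by rw [Nat.card_congr eD.toEquiv, Nat.card_eq_fintype_card]; rfl)
  have hpgc : ∀ s, IsPGroup 2 (centralizer ({L (s * z0 * s⁻¹)} : Set N)) := by
    intro s
    rw [map_mul, map_mul, map_inv]
    rintro ⟨x, hx⟩
    rw [mem_centralizer_singleton_iff] at hx
    have hx' : (L s)⁻¹ * x * L s ∈ centralizer ({L z0} : Set N) := mem_centralizer_singleton_iff.2 (by
      calc (L s)⁻¹ * x * L s * L z0 = (L s)⁻¹ * (x * (L s * L z0 * (L s)⁻¹)) * L s := by group
        _ = (L s)⁻¹ * ((L s * L z0 * (L s)⁻¹) * x) * L s := by rw [hx]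
        _ = L z0 * ((L s)⁻¹ * x * L s) := by group)
    obtain ⟨k, hk⟩ := hpg ⟨_, hx'⟩
    refine ⟨k, Subtype.ext ?_⟩
    have hk' := congrArg Subtype.val hk
    simp only [SubmonoidClass.coe_pow, OneMemClass.coe_one] at hk' ⊢
    rw [show (L s)⁻¹ * x * L s = (L s)⁻¹ * x * (L s)⁻¹⁻¹ by rw [inv_inv], conj_pow, conj_eq_one_iff] at hk'
    exact hk'
  obtain ⟨s, s', hs, hs'⟩ := double_conj
  have hcore : Cfsg.oddCore ↥N = ⊥ := by
    refine CfsgLib.LocalEvenB.DEight.oddCore_eq_bot (a := L z0) (b := L b0) hLzord ?_ ?_ ?_ hpg ?_ ?_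
    · rw [orderOf_injective L hL]; exact orderOf_eq_prime (by decide) (by decide)
    · rw [← map_mul, ← map_mul]; exact congrArg L comm_eq.2.2.2.2.2.1.symm
    · exact fun h => comm_eq.2.2.2.2.2.2.1 (hL h).symm
    · rw [← hs]; exact hpgc s
    · rw [← map_mul, ← hs']; exact hpgc s'
  have hG : Nat.card G = Nat.card N * 2 := by rw [← hN2, card_mul_index]
  have h24 : Nat.card (Perm (Fin 4)) = 24 := by rw [Nat.card_perm, Nat.card_fin]; rfl
  have hidx : Nat.card G = 48 * (centralizer ({t} : Set G)).index := by rw [← hcard_C, card_mul_index]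
  have hnottop : ∀ n, Nat.card N = n → 24 < n → centralizer ({t} : Set G) = ⊤ → False := fun n hn hn24 h => by
    rw [h, card_top] at hcard_C
    omega
  have hmain := CfsgLib.LocalEvenB.DEight.main (L z0) hLzord ⟨eD⟩
  rw [hcore, sup_bot_eq] at hmain
  rcases hmain with h | ⟨⟨ψ⟩⟩ | ⟨⟨ψ⟩⟩ | ⟨⟨ψ⟩⟩ | ⟨⟨ψ⟩⟩
  · exfalso
    have h1 := Nat.card_le_card_of_injective L hL
    have h2' : Nat.card (centralizer ({L z0} : Set N)) = 8 := by
      rw [Nat.card_congr eD.toEquiv, Nat.card_eq_fintype_card]; rfl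
    rw [h, card_top] at h2'
    omega
  · left
    have hN : Nat.card N = 24 := by rw [Nat.card_congr ψ.toEquiv, h24]
    have hG48 : Nat.card G = 48 := by omega
    exact ⟨eq_top_of_card_eq _ (by rw [hcard_C, hG48]),
      CfsgLib.Burnside.isSolvable_of_card_eq (p := 2) (q := 3) (a := 4) (b := 1) Nat.prime_two Nat.prime_three
        (by rw [hG48]; norm_num)⟩
  · exfalso
    have hN : Nat.card N = 120 := by rw [Nat.card_congr ψ.toEquiv, Nat.card_perm, Nat.card_fin]; rfl
    obtain ⟨p1, p2⟩ := five_props ψ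
    refine hnottop _ hN (by norm_num) (centralizer_eq_top htt N hN2 htN L hL hLt (k := 6) ?_ p1 p2)
    intro d hd
    rw [show (centralizer ({t} : Set G)).index = 5 by omega] at hd
    omega
  · exfalso
    obtain ⟨hs7, hN⟩ := seven_simple ψ
    obtain ⟨p1, p2⟩ := seven_props hN
    refine hnottop _ hN (by norm_num) (centralizer_eq_top htt N hN2 htN L hL hLt (k := 4) ?_ p1 p2)
    intro d hd
    rw [show (centralizer ({t} : Set G)).index = 7 by omega] at hd
    omega
  · right
    refine symSix_of_altSix N hN2 htN L hL hLt ψ ((eq_bot_iff_forall _).2 fun c hc => ?_)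
    rw [mem_centralizer_iff] at hc
    have hcz : c * z = z * c := (hc z hzN).symm
    obtain ⟨m, hm, rfl⟩ := (hPm c).1 ((hCz c).1 hcz)
    have hm2 : m.2 = 1 := center_four _ fun τ => by
      have := (hc _ (L τ).2).symm
      rw [hLv, ← map_mul, ← map_mul] at this
      exact congrArg Prod.snd (hfi this)
    have hm1 : m.1 = 1 := by
      by_contra hne
      have hmg : m = g1 := Prod.ext (bit_ne _ hne) hm2
      rw [hmg, hfg] at hc
      have hsub : Function.Surjective L := fun x => by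
        obtain ⟨σ, hσ⟩ := hLs x x.2 (hc x x.2)
        exact ⟨σ, Subtype.ext hσ⟩
      have := Nat.card_le_card_of_surjective L hsub
      rw [Nat.card_congr ψ.toEquiv, nat_card_alternatingGroup, Nat.card_fin, h24] at this
      norm_num [Nat.factorial] at this
    rw [show m = 1 from Prod.ext hm1 hm2, map_one]

end CfsgLib.Recog.TwoSFour
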